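import Mathlib

/-!
# Cyclic chains for maps killed by a squarefree polynomial with factors of one degree
-/

set_option autoImplicit false
set_option linter.all false

namespace CfsgLib.Perm.Elusive

open Polynomial

variable {F V : Type*} [Field F] [AddCommGroup V] [Module F V]

theorem aeval_mem_of_invariant (T : V →ₗ[F] V) {U : Submodule F V} (hU : ∀ u ∈ U, T u ∈ U) (h : F[X]) {u : V} (hu : u ∈ U) :
    aeval T h u ∈ U := by
  induction h using Polynomial.induction_on' with
  | add a b ha hb => rw [map_add, LinearMap.add_apply]; exact add_mem ha hb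
  | monomial n c =>
    rw [aeval_monomial, Module.End.mul_apply, Module.algebraMap_end_apply]
    refine U.smul_mem _ ?_
    induction n with
    | zero => simpa using hu
    | succ n ih => rw [pow_succ', Module.End.mul_apply]; exact hU _ ih

theorem restrict_aeval_coe (T : V →ₗ[F] V) {U : Submodule F V} (hU : ∀ u ∈ U, T u ∈ U) (h : F[X]) (u : U) :
    ((aeval (T.restrict hU) h u : U) : V) = aeval T h (u : V) := by
  induction h using Polynomial.induction_on' with
  | add a b ha hb => simp [map_add, ha, hb]
  | monomial n c =>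
    rw [aeval_monomial, aeval_monomial, Module.End.mul_apply, Module.End.mul_apply, Module.algebraMap_end_apply,
      Module.algebraMap_end_apply, Submodule.coe_smul]
    congr 1
    induction n generalizing u with
    | zero => simp
    | succ n ih =>
      rw [pow_succ, pow_succ, Module.End.mul_apply, Module.End.mul_apply, ih]
      rfl

/-- kernels of the irreducible factors fill the kernel -/
theorem ker_le_of_factors (T : V →ₗ[F] V) {U : Submodule F V} (P : F[X]) (hsq : Squarefree P)
    (h : ∀ g, Irreducible g → g ∣ P → ∀ w, aeval T g w = 0 → w ∈ U) :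
    LinearMap.ker (aeval T P) ≤ U := by
  induction P using UniqueFactorizationMonoid.induction_on_prime with
  | h₁ => exact absurd hsq not_squarefree_zero
  | h₂ x hx =>
    intro v hv
    obtain ⟨c, rfl⟩ := hx
    have e := congrArg (fun g => aeval T g v) c.inv_mul
    simp only [map_mul, map_one, Module.End.mul_apply, Module.End.one_apply] at e
    rw [LinearMap.mem_ker] at hv
    rw [hv, map_zero] at e
    rw [← e]
    exact zero_mem _
  | h₃ a p ha hp ih =>
    have hco : IsCoprime p a := by
      rw [hp.irreducible.coprime_iff_not_dvd]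
      exact fun hd => hp.not_unit (hsq p (mul_dvd_mul_left p hd))
    rw [← sup_ker_aeval_eq_ker_aeval_mul_of_coprime T hco]
    exact sup_le (fun w hw => h p hp.irreducible (dvd_mul_right p a) w (LinearMap.mem_ker.1 hw))
      (ih hsq.of_mul_right fun g hg hgd => h g hg (hgd.mul_left p))

/-- a basis of cyclic chains -/
theorem exists_chains [FiniteDimensional F V] (T : V →ₗ[F] V) {P : F[X]} (hP : aeval T P = 0) (hsq : Squarefree P)
    {d : ℕ} (hd : ∀ g, Irreducible g → g ∣ P → g.natDegree = d) :
    ∃ (k : ℕ) (v : Fin k → V) (b : Module.Basis (Fin k × Fin d) F V),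
      (∀ j (s : Fin d), b (j, s) = (T ^ (s : ℕ)) (v j)) ∧
      ∀ j, (T ^ d) (v j) ∈ Submodule.span F (Set.range fun s : Fin d => (T ^ (s : ℕ)) (v j)) := by
  classical
  by_cases hV : Subsingleton V
  · refine ⟨0, Fin.elim0, Module.Basis.empty V, fun j => j.elim0, fun j => j.elim0⟩
  rw [not_subsingleton_iff_nontrivial] at hV
  let Good : ℕ → Prop := fun k => ∃ v : Fin k → V,
    LinearIndependent F (fun js : Fin k × Fin d => (T ^ (js.2 : ℕ)) (v js.1)) ∧
      ∀ j, (T ^ d) (v j) ∈ Submodule.span F (Set.range fun s : Fin d => (T ^ (s : ℕ)) (v j))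
  have hstep : ∀ k, Good k →
      (∃ v : Fin k → V, (Submodule.span F (Set.range fun js : Fin k × Fin d => (T ^ (js.2 : ℕ)) (v js.1)) = ⊤) ∧
      LinearIndependent F (fun js : Fin k × Fin d => (T ^ (js.2 : ℕ)) (v js.1)) ∧
      ∀ j, (T ^ d) (v j) ∈ Submodule.span F (Set.range fun s : Fin d => (T ^ (s : ℕ)) (v j))) ∨ Good (k + 1) := by
    rintro k ⟨v, hli, hinv⟩
    obtain ⟨U, hUdef⟩ : ∃ U, U = Submodule.span F (Set.range fun js : Fin k × Fin d => (T ^ (js.2 : ℕ)) (v js.1)) := ⟨_, rfl⟩
    by_cases htop : U = ⊤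
    · exact Or.inl ⟨v, hUdef ▸ htop, hli, hinv⟩
    right
    have hU : ∀ u ∈ U, T u ∈ U := fun u hu => by
      have hle : U ≤ U.comap T := by
        conv_lhs => rw [hUdef]
        rw [Submodule.span_le]
        rintro _ ⟨⟨j, s⟩, rfl⟩
        show T ((T ^ (s : ℕ)) (v j)) ∈ U
        rw [← Module.End.mul_apply, ← pow_succ', hUdef]
        by_cases hs : (s : ℕ) + 1 < d
        · exact Submodule.subset_span ⟨(j, ⟨(s : ℕ) + 1, hs⟩), rfl⟩
        · rw [show (s : ℕ) + 1 = d by omega]
          refine Submodule.span_mono ?_ (hinv j)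
          rintro _ ⟨s', rfl⟩
          exact ⟨(j, s'), rfl⟩
      exact hle hu
    obtain ⟨g, hg, hgP, w, hgw, hwU⟩ : ∃ g, Irreducible g ∧ g ∣ P ∧ ∃ w, aeval T g w = 0 ∧ w ∉ U := by
      by_contra hcon
      push Not at hcon
      refine htop (eq_top_iff.2 (le_trans ?_ (ker_le_of_factors T P hsq hcon)))
      rw [hP, LinearMap.ker_zero]
    have hgd := hd g hg hgP
    have hsum : ∀ h : F[X], h.natDegree < d → aeval T h w = ∑ s : Fin d, h.coeff s • (T ^ (s : ℕ)) w := fun h hh => by
      rw [aeval_eq_sum_range' hh, LinearMap.sum_apply, Finset.sum_range]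
      rfl
    have hout : ∀ h : F[X], h.natDegree < d → aeval T h w ∈ U → h = 0 := fun h hh hmem => by
      by_contra h0
      obtain ⟨a, b, hab⟩ := (hg.coprime_iff_not_dvd.2 fun hdv => by
        have := natDegree_le_of_dvd hdv h0
        omega : IsCoprime g h)
      have e := congrArg (fun r => aeval T r w) hab
      simp only [map_add, map_mul, map_one, LinearMap.add_apply, Module.End.mul_apply, Module.End.one_apply, hgw, map_zero,
        zero_add] at e
      exact hwU (e ▸ aeval_mem_of_invariant T hU b hmem)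
    have hmon : (T ^ d) w ∈ Submodule.span F (Set.range fun s : Fin d => (T ^ (s : ℕ)) w) := by
      have hlc : g.leadingCoeff ≠ 0 := leadingCoeff_ne_zero.2 hg.ne_zero
      rw [aeval_eq_sum_range' (show g.natDegree < d + 1 by omega), Finset.sum_range_succ, LinearMap.add_apply,
        LinearMap.sum_apply, LinearMap.smul_apply, Finset.sum_range] at hgw
      have e : g.coeff d = g.leadingCoeff := by rw [← hgd]; rfl
      rw [e] at hgw
      rw [← inv_smul_smul₀ hlc ((T ^ d) w), eq_neg_of_add_eq_zero_right hgw]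
      refine Submodule.smul_mem _ _ (neg_mem (Submodule.sum_mem _ fun s _ => ?_))
      rw [LinearMap.smul_apply]
      exact Submodule.smul_mem _ _ (Submodule.subset_span ⟨s, rfl⟩)
    refine ⟨Fin.snoc v w, ?_, fun j => ?_⟩
    · rw [Fintype.linearIndependent_iff]
      intro c hc
      rw [Fintype.sum_prod_type, Fin.sum_univ_castSucc] at hc
      simp only [Fin.snoc_castSucc, Fin.snoc_last] at hc
      obtain ⟨h, hh, hh'⟩ : ∃ h : F[X], (∀ s : Fin d, h.coeff s = c (Fin.last k, s)) ∧ h.natDegree < d := by
        have hd0 : 0 < d := hgd ▸ hg.natDegree_pos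
        refine ⟨∑ s : Fin d, monomial (s : ℕ) (c (Fin.last k, s)), fun s => ?_, ?_⟩
        · rw [finset_sum_coeff, Finset.sum_eq_single s (fun t _ ht => by
            rw [coeff_monomial, if_neg fun e => ht (Fin.ext e)]) (fun e => absurd (Finset.mem_univ _) e), coeff_monomial,
            if_pos rfl]
        · refine lt_of_le_of_lt (natDegree_sum_le_of_forall_le (n := d - 1) _ _ fun t _ => ?_) (by omega)
          exact le_trans (natDegree_monomial_le _) (by omega)
      have hin : aeval T h w ∈ U := by
        rw [hsum h hh']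
        simp only [hh]
        rw [eq_neg_of_add_eq_zero_right hc, hUdef]
        exact neg_mem (Submodule.sum_mem _ fun j _ => Submodule.sum_mem _ fun s _ =>
          Submodule.smul_mem _ _ (Submodule.subset_span ⟨(j, s), rfl⟩))
      have h0 := hout h hh' hin
      have hlast : ∀ s, c (Fin.last k, s) = 0 := fun s => by rw [← hh, h0, coeff_zero]
      simp only [hlast, zero_smul, Finset.sum_const_zero, add_zero] at hc
      rw [← Fintype.sum_prod_type'] at hc
      have := Fintype.linearIndependent_iff.1 hli (fun js => c (Fin.castSucc js.1, js.2)) hc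
      rintro ⟨j, s⟩
      induction j using Fin.lastCases with
      | last => exact hlast s
      | cast j => exact this (j, s)
    · induction j using Fin.lastCases with
      | last => simp only [Fin.snoc_last]; exact hmon
      | cast j => simp only [Fin.snoc_castSucc]; exact hinv j
  by_cases hd0 : d = 0
  · exfalso
    obtain ⟨w, hw⟩ := exists_ne (0 : V)
    refine hw ?_
    have h := ker_le_of_factors T (U := ⊥) P hsq (fun g hg hgd => absurd (hd g hg hgd) (by
      have := hg.natDegree_pos; omega))
    exact (Submodule.mem_bot F).1 (h (by rw [hP, LinearMap.ker_zero]; exact Submodule.mem_top))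
  have hbound : ∀ k, Good k → k ≤ Module.finrank F V := fun k ⟨v, hli, _⟩ => by
    have h := hli.fintype_card_le_finrank
    rw [Fintype.card_prod, Fintype.card_fin, Fintype.card_fin] at h
    exact le_trans (Nat.le_mul_of_pos_right k (by omega)) h
  have h0 : Good 0 := ⟨Fin.elim0, linearIndependent_empty_type, fun j => j.elim0⟩
  obtain ⟨k, hk, hkn⟩ : ∃ k, Good k ∧ ¬ Good (k + 1) := by
    by_contra hcon
    push Not at hcon
    have hall : ∀ k, Good k := fun k => by induction k with
      | zero => exact h0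
      | succ k ih => exact hcon k ih
    have := hbound _ (hall (Module.finrank F V + 1))
    omega
  obtain ⟨v, htop, hli, hinv⟩ := (hstep k hk).resolve_right hkn
  exact ⟨k, v, Module.Basis.mk hli htop.ge, fun j s => by simp, hinv⟩

/-- invariant complementary pairs of every dimension divisible by `d` -/
theorem exists_chain_invariant_pair [FiniteDimensional F V] (T : V →ₗ[F] V) {P : F[X]} (hP : aeval T P = 0) (hsq : Squarefree P)
    {d : ℕ} (hd : ∀ g, Irreducible g → g ∣ P → g.natDegree = d) :
    d ∣ Module.finrank F V ∧ ∀ j, j * d ≤ Module.finrank F V → ∃ U W : Submodule F V, IsCompl U W ∧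
      (∀ u ∈ U, T u ∈ U) ∧ (∀ u ∈ W, T u ∈ W) ∧ Module.finrank F U = j * d := by
  classical
  obtain ⟨k, v, b, hb, hinv⟩ := exists_chains T hP hsq hd
  have hfr : Module.finrank F V = k * d := by
    rw [Module.finrank_eq_card_basis b, Fintype.card_prod, Fintype.card_fin, Fintype.card_fin]
  refine ⟨hfr ▸ Dvd.intro_left k rfl, fun j hj => ?_⟩
  by_cases hd0 : d = 0
  · refine ⟨⊥, ⊤, isCompl_bot_top, fun u hu => by rw [(Submodule.mem_bot F).1 hu, map_zero]; exact zero_mem _,
      fun u _ => Submodule.mem_top, by rw [finrank_bot, hd0, mul_zero]⟩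
  have hjk : j ≤ k := Nat.le_of_mul_le_mul_right (hfr ▸ hj) (by omega)
  have hinvS : ∀ S : Set (Fin k), ∀ u ∈ Submodule.span F (b '' {js | js.1 ∈ S}), T u ∈ Submodule.span F (b '' {js | js.1 ∈ S}) := by
    intro S u hu
    have hle : Submodule.span F (b '' {js | js.1 ∈ S}) ≤ (Submodule.span F (b '' {js | js.1 ∈ S})).comap T := by
      rw [Submodule.span_le]
      rintro _ ⟨⟨i, s⟩, hi, rfl⟩
      show T (b (i, s)) ∈ Submodule.span F (b '' {js | js.1 ∈ S})
      rw [hb, ← Module.End.mul_apply, ← pow_succ']
      by_cases hs : (s : ℕ) + 1 < d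
      · exact Submodule.subset_span ⟨(i, ⟨(s : ℕ) + 1, hs⟩), hi, by rw [hb]⟩
      · rw [show (s : ℕ) + 1 = d by omega]
        refine Submodule.span_mono ?_ (hinv i)
        rintro _ ⟨s', rfl⟩
        exact ⟨(i, s'), hi, hb i s'⟩
    exact hle hu
  obtain ⟨S, hS⟩ : ∃ S : Set (Fin k), S = {i : Fin k | (i : ℕ) < j} := ⟨_, rfl⟩
  refine ⟨_, _, ⟨b.linearIndependent.disjoint_span_image (s := {js | js.1 ∈ S}) (t := {js | js.1 ∈ Sᶜ})
    (Set.disjoint_left.2 fun x h1 h2 => h2 h1), codisjoint_iff.2 ?_⟩, hinvS S, hinvS Sᶜ, ?_⟩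
  · rw [← Submodule.span_union, ← Set.image_union, show {js : Fin k × Fin d | js.1 ∈ S} ∪ {js | js.1 ∈ Sᶜ} = Set.univ from
      Set.eq_univ_of_forall fun x => em _, Set.image_univ, b.span_eq]
  · rw [finrank_span_set_eq_card ((b.linearIndependent.linearIndepOn ({js | js.1 ∈ S} : Set (Fin k × Fin d))).id_image),
      Set.toFinset_card, ← Nat.card_eq_fintype_card, Nat.card_image_of_injective b.injective]
    have e : ({js | js.1 ∈ S} : Set (Fin k × Fin d)) ≃ Fin j × Fin d :=
      { toFun := fun x => (⟨(x.1.1 : ℕ), (Set.ext_iff.1 hS x.1.1).1 x.2⟩, x.1.2)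
        invFun := fun y => ⟨(⟨(y.1 : ℕ), lt_of_lt_of_le y.1.2 hjk⟩, y.2), (Set.ext_iff.1 hS _).2 y.1.2⟩
        left_inv := fun x => rfl
        right_inv := fun y => rfl }
    rw [Nat.card_congr e, Nat.card_prod, Nat.card_fin, Nat.card_fin]

/-- the determinant of a monomial map -/
theorem det_of_monomial {ι : Type*} [Fintype ι] [DecidableEq ι] (b : Module.Basis ι F V) (T : V →ₗ[F] V)
    (π : Equiv.Perm ι) (c : ι → F) (h : ∀ x, T (b x) = c x • b (π x)) :
    LinearMap.det T = ((Equiv.Perm.sign π : ℤ) : F) * ∏ x, c x := by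
  rw [← LinearMap.det_toMatrix b, show LinearMap.toMatrix b b T = (Matrix.diagonal c).submatrix π.symm id by
    ext i x
    rw [LinearMap.toMatrix_apply, h, map_smul, Module.Basis.repr_self, Finsupp.smul_apply, Finsupp.single_apply,
      Matrix.submatrix_apply, id, Matrix.diagonal_apply]
    by_cases hx : π x = i
    · rw [if_pos hx, if_pos (by rw [← hx, Equiv.symm_apply_apply]), smul_eq_mul, mul_one, ← hx, Equiv.symm_apply_apply]
    · rw [if_neg hx, if_neg (fun e => hx (by rw [← e, Equiv.apply_symm_apply])), smul_zero],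
    Matrix.det_permute, Matrix.det_diagonal, Equiv.Perm.sign_symm]

/-- a map whose prime power is a scalar without root -/
theorem det_of_pow_eq_nonpower [FiniteDimensional F V] {r : ℕ} (hr : r.Prime) (hrF : (r : F) ≠ 0) (T : V →ₗ[F] V) {z : F}
    (hT : T ^ r = z • LinearMap.id) (hz : ∀ l : F, l ^ r ≠ z) :
    r ∣ Module.finrank F V ∧ LinearMap.det T = ((-1) ^ (r - 1) * z) ^ (Module.finrank F V / r) := by
  classical
  have hirr : Irreducible (X ^ r - C z : F[X]) := X_pow_sub_C_irreducible_of_prime hr hz
  have hP : aeval T (X ^ r - C z : F[X]) = 0 := by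
    rw [map_sub, map_pow, aeval_X, aeval_C, hT]
    refine LinearMap.ext fun v => ?_
    simp [Module.algebraMap_end_apply]
  have hd : ∀ g, Irreducible g → g ∣ (X ^ r - C z : F[X]) → g.natDegree = r := fun g hg hgd => by
    rw [natDegree_eq_of_degree_eq (degree_eq_degree_of_associated (hg.associated_of_dvd hirr hgd)), natDegree_X_pow_sub_C]
  obtain ⟨k, v, b, hb, -⟩ := exists_chains T hP hirr.squarefree hd
  have hfr : Module.finrank F V = k * r := by
    rw [Module.finrank_eq_card_basis b, Fintype.card_prod, Fintype.card_fin, Fintype.card_fin]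
  refine ⟨hfr ▸ Dvd.intro_left k rfl, ?_⟩
  obtain ⟨m, rfl⟩ : ∃ m, r = m + 1 := ⟨r - 1, by have := hr.pos; omega⟩
  have hact : ∀ x : Fin k × Fin (m + 1), T (b x) = (if x.2 = Fin.last m then z else 1) •
      b (Equiv.prodCongrRight (fun _ : Fin k => finRotate (m + 1)) x) := by
    rintro ⟨j, s⟩
    rw [hb, ← Module.End.mul_apply, ← pow_succ', Equiv.prodCongrRight_apply, hb]
    by_cases hs : s = Fin.last m
    · subst hs
      rw [if_pos rfl, finRotate_last, Fin.val_last, Fin.val_zero, pow_zero, hT]
      rfl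
    · rw [if_neg hs, one_smul, coe_finRotate_of_ne_last hs]
  rw [det_of_monomial b T _ _ hact, Equiv.Perm.sign_prodCongrRight, Finset.prod_const, Finset.card_univ,
    Fintype.card_fin, sign_finRotate, hfr, Nat.mul_div_cancel _ (by omega : 0 < m + 1), Fintype.prod_prod_type,
    Finset.prod_congr rfl (fun j _ => Finset.prod_ite_eq' Finset.univ (Fin.last m) (fun _ => z))]
  simp [mul_pow]

end CfsgLib.Perm.Elusive
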