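import Mathlib
import Cfsg.Agent.Lib.Perm.Elusive.Semisimple

/-!
# Invariant subspaces of linear maps of prime order prime to the characteristic
-/

set_option autoImplicit false
set_option linter.all false

namespace CfsgLib.Perm.Elusive

open Polynomial

variable {F : Type*} [Field F] [Fintype F] {p : ℕ} [Fact p.Prime] [CharP F p] {r : ℕ} [Fact r.Prime]

theorem natCast_ne_zero_of_ne (hrp : r ≠ p) : (r : F) ≠ 0 := fun h =>
  hrp ((Nat.prime_dvd_prime_iff_eq (Fact.out : p.Prime) (Fact.out : r.Prime)).1 ((CharP.cast_eq_zero_iff F p r).1 h)).symm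

theorem card_ne_zero_zmod (hrp : r ≠ p) : ((Fintype.card F : ℕ) : ZMod r) ≠ 0 := by
  obtain ⟨c, hp, hcard⟩ := FiniteField.card F p
  rw [Ne, ZMod.natCast_eq_zero_iff, hcard]
  exact fun h => hrp ((Nat.prime_dvd_prime_iff_eq (Fact.out : r.Prime) hp).1 ((Fact.out : r.Prime).dvd_of_dvd_pow h))

theorem order_pos (hrp : r ≠ p) : 0 < orderOf ((Fintype.card F : ℕ) : ZMod r) :=
  (isOfFinOrder_iff_pow_eq_one.2 ⟨r - 1, by have := (Fact.out : r.Prime).two_le; omega,
    ZMod.pow_card_sub_one_eq_one (card_ne_zero_zmod hrp)⟩).orderOf_pos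

theorem order_one_iff (hrp : r ≠ p) : orderOf ((Fintype.card F : ℕ) : ZMod r) = 1 ↔ r ∣ Fintype.card F - 1 := by
  rw [orderOf_eq_one_iff, ← (ZMod.natCast_eq_zero_iff _ r), Nat.cast_sub Fintype.card_pos, Nat.cast_one, sub_eq_zero]

/-- every element is an `r`-th power when `r` is prime to `q - 1` -/
theorem exists_root_of_order_ne_one (hrp : r ≠ p) (hi : orderOf ((Fintype.card F : ℕ) : ZMod r) ≠ 1) (z : F) :
    ∃ l : F, l ^ r = z := by
  by_cases hz : z = 0
  · exact ⟨0, by rw [hz, zero_pow (Fact.out : r.Prime).ne_zero]⟩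
  have hco : (Nat.card Fˣ).Coprime r := by
    rw [Nat.card_units, Nat.card_eq_fintype_card]
    exact ((Fact.out : r.Prime).coprime_iff_not_dvd.2 fun h => hi ((order_one_iff hrp).2 h)).symm
  obtain ⟨l, hl⟩ := (powCoprime hco).surjective (Units.mk0 z hz)
  exact ⟨(l : F), by rw [← Units.val_pow_eq_pow_val]; exact congrArg Units.val hl⟩

theorem factor_degree (hrp : r ≠ p) {g : F[X]} (hg : Irreducible g) (hgd : g ∣ cyclotomic r F) :
    g.natDegree = orderOf ((Fintype.card F : ℕ) : ZMod r) := by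
  obtain ⟨c, hp, hcard⟩ := FiniteField.card F p
  rw [natDegree_of_dvd_cyclotomic_of_irreducible (p := p) (f := (c : ℕ)) hcard
    ((Nat.coprime_primes hp (Fact.out : r.Prime)).2 hrp.symm) hgd hg, ← orderOf_units, ZMod.coe_unitOfCoprime, hcard]

theorem cyclotomic_squarefree' (hrp : r ≠ p) : Squarefree (cyclotomic r F) :=
  ((separable_X_pow_sub_C (1 : F) (natCast_ne_zero_of_ne hrp) one_ne_zero).squarefree).squarefree_of_dvd
    (by rw [map_one]; exact cyclotomic.dvd_X_pow_sub_one r F)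

section Split

variable {V : Type*} [AddCommGroup V] [Module F V] [FiniteDimensional F V]

/-- the moved part is free over the field of `r`-th roots of unity -/
theorem exists_split (hrp : r ≠ p) (T : V →ₗ[F] V) (hT : T ^ r = 1) :
    ∃ k, Module.finrank F V = Module.finrank F (LinearMap.ker (T - 1)) + k * orderOf ((Fintype.card F : ℕ) : ZMod r) ∧
      ∀ a j, a ≤ Module.finrank F (LinearMap.ker (T - 1)) → j ≤ k →
        ∃ U W : Submodule F V, IsCompl U W ∧ (∀ u ∈ U, T u ∈ U) ∧ (∀ u ∈ W, T u ∈ W) ∧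
          Module.finrank F U = a + j * orderOf ((Fintype.card F : ℕ) : ZMod r) := by
  classical
  obtain ⟨E, hE⟩ : ∃ E, E = LinearMap.ker (aeval T (X - C 1 : F[X])) := ⟨_, rfl⟩
  obtain ⟨M, hM⟩ : ∃ M, M = LinearMap.ker (aeval T (cyclotomic r F)) := ⟨_, rfl⟩
  have hE' : E = LinearMap.ker (T - 1) := by rw [hE, map_sub, aeval_X, aeval_C, map_one]
  have hco : IsCoprime (X - C 1 : F[X]) (cyclotomic r F) := by
    rw [(irreducible_X_sub_C (1 : F)).coprime_iff_not_dvd, dvd_iff_isRoot, IsRoot, eval_one_cyclotomic_prime]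
    exact natCast_ne_zero_of_ne hrp
  have hsup : E ⊔ M = ⊤ := by
    rw [hE, hM, sup_ker_aeval_eq_ker_aeval_mul_of_coprime T hco, map_one, mul_comm, cyclotomic_prime_mul_X_sub_one,
      map_sub, map_pow, aeval_X, map_one, hT, sub_self, LinearMap.ker_zero]
  have hdis : Disjoint E M := by
    rw [hE, hM]
    exact disjoint_ker_aeval_of_isCoprime T hco
  have hfix : ∀ u ∈ E, T u = u := fun u hu => by
    rw [hE'] at hu
    simpa [sub_eq_zero] using hu
  have hMinv : ∀ u ∈ M, T u ∈ M := fun u hu => by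
    rw [hM, LinearMap.mem_ker] at hu ⊢
    rw [show T u = aeval T (X : F[X]) u by rw [aeval_X], ← Module.End.mul_apply, ← map_mul, mul_comm, map_mul,
      Module.End.mul_apply, hu, map_zero]
  have hP : aeval (T.restrict hMinv) (cyclotomic r F) = 0 := LinearMap.ext fun u => Subtype.ext (by
    rw [restrict_aeval_coe]
    exact LinearMap.mem_ker.1 (hM.le u.2))
  obtain ⟨⟨k, hk⟩, hpair⟩ := exists_chain_invariant_pair (T.restrict hMinv) hP (cyclotomic_squarefree' hrp)
    (fun g hg hgd => factor_degree (p := p) hrp hg hgd)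
  have hfr : Module.finrank F V = Module.finrank F E + Module.finrank F M := by
    rw [← Submodule.finrank_sup_add_finrank_inf_eq, hsup, hdis.eq_bot, finrank_top, finrank_bot, add_zero]
  refine ⟨k, by rw [← hE', hfr, hk, mul_comm], fun a j ha hj => ?_⟩
  rw [← hE'] at ha
  obtain ⟨U₀, W₀, hc₀, hUi, hWi, hU₀⟩ := hpair j (by rw [hk, mul_comm]; exact Nat.mul_le_mul_left _ hj)
  obtain ⟨bE, hbE⟩ : ∃ b, b = Module.finBasis F E := ⟨_, rfl⟩
  obtain ⟨A₁, hA₁⟩ : ∃ A, A = Submodule.span F (bE '' {i | (i : ℕ) < a}) := ⟨_, rfl⟩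
  obtain ⟨A₂, hA₂⟩ : ∃ A, A = Submodule.span F (bE '' {i | (i : ℕ) < a}ᶜ) := ⟨_, rfl⟩
  have hA : IsCompl A₁ A₂ := by
    rw [hA₁, hA₂]
    exact ⟨bE.linearIndependent.disjoint_span_image disjoint_compl_right,
      codisjoint_iff.2 (by rw [← Submodule.span_union, ← Set.image_union, Set.union_compl_self, Set.image_univ, bE.span_eq])⟩
  have hA₁f : Module.finrank F A₁ = a := by
    rw [hA₁, finrank_span_set_eq_card ((bE.linearIndependent.linearIndepOn _).id_image), Set.toFinset_card,
      ← Nat.card_eq_fintype_card, Nat.card_image_of_injective bE.injective]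
    have e : ({i | (i : ℕ) < a} : Set (Fin (Module.finrank F E))) ≃ Fin a :=
      { toFun := fun x => ⟨(x.1 : ℕ), x.2⟩
        invFun := fun y => ⟨⟨(y : ℕ), lt_of_lt_of_le y.2 ha⟩, y.2⟩
        left_inv := fun x => rfl
        right_inv := fun y => rfl }
    rw [Nat.card_congr e, Nat.card_fin]
  refine ⟨A₁.map E.subtype ⊔ U₀.map M.subtype, A₂.map E.subtype ⊔ W₀.map M.subtype, ⟨?_, ?_⟩, ?_, ?_, ?_⟩
  · rw [Submodule.disjoint_def]
    intro x hx1 hx2
    obtain ⟨_, ⟨e₁, he₁, rfl⟩, _, ⟨m₁, hm₁, rfl⟩, rfl⟩ := Submodule.mem_sup.1 hx1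
    obtain ⟨_, ⟨e₂, he₂, rfl⟩, _, ⟨m₂, hm₂, rfl⟩, heq⟩ := Submodule.mem_sup.1 hx2
    simp only [Submodule.subtype_apply] at heq ⊢
    have h0 : (e₁ : V) - e₂ = 0 := by
      refine Submodule.disjoint_def.1 hdis _ (sub_mem e₁.2 e₂.2) ?_
      rw [show (e₁ : V) - e₂ = m₂ - m₁ by linear_combination (norm := abel) -heq]
      exact sub_mem m₂.2 m₁.2
    have h1 : e₁ = 0 := Submodule.disjoint_def.1 hA.disjoint _ he₁ (by
      rw [Subtype.ext (sub_eq_zero.1 h0) (a1 := e₁)]; exact he₂)
    have h2 : e₂ = 0 := by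
      rw [← Subtype.ext (sub_eq_zero.1 h0) (a1 := e₁)]; exact h1
    rw [h1, h2, ZeroMemClass.coe_zero, zero_add, zero_add] at heq
    have h3 : m₁ = 0 := Submodule.disjoint_def.1 hc₀.disjoint _ hm₁ (by rw [← Subtype.ext heq]; exact hm₂)
    rw [h1, h3]; simp
  · rw [codisjoint_iff, sup_sup_sup_comm, ← Submodule.map_sup, ← Submodule.map_sup, hA.sup_eq_top, hc₀.sup_eq_top,
      Submodule.map_top, Submodule.map_top, Submodule.range_subtype, Submodule.range_subtype, hsup]
  · intro u hu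
    obtain ⟨_, ⟨e₁, he₁, rfl⟩, _, ⟨m₁, hm₁, rfl⟩, rfl⟩ := Submodule.mem_sup.1 hu
    rw [map_add]
    exact Submodule.add_mem_sup ⟨e₁, he₁, (hfix _ e₁.2).symm⟩ ⟨_, hUi _ hm₁, rfl⟩
  · intro u hu
    obtain ⟨_, ⟨e₁, he₁, rfl⟩, _, ⟨m₁, hm₁, rfl⟩, rfl⟩ := Submodule.mem_sup.1 hu
    rw [map_add]
    exact Submodule.add_mem_sup ⟨e₁, he₁, (hfix _ e₁.2).symm⟩ ⟨_, hWi _ hm₁, rfl⟩
  · have hd2 : Disjoint (A₁.map E.subtype) (U₀.map M.subtype) :=
      hdis.mono (Submodule.map_subtype_le _ _) (Submodule.map_subtype_le _ _)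
    have h := Submodule.finrank_sup_add_finrank_inf_eq (A₁.map E.subtype) (U₀.map M.subtype)
    rw [hd2.eq_bot, finrank_bot, add_zero, Submodule.finrank_map_subtype_eq, Submodule.finrank_map_subtype_eq, hA₁f, hU₀] at h
    exact h

/-- dimensions of invariant subspaces -/
theorem finrank_invariant (hrp : r ≠ p) (T : V →ₗ[F] V) (hT : T ^ r = 1) {W : Submodule F V} (hW : ∀ u ∈ W, T u ∈ W) :
    ∃ a j, a ≤ Module.finrank F (LinearMap.ker (T - 1)) ∧
      Module.finrank F W = a + j * orderOf ((Fintype.card F : ℕ) : ZMod r) := by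
  have hTW : (T.restrict hW) ^ r = 1 := LinearMap.ext fun u => Subtype.ext (by
    have h := restrict_aeval_coe T hW (X ^ r) u
    rw [map_pow, map_pow, aeval_X, aeval_X, hT] at h
    exact h)
  obtain ⟨k, hk, -⟩ := exists_split (p := p) hrp (T.restrict hW) hTW
  refine ⟨_, k, ?_, hk⟩
  rw [← Submodule.finrank_map_subtype_eq W]
  refine Submodule.finrank_mono ?_
  rintro _ ⟨u, hu, rfl⟩
  rw [SetLike.mem_coe, LinearMap.mem_ker] at hu
  rw [LinearMap.mem_ker]
  have h := congrArg Subtype.val hu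
  simpa using h

/-- dimensions of invariant subspaces when the `r`-th power is a scalar without root -/
theorem nonpower_invariant (T : V →ₗ[F] V) {z : F} (hT : T ^ r = z • LinearMap.id) (hz : ∀ l : F, l ^ r ≠ z) :
    (∀ W : Submodule F V, (∀ u ∈ W, T u ∈ W) → r ∣ Module.finrank F W) ∧
      ∀ j, j * r ≤ Module.finrank F V → ∃ U W : Submodule F V, IsCompl U W ∧ (∀ u ∈ U, T u ∈ U) ∧ (∀ u ∈ W, T u ∈ W) ∧
        Module.finrank F U = j * r := by
  have hirr : Irreducible (X ^ r - C z : F[X]) := X_pow_sub_C_irreducible_of_prime (Fact.out : r.Prime) hz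
  have hd : ∀ g, Irreducible g → g ∣ (X ^ r - C z : F[X]) → g.natDegree = r := fun g hg hgd => by
    rw [natDegree_eq_of_degree_eq (degree_eq_degree_of_associated (hg.associated_of_dvd hirr hgd)), natDegree_X_pow_sub_C]
  have hP : aeval T (X ^ r - C z : F[X]) = 0 := by
    rw [map_sub, map_pow, aeval_X, aeval_C, hT]
    refine LinearMap.ext fun v => ?_
    simp [Module.algebraMap_end_apply]
  refine ⟨fun W hW => ?_, (exists_chain_invariant_pair T hP hirr.squarefree hd).2⟩
  refine (exists_chain_invariant_pair (T.restrict hW) ?_ hirr.squarefree hd).1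
  exact LinearMap.ext fun u => Subtype.ext (by rw [restrict_aeval_coe, hP]; rfl)

end Split

/-- an element with prescribed fixed space -/
theorem exists_prime_element (hrp : r ≠ p) {n a b : ℕ} (hn : n = a + b * orderOf ((Fintype.card F : ℕ) : ZMod r)) :
    ∃ T : (Fin n → F) →ₗ[F] (Fin n → F), T ^ r = 1 ∧ Module.finrank F (LinearMap.ker (T - 1)) = a := by
  classical
  obtain ⟨g, hg, hgd⟩ : ∃ g : F[X], Irreducible g ∧ g ∣ cyclotomic r F := by
    obtain ⟨g, hg, hgd⟩ := WfDvdMonoid.exists_irreducible_factor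
      (not_isUnit_of_degree_pos _ (degree_cyclotomic_pos r F (Fact.out : r.Prime).pos)) (cyclotomic_ne_zero r F)
    exact ⟨g, hg, hgd⟩
  haveI : Fact (Irreducible g) := ⟨hg⟩
  obtain ⟨l, hl⟩ : ∃ l : AdjoinRoot g, l = AdjoinRoot.root g := ⟨_, rfl⟩
  have hev : ∀ h : F[X], g ∣ h → aeval l h = 0 := fun h hh => by
    rw [hl, AdjoinRoot.aeval_eq, AdjoinRoot.mk_eq_zero]; exact hh
  have hlr : l ^ r = 1 := by
    have := hev _ (hgd.trans (cyclotomic.dvd_X_pow_sub_one r F))
    rwa [map_sub, map_pow, aeval_X, map_one, sub_eq_zero] at this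
  have hl1 : l ≠ 1 := fun h => by
    have h0 := hev _ hgd
    rw [h, ← map_one (algebraMap F (AdjoinRoot g)), aeval_algebraMap_apply, coe_aeval_eq_eval, eval_one_cyclotomic_prime, map_natCast] at h0
    exact natCast_ne_zero_of_ne (F := F) hrp ((map_eq_zero (algebraMap F (AdjoinRoot g))).1 (by rw [map_natCast]; exact h0))
  haveI := (AdjoinRoot.powerBasis hg.ne_zero).finite
  have hdim : Module.finrank F (AdjoinRoot g) = orderOf ((Fintype.card F : ℕ) : ZMod r) := by
    rw [(AdjoinRoot.powerBasis hg.ne_zero).finrank, AdjoinRoot.powerBasis_dim, factor_degree (p := p) hrp hg hgd]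
  obtain ⟨e⟩ : Nonempty (((Fin a → F) × (Fin b → AdjoinRoot g)) ≃ₗ[F] (Fin n → F)) :=
    ⟨LinearEquiv.ofFinrankEq _ _ (by rw [Module.finrank_prod, Module.finrank_fin_fun, Module.finrank_pi_fintype,
      Module.finrank_fin_fun, Finset.sum_const, Finset.card_univ, Fintype.card_fin, hdim, smul_eq_mul, hn])⟩
  obtain ⟨S, hS⟩ : ∃ S : ((Fin a → F) × (Fin b → AdjoinRoot g)) →ₗ[F] ((Fin a → F) × (Fin b → AdjoinRoot g)),
      S = LinearMap.id.prodMap (Algebra.lsmul F F (Fin b → AdjoinRoot g) l) := ⟨_, rfl⟩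
  refine ⟨e.conj S, ?_, ?_⟩
  · have hpow : ∀ j x, (S ^ j) x = (x.1, l ^ j • x.2) := fun j => by
      induction j with
      | zero => intro x; simp
      | succ j ih => intro x; rw [pow_succ', Module.End.mul_apply, ih, hS]; simp [pow_succ', mul_smul]
    have hc : ∀ j, (e.conj S) ^ j = e.conj (S ^ j) := fun j => by
      induction j with
      | zero => ext x; simp
      | succ j ih =>
        rw [pow_succ, ih, pow_succ]
        refine LinearMap.ext fun x => ?_
        simp [LinearEquiv.conj_apply_apply]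
    rw [hc]
    refine LinearMap.ext fun x => ?_
    simp [LinearEquiv.conj_apply_apply, hpow, hlr]
  · have hker : LinearMap.ker (e.conj S - 1) = LinearMap.range (e.toLinearMap.comp (LinearMap.inl F (Fin a → F) (Fin b → AdjoinRoot g))) := by
      ext x
      obtain ⟨⟨u, w⟩, rfl⟩ := e.surjective x
      rw [LinearMap.mem_ker, LinearMap.sub_apply, LinearEquiv.conj_apply_apply, e.symm_apply_apply, Module.End.one_apply,
        sub_eq_zero, e.injective.eq_iff, hS]
      simp only [LinearMap.prodMap_apply, LinearMap.id_coe, id_eq, Prod.mk.injEq, true_and, LinearMap.mem_range,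
        LinearMap.coe_comp, LinearEquiv.coe_coe, Function.comp_apply, LinearMap.inl_apply, e.injective.eq_iff]
      constructor
      · intro h
        refine ⟨u, ?_, ?_⟩
        · rfl
        · funext j
          have hj := congrFun h j
          simp at hj
          rw [mul_left_eq_self₀] at hj
          exact (hj.resolve_left hl1).symm
      · rintro ⟨y, rfl, rfl⟩
        simp
    rw [hker, LinearMap.finrank_range_of_inj, Module.finrank_fin_fun]
    exact e.injective.comp LinearMap.inl_injective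

/-- an element whose power is a scalar without root -/
theorem exists_block_element {n k : ℕ} (hn : n = k * r) (z : F) :
    ∃ T : (Fin n → F) →ₗ[F] (Fin n → F), T ^ r = z • LinearMap.id := by
  classical
  obtain ⟨l, hl⟩ : ∃ l : AdjoinRoot (X ^ r - C z : F[X]), l = AdjoinRoot.root _ := ⟨_, rfl⟩
  have hne : (X ^ r - C z : F[X]).Monic := monic_X_pow_sub_C z (Fact.out : r.Prime).ne_zero
  have hlr : l ^ r = algebraMap F _ z := by
    have h : aeval l (X ^ r - C z : F[X]) = 0 := by rw [hl, AdjoinRoot.aeval_eq, AdjoinRoot.mk_self]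
    rwa [map_sub, map_pow, aeval_X, aeval_C, sub_eq_zero] at h
  haveI := hne.finite_adjoinRoot
  haveI : Module.Free F (AdjoinRoot (X ^ r - C z : F[X])) := Module.Free.of_basis (AdjoinRoot.powerBasis hne.ne_zero).basis
  obtain ⟨e⟩ : Nonempty ((Fin k → AdjoinRoot (X ^ r - C z : F[X])) ≃ₗ[F] (Fin n → F)) :=
    ⟨LinearEquiv.ofFinrankEq _ _ (by
      rw [Module.finrank_pi_fintype, Module.finrank_fin_fun, Finset.sum_const, Finset.card_univ, Fintype.card_fin,
        (AdjoinRoot.powerBasis hne.ne_zero).finrank, AdjoinRoot.powerBasis_dim, natDegree_X_pow_sub_C, smul_eq_mul, hn])⟩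
  refine ⟨e.conj (Algebra.lsmul F F _ l), ?_⟩
  have hc : ∀ j, (e.conj (Algebra.lsmul F F (Fin k → AdjoinRoot (X ^ r - C z : F[X])) l)) ^ j =
      e.conj (Algebra.lsmul F F _ (l ^ j)) := fun j => by
    induction j with
    | zero => ext x; simp
    | succ j ih =>
      rw [pow_succ, ih, pow_succ]
      refine LinearMap.ext fun x => ?_
      simp [LinearEquiv.conj_apply_apply, mul_smul]
  rw [hc, hlr]
  refine LinearMap.ext fun x => ?_
  rw [LinearEquiv.conj_apply_apply]
  show e (algebraMap F (AdjoinRoot (X ^ r - C z : F[X])) z • e.symm x) = z • x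
  rw [algebraMap_smul, map_smul, e.apply_symm_apply]

/-- counting subspaces -/
theorem card_subspaces_mul {V : Type*} [AddCommGroup V] [Module F V] [FiniteDimensional F V] {m : ℕ}
    (hm : m ≤ Module.finrank F V) :
    Nat.card {W : Submodule F V // Module.finrank F W = m} * ∏ i : Fin m, (Fintype.card F ^ m - Fintype.card F ^ (i : ℕ)) =
      ∏ i : Fin m, (Fintype.card F ^ Module.finrank F V - Fintype.card F ^ (i : ℕ)) := by
  classical
  haveI : Finite V := Module.finite_of_finite F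
  rw [← card_linearIndependent (K := F) (V := V) hm]
  obtain ⟨φ, hφ⟩ : ∃ φ : {s : Fin m → V // LinearIndependent F s} → {W : Submodule F V // Module.finrank F W = m},
      ∀ s, (φ s).1 = Submodule.span F (Set.range s.1) :=
    ⟨fun s => ⟨Submodule.span F (Set.range s.1), by rw [finrank_span_eq_card s.2, Fintype.card_fin]⟩, fun s => rfl⟩
  haveI : Fintype {W : Submodule F V // Module.finrank F W = m} := Fintype.ofFinite _
  rw [← Nat.card_congr (Equiv.sigmaFiberEquiv φ), Nat.card_sigma]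
  rw [Finset.sum_congr rfl (fun W _ => show Nat.card {s // φ s = W} =
    ∏ i : Fin m, (Fintype.card F ^ m - Fintype.card F ^ (i : ℕ)) from ?_), Finset.sum_const, Finset.card_univ,
    smul_eq_mul, Nat.card_eq_fintype_card]
  rw [show ∏ i : Fin m, (Fintype.card F ^ m - Fintype.card F ^ (i : ℕ)) = Nat.card {t : Fin m → W.1 // LinearIndependent F t} by
    rw [card_linearIndependent (K := F) (V := W.1) (le_of_eq W.2.symm), W.2]]
  refine Nat.card_congr
    { toFun := fun s => ⟨fun i => ⟨s.1.1 i, ?_⟩, ?_⟩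
      invFun := fun t => ⟨⟨fun i => (t.1 i : V), t.2.map' W.1.subtype W.1.ker_subtype⟩, ?_⟩
      left_inv := fun s => rfl
      right_inv := fun t => rfl }
  · exact ((hφ s.1).symm.trans (congrArg Subtype.val s.2)).le (Submodule.subset_span ⟨i, rfl⟩)
  · exact LinearIndependent.of_comp W.1.subtype s.1.2
  · refine Subtype.ext ((hφ _).trans (Submodule.eq_of_le_of_finrank_eq (Submodule.span_le.2 ?_) ?_))
    · rintro _ ⟨i, rfl⟩
      exact (t.1 i).2
    · show Module.finrank F (Submodule.span F (Set.range fun i => (t.1 i : V))) = _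
      have hli : LinearIndependent F fun i => (t.1 i : V) := t.2.map' W.1.subtype W.1.ker_subtype
      rw [finrank_span_eq_card hli, Fintype.card_fin, W.2]

/-- the number of subspaces is one modulo the characteristic -/
theorem card_subspaces_not_dvd {n m : ℕ} (hmn : m ≤ n) :
    ¬ p ∣ Nat.card {W : Submodule F (Fin n → F) // Module.finrank F W = m} := by
  intro hdvd
  have h := card_subspaces_mul (F := F) (V := Fin n → F) (m := m) (by rwa [Module.finrank_fin_fun])
  rw [Module.finrank_fin_fun] at h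
  have hq : 1 ≤ Fintype.card F := Fintype.card_pos
  have hsplit : ∀ N, m ≤ N → ∏ i : Fin m, (Fintype.card F ^ N - Fintype.card F ^ (i : ℕ)) =
      (∏ i : Fin m, Fintype.card F ^ (i : ℕ)) * ∏ i : Fin m, (Fintype.card F ^ (N - i) - 1) := fun N hN => by
    rw [← Finset.prod_mul_distrib]
    refine Finset.prod_congr rfl fun i _ => ?_
    rw [Nat.mul_sub_one, ← pow_add, Nat.add_sub_cancel' (le_trans i.2.le hN)]
  rw [hsplit m le_rfl, hsplit n hmn, mul_left_comm] at h
  have h' := Nat.eq_of_mul_eq_mul_left (Finset.prod_pos fun i _ => Nat.pow_pos hq) h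
  have hd : p ∣ ∏ i : Fin m, (Fintype.card F ^ (n - i) - 1) := h' ▸ dvd_mul_of_dvd_left hdvd _
  obtain ⟨i, -, hi⟩ := ((Fact.out : p.Prime).prime.dvd_finsetProd_iff _).1 hd
  obtain ⟨c, hp, hcard⟩ := FiniteField.card F p
  have h1 : p ∣ Fintype.card F ^ (n - i) := by
    rw [hcard, ← pow_mul]
    exact dvd_pow_self p (Nat.mul_ne_zero c.pos.ne' (by omega))
  have h2 : p ∣ 1 := by
    have := Nat.dvd_sub h1 hi
    rwa [Nat.sub_sub_self (Nat.one_le_pow _ _ hq)] at this
  exact hp.ne_one (Nat.dvd_one.1 h2)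

/-- a divisor of the number of subspaces divides some `q ^ (n - j) - 1` -/
theorem exists_order_dvd (hrp : r ≠ p) {n m : ℕ} (hmn : m ≤ n)
    (hdvd : r ∣ Nat.card {W : Submodule F (Fin n → F) // Module.finrank F W = m}) :
    ∃ j < m, orderOf ((Fintype.card F : ℕ) : ZMod r) ∣ n - j := by
  have h := card_subspaces_mul (F := F) (V := Fin n → F) (m := m) (by rwa [Module.finrank_fin_fun])
  rw [Module.finrank_fin_fun] at h
  have hd := h ▸ dvd_mul_of_dvd_left hdvd _
  obtain ⟨i, -, hi⟩ := ((Fact.out : r.Prime).prime.dvd_finsetProd_iff _).1 hd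
  refine ⟨i, i.2, orderOf_dvd_of_pow_eq_one ?_⟩
  have hz := card_ne_zero_zmod (F := F) hrp
  rw [← (ZMod.natCast_eq_zero_iff _ r), Nat.cast_sub (Nat.pow_le_pow_right Fintype.card_pos (le_trans i.2.le hmn)),
    sub_eq_zero, Nat.cast_pow, Nat.cast_pow, show n = (n - i) + i by omega, pow_add] at hi
  exact mul_right_cancel₀ (pow_ne_zero _ hz) (by rw [hi, one_mul])

/-- recognising `r`-th powers -/
theorem exists_root_of_pow_eq_one {w : F} (hw : w ≠ 0) {k : ℕ} (hk : k ≠ 0) (hwk : w ^ k = 1)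
    (hr1 : r ∣ Fintype.card F - 1) (hv : padicValNat r k < padicValNat r (Fintype.card F - 1)) : ∃ l : F, l ^ r = w := by
  classical
  obtain ⟨g, hg⟩ := IsCyclic.exists_ofOrder_eq_natCard (α := Fˣ)
  rw [Nat.card_units, Nat.card_eq_fintype_card] at hg
  have hmem : Units.mk0 w hw ∈ Subgroup.zpowers g := by
    rw [Subgroup.eq_top_of_card_eq (Subgroup.zpowers g) (by
      rw [Nat.card_zpowers, hg, Nat.card_units, Nat.card_eq_fintype_card])]
    exact Subgroup.mem_top _
  obtain ⟨e, he⟩ := mem_powers_iff_mem_zpowers.2 hmem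
  simp only at he
  have hek : Fintype.card F - 1 ∣ e * k := by
    rw [← hg]
    refine orderOf_dvd_of_pow_eq_one ?_
    rw [pow_mul, he]
    exact Units.ext (by rw [Units.val_pow_eq_pow_val, Units.val_mk0, hwk, Units.val_one])
  have hq1 : Fintype.card F - 1 ≠ 0 := by have := Fintype.one_lt_card (α := F); omega
  have hre : r ∣ e := by
    by_contra hne
    have hco : (r ^ padicValNat r (Fintype.card F - 1)).Coprime e :=
      Nat.Coprime.pow_left _ ((Fact.out : r.Prime).coprime_iff_not_dvd.2 hne)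
    have h2 := hco.dvd_of_dvd_mul_left ((pow_padicValNat_dvd).trans hek)
    rw [padicValNat_dvd_iff_le hk] at h2
    omega
  obtain ⟨e', rfl⟩ := hre
  refine ⟨((g ^ e' : Fˣ) : F), ?_⟩
  rw [← Units.val_pow_eq_pow_val, ← pow_mul, mul_comm, he, Units.val_mk0]

end CfsgLib.Perm.Elusive
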