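import Mathlib
import Cfsg.Agent.Lib.Perm.Elusive.PrimeOrderLinear

/-!
# Invariant complements and flags for maps of prime order
-/

set_option autoImplicit false
set_option linter.all false

namespace CfsgLib.Perm.Elusive

open Polynomial

variable {F : Type*} [Field F] [Fintype F] {p : ℕ} [Fact p.Prime] [CharP F p] {r : ℕ} [Fact r.Prime]
variable {V : Type*} [AddCommGroup V] [Module F V] [FiniteDimensional F V]

/-- invariant complementary pairs -/
theorem exists_inv_pair (hrp : r ≠ p) (T : V →ₗ[F] V) {z : F} (hz : z ≠ 0) (hT : T ^ r = z • LinearMap.id) {m : ℕ}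
    (hm : m ≤ Module.finrank F V)
    (hroot : (∃ l : F, l ^ r = z) → m % orderOf ((Fintype.card F : ℕ) : ZMod r) ≤
      Module.finrank F V % orderOf ((Fintype.card F : ℕ) : ZMod r))
    (hnon : (∀ l : F, l ^ r ≠ z) → r ∣ m) :
    ∃ U W : Submodule F V, IsCompl U W ∧ (∀ u ∈ U, T u ∈ U) ∧ (∀ u ∈ W, T u ∈ W) ∧ Module.finrank F U = m := by
  classical
  obtain ⟨i, hi⟩ : ∃ i, i = orderOf ((Fintype.card F : ℕ) : ZMod r) := ⟨_, rfl⟩
  rw [← hi] at hroot
  by_cases hr : ∃ l : F, l ^ r = z
  · obtain ⟨l, hl⟩ := hr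
    have hl0 : l ≠ 0 := fun h => hz (by rw [← hl, h, zero_pow (Fact.out : r.Prime).ne_zero])
    obtain ⟨y, hy⟩ : ∃ y, y = l⁻¹ • T := ⟨_, rfl⟩
    have hyr : y ^ r = 1 := by
      rw [hy, _root_.smul_pow, hT, smul_smul, inv_pow, hl, inv_mul_cancel₀ hz, one_smul]
      rfl
    obtain ⟨k, hk, hex⟩ := exists_split (p := p) hrp y hyr
    rw [← hi] at hk hex
    obtain ⟨a, ha⟩ : ∃ a, a = Module.finrank F (LinearMap.ker (y - 1)) := ⟨_, rfl⟩
    rw [← ha] at hk hex
    have hmod := hroot ⟨l, hl⟩
    have hai : Module.finrank F V % i ≤ a := by rw [hk, Nat.add_mul_mod_self_right]; exact Nat.mod_le _ _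
    have hm' := Nat.mod_add_div' m i
    obtain ⟨a', j, ha', hj, hsum⟩ : ∃ a' j, a' ≤ a ∧ j ≤ k ∧ a' + j * i = m := by
      rcases le_or_gt (m / i) k with h | h
      · exact ⟨m % i, m / i, by omega, h, hm'⟩
      · have : k * i ≤ m / i * i := Nat.mul_le_mul_right i h.le
        exact ⟨m - k * i, k, by omega, le_rfl, by omega⟩
    obtain ⟨U, W, hc, hU, hW, hUf⟩ := hex a' j ha' hj
    have hback : ∀ S : Submodule F V, (∀ u ∈ S, y u ∈ S) → ∀ u ∈ S, T u ∈ S := fun S hS u hu => by
      have h := S.smul_mem l (hS u hu)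
      rwa [hy, LinearMap.smul_apply, smul_inv_smul₀ hl0] at h
    exact ⟨U, W, hc, hback U hU, hback W hW, hUf.trans hsum⟩
  · push Not at hr
    obtain ⟨c, rfl⟩ := hnon hr
    obtain ⟨U, W, hc, hU, hW, hUf⟩ := (nonpower_invariant T hT hr).2 c (by rw [mul_comm]; exact hm)
    exact ⟨U, W, hc, hU, hW, by rw [hUf, mul_comm]⟩

/-- invariant flags -/
theorem exists_inv_flag (hrp : r ≠ p) (T : V →ₗ[F] V) {z : F} (hz : z ≠ 0) (hT : T ^ r = z • LinearMap.id) {m : ℕ}
    (hm : 2 * m ≤ Module.finrank F V)
    (hroot : (∃ l : F, l ^ r = z) → 2 * (m % orderOf ((Fintype.card F : ℕ) : ZMod r)) ≤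
      Module.finrank F V % orderOf ((Fintype.card F : ℕ) : ZMod r))
    (hnon : (∀ l : F, l ^ r ≠ z) → r ∣ m) :
    ∃ U W : Submodule F V, U ≤ W ∧ (∀ u ∈ U, T u ∈ U) ∧ (∀ u ∈ W, T u ∈ W) ∧ Module.finrank F U = m ∧
      Module.finrank F W = Module.finrank F V - m := by
  obtain ⟨U, C, hUC, hU, hC, hUf⟩ := exists_inv_pair (p := p) hrp T hz hT (m := m) (by omega)
    (fun h => by have := hroot h; omega) hnon
  have hCf : Module.finrank F U + Module.finrank F C = Module.finrank F V := Submodule.finrank_add_eq_of_isCompl hUC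
  have hTC : (T.restrict hC) ^ r = z • LinearMap.id := LinearMap.ext fun u => Subtype.ext (by
    have h := restrict_aeval_coe T hC (X ^ r) u
    rw [map_pow, map_pow, aeval_X, aeval_X, hT] at h
    exact h)
  obtain ⟨U₃, W₃, hc₃, hU₃, hW₃, hU₃f⟩ := exists_inv_pair (p := p) hrp (T.restrict hC) hz hTC (m := m) (by omega)
    (fun h => by
      obtain ⟨i, hi⟩ : ∃ i, i = orderOf ((Fintype.card F : ℕ) : ZMod r) := ⟨_, rfl⟩
      have h2 := hroot h
      rw [← hi] at h2 ⊢
      rw [show Module.finrank F C = Module.finrank F V - m by omega]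
      have e1 := Nat.mod_add_div' (Module.finrank F V) i
      have e2 := Nat.mod_add_div' m i
      have hle : m / i * i ≤ Module.finrank F V / i * i := Nat.mul_le_mul_right i (Nat.div_le_div_right (by omega))
      rw [show Module.finrank F V - m = (Module.finrank F V % i - m % i) + (Module.finrank F V / i - m / i) * i by
        rw [Nat.sub_mul]; omega, Nat.add_mul_mod_self_right]
      have hlt : Module.finrank F V % i - m % i < i ∨ i = 0 := by
        rcases Nat.eq_zero_or_pos i with h0 | h0
        · exact Or.inr h0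
        · exact Or.inl (lt_of_le_of_lt (Nat.sub_le _ _) (Nat.mod_lt _ h0))
      rcases hlt with h0 | h0
      · rw [Nat.mod_eq_of_lt h0]; omega
      · subst h0; rw [Nat.mod_zero]; omega) hnon
  have hW₃f := Submodule.finrank_add_eq_of_isCompl hc₃
  refine ⟨U, U ⊔ W₃.map C.subtype, le_sup_left, hU, fun u hu => ?_, hUf, ?_⟩
  · obtain ⟨a, ha, _, ⟨b, hb, rfl⟩, rfl⟩ := Submodule.mem_sup.1 hu
    rw [map_add]
    exact Submodule.add_mem_sup (hU a ha) ⟨_, hW₃ b hb, rfl⟩
  · have h := Submodule.finrank_sup_add_finrank_inf_eq U (W₃.map C.subtype)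
    rw [(hUC.disjoint.mono_right (Submodule.map_subtype_le _ _)).eq_bot, finrank_bot, add_zero,
      Submodule.finrank_map_subtype_eq] at h
    omega

/-- fixed spaces along an invariant flag -/
theorem finrank_invariant_flag (hrp : r ≠ p) (T : V →ₗ[F] V) (hT : T ^ r = 1) {U W : Submodule F V} (hUW : U ≤ W)
    (hU : ∀ u ∈ U, T u ∈ U) (hW : ∀ u ∈ W, T u ∈ W) :
    ∃ a a' j j', a ≤ a' ∧ a' ≤ Module.finrank F (LinearMap.ker (T - 1)) ∧
      Module.finrank F U = a + j * orderOf ((Fintype.card F : ℕ) : ZMod r) ∧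
      Module.finrank F W = a' + j' * orderOf ((Fintype.card F : ℕ) : ZMod r) := by
  have hTW : (T.restrict hW) ^ r = 1 := LinearMap.ext fun u => Subtype.ext (by
    have h := restrict_aeval_coe T hW (X ^ r) u
    rw [map_pow, map_pow, aeval_X, aeval_X, hT] at h
    exact h)
  obtain ⟨a, j, ha, hj⟩ := finrank_invariant (p := p) hrp (T.restrict hW) hTW (W := U.comap W.subtype)
    (fun u hu => hU _ hu)
  obtain ⟨k, hk, -⟩ := exists_split (p := p) hrp (T.restrict hW) hTW
  refine ⟨a, _, j, k, ha, ?_, ?_, hk⟩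
  · rw [← Submodule.finrank_map_subtype_eq W]
    refine Submodule.finrank_mono ?_
    rintro _ ⟨u, hu, rfl⟩
    rw [SetLike.mem_coe, LinearMap.mem_ker] at hu
    rw [LinearMap.mem_ker]
    have h := congrArg Subtype.val hu
    simpa using h
  · rw [← hj, ← Submodule.finrank_map_subtype_eq W (U.comap W.subtype), Submodule.map_comap_subtype,
      inf_eq_right.2 hUW]

/-- the number of subspaces only depends on the dimension -/
theorem card_subspaces_eq {m : ℕ} (hm : m ≤ Module.finrank F V) :
    Nat.card {W : Submodule F V // Module.finrank F W = m} =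
      Nat.card {W : Submodule F (Fin (Module.finrank F V) → F) // Module.finrank F W = m} := by
  have h1 := card_subspaces_mul (F := F) (V := V) hm
  have h2 := card_subspaces_mul (F := F) (V := Fin (Module.finrank F V) → F) (m := m) (by rwa [Module.finrank_fin_fun])
  rw [Module.finrank_fin_fun] at h2
  refine Nat.eq_of_mul_eq_mul_right (Finset.prod_pos fun i _ => Nat.sub_pos_of_lt ?_) (h1.trans h2.symm)
  exact Nat.pow_lt_pow_right Fintype.one_lt_card i.2

/-- duality of subspace counts -/
theorem card_subspaces_symm {n m : ℕ} (hm : m ≤ n) :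
    Nat.card {W : Submodule F (Fin n → F) // Module.finrank F W = n - m} =
      Nat.card {W : Submodule F (Fin n → F) // Module.finrank F W = m} := by
  have hd : Module.finrank F (Module.Dual F (Fin n → F)) = n := by rw [Subspace.dual_finrank_eq, Module.finrank_fin_fun]
  have h := card_subspaces_eq (F := F) (V := Module.Dual F (Fin n → F)) (m := m) (by rw [hd]; exact hm)
  rw [hd] at h
  rw [← h]
  have hann : ∀ W : Submodule F (Fin n → F),
      Module.finrank F W + Module.finrank F W.dualAnnihilator = n := fun W => by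
    rw [Subspace.finrank_add_finrank_dualAnnihilator_eq, Module.finrank_fin_fun]
  exact Nat.card_congr (Equiv.subtypeEquiv
    ((Subspace.orderIsoFiniteDimensional (K := F) (V := Fin n → F)).toEquiv.trans OrderDual.ofDual) fun W => by
      have := hann W
      show Module.finrank F W = n - m ↔ Module.finrank F W.dualAnnihilator = m
      omega)

/-- counting flags -/
theorem card_flags {n m : ℕ} (hm : 2 * m ≤ n) :
    Nat.card {P : Submodule F (Fin n → F) × Submodule F (Fin n → F) //
        P.1 ≤ P.2 ∧ Module.finrank F P.1 = m ∧ Module.finrank F P.2 = n - m} =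
      Nat.card {W : Submodule F (Fin n → F) // Module.finrank F W = m} *
        Nat.card {W : Submodule F (Fin (n - m) → F) // Module.finrank F W = m} := by
  classical
  haveI : Fintype {W : Submodule F (Fin n → F) // Module.finrank F W = n - m} := Fintype.ofFinite _
  rw [← card_subspaces_symm (F := F) (show m ≤ n by omega), Nat.card_congr
    ({ toFun := fun P => ⟨⟨P.1.2, P.2.2.2⟩, ⟨P.1.1.comap P.1.2.subtype, by
          rw [← Submodule.finrank_map_subtype_eq, Submodule.map_comap_subtype, inf_eq_right.2 P.2.1]; exact P.2.2.1⟩⟩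
       invFun := fun S => ⟨(S.2.1.map S.1.1.subtype, S.1.1), Submodule.map_subtype_le _ _, by
          rw [Submodule.finrank_map_subtype_eq]; exact S.2.2, S.1.2⟩
       left_inv := fun P => Subtype.ext (Prod.ext (by
          show (P.1.1.comap P.1.2.subtype).map P.1.2.subtype = P.1.1
          rw [Submodule.map_comap_subtype, inf_eq_right.2 P.2.1]) rfl)
       right_inv := fun S => by
          obtain ⟨W, U⟩ := S
          refine Sigma.ext rfl (heq_of_eq (Subtype.ext ?_))
          exact Submodule.comap_map_eq_of_injective W.1.injective_subtype U.1 } :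
      {P : Submodule F (Fin n → F) × Submodule F (Fin n → F) //
        P.1 ≤ P.2 ∧ Module.finrank F P.1 = m ∧ Module.finrank F P.2 = n - m} ≃
      Σ W : {W : Submodule F (Fin n → F) // Module.finrank F W = n - m}, {U : Submodule F W.1 // Module.finrank F U = m}),
    Nat.card_sigma, Finset.sum_congr rfl (fun W _ => show _ = Nat.card {W : Submodule F (Fin (n - m) → F) // Module.finrank F W = m} from ?_),
    Finset.sum_const, Finset.card_univ, smul_eq_mul, Nat.card_eq_fintype_card (α := {W : Submodule F (Fin n → F) // Module.finrank F W = n - m})]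
  have h := card_subspaces_eq (F := F) (V := W.1) (m := m) (by rw [W.2]; omega)
  rw [W.2] at h
  exact h

end CfsgLib.Perm.Elusive
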