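import Mathlib
import Cfsg.Agent.Lib.Perm.Elusive.InvariantPairs

/-!
# Isometries of prime order of alternating forms
-/

set_option autoImplicit false
set_option linter.all false

namespace CfsgLib.Perm.Elusive

open Polynomial

section Form

variable {F : Type*} [Field F] {V : Type*} [AddCommGroup V] [Module F V] [FiniteDimensional F V]
variable {B : LinearMap.BilinForm F V}

/-- nondegenerate subspaces, pointwise -/
theorem disjoint_orth_iff (hR : B.IsRefl) (W : Submodule F V) :
    Disjoint W (B.orthogonal W) ↔ ∀ u ∈ W, u ≠ 0 → ∃ v ∈ W, B u v ≠ 0 := by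
  rw [Submodule.disjoint_def]
  constructor
  · intro h u hu hu0
    by_contra hn
    push Not at hn
    exact hu0 (h u hu fun w hw => hR _ _ (hn w hw))
  · intro h u hu ho
    by_contra hu0
    obtain ⟨v, hv, hvu⟩ := h u hu hu0
    exact hvu (hR _ _ (ho v hv))

theorem isCompl_orth (hR : B.IsRefl) {W : Submodule F V} (hW : Disjoint W (B.orthogonal W)) :
    IsCompl W (B.orthogonal W) :=
  (LinearMap.BilinForm.isCompl_orthogonal_iff_disjoint hR).2 hW

theorem orth_nd (hR : B.IsRefl) (hN : B.Nondegenerate) {W : Submodule F V} (hW : Disjoint W (B.orthogonal W)) :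
    Disjoint (B.orthogonal W) (B.orthogonal (B.orthogonal W)) := by
  rw [LinearMap.BilinForm.orthogonal_orthogonal hN hR]
  exact hW.symm

theorem sup_nd (hR : B.IsRefl) {W W' : Submodule F V} (hW : Disjoint W (B.orthogonal W))
    (hW' : Disjoint W' (B.orthogonal W')) (ho : W' ≤ B.orthogonal W) :
    Disjoint (W ⊔ W') (B.orthogonal (W ⊔ W')) := by
  rw [Submodule.disjoint_def]
  intro x hx hxo
  obtain ⟨w, hw, w', hw', rfl⟩ := Submodule.mem_sup.1 hx
  have h1 : w = 0 := Submodule.disjoint_def.1 hW w hw fun u hu => by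
    have h := hxo u (le_sup_left (b := W') hu)
    rwa [map_add, ho hw' u hu, add_zero] at h
  have h2 : w' = 0 := Submodule.disjoint_def.1 hW' w' hw' fun u hu => by
    have h := hxo u (le_sup_right (a := W) hu)
    rwa [h1, zero_add] at h
  rw [h1, h2, add_zero]

theorem finrank_sup_orth {W W' : Submodule F V} (hW : Disjoint W (B.orthogonal W)) (ho : W' ≤ B.orthogonal W) :
    Module.finrank F (W ⊔ W' : Submodule F V) = Module.finrank F W + Module.finrank F W' := by
  have h := Submodule.finrank_sup_add_finrank_inf_eq W W'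
  rwa [(hW.mono_right ho).eq_bot, finrank_bot, add_zero] at h

theorem orth_invariant (hR : B.IsRefl) {T : V →ₗ[F] V} (hI : ∀ u v, B (T u) (T v) = B u v) (hinj : Function.Injective T)
    {W : Submodule F V} (hW : ∀ u ∈ W, T u ∈ W) : ∀ u ∈ B.orthogonal W, T u ∈ B.orthogonal W := by
  have hmap : W.map T = W := Submodule.eq_of_le_of_finrank_eq (by rintro _ ⟨u, hu, rfl⟩; exact hW u hu)
    (Submodule.equivMapOfInjective T hinj W).finrank_eq.symm
  intro u hu w hw
  rw [← hmap] at hw
  obtain ⟨w', hw', rfl⟩ := hw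
  rw [hI]
  exact hu w' hw'

/-- orthogonal chains of blocks of a fixed dimension -/
theorem block_chain (hR : B.IsRefl) {T : V →ₗ[F] V} (hI : ∀ u v, B (T u) (T v) = B u v) (hinj : Function.Injective T)
    {c : ℕ} (hc : 0 < c) {S₀ : Submodule F V}
    (step : ∀ S ≤ S₀, (∀ u ∈ S, T u ∈ S) → Disjoint S (B.orthogonal S) → S ≠ ⊥ →
      ∃ W ≤ S, (∀ u ∈ W, T u ∈ W) ∧ Disjoint W (B.orthogonal W) ∧ Module.finrank F W = c)
    {S : Submodule F V} (hS₀ : S ≤ S₀) (hS : ∀ u ∈ S, T u ∈ S) (hnd : Disjoint S (B.orthogonal S)) :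
    ∃ k, Module.finrank F S = k * c ∧ ∀ j ≤ k, ∃ W ≤ S, (∀ u ∈ W, T u ∈ W) ∧ Disjoint W (B.orthogonal W) ∧
      Module.finrank F W = j * c := by
  induction hn : Module.finrank F S using Nat.strong_induction_on generalizing S with
  | _ n ih =>
    subst hn
    by_cases hS0 : S = ⊥
    · subst hS0
      refine ⟨0, by simp, fun j hj => ⟨⊥, le_rfl, fun u hu => by rw [(Submodule.mem_bot F).1 hu, map_zero]; exact zero_mem _,
        disjoint_bot_left, ?_⟩⟩
      rw [finrank_bot, Nat.le_zero.1 hj, zero_mul]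
    obtain ⟨W, hWS, hW, hWnd, hWc⟩ := step S hS₀ hS hnd hS0
    obtain ⟨S', hS'⟩ : ∃ S', S' = S ⊓ B.orthogonal W := ⟨_, rfl⟩
    have hsup : W ⊔ S' = S := by
      rw [hS', inf_comm, ← sup_inf_assoc_of_le _ hWS, (isCompl_orth hR hWnd).sup_eq_top, top_inf_eq]
    have hS'o : S' ≤ B.orthogonal W := hS' ▸ inf_le_right
    have hS'S : S' ≤ S := hS' ▸ inf_le_left
    have hfr : Module.finrank F S = c + Module.finrank F S' := by rw [← hsup, finrank_sup_orth hWnd hS'o, hWc]
    have hS'nd : Disjoint S' (B.orthogonal S') := by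
      rw [Submodule.disjoint_def]
      intro x hx hxo
      refine Submodule.disjoint_def.1 hnd x (hS'S hx) ?_
      rw [← hsup]
      intro u hu
      obtain ⟨w, hw, s, hs, rfl⟩ := Submodule.mem_sup.1 hu
      rw [map_add, LinearMap.add_apply, hS'o hx w hw, hxo s hs, add_zero]
    have hS'inv : ∀ u ∈ S', T u ∈ S' := fun u hu => by
      rw [hS', Submodule.mem_inf] at hu ⊢
      exact ⟨hS u hu.1, orth_invariant hR hI hinj hW u hu.2⟩
    obtain ⟨k, hk, hex⟩ := ih _ (by omega) (hS'S.trans hS₀) hS'inv hS'nd rfl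
    refine ⟨k + 1, by rw [hfr, hk]; ring, fun j hj => ?_⟩
    rcases j with _ | j
    · exact ⟨⊥, bot_le, fun u hu => by rw [(Submodule.mem_bot F).1 hu, map_zero]; exact zero_mem _, disjoint_bot_left,
        by rw [finrank_bot, zero_mul]⟩
    obtain ⟨W', hW'S, hW', hW'nd, hW'f⟩ := hex j (by omega)
    refine ⟨W ⊔ W', sup_le hWS (hW'S.trans hS'S), fun u hu => ?_, sup_nd hR hWnd hW'nd (hW'S.trans hS'o), ?_⟩
    · obtain ⟨w, hw, w', hw', rfl⟩ := Submodule.mem_sup.1 hu
      rw [map_add]
      exact Submodule.add_mem_sup (hW w hw) (hW' w' hw')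
    · rw [finrank_sup_orth hWnd (hW'S.trans hS'o), hWc, hW'f]; ring

/-- planes inside nondegenerate subspaces -/
theorem exists_plane (hA : B.IsAlt) {S : Submodule F V} (hnd : Disjoint S (B.orthogonal S)) (hS : S ≠ ⊥) :
    ∃ W ≤ S, Disjoint W (B.orthogonal W) ∧ Module.finrank F W = 2 := by
  obtain ⟨u, hu, hu0⟩ := Submodule.exists_mem_ne_zero_of_ne_bot hS
  obtain ⟨v, hv, huv⟩ := (disjoint_orth_iff hA.isRefl S).1 hnd u hu hu0
  have hvu : B v u ≠ 0 := fun h => huv (hA.isRefl _ _ h)
  refine ⟨Submodule.span F {u, v}, Submodule.span_le.2 (Set.insert_subset hu (Set.singleton_subset_iff.2 hv)), ?_, ?_⟩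
  · rw [Submodule.disjoint_def]
    intro x hx hxo
    obtain ⟨s, t, rfl⟩ := Submodule.mem_span_pair.1 hx
    have h1 := hxo u (Submodule.subset_span (by simp))
    have h2 := hxo v (Submodule.subset_span (by simp))
    simp only [LinearMap.BilinForm.isOrtho_def, map_add, map_smul, smul_eq_mul, hA u, hA v, mul_zero, add_zero,
      zero_add, mul_eq_zero, huv, hvu, or_false] at h1 h2
    rw [h1, h2, zero_smul, zero_smul, add_zero]
  · have hli : LinearIndependent F ![u, v] := by
      rw [LinearIndependent.pair_iff]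
      intro s t hst
      have h1 : B u (s • u + t • v) = 0 := by rw [hst, map_zero]
      have h2 : B v (s • u + t • v) = 0 := by rw [hst, map_zero]
      simp only [map_add, map_smul, smul_eq_mul, hA u, hA v, mul_zero, add_zero, zero_add, mul_eq_zero, huv, hvu,
        or_false] at h1 h2
      exact ⟨h2, h1⟩
    have h := finrank_span_eq_card hli
    rwa [Matrix.range_cons, Matrix.range_cons, Matrix.range_empty, Set.union_empty, Set.singleton_union,
      Fintype.card_fin] at h

/-- nondegenerate alternating spaces have even dimension -/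
theorem even_of_nd (hA : B.IsAlt) {S : Submodule F V} (hnd : Disjoint S (B.orthogonal S)) :
    Even (Module.finrank F S) := by
  obtain ⟨k, hk, -⟩ := block_chain (c := 2) hA.isRefl (T := LinearMap.id) (fun u v => rfl) Function.injective_id two_pos
    (S₀ := ⊤) (fun S' _ _ h1 h2 => by
      obtain ⟨W, hW, hWnd, hWf⟩ := exists_plane hA h1 h2
      exact ⟨W, hW, fun u hu => hu, hWnd, hWf⟩) le_top (fun u hu => hu) hnd
  exact ⟨k, by rw [hk]; ring⟩

end Form

variable {F : Type*} [Field F] [Fintype F] {p : ℕ} [Fact p.Prime] [CharP F p] {r : ℕ} [Fact r.Prime]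
variable {V : Type*} [AddCommGroup V] [Module F V] [FiniteDimensional F V] {B : LinearMap.BilinForm F V}

omit [Fintype F] [Fact p.Prime] [CharP F p] [FiniteDimensional F V] in
theorem injective_of_pow_eq_one {T : V →ₗ[F] V} (hT : T ^ r = 1) : Function.Injective T := by
  intro u v huv
  have h := congrArg (T ^ (r - 1)) huv
  rwa [← Module.End.mul_apply, ← Module.End.mul_apply, ← pow_succ, Nat.sub_add_cancel (Fact.out : r.Prime).one_le,
    hT] at h

omit [Fintype F] [FiniteDimensional F V] in
/-- moving a polynomial across an isometry -/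
theorem adjoint_aeval {T : V →ₗ[F] V} (hI : ∀ u v, B (T u) (T v) = B u v) (hT : T ^ r = 1) (h : F[X]) :
    ∀ u v, B (aeval T h u) v = B u (aeval (T ^ (r - 1)) h v) := by
  have hone : ∀ u v, B (T u) v = B u ((T ^ (r - 1)) v) := fun u v => by
    rw [← hI u ((T ^ (r - 1)) v), ← Module.End.mul_apply, ← pow_succ', Nat.sub_add_cancel (Fact.out : r.Prime).one_le,
      hT, Module.End.one_apply]
  have hpow : ∀ (j : ℕ) u v, B ((T ^ j) u) v = B u (((T ^ (r - 1)) ^ j) v) := fun j => by
    induction j with
    | zero => intro u v; simp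
    | succ j ih =>
      intro u v
      rw [pow_succ, Module.End.mul_apply, ih, hone, pow_succ', Module.End.mul_apply]
  induction h using Polynomial.induction_on' with
  | add a b ha hb => intro u v; simp only [map_add, LinearMap.add_apply, ha, hb]
  | monomial j c =>
    intro u v
    simp only [aeval_monomial, Module.End.mul_apply, Module.algebraMap_end_apply, map_smul, LinearMap.smul_apply]
    rw [hpow]

omit [CharP F p] [Fact p.Prime] in
theorem dvd_comp_of_neg_one {h : F[X]} (hh : Irreducible h) (hd : h ∣ cyclotomic r F) {j : ℕ}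
    (hj : (Fintype.card F : ZMod r) ^ j = -1) : h ∣ h.comp (X ^ (r - 1)) := by
  haveI : Fact (Irreducible h) := ⟨hh⟩
  obtain ⟨x, hx⟩ : ∃ x : AdjoinRoot h, x = AdjoinRoot.root h := ⟨_, rfl⟩
  have hev : aeval x h = 0 := by rw [hx, AdjoinRoot.aeval_eq, AdjoinRoot.mk_self]
  have hxr : x ^ r = 1 := by
    have h0 : aeval x (X ^ r - 1 : F[X]) = 0 := by
      rw [hx, AdjoinRoot.aeval_eq, AdjoinRoot.mk_eq_zero]
      exact hd.trans (cyclotomic.dvd_X_pow_sub_one r F)
    rwa [map_sub, map_pow, aeval_X, map_one, sub_eq_zero] at h0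
  have hfrob : ∀ (m : ℕ) (y : AdjoinRoot h), aeval (y ^ Fintype.card F ^ m) h = (aeval y h) ^ Fintype.card F ^ m := by
    intro m
    induction m with
    | zero => intro y; simp
    | succ m ih =>
      intro y
      rw [pow_succ, pow_mul, pow_mul, ← expand_aeval, FiniteField.expand_card, map_pow, ih]
  rw [← AdjoinRoot.mk_eq_zero, ← AdjoinRoot.aeval_eq, aeval_comp, map_pow, aeval_X, ← hx]
  have hmod : (r - 1) % r = Fintype.card F ^ j % r := by
    refine (ZMod.natCast_eq_natCast_iff' _ _ r).1 ?_
    rw [Nat.cast_pow, hj, Nat.cast_sub (Fact.out : r.Prime).one_le, ZMod.natCast_self, Nat.cast_one, zero_sub]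
  rw [pow_eq_pow_mod _ hxr, hmod, ← pow_eq_pow_mod _ hxr, hfrob, hev,
    zero_pow (pow_ne_zero _ Fintype.card_ne_zero)]

/-- the block dimension -/
theorem exists_symp_block (hrp : r ≠ p) (hr2 : r ≠ 2) (hA : B.IsAlt) (hN : B.Nondegenerate) (T : V →ₗ[F] V)
    (hI : ∀ u v, B (T u) (T v) = B u v) (hT : T ^ r = 1) (hfix : LinearMap.ker (T - 1) = ⊥) (hV : 0 < Module.finrank F V)
    {c : ℕ} (hc : c = if Even (orderOf ((Fintype.card F : ℕ) : ZMod r)) then orderOf ((Fintype.card F : ℕ) : ZMod r)
      else 2 * orderOf ((Fintype.card F : ℕ) : ZMod r)) :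
    ∃ W : Submodule F V, (∀ u ∈ W, T u ∈ W) ∧ Disjoint W (B.orthogonal W) ∧ Module.finrank F W = c := by
  classical
  have hR := hA.isRefl
  have hinj := injective_of_pow_eq_one (r := r) hT
  obtain ⟨i, hi⟩ : ∃ i, i = orderOf ((Fintype.card F : ℕ) : ZMod r) := ⟨_, rfl⟩
  rw [← hi] at hc
  have hipos : 0 < i := hi ▸ order_pos hrp
  -- invariant subspaces have dimension a multiple of `i`
  have hmult : ∀ S : Submodule F V, (∀ u ∈ S, T u ∈ S) → ∃ j, Module.finrank F S = j * i := fun S hS => by
    obtain ⟨a, j, ha, hj⟩ := finrank_invariant (p := p) hrp T hT hS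
    rw [hfix, finrank_bot, Nat.le_zero] at ha
    exact ⟨j, by rw [hj, ha, zero_add, hi]⟩
  have hrad : ∀ S : Submodule F V, (∀ u ∈ S, T u ∈ S) → Module.finrank F S = i →
      ¬ S ≤ B.orthogonal S → Disjoint S (B.orthogonal S) := fun S hS hSf hSo => by
    rw [disjoint_iff, ← Submodule.finrank_eq_zero]
    obtain ⟨j, hj⟩ := hmult (S ⊓ B.orthogonal S) fun u hu => ⟨hS u hu.1, orth_invariant hR hI hinj hS u hu.2⟩
    have hle : Module.finrank F (S ⊓ B.orthogonal S : Submodule F V) ≤ i := hSf ▸ Submodule.finrank_mono inf_le_left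
    rcases j with _ | j
    · rw [hj, zero_mul]
    · refine absurd ?_ hSo
      have he : Module.finrank F (S ⊓ B.orthogonal S : Submodule F V) = Module.finrank F S := by
        rw [hj, Nat.succ_mul] at hle ⊢
        omega
      exact (Submodule.eq_of_le_of_finrank_eq inf_le_left he).symm.le.trans inf_le_right
  by_cases hev : Even i
  · rw [if_pos hev] at hc
    obtain ⟨i', hi'⟩ := hev
    have hneg : (Fintype.card F : ZMod r) ^ i' = -1 := by
      have h1 : ((Fintype.card F : ZMod r) ^ i') ^ 2 = 1 := by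
        rw [← pow_mul, show i' * 2 = i by omega, hi, pow_orderOf_eq_one]
      rcases sq_eq_one_iff.1 h1 with h | h
      · have := orderOf_dvd_of_pow_eq_one h
        rw [← hi] at this
        have := Nat.le_of_dvd (by omega) this
        omega
      · exact h
    have hP : aeval T (cyclotomic r F) = 0 := by
      refine LinearMap.ext fun u => ?_
      have h : (T - 1) (aeval T (cyclotomic r F) u) = 0 := by
        rw [← Module.End.mul_apply, show T - 1 = aeval T (X - 1 : F[X]) by rw [map_sub, aeval_X, map_one], ← map_mul,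
          mul_comm, cyclotomic_prime_mul_X_sub_one, map_sub, map_pow, aeval_X, map_one, hT, sub_self]
        rfl
      have h2 : aeval T (cyclotomic r F) u ∈ LinearMap.ker (T - 1) := LinearMap.mem_ker.2 h
      rw [hfix, Submodule.mem_bot] at h2
      exact h2
    have hsq := cyclotomic_squarefree' (F := F) (p := p) hrp
    obtain ⟨g, hg, hgd, hU⟩ : ∃ g, Irreducible g ∧ g ∣ cyclotomic r F ∧
        ∃ u, aeval T g u = 0 ∧ u ≠ 0 := by
      by_contra hno
      push Not at hno
      have h := ker_le_of_factors T (U := ⊥) (cyclotomic r F) hsq fun g hg hgd w hw => (Submodule.mem_bot F).2 (hno g hg hgd w hw)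
      rw [hP, LinearMap.ker_zero, top_le_iff] at h
      rw [← finrank_top F V, ← h, finrank_bot] at hV
      exact absurd hV (lt_irrefl 0)
    obtain ⟨u₀, hu₀, hu₀0⟩ := hU
    obtain ⟨U, hUdef⟩ : ∃ U, U = LinearMap.ker (aeval T g) := ⟨_, rfl⟩
    have hUinv : ∀ u ∈ U, T u ∈ U := fun u hu => by
      rw [hUdef, LinearMap.mem_ker] at hu ⊢
      rw [show T u = aeval T (X : F[X]) u by rw [aeval_X], ← Module.End.mul_apply, ← map_mul, mul_comm, map_mul,
        Module.End.mul_apply, hu, map_zero]
    obtain ⟨v, hvU, hv⟩ : ∃ v ∈ U, B v (T v) ≠ 0 := by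
      by_contra hno
      push Not at hno
      have hiso : ∀ u ∈ U, ∀ w ∈ U, B u w = 0 := by
        intro u hu w hw
        have hsurj : ∀ w ∈ U, ∃ w' ∈ U, T (T w') - w' = w := by
          intro w hw
          have hinv2 : ∀ x ∈ U, (T * T - 1) x ∈ U := fun x hx => by
            rw [LinearMap.sub_apply, Module.End.mul_apply, Module.End.one_apply]
            exact U.sub_mem (hUinv _ (hUinv x hx)) hx
          have hi2 : Function.Injective ((T * T - 1).restrict hinv2) := by
            rw [← LinearMap.ker_eq_bot, Submodule.eq_bot_iff]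
            intro x hx
            have h2 : T (T (x : V)) = x := by
              have h := congrArg Subtype.val (LinearMap.mem_ker.1 hx)
              simpa [sub_eq_zero] using h
            obtain ⟨m, hm⟩ := (Fact.out : r.Prime).odd_of_ne_two hr2
            have h3 : ∀ k, (T ^ (2 * k)) (x : V) = x := fun k => by
              induction k with
              | zero => simp
              | succ k ih => rw [Nat.mul_succ, pow_add, Module.End.mul_apply, sq, Module.End.mul_apply, h2, ih]
            have h4 : T (x : V) = x := by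
              have h := LinearMap.congr_fun hT (x : V)
              rw [hm, pow_succ', Module.End.mul_apply, h3, Module.End.one_apply] at h
              exact h
            have h5 : (x : V) ∈ LinearMap.ker (T - 1) := by simp [LinearMap.mem_ker, sub_eq_zero, h4]
            rw [hfix, Submodule.mem_bot] at h5
            exact Subtype.ext h5
          obtain ⟨w', hw'⟩ := LinearMap.surjective_of_injective hi2 ⟨w, hw⟩
          exact ⟨w', w'.2, by simpa using congrArg Subtype.val hw'⟩
        obtain ⟨w', hw', rfl⟩ := hsurj w hw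
        have h1 := hno (u + T w') (U.add_mem hu (hUinv _ hw'))
        simp only [map_add, LinearMap.add_apply, hno u hu, hno (T w') (hUinv _ hw'), zero_add, add_zero, hI] at h1
        rw [map_sub]
        linear_combination h1 + LinearMap.IsAlt.neg hA u w'
      have hperp : ∀ u ∈ U, u = 0 := by
        intro u hu
        refine hN.1 u fun w => ?_
        have hle : LinearMap.ker (aeval T (cyclotomic r F)) ≤ B.orthogonal (Submodule.span F {u}) := by
          refine ker_le_of_factors T _ hsq fun h hh hhd w hw z hz => ?_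
          obtain ⟨s, rfl⟩ := Submodule.mem_span_singleton.1 hz
          rw [map_smul, LinearMap.smul_apply]
          suffices hsu : B u w = 0 by rw [hsu, smul_zero]
          by_cases hdvd : h ∣ g
          · refine hiso u hu w ?_
            obtain ⟨e, he⟩ := hdvd
            rw [hUdef, LinearMap.mem_ker, he, mul_comm, map_mul, Module.End.mul_apply, hw, map_zero]
          · obtain ⟨a, b, hab⟩ := (hh.coprime_iff_not_dvd.2 hdvd)
            have hu' : u = aeval T h (aeval T a u) := by
              have h0 := congrArg (fun f => aeval T f u) hab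
              simp only [map_add, map_mul, map_one, LinearMap.add_apply, Module.End.mul_apply, Module.End.one_apply] at h0
              rw [hUdef, LinearMap.mem_ker] at hu
              rw [hu, map_zero, add_zero] at h0
              rw [← Module.End.mul_apply, ← map_mul, mul_comm, map_mul, Module.End.mul_apply]
              exact h0.symm
            rw [hu', adjoint_aeval hI hT]
            have hz0 : aeval (T ^ (r - 1)) h w = 0 := by
              obtain ⟨e, he⟩ := dvd_comp_of_neg_one hh hhd hneg
              rw [show aeval (T ^ (r - 1)) h = aeval T (h.comp (X ^ (r - 1))) by rw [aeval_comp, map_pow, aeval_X], he,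
                mul_comm, map_mul, Module.End.mul_apply, hw, map_zero]
            rw [hz0, map_zero]
        rw [hP, LinearMap.ker_zero] at hle
        exact hle Submodule.mem_top u (Submodule.mem_span_singleton_self u)
      exact hu₀0 (hperp u₀ (hUdef ▸ LinearMap.mem_ker.2 hu₀))
    obtain ⟨S, hS⟩ : ∃ S, S = Submodule.span F (Set.range fun j : Fin i => (T ^ (j : ℕ)) v) := ⟨_, rfl⟩
    have hgdeg : g.natDegree = i := hi ▸ factor_degree (p := p) hrp hg hgd
    have htop : (T ^ i) v ∈ S := by
      rw [hUdef, LinearMap.mem_ker, aeval_eq_sum_range, hgdeg, LinearMap.sum_apply, Finset.sum_range_succ] at hvU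
      have hlead : g.coeff i ≠ 0 := by
        rw [← hgdeg]; exact leadingCoeff_ne_zero.2 hg.ne_zero
      have h1 : g.coeff i • (T ^ i) v ∈ S := by
        rw [LinearMap.smul_apply] at hvU
        rw [eq_neg_of_add_eq_zero_right hvU]
        refine S.neg_mem (S.sum_mem fun j hj => ?_)
        rw [LinearMap.smul_apply, hS]
        exact Submodule.smul_mem _ _ (Submodule.subset_span ⟨⟨j, Finset.mem_range.1 hj⟩, rfl⟩)
      have h2 := S.smul_mem (g.coeff i)⁻¹ h1
      rwa [inv_smul_smul₀ hlead] at h2
    have hSinv : ∀ u ∈ S, T u ∈ S := by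
      have hle : S ≤ S.comap T := by
        conv_lhs => rw [hS]
        rw [Submodule.span_le]
        rintro _ ⟨j, rfl⟩
        show T ((T ^ (j : ℕ)) v) ∈ S
        rw [← Module.End.mul_apply, ← pow_succ']
        by_cases hj : (j : ℕ) + 1 < i
        · rw [hS]; exact Submodule.subset_span ⟨⟨_, hj⟩, rfl⟩
        · rw [show (j : ℕ) + 1 = i by omega]; exact htop
      exact fun u hu => hle hu
    have hvS : v ∈ S := hS ▸ Submodule.subset_span ⟨⟨0, hipos⟩, by simp⟩
    have hSf : Module.finrank F S = i := by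
      have hle : Module.finrank F S ≤ i := by
        rw [hS]
        exact (finrank_range_le_card _).trans (le_of_eq (Fintype.card_fin i))
      obtain ⟨j, hj⟩ := hmult S hSinv
      rcases j with _ | j
      · rw [zero_mul, Submodule.finrank_eq_zero] at hj
        rw [hj, Submodule.mem_bot] at hvS
        rw [hvS, map_zero, LinearMap.zero_apply] at hv
        exact absurd rfl hv
      · rw [hj, Nat.succ_mul] at hle ⊢
        omega
    refine ⟨S, hSinv, hrad S hSinv hSf fun hle => hv (hle (hSinv v hvS) v hvS), by rw [hSf, hc]⟩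
  · rw [if_neg hev] at hc
    obtain ⟨k, hk, hex⟩ := exists_split (p := p) hrp T hT
    rw [hfix, finrank_bot, ← hi] at hk hex
    rw [zero_add] at hk
    obtain ⟨W, -, -, hW, -, hWf⟩ := hex 0 1 le_rfl (by rcases k with _ | k <;> omega)
    rw [zero_add, one_mul] at hWf
    have hWo : W ≤ B.orthogonal W := by
      by_contra hcon
      exact hev (hWf ▸ even_of_nd hA (hrad W hW hWf hcon))
    have hss : Module.End.IsSemisimple T := Module.End.isSemisimple_of_squarefree_aeval_eq_zero
      (p := (X ^ r - 1 : F[X]))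
      (by rw [← map_one C]; exact (separable_X_pow_sub_C (1 : F) (natCast_ne_zero_of_ne hrp) one_ne_zero).squarefree)
      (by rw [map_sub, map_pow, aeval_X, map_one, hT, sub_self])
    obtain ⟨Q, hQ, hcompl⟩ := Module.End.isSemisimple_iff.1 hss (B.orthogonal W)
      (fun u hu => orth_invariant hR hI hinj hW u hu)
    have hQf : Module.finrank F Q = i := by
      have h1 := Submodule.finrank_add_eq_of_isCompl hcompl
      rw [LinearMap.BilinForm.finrank_orthogonal hN, hWf] at h1
      have := Submodule.finrank_le W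
      omega
    refine ⟨W ⊔ Q, fun u hu => ?_, ?_, ?_⟩
    · obtain ⟨w, hw, x, hx, rfl⟩ := Submodule.mem_sup.1 hu
      rw [map_add]
      exact Submodule.add_mem_sup (hW w hw) (hQ hx)
    · rw [Submodule.disjoint_def]
      intro x hx hxo
      obtain ⟨w, hw, y, hy, rfl⟩ := Submodule.mem_sup.1 hx
      have hy0 : y = 0 := Submodule.disjoint_def.1 hcompl.disjoint y (fun u hu => by
        have h := hxo u (le_sup_left (b := Q) hu)
        rwa [map_add, hWo hw u hu, zero_add] at h) hy
      rw [hy0, add_zero] at hxo ⊢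
      refine hN.1 w fun z => ?_
      obtain ⟨o, ho, y', hy', rfl⟩ := Submodule.mem_sup.1 (hcompl.sup_eq_top.ge (Submodule.mem_top (x := z)))
      rw [map_add, ho w hw, hR _ _ (hxo y' (le_sup_right (a := W) hy')), add_zero]
    · have h := Submodule.finrank_sup_add_finrank_inf_eq W Q
      rw [(hcompl.disjoint.mono_left hWo).eq_bot, finrank_bot, add_zero, hWf, hQf] at h
      rw [h, hc]; ring

/-- fixed space and blocks -/
theorem exists_symp_sub (hrp : r ≠ p) (hr2 : r ≠ 2) (hA : B.IsAlt) (hN : B.Nondegenerate) (T : V →ₗ[F] V)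
    (hI : ∀ u v, B (T u) (T v) = B u v) (hT : T ^ r = 1) {c : ℕ}
    (hc : c = if Even (orderOf ((Fintype.card F : ℕ) : ZMod r)) then orderOf ((Fintype.card F : ℕ) : ZMod r)
      else 2 * orderOf ((Fintype.card F : ℕ) : ZMod r)) :
    Even (Module.finrank F (LinearMap.ker (T - 1))) ∧
    ∃ k, Module.finrank F V = Module.finrank F (LinearMap.ker (T - 1)) + k * c ∧
      ∀ a j, Even a → a ≤ Module.finrank F (LinearMap.ker (T - 1)) → j ≤ k →
        ∃ W : Submodule F V, (∀ u ∈ W, T u ∈ W) ∧ Disjoint W (B.orthogonal W) ∧ Module.finrank F W = a + j * c := by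
  classical
  have hR := hA.isRefl
  have hinj := injective_of_pow_eq_one (r := r) hT
  have hcpos : 0 < c := by have := order_pos (F := F) (r := r) hrp; split_ifs at hc <;> omega
  obtain ⟨E, hE⟩ : ∃ E, E = LinearMap.ker (T - 1) := ⟨_, rfl⟩
  have hfix : ∀ u ∈ E, T u = u := fun u hu => by rw [hE] at hu; simpa [sub_eq_zero] using hu
  have hEinv : ∀ u ∈ E, T u ∈ E := fun u hu => by rw [hfix u hu]; exact hu
  have hrange : LinearMap.range (T - 1) = B.orthogonal E := by
    refine Submodule.eq_of_le_of_finrank_eq ?_ ?_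
    · rintro _ ⟨v, rfl⟩ e he
      rw [LinearMap.sub_apply, map_sub, Module.End.one_apply]
      nth_rewrite 1 [← hfix e he]
      rw [hI, sub_self]
    · have h := LinearMap.finrank_range_add_finrank_ker (T - 1)
      rw [← hE] at h
      rw [LinearMap.BilinForm.finrank_orthogonal hN]
      omega
  have hEnd : Disjoint E (B.orthogonal E) := by
    rw [← hrange, Submodule.disjoint_def]
    rintro u hu ⟨v, rfl⟩
    have hu' := hfix _ hu
    have hj : ∀ j : ℕ, (T ^ j) v = v + (j : F) • (T - 1) v := fun j => by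
      induction j with
      | zero => simp
      | succ j ih =>
        rw [pow_succ', Module.End.mul_apply, ih, map_add, map_smul, hu']
        simp only [LinearMap.sub_apply, Module.End.one_apply, Nat.cast_succ]
        module
    have h := hj r
    rw [hT, Module.End.one_apply, left_eq_add, smul_eq_zero] at h
    exact h.resolve_left (natCast_ne_zero_of_ne hrp)
  obtain ⟨e', he', heex⟩ := block_chain (c := 2) hR hI hinj two_pos (S₀ := E) (fun S hS hSi hSnd hS0 => by
    obtain ⟨W, hW, hWnd, hWf⟩ := exists_plane hA hSnd hS0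
    exact ⟨W, hW, fun u hu => by rw [hfix u (hS (hW hu))]; exact hu, hWnd, hWf⟩) le_rfl hEinv hEnd
  have hMnd : Disjoint (B.orthogonal E) (B.orthogonal (B.orthogonal E)) := orth_nd hR hN hEnd
  have hMinv := orth_invariant hR hI hinj hEinv
  obtain ⟨k, hk, hkex⟩ := block_chain (c := c) hR hI hinj hcpos (S₀ := B.orthogonal E) (fun S hS hSi hSnd hS0 => by
    have hSN : (B.restrict S).Nondegenerate := LinearMap.BilinForm.nondegenerate_restrict_of_disjoint_orthogonal B hR hSnd
    have hTS : (T.restrict hSi) ^ r = 1 := LinearMap.ext fun u => Subtype.ext (by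
      have h := restrict_aeval_coe T hSi (X ^ r) u
      rw [map_pow, map_pow, aeval_X, aeval_X, hT] at h
      exact h)
    have hSfix : LinearMap.ker (T.restrict hSi - 1) = ⊥ := by
      rw [Submodule.eq_bot_iff]
      intro u hu
      have h := congrArg Subtype.val (LinearMap.mem_ker.1 hu)
      refine Subtype.ext (Submodule.disjoint_def.1 hEnd u ?_ (hS u.2))
      rw [hE, LinearMap.mem_ker]
      simpa using h
    obtain ⟨W, hW, hWnd, hWf⟩ := exists_symp_block (p := p) hrp hr2 (B := B.restrict S) (fun u => hA u) hSN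
      (T.restrict hSi) (fun u v => hI u v) hTS hSfix
      (Nat.pos_of_ne_zero fun h => hS0 (Submodule.finrank_eq_zero.1 h)) hc
    refine ⟨W.map S.subtype, Submodule.map_subtype_le _ _, ?_, ?_, ?_⟩
    · rintro _ ⟨u, hu, rfl⟩
      exact ⟨_, hW u hu, rfl⟩
    · rw [Submodule.disjoint_def]
      rintro _ ⟨u, hu, rfl⟩ ho
      have h := Submodule.disjoint_def.1 hWnd u hu fun w hw => ho (w : V) ⟨w, hw, rfl⟩
      rw [h, map_zero]
    · rw [Submodule.finrank_map_subtype_eq, hWf]) le_rfl hMinv hMnd
  refine ⟨hE ▸ ⟨e', by rw [he']; ring⟩, k, ?_, fun a j ha hale hj => ?_⟩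
  · rw [← hE, ← hk]
    exact (Submodule.finrank_add_eq_of_isCompl (isCompl_orth hR hEnd)).symm
  · obtain ⟨a', rfl⟩ := ha
    rw [← hE, he'] at hale
    obtain ⟨W₁, hW₁E, hW₁, hW₁nd, hW₁f⟩ := heex a' (by omega)
    obtain ⟨W₂, hW₂M, hW₂, hW₂nd, hW₂f⟩ := hkex j hj
    have ho : W₂ ≤ B.orthogonal W₁ := hW₂M.trans (LinearMap.BilinForm.orthogonal_le hW₁E)
    refine ⟨W₁ ⊔ W₂, fun u hu => ?_, sup_nd hR hW₁nd hW₂nd ho, ?_⟩
    · obtain ⟨w, hw, w', hw', rfl⟩ := Submodule.mem_sup.1 hu
      rw [map_add]
      exact Submodule.add_mem_sup (hW₁ w hw) (hW₂ w' hw')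
    · rw [finrank_sup_orth hW₁nd ho, hW₁f, hW₂f]; ring

/-- a nondegenerate invariant subspace of given dimension -/
theorem exists_symp_sub_dim (hrp : r ≠ p) (hr2 : r ≠ 2) (hA : B.IsAlt) (hN : B.Nondegenerate) (T : V →ₗ[F] V)
    (hI : ∀ u v, B (T u) (T v) = B u v) (hT : T ^ r = 1) {c : ℕ}
    (hc : c = if Even (orderOf ((Fintype.card F : ℕ) : ZMod r)) then orderOf ((Fintype.card F : ℕ) : ZMod r)
      else 2 * orderOf ((Fintype.card F : ℕ) : ZMod r))
    {a : ℕ} (ha : Even a) (han : a ≤ Module.finrank F V) (hmod : a % c ≤ Module.finrank F V % c) :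
    ∃ W : Submodule F V, (∀ u ∈ W, T u ∈ W) ∧ Disjoint W (B.orthogonal W) ∧ Module.finrank F W = a := by
  obtain ⟨hEe, k, hk, hex⟩ := exists_symp_sub (p := p) hrp hr2 hA hN T hI hT hc
  have hce : Even c := by
    rw [hc]; split_ifs with h
    · exact h
    · exact even_two_mul _
  have hme : Even (a % c) := by
    obtain ⟨a', ha'⟩ := ha
    obtain ⟨c', hc'⟩ := hce
    rw [ha', hc', ← two_mul, ← two_mul, Nat.mul_mod_mul_left]
    exact even_two_mul _
  have e1 := Nat.mod_add_div' a c
  have hle : Module.finrank F V % c ≤ Module.finrank F (LinearMap.ker (T - 1)) := by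
    conv_lhs => rw [hk, Nat.add_mul_mod_self_right]
    exact Nat.mod_le _ _
  rcases le_or_gt (a / c) k with h | h
  · obtain ⟨W, hW, hnd, hf⟩ := hex (a % c) (a / c) hme (by omega) h
    exact ⟨W, hW, hnd, hf.trans e1⟩
  · have hkc : k * c ≤ a / c * c := Nat.mul_le_mul_right c h.le
    obtain ⟨W, hW, hnd, hf⟩ := hex (a - k * c) k ((Nat.even_sub (by omega)).2 (iff_of_true ha (hce.mul_left k)))
      (by omega) le_rfl
    exact ⟨W, hW, hnd, by omega⟩

/-- orthogonal decompositions with invariant members -/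
theorem exists_symp_blocks (hrp : r ≠ p) (hr2 : r ≠ 2) {c a : ℕ}
    (hc : c = if Even (orderOf ((Fintype.card F : ℕ) : ZMod r)) then orderOf ((Fintype.card F : ℕ) : ZMod r)
      else 2 * orderOf ((Fintype.card F : ℕ) : ZMod r)) (ha : Even a) (t : ℕ) {V : Type*} [AddCommGroup V] [Module F V]
    [FiniteDimensional F V] {B : LinearMap.BilinForm F V} (hA : B.IsAlt) (hN : B.Nondegenerate) (T : V →ₗ[F] V)
    (hI : ∀ u v, B (T u) (T v) = B u v) (hT : T ^ r = 1) (hV : Module.finrank F V = t * a) (hmod : t * (a % c) < c) :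
    ∃ D : Fin t → Submodule F V, (∀ j, Module.finrank F (D j) = a) ∧ (∀ j, ∀ u ∈ D j, T u ∈ D j) ∧
      (∀ j, ∀ u ∈ D j, u ≠ 0 → ∃ v ∈ D j, B u v ≠ 0) ∧ ∀ j j', j ≠ j' → ∀ u ∈ D j, ∀ v ∈ D j', B u v = 0 := by
  induction t generalizing V B with
  | zero => exact ⟨fun j => j.elim0, fun j => j.elim0, fun j => j.elim0, fun j => j.elim0, fun j => j.elim0⟩
  | succ t ih =>
    have hR := hA.isRefl
    have hinj := injective_of_pow_eq_one (r := r) hT
    obtain ⟨W, hW, hWnd, hWf⟩ := exists_symp_sub_dim (p := p) hrp hr2 hA hN T hI hT hc ha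
      (by rw [hV]; exact Nat.le_mul_of_pos_left _ t.succ_pos)
      (by rw [hV, Nat.mul_mod, Nat.mod_mul_mod, Nat.mod_eq_of_lt hmod]; exact Nat.le_mul_of_pos_left _ t.succ_pos)
    obtain ⟨O, hO⟩ : ∃ O, O = B.orthogonal W := ⟨_, rfl⟩
    have hOi : ∀ u ∈ O, T u ∈ O := hO ▸ orth_invariant hR hI hinj hW
    have hOnd : Disjoint O (B.orthogonal O) := hO ▸ orth_nd hR hN hWnd
    have hOf : Module.finrank F O = t * a := by
      rw [hO, LinearMap.BilinForm.finrank_orthogonal hN, hV, hWf, Nat.succ_mul, Nat.add_sub_cancel]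
    obtain ⟨D, hDf, hDi, hDn, hDo⟩ := ih (B := B.restrict O) (fun u => hA u)
      (LinearMap.BilinForm.nondegenerate_restrict_of_disjoint_orthogonal B hR hOnd) (T.restrict hOi)
      (fun u v => hI u v) (LinearMap.ext fun u => Subtype.ext (by
        have h := restrict_aeval_coe T hOi (X ^ r) u
        rw [map_pow, map_pow, aeval_X, aeval_X, hT] at h
        exact h)) hOf (lt_of_le_of_lt (Nat.mul_le_mul_right _ t.le_succ) hmod)
    have hWO : ∀ u ∈ W, ∀ i, ∀ v ∈ (D i).map O.subtype, B u v = 0 := fun u hu i v hv => by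
      have hvO : v ∈ B.orthogonal W := hO ▸ Submodule.map_subtype_le _ _ hv
      exact hvO u hu
    refine ⟨Fin.cons (α := fun _ => Submodule F V) W fun i => (D i).map O.subtype, fun j => ?_, fun j => ?_, fun j => ?_, fun j j' hne => ?_⟩
    · induction j using Fin.cases with
      | zero => show Module.finrank F W = a; exact hWf
      | succ i => rw [Fin.cons_succ, Submodule.finrank_map_subtype_eq, hDf]
    · induction j using Fin.cases with
      | zero => show ∀ u ∈ W, T u ∈ W; exact hW
      | succ i =>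
        rw [Fin.cons_succ]
        rintro _ ⟨u, hu, rfl⟩
        exact ⟨_, hDi i u hu, rfl⟩
    · induction j using Fin.cases with
      | zero => show ∀ u ∈ W, u ≠ 0 → ∃ v ∈ W, B u v ≠ 0; exact (disjoint_orth_iff hR W).1 hWnd
      | succ i =>
        rw [Fin.cons_succ]
        rintro _ ⟨u, hu, rfl⟩ hu0
        obtain ⟨v, hv, huv⟩ := hDn i u hu (fun h => hu0 (by rw [h, map_zero]))
        exact ⟨_, ⟨v, hv, rfl⟩, huv⟩
    · induction j using Fin.cases with
      | zero =>
        induction j' using Fin.cases with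
        | zero => exact absurd rfl hne
        | succ i' => rw [Fin.cons_zero, Fin.cons_succ]; exact fun u hu v hv => hWO u hu i' v hv
      | succ i =>
        induction j' using Fin.cases with
        | zero => rw [Fin.cons_zero, Fin.cons_succ]; exact fun u hu v hv => hR _ _ (hWO v hv i u hu)
        | succ i' =>
          rw [Fin.cons_succ, Fin.cons_succ]
          rintro _ ⟨u, hu, rfl⟩ _ ⟨v, hv, rfl⟩
          exact hDo i i' (fun h => hne (congrArg Fin.succ h)) u hu v hv

/-- fixed parts of independent pieces add up -/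
theorem sum_fixed_le {t m : ℕ} {D : Fin t → Submodule F V} (T : V →ₗ[F] V) (hind : iSupIndep D)
    (hm : ∀ j, m ≤ Module.finrank F (D j ⊓ LinearMap.ker (T - 1) : Submodule F V)) :
    t * m ≤ Module.finrank F (LinearMap.ker (T - 1)) := by
  classical
  obtain ⟨E, hE⟩ : ∃ E : Fin t → Submodule F V, ∀ j, E j = D j ⊓ LinearMap.ker (T - 1) := ⟨_, fun j => rfl⟩
  obtain ⟨Φ, hΦ⟩ : ∃ Φ : (∀ j, E j) →ₗ[F] V, ∀ g, Φ g = ∑ j, (g j : V) :=
    ⟨∑ j, (E j).subtype.comp (LinearMap.proj j), fun g => by simp [LinearMap.sum_apply]⟩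
  have hinj : Function.Injective (Φ.codRestrict (LinearMap.ker (T - 1)) fun g => hΦ g ▸ Submodule.sum_mem _ fun j _ =>
      (show E j ≤ LinearMap.ker (T - 1) from hE j ▸ inf_le_right) (g j).2) := by
    rw [← LinearMap.ker_eq_bot, LinearMap.ker_codRestrict, Submodule.eq_bot_iff]
    intro g hg
    funext j
    refine Subtype.ext ?_
    refine Submodule.disjoint_def.1 (hind j) _ ((show E j ≤ D j from hE j ▸ inf_le_left) (g j).2) ?_
    have hsum : (∑ k, (g k : V)) = 0 := (hΦ g).symm.trans hg
    rw [← Finset.add_sum_erase _ _ (Finset.mem_univ j)] at hsum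
    rw [eq_neg_of_add_eq_zero_left hsum]
    refine Submodule.neg_mem _ (Submodule.sum_mem _ fun i hi => ?_)
    exact le_iSup₂ (f := fun k (_ : k ≠ j) => D k) i (Finset.ne_of_mem_erase hi)
      ((show E i ≤ D i from hE i ▸ inf_le_left) (g i).2)
  refine le_trans ?_ (LinearMap.finrank_le_finrank_of_injective hinj)
  rw [Module.finrank_pi_fintype]
  refine le_trans (le_of_eq ?_) (Finset.sum_le_sum fun j _ => (hm j).trans (le_of_eq (by rw [hE])))
  rw [Finset.sum_const, Finset.card_univ, Fintype.card_fin, smul_eq_mul]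

end CfsgLib.Perm.Elusive
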