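import Mathlib
import Cfsg.Prelude.Def_GeometricClasses

/-!
# Ranks of Kronecker products minus scalars
-/

set_option autoImplicit false
set_option linter.all false

namespace CfsgLib.Perm.Elusive

open Matrix Cfsg.Geo
open scoped Kronecker

variable {F : Type*} [Field F] {a b : ℕ}

theorem exists_moved_vector {A : Matrix (Fin a) (Fin a) F} (hA : ∀ c : F, A ≠ c • 1) :
    ∃ u : Fin a → F, ∀ c : F, A *ᵥ u ≠ c • u := by
  by_contra h
  push Not at h
  choose c hc using h
  rcases Nat.eq_zero_or_pos a with rfl | ha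
  · exact hA 0 (Subsingleton.elim _ _)
  haveI : Nonempty (Fin a) := ⟨⟨0, ha⟩⟩
  obtain ⟨i₀⟩ := ‹Nonempty (Fin a)›
  refine hA (c (Pi.single i₀ 1)) ?_
  ext i j
  have h1 := congrFun (hc (Pi.single j 1)) i
  rw [Matrix.mulVec_single_one, Matrix.col_apply] at h1
  rw [h1, Matrix.smul_apply, Pi.smul_apply, Matrix.one_apply, smul_eq_mul, smul_eq_mul, Pi.single_apply]
  by_cases hij : i = j
  · subst hij
    rw [if_pos rfl]
    by_cases hi0 : i = i₀
    · rw [hi0]
    · have hsum := hc (Pi.single i₀ 1 + Pi.single i 1)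
      rw [Matrix.mulVec_add, hc, hc] at hsum
      have e1 := congrFun hsum i₀
      have e2 := congrFun hsum i
      simp [hi0, Ne.symm hi0] at e1 e2
      rw [e2, ← e1]
  · rw [if_neg hij, mul_zero, mul_zero]

theorem kronecker_mulVec_tensor (A : Matrix (Fin a) (Fin a) F) (B : Matrix (Fin b) (Fin b) F) (u : Fin a → F)
    (v : Fin b → F) (x : Fin a × Fin b) :
    ((A ⊗ₖ B) *ᵥ fun y => u y.1 * v y.2) x = (A *ᵥ u) x.1 * (B *ᵥ v) x.2 := by
  simp only [Matrix.mulVec, dotProduct, Matrix.kroneckerMap_apply]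
  rw [Fintype.sum_prod_type, Finset.sum_mul_sum]
  exact Finset.sum_congr rfl fun i _ => Finset.sum_congr rfl fun j _ => by ring

/-- a nonscalar factor forces large rank -/
theorem rank_ge_of_nonscalar {A : Matrix (Fin a) (Fin a) F} (hA : ∀ c : F, A ≠ c • 1) {B : Matrix (Fin b) (Fin b) F}
    (hB : IsUnit B.det) (l : F) : b ≤ (A ⊗ₖ B - l • (1 : Matrix (Fin a × Fin b) (Fin a × Fin b) F)).rank := by
  obtain ⟨u, hu⟩ := exists_moved_vector hA
  obtain ⟨Φ, hΦ⟩ : ∃ Φ : (Fin b → F) →ₗ[F] (Fin a × Fin b → F),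
      ∀ v x, Φ v x = (A *ᵥ u) x.1 * (B *ᵥ v) x.2 - l * (u x.1 * v x.2) := by
    refine ⟨{ toFun := fun v x => (A *ᵥ u) x.1 * (B *ᵥ v) x.2 - l * (u x.1 * v x.2)
              map_add' := fun v w => funext fun x => by simp [Matrix.mulVec_add]; ring
              map_smul' := fun s v => funext fun x => by simp [Matrix.mulVec_smul]; ring }, fun v x => rfl⟩
  have hinj : Function.Injective Φ := by
    refine (injective_iff_map_eq_zero Φ).2 fun v hv => ?_
    refine Matrix.mulVec_injective_iff_isUnit.2 ((Matrix.isUnit_iff_isUnit_det B).2 hB) ?_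
    rw [Matrix.mulVec_zero]
    funext j
    by_contra hj
    refine hu (l * v j / (B *ᵥ v) j) (funext fun i => ?_)
    have h := congrFun hv (i, j)
    rw [hΦ, Pi.zero_apply, sub_eq_zero] at h
    rw [Pi.smul_apply, smul_eq_mul, eq_comm, div_mul_eq_mul_div, div_eq_iff hj, h]
    ring
  have hle : LinearMap.range Φ ≤ LinearMap.range (A ⊗ₖ B - l • (1 : Matrix (Fin a × Fin b) (Fin a × Fin b) F)).mulVecLin := by
    rintro _ ⟨v, rfl⟩
    refine ⟨fun y => u y.1 * v y.2, funext fun x => ?_⟩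
    rw [Matrix.mulVecLin_apply, Matrix.sub_mulVec, Matrix.smul_mulVec, Matrix.one_mulVec, Pi.sub_apply,
      kronecker_mulVec_tensor, Pi.smul_apply, hΦ, smul_eq_mul]
  have h := Submodule.finrank_mono hle
  rw [LinearMap.finrank_range_of_inj hinj, Module.finrank_fin_fun] at h
  exact h

/-- the rank of a scalar tensor factor -/
theorem rank_one_kronecker (C : Matrix (Fin b) (Fin b) F) :
    ((1 : Matrix (Fin a) (Fin a) F) ⊗ₖ C).rank = a * C.rank := by
  have hrow : ∀ (w : Fin a × Fin b → F) (x : Fin a × Fin b),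
      (((1 : Matrix (Fin a) (Fin a) F) ⊗ₖ C) *ᵥ w) x = (C *ᵥ fun j => w (x.1, j)) x.2 := by
    intro w x
    simp only [Matrix.mulVec, dotProduct, Matrix.kroneckerMap_apply]
    rw [Fintype.sum_prod_type, Finset.sum_eq_single x.1]
    · exact Finset.sum_congr rfl fun j _ => by rw [Matrix.one_apply_eq, one_mul]
    · exact fun i _ hi => Finset.sum_eq_zero fun j _ => by rw [Matrix.one_apply_ne (Ne.symm hi), zero_mul, zero_mul]
    · exact fun h => absurd (Finset.mem_univ _) h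
  obtain ⟨Φ, hΦ⟩ : ∃ Φ : (Fin a → LinearMap.range C.mulVecLin) →ₗ[F] (Fin a × Fin b → F),
      ∀ g x, Φ g x = (g x.1 : Fin b → F) x.2 :=
    ⟨{ toFun := fun g x => (g x.1 : Fin b → F) x.2
       map_add' := fun g h => rfl
       map_smul' := fun s g => rfl }, fun g x => rfl⟩
  have hrange : LinearMap.range ((1 : Matrix (Fin a) (Fin a) F) ⊗ₖ C).mulVecLin = LinearMap.range Φ := by
    refine le_antisymm ?_ ?_
    · rintro _ ⟨w, rfl⟩
      refine ⟨fun i => ⟨C *ᵥ fun j => w (i, j), ⟨_, rfl⟩⟩, funext fun x => ?_⟩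
      rw [hΦ]
      exact (hrow w x).symm
    · rintro _ ⟨g, rfl⟩
      choose v hv using fun i => (g i).2
      refine ⟨fun x => v x.1 x.2, funext fun x => ?_⟩
      rw [hΦ, Matrix.mulVecLin_apply, hrow, ← hv, Matrix.mulVecLin_apply]
  have hinj : Function.Injective Φ := fun g h e => funext fun i => Subtype.ext (funext fun j => by
    have := congrFun e (i, j)
    rwa [hΦ, hΦ] at this)
  rw [Matrix.rank, hrange, LinearMap.finrank_range_of_inj hinj, Module.finrank_pi_fintype, Finset.sum_const,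
    Finset.card_univ, Fintype.card_fin, smul_eq_mul]
  rfl

/-- membership in the stabiliser of a tensor decomposition -/
theorem exists_tensor_of_conj {ι : Type} [Fintype ι] [DecidableEq ι] {e : ι ≃ Fin a × Fin b} {P g x : GL ι F}
    (h : g⁻¹ * x * g ∈ tensorProductSubgroup a b e P) :
    ∃ (A : GL (Fin a) F) (B : GL (Fin b) F),
      (∀ l : F, ((x : Matrix ι ι F) - l • 1).rank =
        ((A : Matrix (Fin a) (Fin a) F) ⊗ₖ (B : Matrix (Fin b) (Fin b) F) - l • (1 : Matrix (Fin a × Fin b) (Fin a × Fin b) F)).rank) ∧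
      ∀ (m : ℕ) (z : F), (x : Matrix ι ι F) ^ m = z • 1 →
        ((A : Matrix (Fin a) (Fin a) F) ⊗ₖ (B : Matrix (Fin b) (Fin b) F)) ^ m = z • (1 : Matrix (Fin a × Fin b) (Fin a × Fin b) F) := by
  obtain ⟨_, ⟨k, hk, rfl⟩, hkx⟩ := h
  obtain ⟨A, B, hAB⟩ := hk
  obtain ⟨M, hM⟩ : ∃ M : Matrix ι ι F, M = Matrix.reindex e.symm e.symm (k : Matrix (Fin a × Fin b) (Fin a × Fin b) F) := ⟨_, rfl⟩
  obtain ⟨G, hG⟩ : ∃ G : GL ι F, G = g * P := ⟨_, rfl⟩
  have hxG : (x : Matrix ι ι F) = (G : Matrix ι ι F) * M * ((G⁻¹ : GL ι F) : Matrix ι ι F) := by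
    have h1 : x = g * (g⁻¹ * x * g) * g⁻¹ := by group
    have h2 : x = G * glReindex e.symm k * G⁻¹ := by
      rw [h1, ← hkx, hG]
      show g * (P * glReindex e.symm k * P⁻¹) * g⁻¹ = _
      group
    rw [h2, hM]
    rfl
  have hred : ∀ l : F, M - l • 1 = Matrix.reindex e.symm e.symm
      ((k : Matrix (Fin a × Fin b) (Fin a × Fin b) F) - l • (1 : Matrix (Fin a × Fin b) (Fin a × Fin b) F)) := fun l => by
    rw [hM]
    ext i j
    simp [Matrix.one_apply]
  have hGG : (G : Matrix ι ι F) * ((G⁻¹ : GL ι F) : Matrix ι ι F) = 1 := by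
    rw [← Units.val_mul, mul_inv_cancel, Units.val_one]
  have hGG' : ((G⁻¹ : GL ι F) : Matrix ι ι F) * (G : Matrix ι ι F) = 1 := by
    rw [← Units.val_mul, inv_mul_cancel, Units.val_one]
  have hGd : IsUnit (G : Matrix ι ι F).det := (Matrix.isUnit_iff_isUnit_det _).1 G.isUnit
  have hGd' : IsUnit ((G⁻¹ : GL ι F) : Matrix ι ι F).det := (Matrix.isUnit_iff_isUnit_det _).1 (G⁻¹ : GL ι F).isUnit
  refine ⟨A, B, fun l => ?_, fun m z hz => ?_⟩
  · rw [← hAB, show (x : Matrix ι ι F) - l • 1 = (G : Matrix ι ι F) * (M - l • 1) * ((G⁻¹ : GL ι F) : Matrix ι ι F) by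
      rw [Matrix.mul_sub, Matrix.sub_mul, Matrix.mul_smul, Matrix.smul_mul, Matrix.mul_one, hGG, ← hxG],
      Matrix.rank_mul_eq_left_of_isUnit_det _ _ hGd', Matrix.rank_mul_eq_right_of_isUnit_det _ _ hGd, hred,
      Matrix.rank_reindex]
  · have hMm : M ^ m = z • 1 := by
      have h1 : ∀ j : ℕ, (x : Matrix ι ι F) ^ j = (G : Matrix ι ι F) * M ^ j * ((G⁻¹ : GL ι F) : Matrix ι ι F) := fun j => by
        induction j with
        | zero => rw [pow_zero, pow_zero, mul_one, hGG]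
        | succ j ih =>
          rw [pow_succ, ih, hxG, pow_succ]
          simp only [mul_assoc]
          rw [← mul_assoc ((G⁻¹ : GL ι F) : Matrix ι ι F) (G : Matrix ι ι F), hGG', one_mul]
      have h2 := congrArg (fun N => ((G⁻¹ : GL ι F) : Matrix ι ι F) * N * (G : Matrix ι ι F)) ((h1 m).symm.trans hz)
      simp only [← mul_assoc, hGG', one_mul, Matrix.mul_smul, Matrix.smul_mul, mul_one] at h2
      rwa [mul_assoc, hGG', mul_one] at h2
    have h3 := congrArg (Matrix.reindexAlgEquiv F F e) hMm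
    rw [map_pow, map_smul, map_one] at h3
    rw [← hAB, ← h3, hM]
    congr 1
    ext i j
    simp

end CfsgLib.Perm.Elusive
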