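import Mathlib
import Cfsg.Prelude.Def_GeometricClasses
import Cfsg.Agent.Lib.Perm.Elusive.TensorRank
import Cfsg.Agent.Lib.Perm.Elusive.SympPrime
import Cfsg.Agent.Lib.Perm.Trans.TensorFrame

/-!
# Tensor decompositions carrying forms: ranks and Gram matrices
-/

set_option autoImplicit false
set_option linter.all false

namespace CfsgLib.Perm.Elusive

open Matrix Cfsg.Geo
open scoped Kronecker

variable {F : Type*} [Field F] {a b : ℕ}

theorem rank_kronecker_one (C : Matrix (Fin a) (Fin a) F) :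
    (C ⊗ₖ (1 : Matrix (Fin b) (Fin b) F)).rank = b * C.rank := by
  rw [← rank_one_kronecker (a := b), ← Matrix.rank_reindex (Equiv.prodComm (Fin a) (Fin b))
    (Equiv.prodComm (Fin a) (Fin b)) (C ⊗ₖ (1 : Matrix (Fin b) (Fin b) F))]
  congr 1
  ext ⟨x₁, x₂⟩ ⟨y₁, y₂⟩
  simp [mul_comm]

/-- two nonscalar factors force more than a single slice -/
theorem rank_gt_of_nonscalar {A : Matrix (Fin a) (Fin a) F} (hA : ∀ c : F, A ≠ c • 1) (hAu : IsUnit A.det)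
    {B : Matrix (Fin b) (Fin b) F} (hB : ∀ c : F, B ≠ c • 1) (hBu : IsUnit B.det) (ha : 3 ≤ a) (l : F) :
    b < (A ⊗ₖ B - l • (1 : Matrix (Fin a × Fin b) (Fin a × Fin b) F)).rank := by
  by_contra hcon
  obtain ⟨u, hu⟩ := exists_moved_vector hA
  obtain ⟨w, hw, hwu, hwA⟩ : ∃ w : Fin a → F, w ≠ 0 ∧ w ⬝ᵥ u = 0 ∧ w ⬝ᵥ (A *ᵥ u) = 0 := by
    obtain ⟨L, hL⟩ : ∃ L : (Fin a → F) →ₗ[F] F × F, ∀ w, L w = (w ⬝ᵥ u, w ⬝ᵥ (A *ᵥ u)) :=
      ⟨{ toFun := fun w => (w ⬝ᵥ u, w ⬝ᵥ (A *ᵥ u))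
         map_add' := fun x y => by simp [add_dotProduct]
         map_smul' := fun s x => by simp [smul_dotProduct] }, fun w => rfl⟩
    have hk : 0 < Module.finrank F (LinearMap.ker L) := by
      have h1 := L.finrank_range_add_finrank_ker
      have h2 := Submodule.finrank_le (LinearMap.range L)
      rw [Module.finrank_fin_fun] at h1
      rw [Module.finrank_prod, Module.finrank_self] at h2
      omega
    obtain ⟨w, hw, hw0⟩ := Submodule.exists_mem_ne_zero_of_ne_bot (fun h : LinearMap.ker L = ⊥ => by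
      rw [h, finrank_bot] at hk; exact lt_irrefl 0 hk)
    rw [LinearMap.mem_ker, hL, Prod.mk_eq_zero] at hw
    exact ⟨w, hw0, hw.1, hw.2⟩
  obtain ⟨Φ, hΦ⟩ : ∃ Φ : (Fin b → F) →ₗ[F] (Fin a × Fin b → F),
      ∀ v x, Φ v x = (A *ᵥ u) x.1 * (B *ᵥ v) x.2 - l * (u x.1 * v x.2) := by
    refine ⟨{ toFun := fun v x => (A *ᵥ u) x.1 * (B *ᵥ v) x.2 - l * (u x.1 * v x.2)
              map_add' := fun v w => funext fun x => by simp [Matrix.mulVec_add]; ring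
              map_smul' := fun s v => funext fun x => by simp [Matrix.mulVec_smul]; ring }, fun v x => rfl⟩
  have hinj : Function.Injective Φ := by
    refine (injective_iff_map_eq_zero Φ).2 fun v hv => ?_
    refine Matrix.mulVec_injective_iff_isUnit.2 ((Matrix.isUnit_iff_isUnit_det B).2 hBu) ?_
    rw [Matrix.mulVec_zero]
    funext j
    by_contra hj
    refine hu (l * v j / (B *ᵥ v) j) (funext fun i => ?_)
    have h := congrFun hv (i, j)
    rw [hΦ, Pi.zero_apply, sub_eq_zero] at h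
    rw [Pi.smul_apply, smul_eq_mul, eq_comm, div_mul_eq_mul_div, div_eq_iff hj, h]
    ring
  have himg : ∀ (u' : Fin a → F) (v : Fin b → F),
      (fun x : Fin a × Fin b => (A *ᵥ u') x.1 * (B *ᵥ v) x.2 - l * (u' x.1 * v x.2)) ∈
        LinearMap.range (A ⊗ₖ B - l • (1 : Matrix (Fin a × Fin b) (Fin a × Fin b) F)).mulVecLin := fun u' v =>
    ⟨fun y => u' y.1 * v y.2, funext fun x => by
      rw [Matrix.mulVecLin_apply, Matrix.sub_mulVec, Matrix.smul_mulVec, Matrix.one_mulVec, Pi.sub_apply,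
        kronecker_mulVec_tensor, Pi.smul_apply, smul_eq_mul]⟩
  have hle : LinearMap.range Φ ≤
      LinearMap.range (A ⊗ₖ B - l • (1 : Matrix (Fin a × Fin b) (Fin a × Fin b) F)).mulVecLin := by
    rintro _ ⟨v, rfl⟩
    rw [show Φ v = _ from funext (hΦ v)]
    exact himg u v
  have heq := Submodule.eq_of_le_of_finrank_le hle (by
    rw [LinearMap.finrank_range_of_inj hinj, Module.finrank_fin_fun]
    exact le_of_not_gt hcon)
  obtain ⟨u', hu'⟩ : ∃ u', w ⬝ᵥ (A *ᵥ u') ≠ 0 := by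
    obtain ⟨i, hi⟩ := Function.ne_iff.1 hw
    obtain ⟨u', hu'⟩ := Matrix.mulVec_surjective_iff_isUnit.2 ((Matrix.isUnit_iff_isUnit_det A).2 hAu) (Pi.single i 1)
    exact ⟨u', by rw [hu', dotProduct_single, mul_one]; exact hi⟩
  refine hB (l * (w ⬝ᵥ u') / (w ⬝ᵥ (A *ᵥ u'))) ?_
  have hBv : ∀ v, (w ⬝ᵥ (A *ᵥ u')) • (B *ᵥ v) = (l * (w ⬝ᵥ u')) • v := fun v => funext fun j => by
    obtain ⟨v', hv'⟩ : (fun x : Fin a × Fin b => (A *ᵥ u') x.1 * (B *ᵥ v) x.2 - l * (u' x.1 * v x.2)) ∈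
        LinearMap.range Φ := heq ▸ himg u' v
    have h : ∀ i, (A *ᵥ u') i * (B *ᵥ v) j - l * (u' i * v j) = (A *ᵥ u) i * (B *ᵥ v') j - l * (u i * v' j) :=
      fun i => (congrFun hv' (i, j)).symm.trans (hΦ v' (i, j))
    have h2 := Finset.sum_congr (s₁ := (Finset.univ : Finset (Fin a))) rfl
      (fun i _ => congrArg (fun z => w i * z) (h i))
    simp only [mul_sub, Finset.sum_sub_distrib] at h2
    have e : ∀ (z : Fin a → F) (s : F), ∑ i, w i * (z i * s) = (w ⬝ᵥ z) * s := fun z s => by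
      rw [dotProduct, Finset.sum_mul]
      exact Finset.sum_congr rfl fun i _ => by ring
    have e' : ∀ (z : Fin a → F) (s : F), ∑ i, w i * (l * (z i * s)) = l * (w ⬝ᵥ z) * s := fun z s => by
      rw [dotProduct, Finset.mul_sum, Finset.sum_mul]
      exact Finset.sum_congr rfl fun i _ => by ring
    rw [e, e, e', e', hwu, hwA, zero_mul, mul_zero, zero_mul, sub_zero, sub_eq_zero] at h2
    simpa [Pi.smul_apply] using h2
  ext j j'
  have h := congrFun (hBv (Pi.single j' 1)) j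
  rw [Pi.smul_apply, Pi.smul_apply, Matrix.mulVec_single_one, Matrix.col_apply, smul_eq_mul, smul_eq_mul] at h
  rw [Matrix.smul_apply, smul_eq_mul, div_mul_eq_mul_div, eq_div_iff hu', mul_comm (B j j'), h, Matrix.one_apply,
    Pi.single_apply]

/-- skew matrices have even rank in odd characteristic -/
theorem even_rank_of_skew (h2 : (2 : F) ≠ 0) {M : Matrix (Fin b) (Fin b) F} (hM : Mᵀ = -M) : Even M.rank := by
  obtain ⟨B, hB⟩ : ∃ B : LinearMap.BilinForm F (Fin b → F), ∀ u v, B u v = u ⬝ᵥ (M *ᵥ v) :=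
    ⟨Matrix.toBilin' M, fun u v => Matrix.toBilin'_apply' M u v⟩
  have hswap : ∀ u v, u ⬝ᵥ (M *ᵥ v) = -(v ⬝ᵥ (M *ᵥ u)) := fun u v => by
    rw [Matrix.dotProduct_mulVec, ← Matrix.mulVec_transpose, hM, Matrix.neg_mulVec, neg_dotProduct, dotProduct_comm]
  have hA : B.IsAlt := fun u => by
    have h := hswap u u
    rw [eq_neg_iff_add_eq_zero, ← two_mul, mul_eq_zero] at h
    rw [hB]
    exact h.resolve_left h2
  obtain ⟨S, hS⟩ := Submodule.exists_isCompl (LinearMap.ker M.mulVecLin)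
  have hnd : Disjoint S (B.orthogonal S) := by
    rw [Submodule.disjoint_def]
    intro m hmS hmo
    have hker : m ∈ LinearMap.ker M.mulVecLin := by
      rw [LinearMap.mem_ker, Matrix.mulVecLin_apply]
      refine dotProduct_eq_zero _ fun y => ?_
      obtain ⟨k, hk, s, hs, rfl⟩ := Submodule.mem_sup.1 (hS.sup_eq_top ▸ Submodule.mem_top : y ∈ _ ⊔ S)
      have e1 : k ⬝ᵥ (M *ᵥ m) = 0 := by
        rw [LinearMap.mem_ker, Matrix.mulVecLin_apply] at hk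
        rw [hswap, hk, dotProduct_zero, neg_zero]
      have e2 : s ⬝ᵥ (M *ᵥ m) = 0 := by
        rw [← hB]
        exact hmo s hs
      rw [dotProduct_comm, add_dotProduct, e1, e2, add_zero]
    exact Submodule.disjoint_def.1 hS.disjoint m hker hmS
  have h := even_of_nd hA hnd
  have h1 := M.mulVecLin.finrank_range_add_finrank_ker
  have h3 := Submodule.finrank_add_eq_of_isCompl hS
  rwa [show M.rank = Module.finrank F S by rw [Matrix.rank]; omega]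

/-- an isometry without the eigenvalue -1 moves a space of even dimension -/
theorem even_rank_orth (h2 : (2 : F) ≠ 0) {G C : Matrix (Fin b) (Fin b) F} (hG : Gᵀ = G) (hGu : IsUnit G.det)
    (hC : Cᵀ * G * C = G) (hC1 : IsUnit (C + 1).det) : Even (C - (1 : F) • 1).rank := by
  obtain ⟨M, hM⟩ : ∃ M, M = (C + 1)ᵀ * G * (C - (1 : F) • 1) := ⟨_, rfl⟩
  have hr : M.rank = (C - (1 : F) • 1).rank := by
    rw [hM]
    exact Matrix.rank_mul_eq_right_of_isUnit_det _ _ (by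
      rw [Matrix.det_mul, Matrix.det_transpose]; exact hC1.mul hGu)
  rw [← hr]
  refine even_rank_of_skew h2 ?_
  have hM' : M = G * C - Cᵀ * G := by
    rw [hM, one_smul, Matrix.transpose_add, Matrix.transpose_one, add_mul, one_mul, mul_sub, mul_one, add_mul, hC]
    abel
  rw [hM', Matrix.transpose_sub, Matrix.transpose_mul, Matrix.transpose_mul, Matrix.transpose_transpose, hG]
  abel

/-- no eigenvalue -1 in odd order -/
theorem isUnit_add_one (h2 : (2 : F) ≠ 0) {C : Matrix (Fin b) (Fin b) F} {r : ℕ} (hr : Odd r) (hC : C ^ r = 1) :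
    IsUnit (C + 1).det := by
  rw [isUnit_iff_ne_zero]
  intro h0
  obtain ⟨v, hv, hv0⟩ := Matrix.exists_mulVec_eq_zero_iff.2 h0
  rw [Matrix.add_mulVec, Matrix.one_mulVec, add_eq_zero_iff_eq_neg] at hv0
  have hpow : ∀ j : ℕ, (C ^ j) *ᵥ v = (-1 : F) ^ j • v := fun j => by
    induction j with
    | zero => simp
    | succ j ih => rw [pow_succ, ← Matrix.mulVec_mulVec, hv0, Matrix.mulVec_neg, ih, pow_succ, mul_comm, mul_smul,
        neg_one_smul]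
  have h := hpow r
  rw [hC, Matrix.one_mulVec, hr.neg_one_pow, neg_one_smul, eq_neg_iff_add_eq_zero, ← two_smul F] at h
  exact hv ((smul_eq_zero.1 h).resolve_left h2)

/-- the Gram matrices of the factors are scaled -/
theorem factor_gram {G₁ A : Matrix (Fin a) (Fin a) F} {G₂ B : Matrix (Fin b) (Fin b) F} (h₁ : G₁ ≠ 0) (h₂ : G₂ ≠ 0)
    (h : (A ⊗ₖ B)ᵀ * (G₁ ⊗ₖ G₂) * (A ⊗ₖ B) = G₁ ⊗ₖ G₂) :
    (∃ μ : F, Bᵀ * G₂ * B = μ • G₂) ∧ ∀ α : F, A = α • 1 → (α • B)ᵀ * G₂ * (α • B) = G₂ := by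
  rw [← Matrix.kroneckerMap_transpose, ← Matrix.mul_kronecker_mul, ← Matrix.mul_kronecker_mul] at h
  obtain ⟨i, i', hii⟩ : ∃ i i', G₁ i i' ≠ 0 := by
    by_contra hc
    push Not at hc
    exact h₁ (Matrix.ext hc)
  obtain ⟨j, j', hjj⟩ : ∃ j j', G₂ j j' ≠ 0 := by
    by_contra hc
    push Not at hc
    exact h₂ (Matrix.ext hc)
  have hent : ∀ x y, (Aᵀ * G₁ * A) i i' * (Bᵀ * G₂ * B) x y = G₁ i i' * G₂ x y := fun x y => by
    simpa only [Matrix.kroneckerMap_apply] using congrFun (congrFun h (i, x)) (i', y)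
  have hA0 : (Aᵀ * G₁ * A) i i' ≠ 0 := fun h0 => by
    have := hent j j'
    rw [h0, zero_mul] at this
    exact mul_ne_zero hii hjj this.symm
  refine ⟨⟨G₁ i i' / (Aᵀ * G₁ * A) i i', Matrix.ext fun x y => ?_⟩, ?_⟩
  · rw [Matrix.smul_apply, smul_eq_mul, div_mul_eq_mul_div, eq_div_iff hA0, mul_comm, hent]
  · rintro α rfl
    ext x y
    have h3 := hent x y
    simp only [Matrix.transpose_smul, Matrix.transpose_one, Matrix.smul_mul, Matrix.mul_smul, Matrix.one_mul,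
      Matrix.mul_one, Matrix.smul_apply, smul_eq_mul] at h3 ⊢
    exact mul_left_cancel₀ hii (by linear_combination h3)

/-- a form in coordinates -/
theorem bilinear_eq_dot {f : (Fin a → F) → (Fin a → F) → F} (hf : IsBilinearForm f) (u v : Fin a → F) :
    f u v = u ⬝ᵥ (gramMatrix f *ᵥ v) := by
  rw [CfsgLib.Perm.Trans.TensorFrame.sesq_expand (CfsgLib.Perm.Trans.TensorFrame.sesq_of_bilinear hf) u v]
  simp only [formOfGram, id_eq, dotProduct, Matrix.mulVec, Finset.mul_sum, mul_assoc]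

theorem gram_det_ne_zero {f : (Fin a → F) → (Fin a → F) → F} (hf : IsBilinearForm f) (hn : IsNondegenerateForm f) :
    (gramMatrix f).det ≠ 0 := fun h0 => by
  obtain ⟨v, hv, hv0⟩ := Matrix.exists_mulVec_eq_zero_iff.2 h0
  obtain ⟨x, hx⟩ := (hn v hv).1
  exact hx (by rw [bilinear_eq_dot hf, hv0, dotProduct_zero])

theorem sandwich {ι : Type*} [Fintype ι] (M J : Matrix ι ι F) (u v : ι → F) :
    (M *ᵥ u) ⬝ᵥ (J *ᵥ (M *ᵥ v)) = u ⬝ᵥ ((Mᵀ * J * M) *ᵥ v) := by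
  rw [← Matrix.mulVec_mulVec, ← Matrix.mulVec_mulVec, Matrix.dotProduct_mulVec u Mᵀ, Matrix.vecMul_transpose]

theorem mem_spGL_iff {d : ℕ} {x : GL (Fin d ⊕ Fin d) F} :
    x ∈ Cfsg.spGL d F ↔
      (x : Matrix (Fin d ⊕ Fin d) (Fin d ⊕ Fin d) F)ᵀ * Matrix.J (Fin d) F * (x : Matrix (Fin d ⊕ Fin d) (Fin d ⊕ Fin d) F) =
        Matrix.J (Fin d) F := by
  refine ⟨fun h => Matrix.ext fun i j => ?_, fun h u v => ?_⟩
  · have h1 : ((x : Matrix (Fin d ⊕ Fin d) (Fin d ⊕ Fin d) F) *ᵥ Pi.single i 1) ⬝ᵥ (Matrix.J (Fin d) F *ᵥ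
        ((x : Matrix (Fin d ⊕ Fin d) (Fin d ⊕ Fin d) F) *ᵥ Pi.single j 1)) =
        (Pi.single i 1 : Fin d ⊕ Fin d → F) ⬝ᵥ (Matrix.J (Fin d) F *ᵥ Pi.single j 1) := h _ _
    rw [sandwich] at h1
    simpa [single_dotProduct, Matrix.mulVec_single_one] using h1
  · show ((x : Matrix (Fin d ⊕ Fin d) (Fin d ⊕ Fin d) F) *ᵥ u) ⬝ᵥ (Matrix.J (Fin d) F *ᵥ
        ((x : Matrix (Fin d ⊕ Fin d) (Fin d ⊕ Fin d) F) *ᵥ v)) = u ⬝ᵥ (Matrix.J (Fin d) F *ᵥ v)
    rw [sandwich, h]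

theorem card_spGL (d : ℕ) : Nat.card (Cfsg.spGL d F) = Nat.card (Matrix.symplecticGroup (Fin d) F) := by
  refine Nat.card_eq_of_bijective (fun g => ⟨(g.1 : Matrix (Fin d ⊕ Fin d) (Fin d ⊕ Fin d) F),
    SymplecticGroup.mem_iff'.2 (mem_spGL_iff.1 g.2)⟩) ⟨fun g h e => Subtype.ext (Units.ext (congrArg Subtype.val e)), fun y => ?_⟩
  exact ⟨⟨Matrix.GeneralLinearGroup.mkOfDetNeZero y.1 (SymplecticGroup.symplectic_det y.2).ne_zero,
    mem_spGL_iff.2 (SymplecticGroup.mem_iff'.1 y.2)⟩, rfl⟩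

/-- the Gram matrix of a tensor structure -/
theorem gram_structure {d : ℕ} {e : (Fin d ⊕ Fin d) ≃ Fin a × Fin b} {P : GL (Fin d ⊕ Fin d) F}
    {f₁ : (Fin a → F) → (Fin a → F) → F} {f₂ : (Fin b → F) → (Fin b → F) → F}
    (hS : IsTensorFormStructure id (Cfsg.sympForm d F) f₁ f₂ e P) :
    ∃ c : F, c ≠ 0 ∧ (P : Matrix (Fin d ⊕ Fin d) (Fin d ⊕ Fin d) F)ᵀ * Matrix.J (Fin d) F *
      (P : Matrix (Fin d ⊕ Fin d) (Fin d ⊕ Fin d) F) =
        Matrix.reindex e.symm e.symm (c • (gramMatrix f₁ ⊗ₖ gramMatrix f₂)) := by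
  obtain ⟨c, hc, h⟩ := hS
  refine ⟨c, hc, Matrix.ext fun i j => ?_⟩
  have he : ∀ z, (Pi.single (e z) (1 : F) : Fin a × Fin b → F) ∘ e = Pi.single z 1 := fun z => funext fun x => by
    simp [Pi.single_apply, e.injective.eq_iff]
  have h1 := h (Pi.single (e i) 1) (Pi.single (e j) 1)
  rw [he, he] at h1
  simp only [Cfsg.sympForm] at h1
  rw [sandwich] at h1
  simpa [single_dotProduct, Matrix.mulVec_single_one, formOfGram, Pi.single_apply] using h1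

/-- the tensor factors of an isometry preserve the product of the Gram matrices -/
theorem exists_tensor_gram {d : ℕ} {e : (Fin d ⊕ Fin d) ≃ Fin a × Fin b} {P : GL (Fin d ⊕ Fin d) F}
    {f₁ : (Fin a → F) → (Fin a → F) → F} {f₂ : (Fin b → F) → (Fin b → F) → F}
    (hS : IsTensorFormStructure id (Cfsg.sympForm d F) f₁ f₂ e P) {g x : GL (Fin d ⊕ Fin d) F}
    (hx : g⁻¹ * x * g ∈ Cfsg.spGL d F) (h : g⁻¹ * x * g ∈ tensorProductSubgroup a b e P) :
    ∃ (A : GL (Fin a) F) (B : GL (Fin b) F),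
      (∀ l : F, ((x : Matrix (Fin d ⊕ Fin d) (Fin d ⊕ Fin d) F) - l • 1).rank =
        ((A : Matrix (Fin a) (Fin a) F) ⊗ₖ (B : Matrix (Fin b) (Fin b) F) - l • (1 : Matrix (Fin a × Fin b) (Fin a × Fin b) F)).rank) ∧
      (∀ (m : ℕ) (z : F), (x : Matrix (Fin d ⊕ Fin d) (Fin d ⊕ Fin d) F) ^ m = z • 1 →
        ((A : Matrix (Fin a) (Fin a) F) ⊗ₖ (B : Matrix (Fin b) (Fin b) F)) ^ m = z • (1 : Matrix (Fin a × Fin b) (Fin a × Fin b) F)) ∧
      ((A : Matrix (Fin a) (Fin a) F) ⊗ₖ (B : Matrix (Fin b) (Fin b) F))ᵀ * (gramMatrix f₁ ⊗ₖ gramMatrix f₂) *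
        ((A : Matrix (Fin a) (Fin a) F) ⊗ₖ (B : Matrix (Fin b) (Fin b) F)) = gramMatrix f₁ ⊗ₖ gramMatrix f₂ := by
  obtain ⟨_, ⟨k, ⟨A, B, hAB⟩, rfl⟩, hkx⟩ := h
  have hkx' : P * glReindex e.symm k * P⁻¹ = g⁻¹ * x * g := hkx
  obtain ⟨M, hM⟩ : ∃ M : Matrix (Fin d ⊕ Fin d) (Fin d ⊕ Fin d) F,
      M = Matrix.reindex e.symm e.symm (k : Matrix (Fin a × Fin b) (Fin a × Fin b) F) := ⟨_, rfl⟩
  have hMv : ((glReindex e.symm k : GL (Fin d ⊕ Fin d) F) : Matrix (Fin d ⊕ Fin d) (Fin d ⊕ Fin d) F) = M := hM ▸ rfl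
  have hxG : (x : Matrix (Fin d ⊕ Fin d) (Fin d ⊕ Fin d) F) = ((g * P : GL (Fin d ⊕ Fin d) F) : Matrix (Fin d ⊕ Fin d) (Fin d ⊕ Fin d) F) * M *
      (((g * P)⁻¹ : GL (Fin d ⊕ Fin d) F) : Matrix (Fin d ⊕ Fin d) (Fin d ⊕ Fin d) F) := by
    rw [← hMv, ← Units.val_mul, ← Units.val_mul]
    refine congrArg Units.val ?_
    rw [show x = g * (g⁻¹ * x * g) * g⁻¹ by group, ← hkx']
    group
  generalize g * P = G at hxG
  have hGG : (G : Matrix (Fin d ⊕ Fin d) (Fin d ⊕ Fin d) F) * ((G⁻¹ : GL (Fin d ⊕ Fin d) F) : Matrix (Fin d ⊕ Fin d) (Fin d ⊕ Fin d) F) = 1 := by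
    rw [← Units.val_mul, mul_inv_cancel, Units.val_one]
  have hGd : IsUnit (G : Matrix (Fin d ⊕ Fin d) (Fin d ⊕ Fin d) F).det := (Matrix.isUnit_iff_isUnit_det _).1 G.isUnit
  have hGd' : IsUnit ((G⁻¹ : GL (Fin d ⊕ Fin d) F) : Matrix (Fin d ⊕ Fin d) (Fin d ⊕ Fin d) F).det :=
    (Matrix.isUnit_iff_isUnit_det _).1 (G⁻¹ : GL (Fin d ⊕ Fin d) F).isUnit
  refine ⟨A, B, fun l => ?_, fun m z hz => ?_, ?_⟩
  · rw [← hAB, show (x : Matrix (Fin d ⊕ Fin d) (Fin d ⊕ Fin d) F) - l • 1 = (G : Matrix (Fin d ⊕ Fin d) (Fin d ⊕ Fin d) F) * (M - l • 1) * ((G⁻¹ : GL (Fin d ⊕ Fin d) F) : Matrix (Fin d ⊕ Fin d) (Fin d ⊕ Fin d) F) by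
      rw [Matrix.mul_sub, Matrix.sub_mul, Matrix.mul_smul, Matrix.smul_mul, Matrix.mul_one, hGG, ← hxG],
      Matrix.rank_mul_eq_left_of_isUnit_det _ _ hGd', Matrix.rank_mul_eq_right_of_isUnit_det _ _ hGd,
      ← Matrix.rank_reindex e.symm e.symm ((k : Matrix (Fin a × Fin b) (Fin a × Fin b) F) - l • 1), hM]
    congr 1
    ext i j
    simp [Matrix.one_apply]
  · have hconj : ∀ j : ℕ, (x : Matrix (Fin d ⊕ Fin d) (Fin d ⊕ Fin d) F) ^ j =
        (G : Matrix (Fin d ⊕ Fin d) (Fin d ⊕ Fin d) F) * M ^ j * ((G⁻¹ : GL (Fin d ⊕ Fin d) F) : Matrix (Fin d ⊕ Fin d) (Fin d ⊕ Fin d) F) := fun j => by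
      rw [hxG]
      exact Units.conj_pow G M j
    rw [hconj] at hz
    have h2 := congrArg (fun N => ((G⁻¹ : GL (Fin d ⊕ Fin d) F) : Matrix (Fin d ⊕ Fin d) (Fin d ⊕ Fin d) F) * N * (G : Matrix (Fin d ⊕ Fin d) (Fin d ⊕ Fin d) F)) hz
    simp only [mul_assoc, Units.inv_mul, mul_one, Units.inv_mul_cancel_left, Matrix.mul_smul, Matrix.smul_mul,
      one_mul] at h2
    have h3 := congrArg (Matrix.reindexAlgEquiv F F e) h2
    rw [map_pow, map_smul, map_one] at h3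
    rw [← hAB, ← h3, hM]
    congr 1
    ext i j
    simp
  · obtain ⟨c, hc, hP⟩ := gram_structure hS
    have hy := mem_spGL_iff.1 hx
    rw [← hkx', Units.val_mul, Units.val_mul, hMv] at hy
    have h4 := congrArg (fun N => (P : Matrix (Fin d ⊕ Fin d) (Fin d ⊕ Fin d) F)ᵀ * N * (P : Matrix (Fin d ⊕ Fin d) (Fin d ⊕ Fin d) F)) hy
    have hPP : ((P⁻¹ : GL (Fin d ⊕ Fin d) F) : Matrix (Fin d ⊕ Fin d) (Fin d ⊕ Fin d) F) * (P : Matrix (Fin d ⊕ Fin d) (Fin d ⊕ Fin d) F) = 1 := Units.inv_mul P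
    have hPPt : (P : Matrix (Fin d ⊕ Fin d) (Fin d ⊕ Fin d) F)ᵀ * ((P⁻¹ : GL (Fin d ⊕ Fin d) F) : Matrix (Fin d ⊕ Fin d) (Fin d ⊕ Fin d) F)ᵀ = 1 := by
      rw [← Matrix.transpose_mul, hPP, Matrix.transpose_one]
    have hid : ∀ R : Matrix (Fin d ⊕ Fin d) (Fin d ⊕ Fin d) F,
        (P : Matrix (Fin d ⊕ Fin d) (Fin d ⊕ Fin d) F)ᵀ * (((P : Matrix (Fin d ⊕ Fin d) (Fin d ⊕ Fin d) F) * R * ((P⁻¹ : GL (Fin d ⊕ Fin d) F) : Matrix (Fin d ⊕ Fin d) (Fin d ⊕ Fin d) F))ᵀ *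
          Matrix.J (Fin d) F * ((P : Matrix (Fin d ⊕ Fin d) (Fin d ⊕ Fin d) F) * R * ((P⁻¹ : GL (Fin d ⊕ Fin d) F) : Matrix (Fin d ⊕ Fin d) (Fin d ⊕ Fin d) F))) * (P : Matrix (Fin d ⊕ Fin d) (Fin d ⊕ Fin d) F) =
        Rᵀ * ((P : Matrix (Fin d ⊕ Fin d) (Fin d ⊕ Fin d) F)ᵀ * Matrix.J (Fin d) F * (P : Matrix (Fin d ⊕ Fin d) (Fin d ⊕ Fin d) F)) * R := fun R => by
      simp only [Matrix.transpose_mul, mul_assoc]
      rw [hPP, mul_one, ← mul_assoc (P : Matrix (Fin d ⊕ Fin d) (Fin d ⊕ Fin d) F)ᵀ, hPPt, one_mul]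
    rw [hid, hP, hM] at h4
    have h5 := congrArg (Matrix.reindexAlgEquiv F F e) h4
    simp only [Matrix.transpose_reindex, map_mul] at h5
    simp only [Matrix.reindexAlgEquiv_apply, Matrix.reindex_apply, Matrix.submatrix_submatrix, Equiv.symm_symm,
      Equiv.self_comp_symm, Matrix.submatrix_id_id] at h5
    rw [hAB, Matrix.mul_smul, Matrix.smul_mul] at h5
    exact smul_right_injective _ hc h5

end CfsgLib.Perm.Elusive
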