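import Mathlib
import Cfsg.Agent.Lib.Orth.Facts
import Cfsg.Agent.Lib.Orth.Field.Normal
import Cfsg.Agent.Lib.Orth.Aut.StdForms
import Cfsg.Agent.Lib.Classical.QuadOrder
import Cfsg.Agent.Lib.Perm.Trans.QuadStd
import Cfsg.Agent.Lib.Perm.Elusive.PrimeOrderLinear

/-!
# Fixed-point-free isometries of prime order of the standard forms, and nonsingular points
-/

set_option autoImplicit false
set_option linter.all false

namespace CfsgLib.Perm.Elusive

open scoped Matrix

variable {F : Type*} [Field F] [Fintype F] {r : ℕ} [Fact r.Prime]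

/-- isometries of odd order lie in `Ω` -/
theorem mem_omega_of_odd {ι : Type} [Fintype ι] [DecidableEq ι] {Q : (ι → F) → F}
    (hQ : Cfsg.Geo.IsNondegenerateQuadraticForm Q) (hn : 5 ≤ Fintype.card ι) {g : GL ι F}
    (hg : g ∈ Cfsg.isometryGroup F Q) {n : ℕ} (hodd : Odd n) (hgn : g ^ n = 1) : g ∈ Cfsg.Geo.omegaGL Q := by
  have hex : Fintype.card F ≠ 2 ∨ Fintype.card ι ≠ 4 := Or.inr (by omega)
  have hidx : (Cfsg.Omega F Q).index ∣ 4 := by
    rw [CfsgLib.Orth.omega_index_eq hQ (by omega) hex]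
    by_cases h2 : (2 : F) = 0
    · rw [CfsgLib.Orth.card_sqClass_two h2]; decide
    · rw [CfsgLib.Orth.card_sqClass_odd h2]
  haveI : (Cfsg.Omega F Q).Normal := inferInstanceAs (commutator _).Normal
  obtain ⟨a, ha⟩ := hidx
  have h4 : (⟨g, hg⟩ : Cfsg.isometryGroup F Q) ^ 4 ∈ Cfsg.Omega F Q := by
    rw [ha, pow_mul]
    exact Subgroup.pow_mem _ (Subgroup.pow_index_mem _ _) _
  obtain ⟨j, hj⟩ : ∃ j : ℕ, ∃ w, 4 * j = n * w + 1 := by
    obtain ⟨s, hs⟩ := hodd
    rcases Nat.even_or_odd s with ⟨t, ht⟩ | ⟨t, ht⟩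
    · exact ⟨3 * t + 1, 3, by omega⟩
    · exact ⟨t + 1, 1, by omega⟩
  obtain ⟨w, hw⟩ := hj
  refine ⟨(⟨g, hg⟩ : Cfsg.isometryGroup F Q), ?_, rfl⟩
  have he : ((⟨g, hg⟩ : Cfsg.isometryGroup F Q) ^ 4) ^ j = ⟨g, hg⟩ := by
    rw [← pow_mul, hw, pow_add, pow_mul, show (⟨g, hg⟩ : Cfsg.isometryGroup F Q) ^ n = 1 from Subtype.ext hgn,
      one_pow, one_mul, pow_one]
  rw [← he]
  exact Subgroup.pow_mem _ h4 _

omit [Fact r.Prime] in
/-- an element of order `r` without fixed vectors -/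
theorem exists_gl_fpf (hr : r.Prime) {d : ℕ} (hd : 1 ≤ d) (hdvd : r ∣ Fintype.card F ^ d - 1) :
    ∃ A : Matrix (Fin d) (Fin d) F, A ^ r = 1 ∧ ∀ v, A *ᵥ v = v → v = 0 := by
  classical
  haveI : NeZero d := ⟨by omega⟩
  obtain ⟨p, hp⟩ := CharP.exists F
  haveI : Fact p.Prime := ⟨CharP.char_is_prime F p⟩
  let K := FiniteField.Extension F p d
  let b := Module.finBasisOfFinrankEq F K (FiniteField.finrank_extension F p d)
  obtain ⟨u, hu⟩ := IsCyclic.exists_ofOrder_eq_natCard (α := Kˣ)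
  rw [Nat.card_units, FiniteField.natCard_extension, Nat.card_eq_fintype_card] at hu
  obtain ⟨w, hw⟩ : ∃ w : Kˣ, orderOf w = r := ⟨_, orderOf_pow_orderOf_div (orderOf_pos u).ne' (hu ▸ hdvd)⟩
  have hwr : (w : K) ^ r = 1 := by rw [← hw, ← Units.val_pow_eq_pow_val, pow_orderOf_eq_one, Units.val_one]
  have hw1 : (w : K) - 1 ≠ 0 := fun h => by
    rw [sub_eq_zero, Units.val_eq_one] at h
    rw [h, orderOf_one] at hw
    exact hr.one_lt.ne hw
  refine ⟨Algebra.leftMulMatrix b w, by rw [← map_pow, hwr, map_one], fun v hv => ?_⟩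
  have h := Algebra.leftMulMatrix_mulVec_repr b (w : K) (b.equivFun.symm v)
  have e : (⇑(b.repr (b.equivFun.symm v)) : Fin d → F) = v := by
    rw [← b.equivFun_apply, LinearEquiv.apply_symm_apply]
  rw [e, hv] at h
  have h1 : (w : K) * b.equivFun.symm v = b.equivFun.symm v := b.equivFun.injective (by
    rw [b.equivFun_apply, ← h, LinearEquiv.apply_symm_apply])
  have h3 : ((w : K) - 1) * b.equivFun.symm v = 0 := by rw [sub_mul, one_mul, h1, sub_self]
  exact b.equivFun.symm.map_eq_zero_iff.1 ((mul_eq_zero.1 h3).resolve_left hw1)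

/-- plus type: a fixed-point-free isometry of order `r` -/
theorem exists_plus_fpf {d : ℕ} (hd : 1 ≤ d) (hdvd : r ∣ Fintype.card F ^ d - 1) :
    ∃ x : GL (Fin d ⊕ Fin d) F, x ∈ Cfsg.isometryGroup F (Cfsg.quadFormPlus d F) ∧ x ^ r = 1 ∧
      ∀ v, (x : Matrix (Fin d ⊕ Fin d) (Fin d ⊕ Fin d) F) *ᵥ v = v → v = 0 := by
  classical
  obtain ⟨A, hA, hfix⟩ := exists_gl_fpf (F := F) (Fact.out : r.Prime) hd hdvd
  obtain ⟨A', hA'⟩ : ∃ A', A' = A ^ (r - 1) := ⟨_, rfl⟩
  have hr1 : r - 1 + 1 = r := Nat.sub_add_cancel (Fact.out : r.Prime).one_le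
  have hAA' : A * A' = 1 := by rw [hA', ← pow_succ', hr1, hA]
  have hA'A : A' * A = 1 := by rw [hA', ← pow_succ, hr1, hA]
  obtain ⟨X, hX⟩ : ∃ X : Matrix (Fin d ⊕ Fin d) (Fin d ⊕ Fin d) F, X = Matrix.fromBlocks A 0 0 A'ᵀ := ⟨_, rfl⟩
  have hXr : X ^ r = 1 := by
    have hpow : ∀ j, X ^ j = Matrix.fromBlocks (A ^ j) 0 0 ((A' ^ j)ᵀ) := fun j => by
      induction j with
      | zero => simp [Matrix.fromBlocks_one]
      | succ j ih =>
        rw [pow_succ, ih, hX, Matrix.fromBlocks_multiply]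
        congr 1 <;> simp [pow_succ, Matrix.transpose_mul, ← Matrix.transpose_pow]
        rw [← Matrix.transpose_mul, ← Matrix.transpose_mul, ← pow_succ', ← pow_succ]
    rw [hpow, hA, show A' ^ r = 1 by rw [hA', ← pow_mul, mul_comm, pow_mul, hA, one_pow], Matrix.transpose_one,
      Matrix.fromBlocks_one]
  have hXu : IsUnit X := IsUnit.of_pow_eq_one hXr (Fact.out : r.Prime).ne_zero
  refine ⟨hXu.unit, CfsgLib.Classical.mem_isometryGroup_iff.2 fun v => ?_, Units.ext (by simp [hXr]), fun v hv => ?_⟩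
  · rw [IsUnit.unit_spec, hX, Matrix.fromBlocks_mulVec]
    simp only [Cfsg.quadFormPlus, Sum.elim_inl, Sum.elim_inr, Matrix.zero_mulVec, add_zero, zero_add]
    show (A *ᵥ (v ∘ Sum.inl)) ⬝ᵥ (A'ᵀ *ᵥ (v ∘ Sum.inr)) = (v ∘ Sum.inl) ⬝ᵥ (v ∘ Sum.inr)
    rw [Matrix.mulVec_transpose, dotProduct_comm, ← Matrix.dotProduct_mulVec, Matrix.mulVec_mulVec, hA'A, Matrix.one_mulVec,
      dotProduct_comm]
  · rw [IsUnit.unit_spec, hX, Matrix.fromBlocks_mulVec] at hv
    simp only [Matrix.zero_mulVec, add_zero, zero_add] at hv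
    have h1 : v ∘ Sum.inl = 0 := hfix _ (funext fun i => congrFun hv (Sum.inl i))
    have h2 : v ∘ Sum.inr = 0 := by
      have h3 : A'ᵀ *ᵥ (v ∘ Sum.inr) = v ∘ Sum.inr := funext fun i => congrFun hv (Sum.inr i)
      have h4 : Aᵀ *ᵥ (v ∘ Sum.inr) = v ∘ Sum.inr := by
        conv_lhs => rw [← h3, Matrix.mulVec_mulVec, ← Matrix.transpose_mul, hA'A, Matrix.transpose_one, Matrix.one_mulVec]
      -- a fixed vector of the transpose gives one of the matrix
      have hu : IsUnit (A - 1).det := by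
        rw [← Matrix.isUnit_iff_isUnit_det, ← Matrix.mulVec_injective_iff_isUnit]
        intro a b hab
        refine sub_eq_zero.1 (hfix _ ?_)
        have h5 : (A - 1) *ᵥ (a - b) = 0 := by rw [Matrix.mulVec_sub]; exact sub_eq_zero.2 hab
        rwa [Matrix.sub_mulVec, Matrix.one_mulVec, sub_eq_zero] at h5
      refine Matrix.eq_zero_of_mulVec_eq_zero (M := (A - 1)ᵀ) (by rw [Matrix.det_transpose]; exact hu.ne_zero) ?_
      rw [Matrix.transpose_sub, Matrix.transpose_one, Matrix.sub_mulVec, Matrix.one_mulVec, h4, sub_self]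
    funext i
    rcases i with i | i
    · exact congrFun h1 i
    · exact congrFun h2 i

/-- minus type: a fixed-point-free isometry of order `r` dividing `q ^ (k + 1) + 1` -/
theorem exists_minus_fpf {k : ℕ} (hdvd : r ∣ Fintype.card F ^ (k + 1) + 1) {a b : F}
    (hab : ∀ z₁ z₂ : F, z₁ ^ 2 + a * z₁ * z₂ + b * z₂ ^ 2 = 0 → z₁ = 0 ∧ z₂ = 0) :
    ∃ x : GL ((Fin k ⊕ Fin k) ⊕ Fin 2) F, x ∈ Cfsg.isometryGroup F (Cfsg.quadFormMinus k F a b) ∧ x ^ r = 1 ∧
      ∀ v, (x : Matrix ((Fin k ⊕ Fin k) ⊕ Fin 2) ((Fin k ⊕ Fin k) ⊕ Fin 2) F) *ᵥ v = v → v = 0 := by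
  classical
  obtain ⟨q, hq⟩ : ∃ q, q = Fintype.card F := ⟨_, rfl⟩
  rw [← hq] at hdvd
  have hq2 : 2 ≤ q := hq ▸ Fintype.one_lt_card
  haveI : NeZero (2 * (k + 1)) := ⟨by omega⟩
  obtain ⟨p, hp⟩ := CharP.exists F
  haveI : Fact p.Prime := ⟨CharP.char_is_prime F p⟩
  let K := FiniteField.Extension F p (2 * (k + 1))
  have hfin : Module.finrank F K = 2 * (k + 1) := FiniteField.finrank_extension F p (2 * (k + 1))
  haveI : Finite K := Module.finite_of_finite F
  letI : Fintype K := Fintype.ofFinite K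
  have hK : Fintype.card K = q ^ (2 * (k + 1)) := by rw [Module.card_eq_pow_finrank (K := F), hfin, hq]
  obtain ⟨Q, hQ⟩ : ∃ Q, Q = q ^ (k + 1) := ⟨_, rfl⟩
  have hQ2 : 2 ≤ Q := hQ ▸ le_trans hq2 (Nat.le_self_pow (by omega) q)
  have hKQ : Fintype.card K = Q * Q := by rw [hK, hQ, ← pow_add, two_mul]
  obtain ⟨σ, hσ0⟩ : ∃ σ : K →ₐ[F] K,
      σ = (FiniteField.frobeniusAlgEquivOfAlgebraic F K ^ (k + 1) : K ≃ₐ[F] K).toAlgHom := ⟨_, rfl⟩
  have hσ : ∀ x : K, σ x = x ^ Q := fun x => by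
    rw [hσ0]
    show (FiniteField.frobeniusAlgEquivOfAlgebraic F K ^ (k + 1) : K ≃ₐ[F] K) x = _
    rw [AlgEquiv.coe_pow, FiniteField.coe_frobeniusAlgEquivOfAlgebraic, pow_iterate, hQ, hq]
  have hσσ : ∀ x, σ (σ x) = x := fun x => by rw [hσ, hσ, ← pow_mul, ← hKQ, FiniteField.pow_card]
  have htr : ∀ x, Algebra.trace F K (σ x) = Algebra.trace F K x := fun x => by
    rw [hσ0]
    exact Algebra.trace_eq_of_algEquiv (FiniteField.frobeniusAlgEquivOfAlgebraic F K ^ (k + 1) : K ≃ₐ[F] K) x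
  obtain ⟨g, hg⟩ := IsCyclic.exists_ofOrder_eq_natCard (α := Kˣ)
  rw [Nat.card_units, Nat.card_eq_fintype_card, hKQ] at hg
  obtain ⟨c, hc⟩ : ∃ c : K, c + σ c = 1 := by
    obtain ⟨θ, hθ⟩ : ∃ θ : K, θ + σ θ ≠ 0 := by
      by_contra hcon
      push Not at hcon
      have h1 := hcon 1
      rw [map_one] at h1
      have h3 : σ (g : K) = (g : K) := by
        have h4 := hcon (g : K)
        linear_combination h4 - (g : K) * h1
      rw [hσ, ← Units.val_pow_eq_pow_val, ← Units.ext_iff] at h3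
      have h5 : g ^ (Q - 1) = 1 := mul_right_cancel (b := g) (by rw [← pow_succ, Nat.sub_add_cancel (by omega), h3, one_mul])
      have h6 := Nat.le_of_dvd (by omega) (orderOf_dvd_iff_pow_eq_one.2 h5)
      rw [hg] at h6
      have : 2 * Q ≤ Q * Q := Nat.mul_le_mul_right Q hQ2
      omega
    refine ⟨θ / (θ + σ θ), ?_⟩
    rw [map_div₀, map_add, hσσ, add_comm (σ θ) θ, ← add_div, div_self hθ]
  let B : LinearMap.BilinMap F K F := (Algebra.traceForm F K).compl₁₂ (LinearMap.mulLeft F c) σ.toLinearMap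
  obtain ⟨P, hP⟩ : ∃ P : QuadraticForm F K, P = B.toQuadraticMap := ⟨_, rfl⟩
  have hPx : ∀ x, P x = Algebra.trace F K (c * (x * σ x)) := fun x => by
    rw [hP]; simp [B, Algebra.traceForm_apply, mul_assoc]
  have hpol : ∀ x y : K, QuadraticMap.polar ⇑P x y = Algebra.trace F K (x * σ y) := fun x y => by
    simp only [QuadraticMap.polar, hPx, map_add, add_mul, mul_add]
    rw [← htr (c * (y * σ x)), map_mul σ, map_mul σ, hσσ]
    have h : Algebra.trace F K (c * (x * σ y)) + Algebra.trace F K (σ c * (σ y * x)) = Algebra.trace F K (x * σ y) := by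
      rw [← map_add]
      congr 1
      linear_combination (x * σ y) * hc
    linear_combination h
  have hPnd : (QuadraticMap.polarBilin P).Nondegenerate := by
    have key' : ∀ x : K, (∀ y, QuadraticMap.polar ⇑P x y = 0) → x = 0 := fun x hx =>
      (traceForm_nondegenerate F K).1 _ fun z => by
        have := hx (σ z)
        rw [hpol, hσσ] at this
        rwa [Algebra.traceForm_apply]
    exact ⟨key', fun y hy => key' y fun x => (QuadraticMap.polar_comm _ y x).trans (hy x)⟩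
  have hnorm : ∀ u : K, u ^ (Q + 1) = 1 → ∀ x, P (u * x) = P x := fun u hu x => by
    rw [hPx, hPx, map_mul σ, hσ u, mul_mul_mul_comm, ← pow_succ', hu, one_mul]
  obtain ⟨w, hw⟩ : ∃ w : Kˣ, orderOf w = r := by
    refine ⟨_, orderOf_pow_orderOf_div (orderOf_pos g).ne' (hg ▸ ?_)⟩
    rw [← hQ] at hdvd
    exact hdvd.trans ⟨Q - 1, by rw [← Nat.sq_sub_sq, one_pow, sq]⟩
  have hwQ : (w : K) ^ (Q + 1) = 1 := by
    rw [← Units.val_pow_eq_pow_val, orderOf_dvd_iff_pow_eq_one.1 (by rw [hw, hQ]; exact hdvd), Units.val_one]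
  have hw1 : (w : K) - 1 ≠ 0 := fun h => by
    rw [sub_eq_zero, Units.val_eq_one] at h
    rw [h, orderOf_one] at hw
    exact (Fact.out : r.Prime).one_lt.ne hw
  -- the number of zeros
  obtain ⟨C, hC⟩ : ∃ C : Subgroup Kˣ, C = Subgroup.zpowers (g ^ (Q - 1)) := ⟨_, rfl⟩
  have hQQ : Q * Q - 1 = (Q + 1) * (Q - 1) := by rw [← Nat.sq_sub_sq, one_pow, sq]
  have hCo : orderOf (g ^ (Q - 1)) = Q + 1 := by
    rw [orderOf_pow, hg, Nat.gcd_eq_right ⟨Q + 1, by rw [hQQ, mul_comm]⟩, hQQ, Nat.mul_div_cancel _ (by omega)]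
  have hzeros : ∃ s : ℕ, Nat.card {x : K // P x = 0} = 1 + (Q + 1) * s := by
    obtain ⟨T, hT⟩ : ∃ T : Set (Kˣ ⧸ C), T = QuotientGroup.mk '' {u : Kˣ | P (u : K) = 0} := ⟨_, rfl⟩
    have hpre : (QuotientGroup.mk : Kˣ → Kˣ ⧸ C) ⁻¹' T = {u : Kˣ | P (u : K) = 0} := by
      refine Set.Subset.antisymm (fun u hu => ?_) (fun u hu => hT ▸ ⟨u, hu, rfl⟩)
      rw [Set.mem_preimage, hT] at hu
      obtain ⟨v, hv, hvu⟩ := hu
      rw [QuotientGroup.eq, hC] at hvu
      obtain ⟨j, hj⟩ := Subgroup.mem_zpowers_iff.1 hvu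
      have hu1 : u = v * (g ^ (Q - 1)) ^ j := by rw [hj, mul_inv_cancel_left]
      show P (u : K) = 0
      have hj1 : (((g ^ (Q - 1)) ^ j : Kˣ) : K) ^ (Q + 1) = 1 := by
        rw [← Units.val_pow_eq_pow_val, ← zpow_natCast, ← zpow_mul, mul_comm j, zpow_mul, zpow_natCast, ← hCo,
          pow_orderOf_eq_one, one_zpow, Units.val_one]
      refine Eq.trans ?_ hv
      refine Eq.trans (congrArg (fun y : K => P y) ?_) (hnorm _ hj1 _)
      rw [hu1, Units.val_mul, mul_comm]
    refine ⟨Nat.card T, ?_⟩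
    have h1 : Nat.card {u : Kˣ // P (u : K) = 0} = (Q + 1) * Nat.card T := by
      have h2 : Nat.card C = Q + 1 := by rw [hC, Nat.card_zpowers, hCo]
      have h := Nat.card_congr (QuotientGroup.preimageMkEquivSubgroupProdSet C T)
      rw [hpre, Nat.card_prod, h2] at h
      exact h
    have e : {x : K // P x = 0} ≃ Option {u : Kˣ // P (u : K) = 0} :=
      { toFun := fun x => if h : x.1 = 0 then none else some ⟨Units.mk0 x.1 h, x.2⟩
        invFun := fun o => o.elim ⟨0, map_zero P⟩ fun u => ⟨u.1, u.2⟩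
        left_inv := fun x => by
          by_cases h : x.1 = 0
          · simp [h, Subtype.ext_iff]
          · simp [h]
        right_inv := fun o => by
          rcases o with _ | u
          · simp
          · simp }
    rw [Nat.card_congr e, Finite.card_option, h1]; omega
  rcases CfsgLib.Orth.FieldCls.exists_even_normal P hPnd (k := k) hfin hab with ⟨L, hL, hLP⟩ | ⟨L, hL, hLP⟩
  · exfalso
    let Le := LinearMap.linearEquivOfInjective L hL (by
      rw [Module.finrank_fintype_fun_eq_card, Fintype.card_sum, Fintype.card_fin, hfin]; omega)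
    have hcard := CfsgLib.Classical.card_sing_plus (F := F) k
    rw [Nat.card_congr (Le.toEquiv.subtypeEquiv (p := fun v => Cfsg.quadFormPlus (k + 1) F v = 0)
      (q := fun x => P x = 0) fun v => by rw [← hLP]; exact Iff.rfl)] at hcard
    obtain ⟨s, hs⟩ := hzeros
    rw [hs, ← hq] at hcard
    push_cast at hcard
    rcases Nat.eq_zero_or_pos k with hk | hk
    · subst hk
      have hzero : Nat.card {x : K // P x = 0} = 1 := by
        rw [Nat.card_eq_one_iff_unique]
        refine ⟨⟨fun x y => Subtype.ext ?_⟩, ⟨⟨0, map_zero P⟩⟩⟩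
        have h0 : ∀ x : K, P x = 0 → x = 0 := fun x hx => by
          have htrz : ∀ z : K, algebraMap F K (Algebra.trace F K z) = z + σ z := fun z => by
            rw [FiniteField.algebraMap_trace_eq_sum_pow, hfin]
            simp [Finset.sum_range_succ, hσ, hQ, hq]
          have h := htrz (c * (x * σ x))
          rw [← hPx, hx, map_zero, map_mul σ, map_mul σ, hσσ, mul_comm (σ x) x, ← add_mul, hc, one_mul, eq_comm,
            mul_eq_zero, hσ, pow_eq_zero_iff (by omega), or_self] at h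
          exact h
        rw [h0 _ x.2, h0 _ y.2]
      have hs0 : s = 0 := by
        rcases Nat.eq_zero_or_pos s with h | h
        · exact h
        · have := Nat.mul_pos (show 0 < Q + 1 by omega) h; omega
      subst hs0
      simp only [Nat.cast_zero, mul_zero, add_zero, zero_add, pow_one, pow_zero] at hcard
      omega
    have hd : ((Q : ℤ) + 1) ∣ ((Q : ℤ) - 1) * ((q : ℤ) ^ k + 1) := ⟨(s : ℤ), by
      rw [hQ]; push_cast
      rw [hQ] at hcard
      push_cast at hcard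
      rw [show 2 * k + 1 = (k + 1) + k by ring, pow_add] at hcard
      linear_combination -hcard⟩
    have hd2 : (Q : ℤ) + 1 ∣ 2 * ((q : ℤ) ^ k + 1) := by
      have := dvd_sub (Dvd.intro ((q : ℤ) ^ k + 1) rfl : (Q : ℤ) + 1 ∣ ((Q : ℤ) + 1) * ((q : ℤ) ^ k + 1)) hd
      rwa [← sub_mul, add_sub_sub_cancel, one_add_one_eq_two] at this
    have hd3 : Q + 1 ∣ 2 * (q ^ k + 1) := by exact_mod_cast hd2
    have hQq : Q = q * q ^ k := by rw [hQ, pow_succ']
    rcases Nat.lt_or_ge 2 q with h | h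
    · have := Nat.le_of_dvd (by positivity) hd3
      have h3 : 3 * q ^ k ≤ q * q ^ k := Nat.mul_le_mul_right _ h
      have h4 : 3 ≤ q ^ k := le_trans h (Nat.le_self_pow hk.ne' q)
      omega
    · have hq' : q = 2 := by omega
      rw [hq'] at hd3 hQq
      have h5 := Nat.dvd_sub hd3 dvd_rfl
      rw [show 2 * (2 ^ k + 1) - (Q + 1) = 1 by omega, Nat.dvd_one] at h5
      omega
  · let Le := LinearMap.linearEquivOfInjective L hL (by
      rw [Module.finrank_fintype_fun_eq_card, Fintype.card_sum, Fintype.card_sum, Fintype.card_fin, Fintype.card_fin, hfin]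
      omega)
    obtain ⟨f, hf⟩ : ∃ f : Module.End F (((Fin k ⊕ Fin k) ⊕ Fin 2) → F),
        f = Le.symm.conj (LinearMap.mulLeft F (w : K)) := ⟨_, rfl⟩
    have hfapp : ∀ v, f v = Le.symm ((w : K) * Le v) := fun v => by rw [hf]; rfl
    have hfpow : ∀ (j : ℕ) v, (f ^ j) v = Le.symm ((w : K) ^ j * Le v) := fun j => by
      induction j with
      | zero => intro v; simp
      | succ j ih => intro v; rw [pow_succ', Module.End.mul_apply, ih, hfapp, Le.apply_symm_apply, pow_succ', mul_assoc]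
    have hfr : f ^ r = 1 := LinearMap.ext fun v => by
      rw [hfpow, ← hw, ← Units.val_pow_eq_pow_val, pow_orderOf_eq_one, Units.val_one, one_mul, Le.symm_apply_apply]
      rfl
    have hXr : LinearMap.toMatrix' f ^ r = 1 := Matrix.toLin'.injective (by
      rw [Matrix.toLin'_pow, Matrix.toLin'_toMatrix', hfr, Matrix.toLin'_one]; rfl)
    refine ⟨(IsUnit.of_pow_eq_one hXr (Fact.out : r.Prime).ne_zero).unit,
      CfsgLib.Classical.mem_isometryGroup_iff.2 fun v => ?_, Units.ext (by simp [hXr]), fun v hv => ?_⟩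
    · rw [IsUnit.unit_spec, LinearMap.toMatrix'_mulVec, hfapp, ← hLP, ← hLP]
      show P (Le (Le.symm _)) = P (Le v)
      rw [Le.apply_symm_apply, hnorm _ hwQ]
    · rw [IsUnit.unit_spec, LinearMap.toMatrix'_mulVec, hfapp, LinearEquiv.symm_apply_eq] at hv
      exact Le.map_eq_zero_iff.1 ((mul_eq_zero.1 (show ((w : K) - 1) * Le v = 0 by
        rw [sub_mul, one_mul, hv, sub_self])).resolve_left hw1)

omit [Fact r.Prime] in
/-- nonsingular points against nonsingular vectors -/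
theorem card_points_mul {ι : Type} [Fintype ι] [DecidableEq ι] (Q : (ι → F) → F)
    (hsmul : ∀ (c : F) v, Q (c • v) = c ^ 2 * Q v) :
    Nat.card {W : Submodule F (ι → F) // Module.finrank F ↥W = 1 ∧ ∃ v ∈ W, Q v ≠ 0} * (Fintype.card F - 1) =
      Nat.card {v : ι → F // Q v ≠ 0} := by
  classical
  have h0 : Q 0 = 0 := by
    have := hsmul 0 0
    simpa using this
  have hne : ∀ v : ι → F, Q v ≠ 0 → v ≠ 0 := fun v hv h => hv (h ▸ h0)
  let f : {v : ι → F // Q v ≠ 0} → {W : Submodule F (ι → F) // Module.finrank F ↥W = 1 ∧ ∃ v ∈ W, Q v ≠ 0} :=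
    fun v => ⟨Submodule.span F {v.1}, finrank_span_singleton (hne _ v.2), v.1, Submodule.mem_span_singleton_self _, v.2⟩
  have hfib : ∀ W, Nat.card {v // f v = W} = Fintype.card F - 1 := by
    rintro ⟨W, hW1, v, hv, hQv⟩
    have hspan : Submodule.span F {v} = W := Submodule.eq_of_le_of_finrank_eq
      ((Submodule.span_singleton_le_iff_mem _ _).2 hv) (by rw [finrank_span_singleton (hne v hQv), hW1])
    have e : Fˣ ≃ {u // f u = ⟨W, hW1, v, hv, hQv⟩} :=
      Equiv.ofBijective (fun c => ⟨⟨(c : F) • v, by rw [hsmul]; exact mul_ne_zero (pow_ne_zero _ c.ne_zero) hQv⟩,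
        Subtype.ext ((Submodule.span_singleton_smul_eq c.isUnit v).trans hspan)⟩)
        ⟨fun c c' h => Units.ext (smul_left_injective F (hne v hQv) (congrArg (fun x => x.1.1) h)), fun u => by
          obtain ⟨⟨u, hu⟩, hfu⟩ := u
          have hmem : u ∈ Submodule.span F {v} := by
            rw [hspan]
            have hval : Submodule.span F {u} = W := congrArg Subtype.val hfu
            rw [← hval]
            exact Submodule.mem_span_singleton_self u
          obtain ⟨c, hc⟩ := Submodule.mem_span_singleton.1 hmem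
          exact ⟨Units.mk0 c (fun h => hne u hu (by rw [← hc, h, zero_smul])), Subtype.ext (Subtype.ext hc)⟩⟩
    rw [← Nat.card_congr e, Nat.card_units, Nat.card_eq_fintype_card]
  haveI := Fintype.ofFinite {W : Submodule F (ι → F) // Module.finrank F ↥W = 1 ∧ ∃ v ∈ W, Q v ≠ 0}
  rw [Nat.card_congr (Equiv.sigmaFiberEquiv f).symm, Nat.card_sigma, Finset.sum_congr rfl fun W _ => hfib W,
    Finset.sum_const, Finset.card_univ, smul_eq_mul, Nat.card_eq_fintype_card]

end CfsgLib.Perm.Elusive
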