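import Mathlib
import Cfsg.Agent.Lib.IsometryConj.OrthEmbedding
import Cfsg.Agent.Lib.Orth.Aut.StdForms
import Cfsg.Agent.Lib.Perm.Elusive.SympPrime

/-!
# Plus and minus types of nondegenerate subspaces of a quadratic space over a finite field
-/

set_option autoImplicit false
set_option linter.all false

namespace CfsgLib.Perm.Elusive

open CfsgLib.Classical

variable {F : Type*} [Field F] [Fintype F] {V : Type*} [AddCommGroup V] [Module F V] [FiniteDimensional F V]

/-- the polar form as a bilinear form -/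
noncomputable def qB (Q : QuadraticForm F V) : LinearMap.BilinForm F V := QuadraticMap.polarBilin Q

theorem qB_apply (Q : QuadraticForm F V) (u v : V) : qB Q u v = QuadraticMap.polar Q u v := rfl

/-- nondegenerate subspaces of a quadratic space -/
def QNd (Q : QuadraticForm F V) (W : Submodule F V) : Prop :=
  Disjoint W ((qB Q).orthogonal W)

/-- subspaces with a totally singular half -/
def QPlus (Q : QuadraticForm F V) (W : Submodule F V) : Prop :=
  ∃ U ≤ W, (∀ u ∈ U, Q u = 0) ∧ 2 * Module.finrank F U = Module.finrank F W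

theorem polar_refl (Q : QuadraticForm F V) : (qB Q).IsRefl :=
  fun u v h => by
    show QuadraticMap.polar Q v u = 0
    rw [QuadraticMap.polar_comm]
    exact h

theorem qnd_iff (Q : QuadraticForm F V) (W : Submodule F V) :
    QNd Q W ↔ ∀ u ∈ W, u ≠ 0 → ∃ v ∈ W, QuadraticMap.polar Q u v ≠ 0 :=
  disjoint_orth_iff (polar_refl Q) W

theorem qnd_restrict {Q : QuadraticForm F V} {W : Submodule F V} (hW : QNd Q W) :
    (QuadraticMap.polarBilin (Q.comp W.subtype)).Nondegenerate := by
  have key : ∀ u : W, (∀ v, QuadraticMap.polar (Q.comp W.subtype) u v = 0) → u = 0 := fun u hu => by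
    by_contra hne
    obtain ⟨v, hv, h⟩ := (qnd_iff Q W).1 hW u u.2 fun h => hne (Subtype.ext h)
    refine h ?_
    have := hu ⟨v, hv⟩
    simpa [QuadraticMap.polar] using this
  exact ⟨key, fun v hv => key v fun u => (QuadraticMap.polar_comm _ v u).trans (hv u)⟩

theorem qnd_bot (Q : QuadraticForm F V) : QNd Q ⊥ := disjoint_bot_left

theorem qnd_top {Q : QuadraticForm F V} (hN : (QuadraticMap.polarBilin Q).Nondegenerate) : QNd Q ⊤ := by
  rw [qnd_iff]
  intro u _ hu
  by_contra h
  push Not at h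
  exact hu (hN.1 u fun v => h v Submodule.mem_top)

theorem qplus_bot (Q : QuadraticForm F V) : QPlus Q ⊥ :=
  ⟨⊥, le_rfl, fun u hu => by rw [(Submodule.mem_bot F).1 hu, map_zero], by simp⟩

/-- images of nondegenerate forms -/
theorem qnd_range {U : Type*} [AddCommGroup U] [Module F U] {Q : QuadraticForm F V} {S : QuadraticForm F U}
    (hS : (QuadraticMap.polarBilin S).Nondegenerate) (L : U →ₗ[F] V) (hL : ∀ v, Q (L v) = S v) :
    Function.Injective L ∧ QNd Q (LinearMap.range L) := by
  have hp : ∀ x y, QuadraticMap.polar Q (L x) (L y) = QuadraticMap.polar S x y := fun x y => by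
    simp only [QuadraticMap.polar, ← map_add, hL]
  refine ⟨(injective_iff_map_eq_zero L).2 fun x hx => hS.1 x fun y => ?_, (qnd_iff Q _).2 ?_⟩
  · show QuadraticMap.polar S x y = 0
    rw [← hp, hx]
    simp [QuadraticMap.polar]
  · rintro _ ⟨x, rfl⟩ hx
    by_contra h
    push Not at h
    refine hx ?_
    rw [hS.1 x fun y => (hp x y).symm.trans (h _ ⟨y, rfl⟩), map_zero]

/-- the two normal forms -/
theorem qplus_cases {Q : QuadraticForm F V} {W : Submodule F V} (hW : QNd Q W) {k : ℕ}
    (hd : Module.finrank F W = 2 * (k + 1)) {a b : F}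
    (hab : ∀ z₁ z₂ : F, z₁ ^ 2 + a * z₁ * z₂ + b * z₂ ^ 2 = 0 → z₁ = 0 ∧ z₂ = 0) :
    (QPlus Q W ∧ ∃ L : (Fin (k + 1) ⊕ Fin (k + 1) → F) ≃ₗ[F] W, ∀ v, Q (L v : V) = Cfsg.quadFormPlus (k + 1) F v) ∨
      (¬ QPlus Q W ∧
        ∃ L : ((Fin k ⊕ Fin k) ⊕ Fin 2 → F) ≃ₗ[F] W, ∀ v, Q (L v : V) = Cfsg.quadFormMinus k F a b v) := by
  classical
  rcases CfsgLib.Orth.FieldCls.exists_even_normal (Q.comp W.subtype) (qnd_restrict hW) hd hab with
    ⟨L, hi, hL⟩ | ⟨L, hi, hL⟩
  · have hfr : Module.finrank F (Fin (k + 1) ⊕ Fin (k + 1) → F) = Module.finrank F W := by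
      rw [hd, Module.finrank_fintype_fun_eq_card, Fintype.card_sum, Fintype.card_fin]; omega
    refine Or.inl ⟨?_, LinearMap.linearEquivOfInjective L hi hfr, fun v => hL v⟩
    let inc : (Fin (k + 1) → F) →ₗ[F] (Fin (k + 1) ⊕ Fin (k + 1) → F) :=
      { toFun := fun c => Sum.elim c 0
        map_add' := fun c d => by ext (i | i) <;> simp
        map_smul' := fun c d => by ext (i | i) <;> simp }
    have hinc : Function.Injective inc := fun c d e => funext fun i => congrFun e (.inl i)
    refine ⟨LinearMap.range (W.subtype.comp (L.comp inc)), ?_, ?_, ?_⟩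
    · rintro _ ⟨c, rfl⟩; exact (L (inc c)).2
    · rintro _ ⟨c, rfl⟩
      refine (hL (inc c)).trans ?_
      simp [Cfsg.quadFormPlus, inc]
    · have hc : Function.Injective (W.subtype.comp (L.comp inc)) := fun x y e => hinc (hi (Subtype.ext e))
      rw [LinearMap.finrank_range_of_inj hc,
        Module.finrank_fintype_fun_eq_card, Fintype.card_fin, hd]
  · have hfr : Module.finrank F ((Fin k ⊕ Fin k) ⊕ Fin 2 → F) = Module.finrank F W := by
      rw [hd, Module.finrank_fintype_fun_eq_card, Fintype.card_sum, Fintype.card_sum, Fintype.card_fin,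
        Fintype.card_fin]
      omega
    let e := LinearMap.linearEquivOfInjective L hi hfr
    refine Or.inr ⟨?_, e, fun v => hL v⟩
    rintro ⟨U, hUW, hU, hUd⟩
    have hle := CfsgLib.Orth.Aut.minus_ts_finrank_le (m := k) a b hab (U := (U.comap W.subtype).map e.symm.toLinearMap)
      (by
        rintro _ ⟨u, hu, rfl⟩
        rw [← hL]
        show Q (e (e.symm u) : V) = 0
        rw [e.apply_symm_apply]
        exact hU _ hu)
    rw [LinearEquiv.finrank_map_eq, LinearEquiv.finrank_eq (Submodule.comapSubtypeEquivOfLe hUW)] at hle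
    omega

/-- subspaces of the same type are isometric -/
theorem exists_iso_same {Q : QuadraticForm F V} {W W' : Submodule F V} (hW : QNd Q W) (hW' : QNd Q W') {h : ℕ}
    (hd : Module.finrank F W = 2 * h) (hd' : Module.finrank F W' = 2 * h) (ht : QPlus Q W ↔ QPlus Q W') :
    ∃ e : W ≃ₗ[F] W', ∀ w, Q (e w : V) = Q (w : V) := by
  rcases h with _ | k
  · have h0 : W = ⊥ := Submodule.finrank_eq_zero.1 (by simpa using hd)
    refine ⟨LinearEquiv.ofFinrankEq _ _ (hd.trans hd'.symm), fun w => ?_⟩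
    have h1 : W' = ⊥ := Submodule.finrank_eq_zero.1 (by simpa using hd')
    have e1 : (w : V) = 0 := (Submodule.mem_bot F).1 (h0.le w.2)
    have e2 : ((LinearEquiv.ofFinrankEq _ _ (hd.trans hd'.symm) : W ≃ₗ[F] W') w : V) = 0 :=
      (Submodule.mem_bot F).1 (h1.le (Subtype.coe_prop _))
    rw [e1, e2]
  obtain ⟨a, b, hab⟩ := CfsgLib.IsometryConj.exists_anisotropic_binary (F := F)
  rcases qplus_cases hW hd hab with ⟨hp, L, hL⟩ | ⟨hp, L, hL⟩ <;>
    rcases qplus_cases hW' hd' hab with ⟨hp', L', hL'⟩ | ⟨hp', L', hL'⟩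
  · exact ⟨L.symm.trans L', fun w => by
      rw [LinearEquiv.trans_apply, hL', ← hL, L.apply_symm_apply]⟩
  · exact absurd (ht.1 hp) hp'
  · exact absurd (ht.2 hp') hp
  · exact ⟨L.symm.trans L', fun w => by
      rw [LinearEquiv.trans_apply, hL', ← hL, L.apply_symm_apply]⟩

/-- subspaces of both types inside a larger nondegenerate subspace -/
theorem exists_sub_type {Q : QuadraticForm F V} {E : Submodule F V} (hE : QNd Q E) {h : ℕ} (h1 : 1 ≤ h)
    (hlt : 2 * h < Module.finrank F E) (b' : Prop) :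
    ∃ W ≤ E, QNd Q W ∧ Module.finrank F W = 2 * h ∧ (QPlus Q W ↔ b') := by
  classical
  obtain ⟨a, b, hab⟩ := CfsgLib.IsometryConj.exists_anisotropic_binary (F := F)
  obtain ⟨k, rfl⟩ : ∃ k, h = k + 1 := ⟨h - 1, by omega⟩
  by_cases hb : b'
  · obtain ⟨L, hL⟩ := CfsgLib.IsometryConj.exists_embed_plus (Q.comp E.subtype) (qnd_restrict hE) (d := k + 1) (by omega)
    obtain ⟨hi, hR⟩ := qnd_range (plusQ_nondeg (F := F) (k + 1)) (Q := Q) (E.subtype.comp L)
      (fun v => by rw [plusQ_coe]; exact hL v)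
    refine ⟨_, by rintro _ ⟨v, rfl⟩; exact (L v).2, hR, ?_, iff_of_true ?_ hb⟩
    · rw [LinearMap.finrank_range_of_inj hi, Module.finrank_fintype_fun_eq_card, Fintype.card_sum, Fintype.card_fin]
      omega
    · rcases qplus_cases hR (k := k) (by
        rw [LinearMap.finrank_range_of_inj hi, Module.finrank_fintype_fun_eq_card, Fintype.card_sum, Fintype.card_fin]
        omega) hab with ⟨hp, -⟩ | ⟨hp, M, hM⟩
      · exact hp
      · exfalso
        let e := LinearEquiv.ofInjective (E.subtype.comp L) hi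
        have hMe : ∀ w, Cfsg.quadFormMinus k F a b (M.symm (e w)) = Cfsg.quadFormPlus (k + 1) F w := fun w => by
          rw [← hM, M.apply_symm_apply]; exact hL w
        let inc : (Fin (k + 1) → F) →ₗ[F] (Fin (k + 1) ⊕ Fin (k + 1) → F) :=
          { toFun := fun c => Sum.elim c 0
            map_add' := fun c d => by ext (i | i) <;> simp
            map_smul' := fun c d => by ext (i | i) <;> simp }
        have hinc : Function.Injective inc := fun c d e => funext fun i => congrFun e (.inl i)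
        have hle := CfsgLib.Orth.Aut.minus_ts_finrank_le (m := k) a b hab
          (U := LinearMap.range (M.symm.toLinearMap.comp (e.toLinearMap.comp inc))) (by
          rintro _ ⟨c, rfl⟩
          refine (hMe (inc c)).trans ?_
          simp [Cfsg.quadFormPlus, inc])
        have hc : Function.Injective (M.symm.toLinearMap.comp (e.toLinearMap.comp inc)) := fun x y h =>
          hinc (e.injective (M.symm.injective h))
        rw [LinearMap.finrank_range_of_inj hc,
          Module.finrank_fintype_fun_eq_card, Fintype.card_fin] at hle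
        omega
  · obtain ⟨L, hL⟩ :=
      CfsgLib.IsometryConj.exists_embed_minus (Q.comp E.subtype) (qnd_restrict hE) (k := k) (by omega) hab
    obtain ⟨hi, hR⟩ := qnd_range (minusQ_nondeg (F := F) hab k) (Q := Q) (E.subtype.comp L)
      (fun v => by rw [minusQ_coe]; exact hL v)
    refine ⟨_, by rintro _ ⟨v, rfl⟩; exact (L v).2, hR, ?_, iff_of_false ?_ hb⟩
    · rw [LinearMap.finrank_range_of_inj hi, Module.finrank_fintype_fun_eq_card, Fintype.card_sum, Fintype.card_sum,
        Fintype.card_fin, Fintype.card_fin]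
      omega
    · rintro ⟨U, hU, hU0, hUd⟩
      let e := LinearEquiv.ofInjective (E.subtype.comp L) hi
      have hle := CfsgLib.Orth.Aut.minus_ts_finrank_le (m := k) a b hab
        (U := (U.comap (LinearMap.range (E.subtype.comp L)).subtype).map e.symm.toLinearMap) (by
        rintro _ ⟨u, hu, rfl⟩
        refine (hL (e.symm u)).symm.trans ?_
        show Q ((E.subtype.comp L) (e.symm u)) = 0
        rw [show (E.subtype.comp L) (e.symm u) = (e (e.symm u) : V) from rfl, e.apply_symm_apply]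
        exact hU0 _ hu)
      rw [LinearEquiv.finrank_map_eq, LinearEquiv.finrank_eq (Submodule.comapSubtypeEquivOfLe hU)] at hle
      rw [LinearMap.finrank_range_of_inj hi, Module.finrank_fintype_fun_eq_card, Fintype.card_sum, Fintype.card_sum,
        Fintype.card_fin, Fintype.card_fin] at hUd
      omega

/-- cancellation of a hyperbolic summand -/
theorem qplus_cancel {Q : QuadraticForm F V} {W W' : Submodule F V} (hW : QNd Q W) (hW' : QNd Q W')
    (ho : ∀ u ∈ W, ∀ v ∈ W', QuadraticMap.polar Q u v = 0) (hp : QPlus Q (W ⊔ W')) (hpW : QPlus Q W) :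
    QPlus Q W' := by
  classical
  obtain ⟨U, hU, hU0, hUd⟩ := hp
  obtain ⟨U₁, hU₁, hU₁0, hU₁d⟩ := hpW
  obtain ⟨B, hB⟩ : ∃ B : LinearMap.BilinForm F V, ∀ u v, B u v = QuadraticMap.polar Q u v :=
    ⟨QuadraticMap.polarBilin Q, fun u v => rfl⟩
  have hzero : ∀ {X : Submodule F V}, (∀ x ∈ X, Q x = 0) → ∀ x ∈ X, ∀ y ∈ X, B x y = 0 := fun {X} hX x hx y hy => by
    rw [hB, QuadraticMap.polar, hX _ (X.add_mem hx hy), hX x hx, hX y hy]; ring
  have hle : W' ≤ B.orthogonal W := fun v hv u hu => by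
    show B u v = 0
    rw [hB]; exact ho u hu v hv
  have hdisj : Disjoint W W' := by
    exact Disjoint.mono_right (show W' ≤ (qB Q).orthogonal W from fun v hv u hu => ho u hu v hv) hW
  have hsum : Module.finrank F (W ⊔ W' : Submodule F V) = Module.finrank F W + Module.finrank F W' := by
    have h := Submodule.finrank_sup_add_finrank_inf_eq W W'
    rwa [hdisj.eq_bot, finrank_bot, add_zero] at h
  -- the part of `U` orthogonal to `U₁`
  let ψ : U →ₗ[F] Module.Dual F U₁ :=
    { toFun := fun u => (B (u : V)).comp U₁.subtype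
      map_add' := fun u v => LinearMap.ext fun x => by simp
      map_smul' := fun c u => LinearMap.ext fun x => by simp }
  have hrange : LinearMap.range ψ ≤ Submodule.dualAnnihilator ((U ⊓ U₁).comap U₁.subtype) := by
    rintro _ ⟨u, rfl⟩
    rw [Submodule.mem_dualAnnihilator]
    intro x hx
    exact hzero hU0 (u : V) u.2 (x : V) hx.1
  obtain ⟨T₀, hT₀⟩ : ∃ T₀, T₀ = (LinearMap.ker ψ).map U.subtype := ⟨_, rfl⟩
  have hT₀m : ∀ x, x ∈ T₀ ↔ x ∈ U ∧ ∀ y ∈ U₁, B x y = 0 := fun x => by
    rw [hT₀]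
    constructor
    · rintro ⟨u, hu, rfl⟩
      refine ⟨u.2, fun y hy => ?_⟩
      exact LinearMap.congr_fun (LinearMap.mem_ker.1 hu) ⟨y, hy⟩
    · rintro ⟨hx, hxy⟩
      exact ⟨⟨x, hx⟩, LinearMap.mem_ker.2 (LinearMap.ext fun y => hxy y y.2), rfl⟩
  have hT₀d : Module.finrank F U + Module.finrank F (U ⊓ U₁ : Submodule F V) ≤
      Module.finrank F T₀ + Module.finrank F U₁ := by
    have h1 := LinearMap.finrank_range_add_finrank_ker ψ
    have h2 := Submodule.finrank_mono hrange
    have h3 := Subspace.finrank_add_finrank_dualAnnihilator_eq ((U ⊓ U₁).comap U₁.subtype)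
    rw [LinearEquiv.finrank_eq (Submodule.comapSubtypeEquivOfLe (inf_le_right : U ⊓ U₁ ≤ U₁))] at h3
    rw [hT₀, Submodule.finrank_map_subtype_eq]
    omega
  obtain ⟨T, hT⟩ : ∃ T, T = T₀ ⊔ U₁ := ⟨_, rfl⟩
  have hTd : Module.finrank F U ≤ Module.finrank F T := by
    have h := Submodule.finrank_sup_add_finrank_inf_eq T₀ U₁
    have h2 := Submodule.finrank_mono (show T₀ ⊓ U₁ ≤ U ⊓ U₁ from inf_le_inf_right _ fun x hx => ((hT₀m x).1 hx).1)
    rw [← hT] at h
    omega
  have hTm : ∀ t ∈ T, t ∈ W ⊔ W' ∧ Q t = 0 ∧ ∀ y ∈ U₁, B t y = 0 := by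
    intro t ht
    rw [hT] at ht
    obtain ⟨x, hx, y, hy, rfl⟩ := Submodule.mem_sup.1 ht
    obtain ⟨hxU, hxo⟩ := (hT₀m x).1 hx
    refine ⟨Submodule.add_mem _ (hU hxU) (Submodule.mem_sup_left (hU₁ hy)), ?_, fun z hz => ?_⟩
    · have h := hxo y hy
      rw [hB, QuadraticMap.polar, hU0 x hxU, hU₁0 y hy, sub_zero, sub_zero] at h
      exact h
    · rw [map_add, LinearMap.add_apply, hxo z hz, hzero hU₁0 y hy z hz, add_zero]
  -- inside `W` only `U₁` is orthogonal to `U₁`
  have hlag : ∀ w ∈ W, (∀ y ∈ U₁, B w y = 0) → w ∈ U₁ := by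
    obtain ⟨P, hP⟩ : ∃ P : LinearMap.BilinForm F W, ∀ u v : W, P u v = B u v :=
      ⟨B.compl₁₂ W.subtype W.subtype, fun u v => rfl⟩
    have hPn : P.Nondegenerate := by
      have key : ∀ u : W, (∀ v, P u v = 0) → u = 0 := fun u hu => by
        by_contra hne
        obtain ⟨v, hv, h⟩ := (qnd_iff Q W).1 hW u u.2 fun h => hne (Subtype.ext h)
        exact h ((hB _ _).symm.trans ((hP _ ⟨v, hv⟩).symm.trans (hu _)))
      exact ⟨key, fun v hv => key v fun u => by
        rw [hP, hB, QuadraticMap.polar_comm, ← hB, ← hP]; exact hv u⟩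
    intro w hw hwy
    have h1 : U₁.comap W.subtype ≤ P.orthogonal (U₁.comap W.subtype) := fun x hx y hy => by
      show P y x = 0
      rw [hP]; exact hzero hU₁0 _ hy _ hx
    have h2 := LinearMap.BilinForm.finrank_orthogonal hPn (U₁.comap W.subtype)
    rw [LinearEquiv.finrank_eq (Submodule.comapSubtypeEquivOfLe hU₁)] at h2
    have h3 := Submodule.eq_of_le_of_finrank_eq h1 (by
      rw [h2, LinearEquiv.finrank_eq (Submodule.comapSubtypeEquivOfLe hU₁)]; omega)
    have h4 : (⟨w, hw⟩ : W) ∈ P.orthogonal (U₁.comap W.subtype) := fun y hy => by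
      show P y ⟨w, hw⟩ = 0
      rw [hP, hB, QuadraticMap.polar_comm, ← hB]
      exact hwy _ hy
    rw [← h3] at h4
    exact h4
  refine ⟨T ⊓ W', inf_le_right, fun t ht => (hTm t ht.1).2.1, ?_⟩
  have hsplit : T ≤ U₁ ⊔ (T ⊓ W') := by
    intro t ht
    obtain ⟨htS, -, hto⟩ := hTm t ht
    obtain ⟨w, hw, w', hw', rfl⟩ := Submodule.mem_sup.1 htS
    have hwU : w ∈ U₁ := hlag w hw fun y hy => by
      have h := hto y hy
      rw [map_add, LinearMap.add_apply] at h
      have h' : B w' y = 0 := by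
        rw [hB, QuadraticMap.polar_comm]
        exact ho y (hU₁ hy) w' hw'
      rwa [h', add_zero] at h
    refine Submodule.add_mem_sup hwU ⟨?_, hw'⟩
    have h := T.sub_mem ht (hT ▸ Submodule.mem_sup_right hwU : w ∈ T)
    rwa [add_sub_cancel_left] at h
  have h5 := (Submodule.finrank_mono hsplit).trans (Submodule.finrank_add_le_finrank_add_finrank _ _)
  have h6 : 2 * Module.finrank F (T ⊓ W' : Submodule F V) ≤ Module.finrank F W' := by
    have hTW : T ⊓ W' ≤ U₁ ⊔ (T ⊓ W') := le_sup_right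
    obtain ⟨P, hP⟩ : ∃ P, P = U₁ ⊔ (T ⊓ W') := ⟨_, rfl⟩
    by_contra hlt
    -- a totally singular subspace of the nondegenerate sum is at most half
    have hS : QNd Q (W ⊔ W') → False := by
      intro hS
      have hP0 : ∀ x ∈ P, Q x = 0 := fun x hx => by
        refine (hTm x ?_).2.1
        rw [hP] at hx
        exact (show U₁ ⊔ (T ⊓ W') ≤ T from sup_le (hT ▸ le_sup_right) inf_le_left) hx
      have hPS : P ≤ W ⊔ W' := hP ▸ sup_le (hU₁.trans le_sup_left) (inf_le_right.trans le_sup_right)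
      obtain ⟨R, hR⟩ : ∃ R : LinearMap.BilinForm F (W ⊔ W' : Submodule F V), ∀ u v : (W ⊔ W' : Submodule F V),
          R u v = B u v := ⟨B.compl₁₂ (W ⊔ W').subtype (W ⊔ W').subtype, fun u v => rfl⟩
      have hRn : R.Nondegenerate := by
        have key : ∀ u : (W ⊔ W' : Submodule F V), (∀ v, R u v = 0) → u = 0 := fun u hu => by
          by_contra hne
          obtain ⟨v, hv, h⟩ := (qnd_iff Q _).1 hS u u.2 fun h => hne (Subtype.ext h)
          exact h ((hB _ _).symm.trans ((hR _ ⟨v, hv⟩).symm.trans (hu _)))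
        exact ⟨key, fun v hv => key v fun u => by
          rw [hR, hB, QuadraticMap.polar_comm, ← hB, ← hR]; exact hv u⟩
      have h7 : P.comap (W ⊔ W').subtype ≤ R.orthogonal (P.comap (W ⊔ W').subtype) := fun x hx y hy => by
        show R y x = 0
        rw [hR]; exact hzero hP0 _ hy _ hx
      have h8 := Submodule.finrank_mono h7
      rw [LinearMap.BilinForm.finrank_orthogonal hRn, LinearEquiv.finrank_eq (Submodule.comapSubtypeEquivOfLe hPS)] at h8
      have h9 : Module.finrank F U₁ + Module.finrank F (T ⊓ W' : Submodule F V) ≤ Module.finrank F P := by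
        have h := Submodule.finrank_sup_add_finrank_inf_eq U₁ (T ⊓ W')
        rw [(hdisj.mono hU₁ inf_le_right).eq_bot, finrank_bot, add_zero, ← hP] at h
        omega
      omega
    exact hS (sup_nd (polar_refl Q) hW hW' fun v hv u hu => ho u hu v hv)
  omega

theorem finrank_sup_polar {Q : QuadraticForm F V} {W W' : Submodule F V} (hW : QNd Q W)
    (ho : ∀ u ∈ W, ∀ v ∈ W', QuadraticMap.polar Q u v = 0) :
    Module.finrank F (W ⊔ W' : Submodule F V) = Module.finrank F W + Module.finrank F W' :=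
  finrank_sup_orth hW fun v hv u hu => ho u hu v hv

/-- two minus types make a plus type -/
theorem qplus_minus_minus {Q : QuadraticForm F V} {W W' : Submodule F V} (hW : QNd Q W) (hW' : QNd Q W')
    (ho : ∀ u ∈ W, ∀ v ∈ W', QuadraticMap.polar Q u v = 0) {h h' : ℕ} (hd : Module.finrank F W = 2 * h)
    (hd' : Module.finrank F W' = 2 * h') (hp : ¬ QPlus Q W) (hp' : ¬ QPlus Q W') : QPlus Q (W ⊔ W') := by
  classical
  have hpos : ∀ {X : Submodule F V}, ¬ QPlus Q X → 0 < Module.finrank F X := fun {X} hX =>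
    Nat.pos_of_ne_zero fun h0 => hX (by rw [Submodule.finrank_eq_zero.1 h0]; exact qplus_bot Q)
  obtain ⟨k, rfl⟩ : ∃ k, h = k + 1 := ⟨h - 1, by have := hpos hp; omega⟩
  obtain ⟨k', rfl⟩ : ∃ k', h' = k' + 1 := ⟨h' - 1, by have := hpos hp'; omega⟩
  obtain ⟨a, b, hab⟩ := CfsgLib.IsometryConj.exists_anisotropic_binary (F := F)
  obtain ⟨-, L, hL⟩ := (qplus_cases hW hd hab).resolve_left fun h => hp h.1
  have hneg : QNd (-Q) W' := by
    rw [qnd_iff]
    intro u hu hu0
    obtain ⟨v, hv, h⟩ := (qnd_iff Q W').1 hW' u hu hu0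
    refine ⟨v, hv, fun e => h ?_⟩
    simp only [QuadraticMap.polar, QuadraticMap.neg_apply] at e ⊢
    linear_combination -e
  obtain ⟨-, L', hL'⟩ := (qplus_cases hneg hd' hab).resolve_left fun h => hp' (by
    obtain ⟨U, h1, h2, h3⟩ := h.1
    exact ⟨U, h1, fun u hu => neg_eq_zero.1 (h2 u hu), h3⟩)
  let i₁ : ((Fin k → F) × (Fin k' → F)) × (Fin 2 → F) →ₗ[F] ((Fin k ⊕ Fin k) ⊕ Fin 2 → F) :=
    { toFun := fun x => Sum.elim (Sum.elim x.1.1 0) x.2
      map_add' := fun x y => by ext ((i | i) | i) <;> simp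
      map_smul' := fun c x => by ext ((i | i) | i) <;> simp }
  let i₂ : ((Fin k → F) × (Fin k' → F)) × (Fin 2 → F) →ₗ[F] ((Fin k' ⊕ Fin k') ⊕ Fin 2 → F) :=
    { toFun := fun x => Sum.elim (Sum.elim x.1.2 0) x.2
      map_add' := fun x y => by ext ((i | i) | i) <;> simp
      map_smul' := fun c x => by ext ((i | i) | i) <;> simp }
  obtain ⟨Φ, hΦ⟩ : ∃ Φ : ((Fin k → F) × (Fin k' → F)) × (Fin 2 → F) →ₗ[F] V,
      Φ = W.subtype.comp (L.toLinearMap.comp i₁) + W'.subtype.comp (L'.toLinearMap.comp i₂) := ⟨_, rfl⟩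
  have happ : ∀ x, Φ x = (L (i₁ x) : V) + (L' (i₂ x) : V) := fun x => by rw [hΦ]; rfl
  have hdisj : Disjoint W W' := Disjoint.mono_right (show W' ≤ (qB Q).orthogonal W from fun v hv u hu => ho u hu v hv) hW
  refine ⟨LinearMap.range Φ, ?_, ?_, ?_⟩
  · rintro _ ⟨x, rfl⟩
    rw [happ]
    exact Submodule.add_mem_sup (L _).2 (L' _).2
  · rintro _ ⟨x, rfl⟩
    have e2 : Q (L' (i₂ x) : V) = -Cfsg.quadFormMinus k' F a b (i₂ x) := by
      rw [← hL' (i₂ x), QuadraticMap.neg_apply, neg_neg]
    rw [happ, QuadraticMap.map_add (⇑Q), ho _ (L _).2 _ (L' _).2, hL, e2, add_zero]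
    simp [Cfsg.quadFormMinus, i₁, i₂]
  · have hinj : Function.Injective Φ := by
      refine (injective_iff_map_eq_zero Φ).2 fun x hx => ?_
      rw [happ] at hx
      have h1 : (L (i₁ x) : V) = 0 := Submodule.disjoint_def.1 hdisj _ (L _).2 (by
        rw [eq_neg_of_add_eq_zero_left hx]; exact W'.neg_mem (L' _).2)
      rw [h1, zero_add] at hx
      have e1 : i₁ x = 0 := L.map_eq_zero_iff.1 (Subtype.ext h1)
      have e2 : i₂ x = 0 := L'.map_eq_zero_iff.1 (Subtype.ext hx)
      refine Prod.ext (Prod.ext ?_ ?_) ?_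
      · exact funext fun i => congrFun e1 (.inl (.inl i))
      · exact funext fun i => congrFun e2 (.inl (.inl i))
      · exact funext fun i => congrFun e1 (.inr i)
    rw [LinearMap.finrank_range_of_inj hinj, finrank_sup_polar hW ho, hd, hd', Module.finrank_prod, Module.finrank_prod,
      Module.finrank_fintype_fun_eq_card, Module.finrank_fintype_fun_eq_card, Module.finrank_fintype_fun_eq_card,
      Fintype.card_fin, Fintype.card_fin, Fintype.card_fin]
    omega

/-- types multiply -/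
theorem qplus_sup_iff {Q : QuadraticForm F V} {W W' : Submodule F V} (hW : QNd Q W) (hW' : QNd Q W')
    (ho : ∀ u ∈ W, ∀ v ∈ W', QuadraticMap.polar Q u v = 0) {h h' : ℕ} (hd : Module.finrank F W = 2 * h)
    (hd' : Module.finrank F W' = 2 * h') : QPlus Q (W ⊔ W') ↔ (QPlus Q W ↔ QPlus Q W') := by
  have ho' : ∀ u ∈ W', ∀ v ∈ W, QuadraticMap.polar Q u v = 0 := fun u hu v hv =>
    (QuadraticMap.polar_comm Q u v).trans (ho v hv u hu)
  constructor
  · intro hp
    exact ⟨qplus_cancel hW hW' ho hp, qplus_cancel hW' hW ho' (sup_comm W W' ▸ hp)⟩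
  · intro hiff
    by_cases hp : QPlus Q W
    · obtain ⟨U, hU, hU0, hUd⟩ := hp
      obtain ⟨U', hU', hU'0, hU'd⟩ := hiff.1 ⟨U, hU, hU0, hUd⟩
      refine ⟨U ⊔ U', sup_le_sup hU hU', fun x hx => ?_, ?_⟩
      · obtain ⟨u, hu, u', hu', rfl⟩ := Submodule.mem_sup.1 hx
        rw [QuadraticMap.map_add (⇑Q), hU0 u hu, hU'0 u' hu', ho u (hU hu) u' (hU' hu'), add_zero, add_zero]
      · have h1 := Submodule.finrank_sup_add_finrank_inf_eq U U'
        have hdisj : Disjoint W W' := Disjoint.mono_right (show W' ≤ (qB Q).orthogonal W from fun v hv u hu => ho u hu v hv) hW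
        rw [(hdisj.mono hU hU').eq_bot, finrank_bot, add_zero] at h1
        rw [h1, finrank_sup_polar hW ho]
        omega
    · exact qplus_minus_minus hW hW' ho hd hd' hp fun h => hp (hiff.2 h)

end CfsgLib.Perm.Elusive
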