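import Mathlib
import Cfsg.Agent.Lib.Perm.Elusive.SympPrime
import Cfsg.Agent.Lib.Classical.SympCount

/-!
# Invariant totally isotropic subspaces of isometries of an alternating form

Inside a primary component the isotropic cyclic subspaces are found by Chevalley-Warning: the values
`B v (T^a v)` for few exponents `a` are quadratic forms in `v`.
-/

set_option autoImplicit false
set_option linter.all false

namespace CfsgLib.Perm.Elusive

open Polynomial

section Build

variable {F : Type*} [Field F] {V : Type*} [AddCommGroup V] [Module F V] [FiniteDimensional F V]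
variable {B : LinearMap.BilinForm F V}

/-- maps killed by a squarefree polynomial have invariant complements -/
theorem exists_invariant_complement (T : V →ₗ[F] V) {P : F[X]} (hP : Squarefree P) (h : aeval T P = 0)
    (W : Submodule F V) (hW : ∀ u ∈ W, T u ∈ W) :
    ∃ Q : Submodule F V, (∀ u ∈ Q, T u ∈ Q) ∧ IsCompl W Q := by
  obtain ⟨Q, hQ, hc⟩ := Module.End.isSemisimple_iff.1
    (Module.End.isSemisimple_of_squarefree_aeval_eq_zero hP h) W (fun u hu => hW u hu)
  exact ⟨Q, fun u hu => hQ hu, hc⟩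

/-- building isotropic invariant subspaces step by step -/
theorem exists_iso_invariant (hR : B.IsRefl) (hN : B.Nondegenerate) (T : V →ₗ[F] V)
    (hI : ∀ u v, B (T u) (T v) = B u v) (hinj : Function.Injective T)
    (hss : ∀ W : Submodule F V, (∀ u ∈ W, T u ∈ W) → ∃ Q : Submodule F V, (∀ u ∈ Q, T u ∈ Q) ∧ IsCompl W Q)
    {S : Submodule F V} (hS : ∀ u ∈ S, T u ∈ S) {w₀ c₀ : ℕ}
    (step : ∀ C ≤ S, (∀ u ∈ C, T u ∈ C) → c₀ < Module.finrank F C →
      ∃ W ≤ C, (∀ u ∈ W, T u ∈ W) ∧ (∀ u ∈ W, ∀ v ∈ W, B u v = 0) ∧ Module.finrank F W = w₀) :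
    ∀ j, (j = 0 ∨ 2 * w₀ * (j - 1) + c₀ < Module.finrank F S) →
      ∃ W ≤ S, (∀ u ∈ W, T u ∈ W) ∧ (∀ u ∈ W, ∀ v ∈ W, B u v = 0) ∧ Module.finrank F W = j * w₀ := by
  intro j
  induction j with
  | zero =>
    intro _
    exact ⟨⊥, bot_le, fun u hu => by rw [(Submodule.mem_bot F).1 hu, map_zero]; exact zero_mem _,
      fun u hu v _ => by rw [(Submodule.mem_bot F).1 hu, map_zero, LinearMap.zero_apply], by simp⟩
  | succ j ih =>
    intro hj
    replace hj := hj.resolve_left (Nat.succ_ne_zero j)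
    rw [Nat.add_sub_cancel] at hj
    obtain ⟨W, hWS, hW, hWiso, hWd⟩ := ih (by
      rcases j with _ | j
      · exact Or.inl rfl
      · refine Or.inr (lt_of_le_of_lt ?_ hj)
        gcongr
        omega)
    obtain ⟨Q, hQ, hc⟩ := hss W hW
    obtain ⟨C₀, hC₀⟩ : ∃ C₀, C₀ = B.orthogonal W ⊓ S := ⟨_, rfl⟩
    have hWC : W ≤ C₀ := hC₀ ▸ le_inf
      (fun u hu => LinearMap.BilinForm.mem_orthogonal_iff.2 fun v hv => hWiso v hv u hu) hWS
    have hC₀inv : ∀ u ∈ C₀, T u ∈ C₀ := by
      intro u hu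
      rw [hC₀] at hu ⊢
      exact ⟨orth_invariant hR hI hinj hW u hu.1, hS u hu.2⟩
    have hdim₀ : Module.finrank F S ≤ Module.finrank F C₀ + j * w₀ := by
      have h1 := Submodule.finrank_sup_add_finrank_inf_eq (B.orthogonal W) S
      rw [← hC₀, LinearMap.BilinForm.finrank_orthogonal hN, hWd] at h1
      have h2 := Submodule.finrank_le (B.orthogonal W ⊔ S)
      have h3 := Submodule.finrank_le W
      rw [hWd] at h3
      omega
    have hdim : Module.finrank F C₀ ≤ Module.finrank F (C₀ ⊓ Q : Submodule F V) + j * w₀ := by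
      have h1 := Submodule.finrank_sup_add_finrank_inf_eq C₀ Q
      have h2 := Submodule.finrank_le (C₀ ⊔ Q)
      have h3 := Submodule.finrank_add_eq_of_isCompl hc
      rw [hWd] at h3
      omega
    obtain ⟨W₀, hW₀C, hW₀, hW₀iso, hW₀d⟩ := step (C₀ ⊓ Q) (le_trans inf_le_left (hC₀ ▸ inf_le_right))
      (fun u hu => ⟨hC₀inv u hu.1, hQ u hu.2⟩) (by
        have : 2 * w₀ * j = j * w₀ + j * w₀ := by ring
        omega)
    have hW₀C₀ : W₀ ≤ C₀ := hW₀C.trans inf_le_left
    refine ⟨W ⊔ W₀, sup_le hWS (hW₀C₀.trans (hC₀ ▸ inf_le_right)), ?_, ?_, ?_⟩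
    · intro u hu
      obtain ⟨a, ha, b, hb, rfl⟩ := Submodule.mem_sup.1 hu
      rw [map_add]
      exact Submodule.add_mem_sup (hW a ha) (hW₀ b hb)
    · have hWW₀ : ∀ a ∈ W, ∀ b ∈ W₀, B a b = 0 := fun a ha b hb => by
        have h := hW₀C₀ hb
        rw [hC₀] at h
        exact LinearMap.BilinForm.mem_orthogonal_iff.1 h.1 a ha
      intro u hu v hv
      obtain ⟨a, ha, b, hb, rfl⟩ := Submodule.mem_sup.1 hu
      obtain ⟨a', ha', b', hb', rfl⟩ := Submodule.mem_sup.1 hv
      simp only [map_add, LinearMap.add_apply, hWiso a ha a' ha', hWW₀ a ha b' hb', hW₀iso b hb b' hb',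
        hR _ _ (hWW₀ a' ha' b hb), add_zero]
    · have h1 := Submodule.finrank_sup_add_finrank_inf_eq W W₀
      rw [disjoint_iff.1 (hc.disjoint.mono_right (hW₀C.trans inf_le_right)), finrank_bot, add_zero, hWd, hW₀d] at h1
      rw [h1]; ring

/-- a totally isotropic subspace orthogonal to another subspace meeting it trivially -/
theorem finrank_iso_add_le (hN : B.Nondegenerate) {W S : Submodule F V} (hW : ∀ u ∈ W, ∀ v ∈ W, B u v = 0)
    (hS : ∀ u ∈ W, ∀ v ∈ S, B u v = 0) (hd : Disjoint W S) :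
    2 * Module.finrank F W + Module.finrank F S ≤ Module.finrank F V := by
  have hle : W ⊔ S ≤ B.orthogonal W := sup_le
    (fun u hu => LinearMap.BilinForm.mem_orthogonal_iff.2 fun v hv => hW v hv u hu)
    (fun u hu => LinearMap.BilinForm.mem_orthogonal_iff.2 fun v hv => hS v hv u hu)
  have h1 := Submodule.finrank_mono hle
  have h2 := Submodule.finrank_sup_add_finrank_inf_eq W S
  rw [disjoint_iff.1 hd, finrank_bot, add_zero] at h2
  rw [LinearMap.BilinForm.finrank_orthogonal hN, h2] at h1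
  have := Submodule.finrank_le W
  omega

end Build

section CyclicStep

variable {F : Type*} [Field F] [Fintype F] {V : Type*} [AddCommGroup V] [Module F V] [FiniteDimensional F V]
variable {B : LinearMap.BilinForm F V}

/-- an isotropic cyclic subspace inside a component of dimension above `2 d₀` -/
theorem exists_iso_cyclic (hA : B.IsAlt) (T : V →ₗ[F] V) (hI : ∀ u v, B (T u) (T v) = B u v)
    (hinj : Function.Injective T) {g : F[X]} {i d₀ : ℕ} (hg : g ≠ 0) (hdeg : g.natDegree = i)
    (hi : 0 < i) (hid : i ≤ 2 * d₀ + 1) {U : Submodule F V} (hU : ∀ u ∈ U, T u ∈ U)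
    (hker : ∀ u ∈ U, aeval T g u = 0) (hlt : 2 * d₀ < Module.finrank F U) :
    ∃ W ≤ U, (∀ u ∈ W, T u ∈ W) ∧ (∀ u ∈ W, ∀ v ∈ W, B u v = 0) ∧
      0 < Module.finrank F W ∧ Module.finrank F W ≤ i := by
  classical
  obtain ⟨p, hpc⟩ := CharP.exists F
  haveI : Fact p.Prime := ⟨CharP.char_is_prime F p⟩
  obtain ⟨n, hn⟩ : ∃ n, n = Module.finrank F U := ⟨_, rfl⟩
  obtain ⟨b⟩ : Nonempty (Module.Basis (Fin n) F U) := ⟨(Module.finBasis F U).reindex (finCongr hn.symm)⟩
  obtain ⟨f, hf⟩ : ∃ f : Fin d₀ → MvPolynomial (Fin n) F, ∀ a, f a = ∑ k, ∑ l,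
      MvPolynomial.C (B (b k : V) ((T ^ ((a : ℕ) + 1)) (b l : V))) * MvPolynomial.X k * MvPolynomial.X l :=
    ⟨_, fun a => rfl⟩
  have hfd : ∀ a, (f a).totalDegree ≤ 2 := fun a => by
    rw [hf]
    refine (MvPolynomial.totalDegree_finset_sum _ _).trans (Finset.sup_le fun k _ => ?_)
    refine (MvPolynomial.totalDegree_finset_sum _ _).trans (Finset.sup_le fun l _ => ?_)
    refine (MvPolynomial.totalDegree_mul _ _).trans ?_
    have h := MvPolynomial.totalDegree_mul (MvPolynomial.C (B (b k : V) ((T ^ ((a : ℕ) + 1)) (b l : V))))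
      (MvPolynomial.X k : MvPolynomial (Fin n) F)
    rw [MvPolynomial.totalDegree_C, MvPolynomial.totalDegree_X] at h
    rw [MvPolynomial.totalDegree_X]
    omega
  have hev : ∀ (x : Fin n → F) (a : Fin d₀), MvPolynomial.eval x (f a) =
      B ((∑ k, x k • b k : U) : V) ((T ^ ((a : ℕ) + 1)) ((∑ k, x k • b k : U) : V)) := by
    intro x a
    simp only [hf, map_sum, map_mul, MvPolynomial.eval_C, MvPolynomial.eval_X, Submodule.coe_sum,
      Submodule.coe_smul, LinearMap.sum_apply, map_smul, LinearMap.smul_apply, smul_eq_mul]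
    rw [Finset.sum_comm]
    exact Finset.sum_congr rfl fun k _ => by
      rw [Finset.mul_sum]
      exact Finset.sum_congr rfl fun l _ => by ring
  have hdvd := char_dvd_card_solutions_of_fintype_sum_lt p (f := f) (by
    refine lt_of_le_of_lt (Finset.sum_le_card_nsmul _ _ 2 fun a _ => hfd a) ?_
    rw [Finset.card_univ, Fintype.card_fin, Fintype.card_fin, smul_eq_mul, hn]
    omega)
  obtain ⟨x, hx0, hx⟩ : ∃ x : Fin n → F, x ≠ 0 ∧ ∀ a, MvPolynomial.eval x (f a) = 0 := by
    have h0 : ∀ a, MvPolynomial.eval (0 : Fin n → F) (f a) = 0 := fun a => by rw [hev]; simp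
    have hpos : 0 < Fintype.card {x : Fin n → F // ∀ a, MvPolynomial.eval x (f a) = 0} :=
      Fintype.card_pos_iff.2 ⟨⟨0, h0⟩⟩
    have h2 : p ≤ Fintype.card {x : Fin n → F // ∀ a, MvPolynomial.eval x (f a) = 0} :=
      Nat.le_of_dvd hpos (by convert hdvd)
    have := (Fact.out : p.Prime).two_le
    obtain ⟨⟨x, hx⟩, hne⟩ := Fintype.exists_ne_of_one_lt_card (by omega)
      (⟨0, h0⟩ : {x : Fin n → F // ∀ a, MvPolynomial.eval x (f a) = 0})
    exact ⟨x, fun e => hne (Subtype.ext e), hx⟩
  obtain ⟨v, hv⟩ : ∃ v : V, v = ((∑ k, x k • b k : U) : V) := ⟨_, rfl⟩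
  have hvU : v ∈ U := hv ▸ Subtype.property _
  have hv0 : v ≠ 0 := by
    intro e
    rw [hv, Submodule.coe_eq_zero] at e
    exact hx0 (funext fun k => Fintype.linearIndependent_iff.1 b.linearIndependent x e k)
  have hpow : ∀ (a : ℕ) (u w : V), B ((T ^ a) u) ((T ^ a) w) = B u w := fun a => by
    induction a with
    | zero => intro u w; simp
    | succ a ih => intro u w; rw [pow_succ', Module.End.mul_apply, Module.End.mul_apply, hI, ih]
  have hsmall : ∀ a ≤ d₀, B v ((T ^ a) v) = 0 := by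
    intro a ha
    rcases Nat.eq_zero_or_pos a with rfl | hpos
    · simpa using hA v
    · have h := hx ⟨a - 1, by omega⟩
      rw [hev, ← hv] at h
      simpa [Nat.sub_add_cancel hpos] using h
  have hmid : ∀ c ≤ 2 * d₀, B ((T ^ d₀) v) ((T ^ c) v) = 0 := by
    intro c hc
    rcases le_total d₀ c with h | h
    · rw [show (T ^ c) v = (T ^ d₀) ((T ^ (c - d₀)) v) by
        rw [← Module.End.mul_apply, ← pow_add, Nat.add_sub_cancel' h], hpow, hsmall _ (by omega)]
    · rw [show (T ^ d₀) v = (T ^ c) ((T ^ (d₀ - c)) v) by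
        rw [← Module.End.mul_apply, ← pow_add, Nat.add_sub_cancel' h], hpow]
      exact hA.isRefl _ _ (hsmall _ (by omega))
  obtain ⟨S, hS⟩ : ∃ S, S = Submodule.span F (Set.range fun c : Fin i => (T ^ (c : ℕ)) v) := ⟨_, rfl⟩
  have hTpU : ∀ c : ℕ, (T ^ c) v ∈ U := fun c => by
    induction c with
    | zero => simpa using hvU
    | succ c ih => rw [pow_succ', Module.End.mul_apply]; exact hU _ ih
  have htop : (T ^ i) v ∈ S := by
    have hgv := hker v hvU
    rw [aeval_eq_sum_range, hdeg, LinearMap.sum_apply, Finset.sum_range_succ] at hgv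
    have hlead : g.coeff i ≠ 0 := by rw [← hdeg]; exact leadingCoeff_ne_zero.2 hg
    have h1 : g.coeff i • (T ^ i) v ∈ S := by
      rw [LinearMap.smul_apply] at hgv
      rw [eq_neg_of_add_eq_zero_right hgv]
      refine S.neg_mem (S.sum_mem fun c hc => ?_)
      rw [LinearMap.smul_apply, hS]
      exact Submodule.smul_mem _ _ (Submodule.subset_span ⟨⟨c, Finset.mem_range.1 hc⟩, rfl⟩)
    have h2 := S.smul_mem (g.coeff i)⁻¹ h1
    rwa [inv_smul_smul₀ hlead] at h2
  have hSinv : ∀ u ∈ S, T u ∈ S := by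
    have hle : S ≤ S.comap T := by
      conv_lhs => rw [hS]
      rw [Submodule.span_le]
      rintro _ ⟨c, rfl⟩
      show T ((T ^ (c : ℕ)) v) ∈ S
      rw [← Module.End.mul_apply, ← pow_succ']
      by_cases hc : (c : ℕ) + 1 < i
      · rw [hS]; exact Submodule.subset_span ⟨⟨_, hc⟩, rfl⟩
      · rw [show (c : ℕ) + 1 = i by omega]; exact htop
    exact fun u hu => hle hu
  have hTpS : ∀ c : ℕ, (T ^ c) v ∈ S := fun c => by
    induction c with
    | zero => exact hS ▸ Submodule.subset_span ⟨⟨0, hi⟩, by simp⟩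
    | succ c ih => rw [pow_succ', Module.End.mul_apply]; exact hSinv _ ih
  have hbase : ∀ w ∈ S, B ((T ^ d₀) v) w = 0 := by
    intro w hw
    have hle : S ≤ LinearMap.ker (B ((T ^ d₀) v)) := by
      rw [hS, Submodule.span_le]
      rintro _ ⟨c, rfl⟩
      have := c.2
      exact LinearMap.mem_ker.2 (hmid c (by omega))
    exact LinearMap.mem_ker.1 (hle hw)
  have hsurj : ∀ w ∈ S, ∃ w' ∈ S, T w' = w := by
    intro w hw
    have hi2 : Function.Injective (T.restrict hSinv) := fun a b h => Subtype.ext (hinj (congrArg Subtype.val h))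
    obtain ⟨w', hw'⟩ := LinearMap.surjective_of_injective hi2 ⟨w, hw⟩
    exact ⟨w', w'.2, congrArg Subtype.val hw'⟩
  have hup : ∀ a, (∀ w ∈ S, B ((T ^ a) v) w = 0) ↔ (∀ w ∈ S, B ((T ^ (a + 1)) v) w = 0) := by
    intro a
    constructor
    · intro h w hw
      obtain ⟨w', hw', rfl⟩ := hsurj w hw
      rw [pow_succ', Module.End.mul_apply, hI]
      exact h w' hw'
    · intro h w hw
      have := h (T w) (hSinv w hw)
      rwa [pow_succ', Module.End.mul_apply, hI] at this
  have hall : ∀ a, ∀ w ∈ S, B ((T ^ a) v) w = 0 := by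
    have h0 : ∀ w ∈ S, B ((T ^ 0) v) w = 0 := by
      have : ∀ k ≤ d₀, ∀ w ∈ S, B ((T ^ (d₀ - k)) v) w = 0 := by
        intro k
        induction k with
        | zero => intro _; exact hbase
        | succ k ih =>
          intro hk
          refine (hup (d₀ - (k + 1))).2 ?_
          rw [show d₀ - (k + 1) + 1 = d₀ - k by omega]
          exact ih (by omega)
      simpa using this d₀ le_rfl
    intro a
    induction a with
    | zero => exact h0
    | succ a ih => exact (hup a).1 ih
  refine ⟨S, ?_, hSinv, ?_, ?_, ?_⟩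
  · rw [hS, Submodule.span_le]
    rintro _ ⟨c, rfl⟩
    exact hTpU c
  · intro u hu w hw
    have hle : S ≤ LinearMap.ker (B.flip w) := by
      conv_lhs => rw [hS]
      rw [Submodule.span_le]
      rintro _ ⟨c, rfl⟩
      exact LinearMap.mem_ker.2 (hall c w hw)
    exact LinearMap.mem_ker.1 (hle hu)
  · rw [Nat.pos_iff_ne_zero, Ne, Submodule.finrank_eq_zero]
    intro e
    have := hTpS 0
    rw [e, Submodule.mem_bot] at this
    exact hv0 (by simpa using this)
  · rw [hS]
    exact (finrank_range_le_card _).trans (le_of_eq (Fintype.card_fin i))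

/-- some primary component is large -/
theorem exists_large_component (T : V →ₗ[F] V) {P : F[X]} (hsq : Squarefree P) {i t : ℕ}
    (hd : ∀ g, Irreducible g → g ∣ P → g.natDegree = i) (hdeg : P.natDegree = t * i)
    {C : Submodule F V} (hC : ∀ u ∈ C, T u ∈ C) (hker : ∀ u ∈ C, aeval T P u = 0) {m : ℕ}
    (hlt : t * m < Module.finrank F C) (hi : 0 < i) :
    ∃ g, Irreducible g ∧ g ∣ P ∧ m < Module.finrank F (C ⊓ LinearMap.ker (aeval T g) : Submodule F V) := by
  classical
  by_contra hno
  push Not at hno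
  have hP0 : P ≠ 0 := hsq.ne_zero
  obtain ⟨S, hS⟩ : ∃ S : Finset F[X], S = (UniqueFactorizationMonoid.normalizedFactors P).toFinset := ⟨_, rfl⟩
  have hmem : ∀ g, Irreducible g → g ∣ P → ∃ g' ∈ S, Associated g g' := fun g hg hgd => by
    obtain ⟨g', hg', ha⟩ := UniqueFactorizationMonoid.exists_mem_normalizedFactors_of_dvd hP0 hg hgd
    exact ⟨g', hS ▸ Multiset.mem_toFinset.2 hg', ha⟩
  have hScard : S.card ≤ t := by
    have h := UniqueFactorizationMonoid.prod_normalizedFactors hP0
    have h1 : (UniqueFactorizationMonoid.normalizedFactors P).prod.natDegree = P.natDegree :=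
      natDegree_eq_of_degree_eq (degree_eq_degree_of_associated h)
    rw [natDegree_multiset_prod _ (UniqueFactorizationMonoid.zero_notMem_normalizedFactors P), hdeg,
      Multiset.map_congr rfl (g := fun _ => i) (fun g hg => hd g
        (UniqueFactorizationMonoid.irreducible_of_normalized_factor g hg)
        (UniqueFactorizationMonoid.dvd_of_mem_normalizedFactors hg)),
      Multiset.map_const', Multiset.sum_replicate, smul_eq_mul] at h1
    rw [hS, ← Nat.eq_of_mul_eq_mul_right hi h1]
    exact Multiset.toFinset_card_le _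
  obtain ⟨U, hU⟩ : ∃ U : Submodule F C, U = S.sup fun g => LinearMap.ker (aeval (T.restrict hC) g) := ⟨_, rfl⟩
  have hall : LinearMap.ker (aeval (T.restrict hC) P) ≤ U := by
    refine ker_le_of_factors _ P hsq fun g hg hgd w hw => ?_
    obtain ⟨g', hg', hass⟩ := hmem g hg hgd
    rw [hU]
    refine Finset.le_sup (f := fun g => LinearMap.ker (aeval (T.restrict hC) g)) hg' ?_
    obtain ⟨u, hu⟩ := hass
    rw [LinearMap.mem_ker, ← hu, mul_comm, map_mul, Module.End.mul_apply, hw, map_zero]
  have hUtop : U = ⊤ := top_le_iff.1 (le_trans (fun u _ => LinearMap.mem_ker.2 (Subtype.ext (by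
    rw [restrict_aeval_coe]; exact hker u u.2))) hall)
  have hsum : ∀ R : Finset F[X], Module.finrank F (R.sup fun g => LinearMap.ker (aeval (T.restrict hC) g) : Submodule F C) ≤
      ∑ g ∈ R, Module.finrank F (LinearMap.ker (aeval (T.restrict hC) g)) := by
    intro R
    induction R using Finset.induction_on with
    | empty => simp
    | insert g R hg ih =>
      rw [Finset.sup_insert, Finset.sum_insert hg]
      exact (Submodule.finrank_add_le_finrank_add_finrank _ _).trans (Nat.add_le_add_left ih _)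
  have hle := hsum S
  rw [← hU, hUtop, finrank_top] at hle
  have hbound : ∀ g ∈ S, Module.finrank F (LinearMap.ker (aeval (T.restrict hC) g)) ≤ m := by
    intro g hg
    rw [hS, Multiset.mem_toFinset] at hg
    refine le_trans (le_of_eq (Submodule.finrank_map_subtype_eq C _).symm) (le_trans (Submodule.finrank_mono ?_)
      (hno g (UniqueFactorizationMonoid.irreducible_of_normalized_factor g hg)
        (UniqueFactorizationMonoid.dvd_of_mem_normalizedFactors hg)))
    rintro _ ⟨u, hu, rfl⟩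
    refine ⟨u.2, ?_⟩
    rw [SetLike.mem_coe, LinearMap.mem_ker] at hu ⊢
    rw [Submodule.subtype_apply, ← restrict_aeval_coe T hC, hu]; rfl
  have h2 := hle.trans (Finset.sum_le_card_nsmul _ _ m hbound)
  rw [smul_eq_mul] at h2
  have := Nat.mul_le_mul_right m hScard
  omega

end CyclicStep

section Count

variable {F : Type*} [Field F] [Fintype F] {p : ℕ} [Fact p.Prime] [CharP F p] {r : ℕ} [Fact r.Prime]

/-- the number of totally isotropic subspaces -/
theorem card_iso_mul {d m : ℕ} (hm : m ≤ d) :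
    Nat.card {W : Submodule F (Fin d ⊕ Fin d → F) // Module.finrank F ↥W = m ∧
        (∀ u ∈ W, ∀ v ∈ W, CfsgLib.Classical.SympCount.sB d F u v = 0)} *
      ∏ j ∈ Finset.range m, (Fintype.card F ^ m - Fintype.card F ^ j) =
    ∏ j ∈ Finset.range m, (Fintype.card F ^ (2 * d - j) - Fintype.card F ^ j) := by
  classical
  rw [← CfsgLib.Classical.SympCount.card_frame hm]
  obtain ⟨X, hX⟩ : ∃ X, X = {W : Submodule F (Fin d ⊕ Fin d → F) // Module.finrank F ↥W = m ∧
        (∀ u ∈ W, ∀ v ∈ W, CfsgLib.Classical.SympCount.sB d F u v = 0)} := ⟨_, rfl⟩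
  subst hX
  let φ : CfsgLib.Classical.SympCount.Frame d F m →
      {W : Submodule F (Fin d ⊕ Fin d → F) // Module.finrank F ↥W = m ∧
        (∀ u ∈ W, ∀ v ∈ W, CfsgLib.Classical.SympCount.sB d F u v = 0)} := fun t =>
    ⟨Submodule.span F (Set.range t.1), by rw [finrank_span_eq_card t.2.1, Fintype.card_fin], by
      intro u hu v hv
      induction hu, hv using Submodule.span_induction₂ with
      | mem_mem a b ha hb =>
        obtain ⟨a, rfl⟩ := ha
        obtain ⟨b, rfl⟩ := hb
        exact t.2.2 a b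
      | zero_left => simp
      | zero_right => simp
      | add_left _ _ _ _ _ _ h1 h2 => simp [h1, h2]
      | add_right _ _ _ _ _ _ h1 h2 => simp [h1, h2]
      | smul_left _ _ _ _ _ h => simp [h]
      | smul_right _ _ _ _ _ h => simp [h]⟩
  haveI : Fintype {W : Submodule F (Fin d ⊕ Fin d → F) // Module.finrank F ↥W = m ∧
        (∀ u ∈ W, ∀ v ∈ W, CfsgLib.Classical.SympCount.sB d F u v = 0)} := Fintype.ofFinite _
  have hfib : ∀ W, Nat.card {t : CfsgLib.Classical.SympCount.Frame d F m // φ t = W} =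
      ∏ j ∈ Finset.range m, (Fintype.card F ^ m - Fintype.card F ^ j) := by
    intro W
    have e : {t : CfsgLib.Classical.SympCount.Frame d F m // φ t = W} ≃ {v : Fin m → W.1 // LinearIndependent F v} :=
      { toFun := fun t => ⟨fun j => ⟨t.1.1 j, by
            have h := congrArg Subtype.val t.2
            rw [← h]
            exact Submodule.subset_span ⟨j, rfl⟩⟩, by
          exact LinearIndependent.of_comp W.1.subtype t.1.2.1⟩
        invFun := fun v => ⟨⟨fun j => (v.1 j : Fin d ⊕ Fin d → F), v.2.map' W.1.subtype (Submodule.ker_subtype _),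
            fun a b => W.2.2 _ (v.1 a).2 _ (v.1 b).2⟩, Subtype.ext (Submodule.eq_of_le_of_finrank_eq
            (Submodule.span_le.2 (by rintro _ ⟨j, rfl⟩; exact (v.1 j).2)) (by
              exact ((finrank_span_eq_card (v.2.map' W.1.subtype (Submodule.ker_subtype _))).trans (Fintype.card_fin m)).trans W.2.1.symm))⟩
        left_inv := fun t => Subtype.ext (Subtype.ext rfl)
        right_inv := fun v => Subtype.ext rfl }
    rw [Nat.card_congr e, card_linearIndependent (by rw [W.2.1]), W.2.1, Finset.prod_range]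
  rw [← Nat.card_congr (Equiv.sigmaFiberEquiv φ), Nat.card_sigma, Finset.sum_congr rfl fun W _ => hfib W,
    Finset.sum_const, Finset.card_univ, smul_eq_mul, Nat.card_eq_fintype_card]

/-- divisors of the number of totally isotropic subspaces -/
theorem iso_dvd_data {d m : ℕ} (hm : m ≤ d)
    (h : r ∣ Nat.card {W : Submodule F (Fin d ⊕ Fin d → F) // Module.finrank F ↥W = m ∧
        (∀ u ∈ W, ∀ v ∈ W, CfsgLib.Classical.SympCount.sB d F u v = 0)}) :
    r ≠ p ∧ ∃ j < m, orderOf ((Fintype.card F : ℕ) : ZMod r) ∣ 2 * (d - j) := by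
  have hq : 1 < Fintype.card F := Fintype.one_lt_card
  have hprod : ∀ n : ℕ, m ≤ n → ∏ j ∈ Finset.range m, (Fintype.card F ^ (n - j + j) - Fintype.card F ^ j) =
      (∏ j ∈ Finset.range m, Fintype.card F ^ j) * ∏ j ∈ Finset.range m, (Fintype.card F ^ (n - j) - 1) := fun n hn => by
    rw [← Finset.prod_mul_distrib]
    refine Finset.prod_congr rfl fun j hj => ?_
    rw [Nat.mul_sub, mul_one, ← pow_add, add_comm j]
  have heq := card_iso_mul (F := F) hm
  have e1 : ∏ j ∈ Finset.range m, (Fintype.card F ^ m - Fintype.card F ^ j) =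
      (∏ j ∈ Finset.range m, Fintype.card F ^ j) * ∏ j ∈ Finset.range m, (Fintype.card F ^ (m - j) - 1) := by
    rw [← hprod m le_rfl]
    exact Finset.prod_congr rfl fun j hj => by
      rw [Nat.sub_add_cancel (Finset.mem_range.1 hj).le]
  have e2 : ∏ j ∈ Finset.range m, (Fintype.card F ^ (2 * d - j) - Fintype.card F ^ j) =
      (∏ j ∈ Finset.range m, Fintype.card F ^ j) * ∏ j ∈ Finset.range m, (Fintype.card F ^ (2 * (d - j)) - 1) := by
    rw [← Finset.prod_mul_distrib]
    refine Finset.prod_congr rfl fun j hj => ?_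
    rw [Nat.mul_sub, mul_one, ← pow_add, show j + 2 * (d - j) = 2 * d - j by
      have := Finset.mem_range.1 hj; omega]
  rw [e1, e2, mul_left_comm] at heq
  have hpos : 0 < ∏ j ∈ Finset.range m, Fintype.card F ^ j :=
    Finset.prod_pos fun j _ => pow_pos Fintype.card_pos _
  have heq' := Nat.eq_of_mul_eq_mul_left hpos heq
  obtain ⟨j, hj, hdvd⟩ := ((Fact.out : r.Prime).prime.dvd_finsetProd_iff _).1 (heq' ▸ dvd_mul_of_dvd_left h _)
  have hj' := Finset.mem_range.1 hj
  have hrp : r ≠ p := by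
    intro e
    obtain ⟨c, hp, hcard⟩ := FiniteField.card F p
    have h1 : r ∣ Fintype.card F ^ (2 * (d - j)) := by
      rw [e, hcard, ← pow_mul]
      exact dvd_pow_self p (Nat.mul_ne_zero c.pos.ne' (by omega))
    have h2 := Nat.dvd_sub h1 hdvd
    rw [Nat.sub_sub_self (Nat.one_le_pow _ _ Fintype.card_pos)] at h2
    exact (Fact.out : r.Prime).ne_one (Nat.dvd_one.1 h2)
  refine ⟨hrp, j, hj', orderOf_dvd_of_pow_eq_one ?_⟩
  rw [← (ZMod.natCast_eq_zero_iff _ r), Nat.cast_sub (Nat.one_le_pow _ _ Fintype.card_pos), sub_eq_zero, Nat.cast_pow,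
    Nat.cast_one] at hdvd
  exact hdvd

end Count

end CfsgLib.Perm.Elusive
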