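import Mathlib
import Cfsg.Agent.Lib.Perm.Elusive.SympPrime
import Cfsg.Agent.Lib.Classical.SpOrders

/-!
# Symplectic elements of prime order with prescribed fixed space
-/

set_option autoImplicit false
set_option linter.all false

namespace CfsgLib.Perm.Elusive

open Matrix

variable {F : Type*} [Field F] [Fintype F] {p : ℕ} [Fact p.Prime] [CharP F p] {r : ℕ} [Fact r.Prime]

/-- a fixed-point-free element of order `r` in two dimensions over an extension -/
theorem exists_fpf_sl_two {K : Type*} [Field K] [Fintype K] [CharP K p] (hrp : r ≠ p)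
    (h : r ∣ Fintype.card K - 1 ∨ r ∣ Fintype.card K + 1) :
    ∃ A : Matrix.SpecialLinearGroup (Fin 2) K, A ^ r = 1 ∧ ∀ v, A.1 *ᵥ v = v → v = 0 := by
  classical
  obtain ⟨A, hA⟩ : ∃ A : Matrix.SpecialLinearGroup (Fin 2) K, orderOf A = r := by
    rcases h with h | h
    · obtain ⟨A, hA⟩ := CfsgLib.Classical.PSL2Spectrum.exists_order_sub_one (F := K)
      exact ⟨A ^ (orderOf A / r), orderOf_pow_orderOf_div (orderOf_pos A).ne' (hA ▸ h)⟩
    · obtain ⟨A, hA⟩ := CfsgLib.Classical.PSL2Spectrum.exists_order_add_one (F := K)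
      exact ⟨A ^ (orderOf A / r), orderOf_pow_orderOf_div (orderOf_pos A).ne' (hA ▸ h)⟩
  refine ⟨A, by rw [← hA, pow_orderOf_eq_one], fun v hv => ?_⟩
  by_contra hv0
  obtain ⟨N, hN⟩ : ∃ N, N = A.1 - 1 := ⟨_, rfl⟩
  have hdet : N.det = 0 := Matrix.exists_mulVec_eq_zero_iff.1
    ⟨v, hv0, by rw [hN, Matrix.sub_mulVec, hv, Matrix.one_mulVec, sub_self]⟩
  have h1 := A.det_coe
  rw [hN] at hdet
  rw [Matrix.det_fin_two] at h1 hdet
  simp only [Matrix.sub_apply, Matrix.one_apply_eq, Matrix.one_apply_ne, ne_eq, zero_ne_one, not_false_eq_true,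
    one_ne_zero, sub_zero] at hdet
  have hN2 : N * N = 0 := by
    rw [hN]
    ext i j
    fin_cases i <;> fin_cases j <;>
      simp only [Matrix.mul_apply, Fin.sum_univ_two, Matrix.sub_apply, Matrix.one_apply_eq, Matrix.one_apply_ne, ne_eq,
        zero_ne_one, not_false_eq_true, one_ne_zero, sub_zero, Matrix.zero_apply, Fin.isValue, Fin.zero_eta, Fin.mk_one]
    · linear_combination (A.1 0 0 - 1) * (h1 - hdet) - hdet
    · linear_combination (A.1 0 1) * (h1 - hdet)
    · linear_combination (A.1 1 0) * (h1 - hdet)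
    · linear_combination (A.1 1 1 - 1) * (h1 - hdet) - hdet
  have hpow : ∀ j : ℕ, A.1 ^ j = 1 + (j : K) • N := fun j => by
    induction j with
    | zero => simp
    | succ j ih =>
      rw [pow_succ, ih, show A.1 = 1 + N by rw [hN]; abel]
      simp only [mul_add, add_mul, mul_one, one_mul, smul_mul_assoc, hN2, smul_zero, Nat.cast_succ, add_smul, one_smul]
      abel
  have hr := hpow r
  rw [← Matrix.SpecialLinearGroup.coe_pow, ← hA, pow_orderOf_eq_one, hA, Matrix.SpecialLinearGroup.coe_one,
    left_eq_add, smul_eq_zero, hN, sub_eq_zero] at hr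
  rcases hr with hr | hr
  · exact natCast_ne_zero_of_ne (F := K) hrp hr
  · rw [show A = 1 from Subtype.ext hr, orderOf_one] at hA
    exact (Fact.out : r.Prime).ne_one hA.symm

/-- symplectic elements with prescribed fixed space -/
theorem exists_symp_element (hrp : r ≠ p) (hr2 : r ≠ 2) {c d e k : ℕ}
    (hc : c = if Even (orderOf ((Fintype.card F : ℕ) : ZMod r)) then orderOf ((Fintype.card F : ℕ) : ZMod r)
      else 2 * orderOf ((Fintype.card F : ℕ) : ZMod r)) (hd : 2 * d = 2 * e + k * c) :
    ∃ x : Matrix.symplecticGroup (Fin d) F, (x : Matrix (Fin d ⊕ Fin d) (Fin d ⊕ Fin d) F) ^ r = 1 ∧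
      Module.finrank F (LinearMap.ker (Matrix.toLin' (x : Matrix (Fin d ⊕ Fin d) (Fin d ⊕ Fin d) F) - 1)) = 2 * e := by
  classical
  obtain ⟨i, hi⟩ : ∃ i, i = orderOf ((Fintype.card F : ℕ) : ZMod r) := ⟨_, rfl⟩
  rw [← hi] at hc
  have hipos : 0 < i := hi ▸ order_pos hrp
  obtain ⟨d₀, hd₀, hc₀⟩ : ∃ d₀, 0 < d₀ ∧ c = 2 * d₀ := by
    by_cases hev : Even i
    · rw [if_pos hev] at hc
      obtain ⟨j, hj⟩ := hev
      exact ⟨j, by omega, by omega⟩
    · rw [if_neg hev] at hc
      exact ⟨i, hipos, hc⟩
  let K := FiniteField.Extension F p d₀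
  haveI : NeZero d₀ := ⟨by omega⟩
  have hfin : Module.finrank F K = d₀ := FiniteField.finrank_extension F p d₀
  haveI : Finite K := Module.finite_of_finite F
  letI : Fintype K := Fintype.ofFinite K
  haveI : CharP K p := charP_of_injective_algebraMap (algebraMap F K).injective p
  have hcard : Fintype.card K = Fintype.card F ^ d₀ := by rw [Module.card_eq_pow_finrank (K := F), hfin]
  have hdiv : r ∣ Fintype.card K - 1 ∨ r ∣ Fintype.card K + 1 := by
    have h1 : ((Fintype.card F : ZMod r) ^ d₀) ^ 2 = 1 := by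
      rw [← pow_mul, ← orderOf_dvd_iff_pow_eq_one, ← hi, mul_comm d₀ 2, ← hc₀, hc]
      split_ifs
      · exact dvd_rfl
      · exact dvd_mul_left _ _
    rw [hcard]
    rcases sq_eq_one_iff.1 h1 with h | h
    · left
      rw [← (ZMod.natCast_eq_zero_iff _ r), Nat.cast_sub (Nat.one_le_pow _ _ Fintype.card_pos), Nat.cast_one,
        Nat.cast_pow, h, sub_self]
    · right
      rw [← (ZMod.natCast_eq_zero_iff _ r), Nat.cast_add, Nat.cast_one, Nat.cast_pow, h, neg_add_cancel]
  obtain ⟨A, hAr, hAfix⟩ := exists_fpf_sl_two (p := p) hrp hdiv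
  obtain ⟨B, hB⟩ : ∃ B : LinearMap.BilinForm F ((Fin k → Fin 2 → K) × (Fin e → Fin 2 → F)),
      ∀ u v, B u v = (∑ j, Algebra.trace F K (u.1 j 0 * v.1 j 1 - u.1 j 1 * v.1 j 0)) +
        ∑ j, (u.2 j 0 * v.2 j 1 - u.2 j 1 * v.2 j 0) :=
    ⟨LinearMap.mk₂ F (fun u v => (∑ j, Algebra.trace F K (u.1 j 0 * v.1 j 1 - u.1 j 1 * v.1 j 0)) +
        ∑ j, (u.2 j 0 * v.2 j 1 - u.2 j 1 * v.2 j 0))
      (fun a b c => by
        rw [add_add_add_comm, ← Finset.sum_add_distrib, ← Finset.sum_add_distrib]
        congr 1 <;> refine Finset.sum_congr rfl fun j _ => ?_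
        · rw [← map_add]; congr 1; simp; ring
        · simp; ring)
      (fun s a b => by
        simp only [smul_eq_mul, mul_add, Finset.mul_sum]
        congr 1 <;> refine Finset.sum_congr rfl fun j _ => ?_
        · rw [← smul_eq_mul s, ← map_smul]; congr 1; simp [Algebra.smul_def]; ring
        · simp; ring)
      (fun a b c => by
        rw [add_add_add_comm, ← Finset.sum_add_distrib, ← Finset.sum_add_distrib]
        congr 1 <;> refine Finset.sum_congr rfl fun j _ => ?_
        · rw [← map_add]; congr 1; simp; ring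
        · simp; ring)
      (fun s a b => by
        simp only [smul_eq_mul, mul_add, Finset.mul_sum]
        congr 1 <;> refine Finset.sum_congr rfl fun j _ => ?_
        · rw [← smul_eq_mul s, ← map_smul]; congr 1; simp [Algebra.smul_def]; ring
        · simp; ring), fun u v => rfl⟩
  have hA : B.IsAlt := fun u => by simp [hB, mul_comm]
  have hN : ∀ u, (∀ v, B u v = 0) → u = 0 := by
    intro u hu
    have key : ∀ z : K, (∀ c, Algebra.trace F K (z * c) = 0) → z = 0 := fun z hz => (traceForm_nondegenerate F K).1 z hz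
    refine Prod.ext (funext fun j => funext fun l => ?_) (funext fun j => funext fun l => ?_)
    · fin_cases l
      · refine key _ fun s => ?_
        have h := hu (Pi.single j ![0, s], 0)
        rw [hB, Finset.sum_eq_single j (fun b _ hb => by simp [Pi.single_apply, hb]) (fun hj => absurd (Finset.mem_univ j) hj)] at h
        simpa using h
      · refine key _ fun s => ?_
        have h := hu (Pi.single j ![s, 0], 0)
        rw [hB, Finset.sum_eq_single j (fun b _ hb => by simp [Pi.single_apply, hb]) (fun hj => absurd (Finset.mem_univ j) hj)] at h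
        simpa using h
    · fin_cases l
      · have h := hu (0, Pi.single j ![0, 1])
        rw [hB, Finset.sum_eq_single (f := fun j' => (u.2 j' 0 * _ - u.2 j' 1 * _)) j
          (fun b _ hb => by simp [Pi.single_apply, hb]) (fun hj => absurd (Finset.mem_univ j) hj)] at h
        simpa using h
      · have h := hu (0, Pi.single j ![-1, 0])
        rw [hB, Finset.sum_eq_single (f := fun j' => (u.2 j' 0 * _ - u.2 j' 1 * _)) j
          (fun b _ hb => by simp [Pi.single_apply, hb]) (fun hj => absurd (Finset.mem_univ j) hj)] at h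
        simpa using h
  have hV : Module.finrank F ((Fin k → Fin 2 → K) × (Fin e → Fin 2 → F)) = 2 * d := by
    rw [Module.finrank_prod, Module.finrank_pi_fintype, Module.finrank_pi_fintype]
    simp [Module.finrank_pi_fintype, hfin]
    rw [hd, hc₀]
    ring
  obtain ⟨b, hb⟩ := CfsgLib.Classical.SympSplit.exists_basis_J B hA hN hV
  obtain ⟨T, hT⟩ : ∃ T : ((Fin k → Fin 2 → K) × (Fin e → Fin 2 → F)) →ₗ[F] ((Fin k → Fin 2 → K) × (Fin e → Fin 2 → F)),
      ∀ u, T u = (fun j => A.1 *ᵥ u.1 j, u.2) :=
    ⟨((LinearMap.pi fun j => (A.1.mulVecLin.restrictScalars F).comp (LinearMap.proj j)).prodMap LinearMap.id), fun u => rfl⟩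
  have hI : ∀ u v, B (T u) (T v) = B u v := fun u v => by
    rw [hB, hB, hT, hT]
    congr 1
    refine Finset.sum_congr rfl fun j _ => congrArg _ ?_
    have hd' := A.det_coe
    rw [Matrix.det_fin_two] at hd'
    simp [Matrix.mulVec, dotProduct, Fin.sum_univ_two]
    linear_combination (u.1 j 0 * v.1 j 1 - u.1 j 1 * v.1 j 0) * hd'
  have hTr : T ^ r = 1 := by
    have h : ∀ (m : ℕ) u, (T ^ m) u = (fun j => (A.1 ^ m) *ᵥ u.1 j, u.2) := fun m => by
      induction m with
      | zero => intro u; simp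
      | succ m ih =>
        intro u
        rw [pow_succ, Module.End.mul_apply, ih, hT]
        refine Prod.ext (funext fun j => ?_) rfl
        show (A.1 ^ m) *ᵥ (A.1 *ᵥ u.1 j) = (A.1 ^ (m + 1)) *ᵥ u.1 j
        rw [Matrix.mulVec_mulVec, pow_succ]
    refine LinearMap.ext fun u => ?_
    rw [h, ← Matrix.SpecialLinearGroup.coe_pow, hAr]
    simp
  have hker : Module.finrank F (LinearMap.ker (T - 1)) = 2 * e := by
    have hk : LinearMap.ker (T - 1) = LinearMap.range (LinearMap.inr F (Fin k → Fin 2 → K) (Fin e → Fin 2 → F)) := by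
      refine le_antisymm (fun u hu => ?_) ?_
      · refine ⟨u.2, ?_⟩
        rw [LinearMap.mem_ker, LinearMap.sub_apply, Module.End.one_apply, sub_eq_zero, hT] at hu
        exact Prod.ext (funext fun j => (hAfix _ (congrFun (congrArg Prod.fst hu) j)).symm) rfl
      · rintro _ ⟨v, rfl⟩
        rw [LinearMap.mem_ker, LinearMap.sub_apply, Module.End.one_apply, sub_eq_zero, hT]
        refine Prod.ext (funext fun j => ?_) rfl
        simp
    rw [hk, LinearMap.finrank_range_of_inj LinearMap.inr_injective, Module.finrank_pi_fintype]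
    simp [Module.finrank_pi_fintype]
    ring
  have hmem : LinearMap.toMatrix b b T ∈ Matrix.symplecticGroup (Fin d) F := by
    have hJ' : LinearMap.BilinForm.toMatrix b B = Matrix.J (Fin d) F := Matrix.ext fun i j => by
      rw [LinearMap.BilinForm.toMatrix_apply, hb]
    have hcc : B.comp T T = B := LinearMap.ext₂ fun u v => hI u v
    have := congrArg (LinearMap.BilinForm.toMatrix b) hcc
    rw [LinearMap.BilinForm.toMatrix_comp (b := b) (c := b), hJ'] at this
    exact SymplecticGroup.mem_iff'.2 this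
  refine ⟨⟨_, hmem⟩, ?_, ?_⟩
  · show LinearMap.toMatrix b b T ^ r = 1
    rw [LinearMap.toMatrix_pow, hTr, LinearMap.toMatrix_one]
  · have he : ∀ u, Matrix.toLin' (LinearMap.toMatrix b b T) (b.equivFun u) = b.equivFun (T u) := fun u => by
      rw [Matrix.toLin'_apply]
      exact LinearMap.toMatrix_mulVec_repr b b T u
    have hker' : LinearMap.ker (Matrix.toLin' (LinearMap.toMatrix b b T) - 1) =
        (LinearMap.ker (T - 1)).map (b.equivFun : _ →ₗ[F] (Fin d ⊕ Fin d → F)) := by
      ext v
      obtain ⟨u, rfl⟩ := b.equivFun.surjective v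
      simp only [LinearMap.mem_ker, LinearMap.sub_apply, Module.End.one_apply, sub_eq_zero, he,
        b.equivFun.injective.eq_iff, Submodule.mem_map, LinearEquiv.coe_coe, exists_eq_right]
    show Module.finrank F (LinearMap.ker (Matrix.toLin' (LinearMap.toMatrix b b T) - 1)) = _
    rw [hker', LinearEquiv.finrank_map_eq, hker]

end CfsgLib.Perm.Elusive
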