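import Mathlib
import Cfsg.Agent.Lib.Perm.Elusive.IsotropicInvariant
import Cfsg.Agent.Lib.Perm.Elusive.SympPrimeElement

/-!
# Symplectic elements of prime order with prescribed eigenvalue classes
-/

set_option autoImplicit false
set_option linter.all false

namespace CfsgLib.Perm.Elusive

open Polynomial

variable {F : Type*} [Field F] [Fintype F] {p : ℕ} [Fact p.Prime] [CharP F p] {r : ℕ} [Fact r.Prime]

omit [Fintype F] in
/-- polynomials in intertwined maps -/
theorem aeval_intertwine {V W : Type*} [AddCommGroup V] [Module F V] [AddCommGroup W] [Module F W] {f : V →ₗ[F] W}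
    {T : V →ₗ[F] V} {L : W →ₗ[F] W} (h : ∀ u, f (T u) = L (f u)) (P : F[X]) (u : V) :
    f (aeval T P u) = aeval L P (f u) := by
  have hp : ∀ (n : ℕ) v, f ((T ^ n) v) = (L ^ n) (f v) := fun n => by
    induction n with
    | zero => intro v; simp
    | succ n ih => intro v; rw [pow_succ', Module.End.mul_apply, h, ih, pow_succ', Module.End.mul_apply]
  induction P using Polynomial.induction_on' with
  | add a b ha hb => simp only [map_add, LinearMap.add_apply, ha, hb]
  | monomial j c =>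
    simp only [aeval_monomial, Module.End.mul_apply, Module.algebraMap_end_apply, map_smul, hp]

omit [Fintype F] in
/-- the cyclotomic polynomial kills maps of order `r` without fixed vectors -/
theorem aeval_cyclotomic_of_fpf {V : Type*} [AddCommGroup V] [Module F V] {T : V →ₗ[F] V} (hT : T ^ r = 1)
    (hfix : ∀ v, T v = v → v = 0) : aeval T (cyclotomic r F) = 0 := by
  refine LinearMap.ext fun u => hfix _ (sub_eq_zero.1 ?_)
  have h : (T - 1) (aeval T (cyclotomic r F) u) = 0 := by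
    rw [← Module.End.mul_apply, show T - 1 = aeval T (X - 1 : F[X]) by rw [map_sub, aeval_X, map_one], ← map_mul,
      mul_comm, cyclotomic_prime_mul_X_sub_one, map_sub, map_pow, aeval_X, map_one, hT, sub_self]
    rfl
  simpa using h

/-- fixed part and moved part -/
theorem fixed_moved (hrp : r ≠ p) {V : Type*} [AddCommGroup V] [Module F V] {B : LinearMap.BilinForm F V}
    (T : V →ₗ[F] V) (hI : ∀ u v, B (T u) (T v) = B u v) (hT : T ^ r = 1) :
    IsCompl (LinearMap.ker (T - 1)) (LinearMap.ker (aeval T (cyclotomic r F))) ∧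
      ∀ u ∈ LinearMap.ker (T - 1), ∀ v ∈ LinearMap.ker (aeval T (cyclotomic r F)), B u v = 0 := by
  have hE : LinearMap.ker (T - 1) = LinearMap.ker (aeval T (X - C 1 : F[X])) := by
    rw [map_sub, aeval_X, aeval_C, map_one]
  have hco : IsCoprime (X - C 1 : F[X]) (cyclotomic r F) := by
    rw [(irreducible_X_sub_C (1 : F)).coprime_iff_not_dvd, dvd_iff_isRoot, IsRoot, eval_one_cyclotomic_prime]
    exact natCast_ne_zero_of_ne hrp
  refine ⟨⟨hE ▸ disjoint_ker_aeval_of_isCoprime T hco, codisjoint_iff.2 ?_⟩, fun u hu v hv => ?_⟩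
  · rw [hE, sup_ker_aeval_eq_ker_aeval_mul_of_coprime T hco, map_one, mul_comm, cyclotomic_prime_mul_X_sub_one,
      map_sub, map_pow, aeval_X, map_one, hT, sub_self, LinearMap.ker_zero]
  · obtain ⟨a, b, hab⟩ := hco
    have h := congrArg (fun P => aeval T P v) hab
    simp only [map_add, map_one, Module.End.one_apply, LinearMap.add_apply, map_mul] at h
    rw [Module.End.mul_apply (f := aeval T b), LinearMap.mem_ker.1 hv, map_zero, add_zero, ← map_mul, mul_comm, map_mul,
      Module.End.mul_apply, map_sub, aeval_X, map_one, LinearMap.sub_apply, Module.End.one_apply] at h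
    have hfix : T u = u := by simpa [sub_eq_zero] using hu
    rw [← h, map_sub]
    nth_rewrite 1 [← hfix]
    rw [hI, sub_self]

/-- isometries as symplectic matrices -/
theorem exists_symp_model {V : Type*} [AddCommGroup V] [Module F V] [FiniteDimensional F V] (B : LinearMap.BilinForm F V)
    (hA : B.IsAlt) (hN : ∀ u, (∀ v, B u v = 0) → u = 0) {d : ℕ} (hV : Module.finrank F V = 2 * d) (T : V →ₗ[F] V)
    (hI : ∀ u v, B (T u) (T v) = B u v) :
    ∃ (x : Matrix.symplecticGroup (Fin d) F) (φ : V ≃ₗ[F] (Fin d ⊕ Fin d → F)),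
      (∀ u, Matrix.toLin' (x : Matrix (Fin d ⊕ Fin d) (Fin d ⊕ Fin d) F) (φ u) = φ (T u)) ∧
      ∀ u v, CfsgLib.Classical.SympCount.sB d F (φ u) (φ v) = B u v := by
  classical
  obtain ⟨b, hb⟩ := CfsgLib.Classical.SympSplit.exists_basis_J B hA hN hV
  have hmem : LinearMap.toMatrix b b T ∈ Matrix.symplecticGroup (Fin d) F := by
    have hJ' : LinearMap.BilinForm.toMatrix b B = Matrix.J (Fin d) F := Matrix.ext fun i j => by
      rw [LinearMap.BilinForm.toMatrix_apply, hb]
    have hcc : B.comp T T = B := LinearMap.ext₂ fun u v => hI u v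
    have := congrArg (LinearMap.BilinForm.toMatrix b) hcc
    rw [LinearMap.BilinForm.toMatrix_comp (b := b) (c := b), hJ'] at this
    exact SymplecticGroup.mem_iff'.2 this
  refine ⟨⟨_, hmem⟩, b.equivFun, fun u => ?_, ?_⟩
  · rw [Matrix.toLin'_apply]
    exact LinearMap.toMatrix_mulVec_repr b b T u
  · have h : (CfsgLib.Classical.SympCount.sB d F).comp b.equivFun.toLinearMap b.equivFun.toLinearMap = B := by
      refine LinearMap.BilinForm.ext_basis b fun i j => ?_
      rw [hb, LinearMap.BilinForm.comp_apply, LinearEquiv.coe_coe, CfsgLib.Classical.SympCount.sB_apply]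
      simp [CfsgLib.Sp.sf, Cfsg.sympForm, Finsupp.single_eq_pi_single, Matrix.mulVec_single_one, single_dotProduct]
    exact fun u v => LinearMap.congr_fun₂ h u v

omit [Fact r.Prime] in
/-- the Frobenius conjugates of a root of unity -/
theorem aeval_pow_card {L : Type*} [Field L] [Algebra F L] (f : F[X]) :
    ∀ (m : ℕ) (y : L), aeval (y ^ Fintype.card F ^ m) f = (aeval y f) ^ Fintype.card F ^ m := by
  intro m
  induction m with
  | zero => intro y; simp
  | succ m ih => intro y; rw [pow_succ, pow_mul, pow_mul, ← expand_aeval, FiniteField.expand_card, map_pow, ih]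

theorem root_conjugate (hrp : r ≠ p) {L : Type*} [Field L] [Algebra F L] {y x : L} (hyr : y ^ r = 1) (hy1 : y ≠ 1)
    (hx : aeval x (minpoly F y) = 0) : ∃ a : ℕ, x = y ^ Fintype.card F ^ a := by
  classical
  by_contra hno
  push Not at hno
  have hint : IsIntegral F y := ⟨X ^ r - C 1, monic_X_pow_sub_C _ (Fact.out : r.Prime).ne_zero, by
    rw [← aeval_def, map_sub, map_pow, aeval_X, aeval_C, map_one, hyr, sub_self]⟩
  have hcyc : aeval y (cyclotomic r F) = 0 := by
    have h : aeval y (cyclotomic r F * (X - 1)) = 0 := by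
      rw [cyclotomic_prime_mul_X_sub_one, map_sub, map_pow, aeval_X, map_one, hyr, sub_self]
    rw [map_mul, map_sub, aeval_X, map_one] at h
    exact (mul_eq_zero.1 h).resolve_right (sub_ne_zero.2 hy1)
  have hdeg := factor_degree (p := p) hrp (minpoly.irreducible hint) (minpoly.dvd F y hcyc)
  obtain ⟨i, hi⟩ : ∃ i, i = orderOf ((Fintype.card F : ℕ) : ZMod r) := ⟨_, rfl⟩
  obtain ⟨S, hS⟩ : ∃ S : Finset L, S = (Finset.range i).image fun a => y ^ Fintype.card F ^ a := ⟨_, rfl⟩
  have hord : orderOf y = r := orderOf_eq_prime hyr hy1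
  have hinj : Set.InjOn (fun a => y ^ Fintype.card F ^ a) (Finset.range i) := by
    intro a ha b hb hab
    change y ^ Fintype.card F ^ a = y ^ Fintype.card F ^ b at hab
    rw [(isOfFinOrder_iff_pow_eq_one.2 ⟨r, (Fact.out : r.Prime).pos, hyr⟩).pow_eq_pow_iff_modEq, hord,
      ← ZMod.natCast_eq_natCast_iff, Nat.cast_pow, Nat.cast_pow] at hab
    exact pow_injOn_Iio_orderOf (hi ▸ Finset.mem_range.1 ha) (hi ▸ Finset.mem_range.1 hb) hab
  have hScard : S.card = i := by rw [hS, Finset.card_image_of_injOn hinj, Finset.card_range]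
  have hxS : x ∉ S := by
    rw [hS, Finset.mem_image]
    rintro ⟨a, -, ha⟩
    exact hno a ha.symm
  have hsub : (insert x S).val ⊆ ((minpoly F y).map (algebraMap F L)).roots := by
    intro z hz
    rw [mem_roots ((Polynomial.map_ne_zero_iff (algebraMap F L).injective).2 (minpoly.ne_zero hint)), IsRoot, eval_map,
      ← aeval_def]
    rw [Finset.mem_val, Finset.mem_insert, hS, Finset.mem_image] at hz
    rcases hz with rfl | ⟨a, -, rfl⟩
    · exact hx
    · rw [aeval_pow_card, minpoly.aeval, zero_pow (pow_ne_zero _ Fintype.card_ne_zero)]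
  have h := card_le_degree_of_subset_roots hsub
  rw [Finset.card_insert_of_notMem hxS, hScard, natDegree_map, hdeg, ← hi] at h
  omega

/-- exponents in different classes -/
theorem exists_class_exponents (hrp : r ≠ p) {s : ℕ}
    (hs : s + 1 ≤ (r - 1) / orderOf ((Fintype.card F : ℕ) : ZMod r)) :
    ∃ ε : Fin s → ℕ, (∀ j, ¬ r ∣ ε j ∧ ∀ a : ℕ, (ε j : ZMod r) ≠ (Fintype.card F : ZMod r) ^ a) ∧
      ∀ j j', j ≠ j' → ∀ a : ℕ, (ε j : ZMod r) ≠ (ε j' : ZMod r) * (Fintype.card F : ZMod r) ^ a := by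
  classical
  obtain ⟨qu, hqu⟩ : ∃ qu : (ZMod r)ˣ, (qu : ZMod r) = (Fintype.card F : ZMod r) :=
    ⟨Units.mk0 _ (card_ne_zero_zmod hrp), rfl⟩
  obtain ⟨H, hH⟩ : ∃ H : Subgroup (ZMod r)ˣ, H = Subgroup.zpowers qu := ⟨_, rfl⟩
  have hHc : Nat.card H = orderOf ((Fintype.card F : ℕ) : ZMod r) := by
    rw [hH, Nat.card_zpowers, ← orderOf_units, hqu]
  have hQ : Nat.card ((ZMod r)ˣ ⧸ H) = (r - 1) / orderOf ((Fintype.card F : ℕ) : ZMod r) := by
    have h := Subgroup.card_eq_card_quotient_mul_card_subgroup H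
    rw [Nat.card_eq_fintype_card, ZMod.card_units r, hHc] at h
    rw [h, Nat.mul_div_cancel _ (order_pos hrp)]
  haveI : Fintype ((ZMod r)ˣ ⧸ H) := Fintype.ofFinite _
  obtain ⟨em⟩ : Nonempty (Fin s ↪ {x : (ZMod r)ˣ ⧸ H // x ≠ 1}) := Function.Embedding.nonempty_of_card_le (by
    rw [Fintype.card_fin, Fintype.card_subtype_compl, Fintype.card_subtype_eq, ← Nat.card_eq_fintype_card, hQ]
    omega)
  refine ⟨fun j => (((em j).1.out : (ZMod r)ˣ) : ZMod r).val, fun j => ⟨fun h => ?_, fun a h => ?_⟩, fun j j' hne a h => ?_⟩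
  · rw [← ZMod.natCast_eq_zero_iff, ZMod.natCast_zmod_val] at h
    exact Units.ne_zero _ h
  · rw [ZMod.natCast_zmod_val, ← hqu, ← Units.val_pow_eq_pow_val] at h
    refine (em j).2 ?_
    rw [← QuotientGroup.out_eq' (em j).1, Units.ext h, QuotientGroup.eq_one_iff, hH]
    exact Subgroup.pow_mem _ (Subgroup.mem_zpowers qu) a
  · rw [ZMod.natCast_zmod_val, ZMod.natCast_zmod_val, ← hqu, ← Units.val_pow_eq_pow_val, ← Units.val_mul] at h
    refine hne (em.injective (Subtype.ext ?_))
    rw [← QuotientGroup.out_eq' (em j).1, Units.ext h, QuotientGroup.mk_mul_of_mem _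
      (hH ▸ Subgroup.pow_mem _ (Subgroup.mem_zpowers qu) a), QuotientGroup.out_eq']

/-- elements with many classes of odd multiplicity -/
theorem exists_symp_class_element (hrp : r ≠ p) (hr2 : r ≠ 2) {i d e k s : ℕ}
    (hi : i = orderOf ((Fintype.card F : ℕ) : ZMod r)) (hev : Even i) (hd : 2 * d = 2 * e + k * i) (hks : Odd (k - s))
    (hst : s + 1 ≤ (r - 1) / i) :
    ∃ x : Matrix.symplecticGroup (Fin d) F, (x : Matrix (Fin d ⊕ Fin d) (Fin d ⊕ Fin d) F) ^ r = 1 ∧
      Module.finrank F (LinearMap.ker (Matrix.toLin' (x : Matrix (Fin d ⊕ Fin d) (Fin d ⊕ Fin d) F) - 1)) = 2 * e ∧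
      ∀ W : Submodule F (Fin d ⊕ Fin d → F), (∀ u ∈ W, Matrix.toLin' (x : Matrix (Fin d ⊕ Fin d) (Fin d ⊕ Fin d) F) u ∈ W) →
        (∀ u ∈ W, ∀ v ∈ W, CfsgLib.Classical.SympCount.sB d F u v = 0) →
        2 * Module.finrank F W + (s + 1) * i ≤ 2 * d := by
  classical
  obtain ⟨d₀, hd₀'⟩ := hev
  have hipos : 0 < i := hi ▸ order_pos hrp
  have hd₀ : 0 < d₀ := by omega
  let K := FiniteField.Extension F p d₀
  haveI : NeZero d₀ := ⟨by omega⟩
  have hfin : Module.finrank F K = d₀ := FiniteField.finrank_extension F p d₀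
  haveI : Finite K := Module.finite_of_finite F
  letI : Fintype K := Fintype.ofFinite K
  haveI : CharP K p := charP_of_injective_algebraMap (algebraMap F K).injective p
  have hcard : Fintype.card K = Fintype.card F ^ d₀ := by rw [Module.card_eq_pow_finrank (K := F), hfin]
  have hdiv : r ∣ Fintype.card K - 1 ∨ r ∣ Fintype.card K + 1 := by
    have h1 : ((Fintype.card F : ZMod r) ^ d₀) ^ 2 = 1 := by
      rw [← pow_mul, ← orderOf_dvd_iff_pow_eq_one, ← hi, hd₀', show d₀ * 2 = d₀ + d₀ by ring]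
    rw [hcard]
    rcases sq_eq_one_iff.1 h1 with h | h
    · left
      rw [← (ZMod.natCast_eq_zero_iff _ r), Nat.cast_sub (Nat.one_le_pow _ _ Fintype.card_pos), Nat.cast_one,
        Nat.cast_pow, h, sub_self]
    · right
      rw [← (ZMod.natCast_eq_zero_iff _ r), Nat.cast_add, Nat.cast_one, Nat.cast_pow, h, neg_add_cancel]
  obtain ⟨A, hAr, hAfix⟩ := exists_fpf_sl_two (p := p) hrp hdiv
  have hV2 : Module.finrank F (Fin 2 → K) = i := by
    rw [Module.finrank_pi_fintype, Finset.sum_const, Finset.card_univ, Fintype.card_fin, smul_eq_mul, hfin, hd₀']; ring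
  -- the block map
  obtain ⟨L, hL⟩ : ∃ L : (Fin 2 → K) →ₗ[F] (Fin 2 → K), ∀ v, L v = A.1.mulVec v :=
    ⟨A.1.mulVecLin.restrictScalars F, fun v => rfl⟩
  have hLp : ∀ (n : ℕ) v, (L ^ n) v = (A ^ n).1.mulVec v := fun n => by
    induction n with
    | zero => intro v; simp
    | succ n ih =>
      intro v
      rw [pow_succ, Module.End.mul_apply, hL, ih, Matrix.mulVec_mulVec, pow_succ, Matrix.SpecialLinearGroup.coe_mul]
  have hLr : L ^ r = 1 := LinearMap.ext fun v => by rw [hLp, hAr]; simp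
  have hLn : ∀ n : ℕ, (L ^ n) ^ r = 1 := fun n => by rw [← pow_mul, mul_comm, pow_mul, hLr, one_pow]
  have hfixn : ∀ n : ℕ, ¬ r ∣ n → ∀ v, (L ^ n) v = v → v = 0 := by
    intro n hn v hv
    have hit : ∀ a : ℕ, (L ^ (n * a)) v = v := fun a => by
      induction a with
      | zero => simp
      | succ a ih => rw [Nat.mul_succ, pow_add, Module.End.mul_apply, hv, ih]
    have h := hit ((n : ZMod r)⁻¹).val
    have hmod : n * ((n : ZMod r)⁻¹).val % r = 1 % r := by
      refine (ZMod.natCast_eq_natCast_iff' _ _ r).1 ?_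
      rw [Nat.cast_mul, ZMod.natCast_zmod_val, mul_inv_cancel₀ (fun h => hn ((ZMod.natCast_eq_zero_iff _ r).1 h)),
        Nat.cast_one]
    rw [pow_eq_pow_mod _ hLr, hmod, ← pow_eq_pow_mod _ hLr, pow_one, hL] at h
    exact hAfix v h
  have hirr : ∀ n : ℕ, ¬ r ∣ n → ∀ N : Submodule F (Fin 2 → K), (∀ v ∈ N, (L ^ n) v ∈ N) → N = ⊥ ∨ N = ⊤ := by
    intro n hn N hN
    obtain ⟨j, hj, -⟩ := exists_split (p := p) hrp ((L ^ n).restrict hN) (LinearMap.ext fun u => Subtype.ext (by
      have h := restrict_aeval_coe (L ^ n) hN (X ^ r) u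
      rw [map_pow, map_pow, aeval_X, aeval_X, hLn] at h
      exact h))
    have hk0 : LinearMap.ker ((L ^ n).restrict hN - 1) = ⊥ := by
      rw [Submodule.eq_bot_iff]
      intro u hu
      exact Subtype.ext (hfixn n hn u (by simpa [sub_eq_zero] using congrArg Subtype.val (LinearMap.mem_ker.1 hu)))
    rw [hk0, finrank_bot, zero_add, ← hi] at hj
    have hle := Submodule.finrank_le N
    rw [hV2, hj] at hle
    rcases j with _ | _ | j
    · exact Or.inl (Submodule.finrank_eq_zero.1 (by rw [hj, zero_mul]))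
    · exact Or.inr (Submodule.eq_top_of_finrank_eq (by rw [hj, hV2, zero_add, one_mul]))
    · simp only [Nat.succ_mul] at hle; omega
  have hr1 : ¬ r ∣ 1 := fun h => (Fact.out : r.Prime).ne_one (Nat.dvd_one.1 h)
  have hinvker : ∀ (n : ℕ) (P : F[X]), ∀ v ∈ LinearMap.ker (aeval (L ^ n) P), (L ^ n) v ∈ LinearMap.ker (aeval (L ^ n) P) := by
    intro n P v hv
    rw [LinearMap.mem_ker] at hv ⊢
    rw [show (L ^ n) v = aeval (L ^ n) (X : F[X]) v by rw [aeval_X], ← Module.End.mul_apply, ← map_mul, mul_comm, map_mul,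
      Module.End.mul_apply, hv, map_zero]
  have hphi : aeval L (cyclotomic r F) = 0 := aeval_cyclotomic_of_fpf hLr fun v hv => hfixn 1 hr1 v (by rwa [pow_one])
  obtain ⟨g, hg, hgd, hg0⟩ : ∃ g, Irreducible g ∧ g ∣ cyclotomic r F ∧ aeval L g = 0 := by
    by_contra hno
    push Not at hno
    have h := ker_le_of_factors L (U := ⊥) (cyclotomic r F) (cyclotomic_squarefree' (p := p) hrp) fun g hg hgd w hw => by
      refine (Submodule.mem_bot F).2 (by_contra fun hw0 => hno g hg hgd (LinearMap.ker_eq_top.1 ?_))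
      refine (hirr 1 hr1 (LinearMap.ker (aeval L g)) ?_).resolve_left fun hb => hw0 ?_
      · have := hinvker 1 g
        rwa [pow_one] at this ⊢
      · exact (Submodule.mem_bot F).1 (hb ▸ LinearMap.mem_ker.2 hw)
    rw [hphi, LinearMap.ker_zero, top_le_iff] at h
    rw [← finrank_top F (Fin 2 → K), ← h, finrank_bot] at hV2
    omega
  haveI : Fact (Irreducible g) := ⟨hg⟩
  obtain ⟨l, hl⟩ : ∃ l : AdjoinRoot g, l = AdjoinRoot.root g := ⟨_, rfl⟩
  have hlev : ∀ P : F[X], aeval l P = 0 ↔ g ∣ P := fun P => by rw [hl, AdjoinRoot.aeval_eq, AdjoinRoot.mk_eq_zero]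
  have hlr : l ^ r = 1 := by
    have := (hlev _).2 (hgd.trans (cyclotomic.dvd_X_pow_sub_one r F))
    rwa [map_sub, map_pow, aeval_X, map_one, sub_eq_zero] at this
  have hl1 : l ≠ 1 := fun h => by
    have h0 := (hlev _).2 hgd
    rw [h, ← map_one (algebraMap F (AdjoinRoot g)), aeval_algebraMap_apply, coe_aeval_eq_eval, eval_one_cyclotomic_prime,
      map_natCast] at h0
    exact natCast_ne_zero_of_ne (F := F) hrp ((map_eq_zero (algebraMap F (AdjoinRoot g))).1 (by rw [map_natCast]; exact h0))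
  have hlord : orderOf l = r := orderOf_eq_prime hlr hl1
  obtain ⟨f, hf⟩ : ∃ f : ℕ → F[X], ∀ n, f n = minpoly F (l ^ n) := ⟨_, fun n => rfl⟩
  have hcomp : ∀ (n : ℕ) (P : F[X]), aeval L (P.comp (X ^ n)) = aeval (L ^ n) P := fun n P => by
    rw [aeval_comp, map_pow, aeval_X]
  have hfzero : ∀ n, aeval (L ^ n) (f n) = 0 := by
    intro n
    obtain ⟨c, hc⟩ := (hlev ((f n).comp (X ^ n))).1 (by rw [aeval_comp, map_pow, aeval_X, hf, minpoly.aeval])
    rw [← hcomp, hc, map_mul, hg0, zero_mul]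
  have hfinj : ∀ n n', ¬ r ∣ n → ¬ r ∣ n' → (∀ a : ℕ, (n' : ZMod r) ≠ (n : ZMod r) * (Fintype.card F : ZMod r) ^ a) →
      ∀ v, aeval (L ^ n') (f n) v = 0 → v = 0 := by
    intro n n' hn hn' hclass v hv
    by_contra hv0
    rcases hirr n' hn' _ (hinvker n' (f n)) with hb | hb
    · exact hv0 ((Submodule.mem_bot F).1 (hb ▸ LinearMap.mem_ker.2 hv))
    · rw [LinearMap.ker_eq_top, ← hcomp] at hb
      have hgdvd : g ∣ (f n).comp (X ^ n') := by
        by_contra hnd
        obtain ⟨a, b, hab⟩ := hg.coprime_iff_not_dvd.2 hnd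
        have h := congrArg (fun P => aeval L P v) hab
        simp only [map_add, map_mul, hg0, hb, mul_zero, add_zero, LinearMap.zero_apply, map_one,
          Module.End.one_apply] at h
        exact hv0 h.symm
      have hx := (hlev _).2 hgdvd
      rw [aeval_comp, map_pow, aeval_X, hf] at hx
      obtain ⟨a, ha⟩ := root_conjugate (p := p) hrp (by rw [← pow_mul, mul_comm, pow_mul, hlr, one_pow])
        (fun h => hn (hlord ▸ orderOf_dvd_of_pow_eq_one h)) hx
      rw [← pow_mul, (isOfFinOrder_iff_pow_eq_one.2 ⟨r, (Fact.out : r.Prime).pos, hlr⟩).pow_eq_pow_iff_modEq, hlord, ← ZMod.natCast_eq_natCast_iff, Nat.cast_mul, Nat.cast_pow] at ha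
      exact hclass a ha
  -- the exponents
  obtain ⟨ε₀, hε₀, hε₀'⟩ := exists_class_exponents (F := F) (p := p) hrp (s := s) (hi ▸ hst)
  obtain ⟨ε, hεs, hεb⟩ : ∃ ε : Fin k → ℕ, (∀ (j : Fin k) (h : (j : ℕ) < s), ε j = ε₀ ⟨j, h⟩) ∧
      ∀ j : Fin k, s ≤ (j : ℕ) → ε j = 1 :=
    ⟨fun j => if h : (j : ℕ) < s then ε₀ ⟨j, h⟩ else 1, fun j h => dif_pos h, fun j h => dif_neg (not_lt.2 h)⟩
  have hεr : ∀ j, ¬ r ∣ ε j := fun j => by
    rcases lt_or_ge (j : ℕ) s with h | h
    · rw [hεs j h]; exact (hε₀ _).1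
    · rw [hεb j h]; exact hr1
  -- the space
  obtain ⟨B, hB⟩ : ∃ B : LinearMap.BilinForm F ((Fin k → Fin 2 → K) × (Fin e → Fin 2 → F)),
      ∀ u v, B u v = (∑ j, Algebra.trace F K (u.1 j 0 * v.1 j 1 - u.1 j 1 * v.1 j 0)) +
        ∑ j, (u.2 j 0 * v.2 j 1 - u.2 j 1 * v.2 j 0) :=
    ⟨LinearMap.mk₂ F (fun u v => (∑ j, Algebra.trace F K (u.1 j 0 * v.1 j 1 - u.1 j 1 * v.1 j 0)) +
        ∑ j, (u.2 j 0 * v.2 j 1 - u.2 j 1 * v.2 j 0))
      (fun a b c => by
        rw [add_add_add_comm, ← Finset.sum_add_distrib, ← Finset.sum_add_distrib]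
        congr 1 <;> refine Finset.sum_congr rfl fun j _ => ?_
        · rw [← map_add]; congr 1; simp; ring
        · simp; ring)
      (fun s a b => by
        simp only [smul_eq_mul, mul_add, Finset.mul_sum]
        congr 1 <;> refine Finset.sum_congr rfl fun j _ => ?_
        · rw [← smul_eq_mul s, ← map_smul]; congr 1; simp [Algebra.smul_def]; ring
        · simp; ring)
      (fun a b c => by
        rw [add_add_add_comm, ← Finset.sum_add_distrib, ← Finset.sum_add_distrib]
        congr 1 <;> refine Finset.sum_congr rfl fun j _ => ?_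
        · rw [← map_add]; congr 1; simp; ring
        · simp; ring)
      (fun s a b => by
        simp only [smul_eq_mul, mul_add, Finset.mul_sum]
        congr 1 <;> refine Finset.sum_congr rfl fun j _ => ?_
        · rw [← smul_eq_mul s, ← map_smul]; congr 1; simp [Algebra.smul_def]; ring
        · simp; ring), fun u v => rfl⟩
  have hA : B.IsAlt := fun u => by simp [hB, mul_comm]
  have key : ∀ z : K, (∀ c, Algebra.trace F K (z * c) = 0) → z = 0 := fun z hz => (traceForm_nondegenerate F K).1 z hz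
  have hN : ∀ u, (∀ v, B u v = 0) → u = 0 := by
    intro u hu
    refine Prod.ext (funext fun j => funext fun l => ?_) (funext fun j => funext fun l => ?_)
    · fin_cases l
      · refine key _ fun s => ?_
        have h := hu (Pi.single j ![0, s], 0)
        rw [hB, Finset.sum_eq_single j (fun b _ hb => by simp [Pi.single_apply, hb]) (fun hj => absurd (Finset.mem_univ j) hj)] at h
        simpa using h
      · refine key _ fun s => ?_
        have h := hu (Pi.single j ![s, 0], 0)
        rw [hB, Finset.sum_eq_single j (fun b _ hb => by simp [Pi.single_apply, hb]) (fun hj => absurd (Finset.mem_univ j) hj)] at h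
        simpa using h
    · fin_cases l
      · have h := hu (0, Pi.single j ![0, 1])
        rw [hB, Finset.sum_eq_single (f := fun j' => (u.2 j' 0 * _ - u.2 j' 1 * _)) j
          (fun b _ hb => by simp [Pi.single_apply, hb]) (fun hj => absurd (Finset.mem_univ j) hj)] at h
        simpa using h
      · have h := hu (0, Pi.single j ![-1, 0])
        rw [hB, Finset.sum_eq_single (f := fun j' => (u.2 j' 0 * _ - u.2 j' 1 * _)) j
          (fun b _ hb => by simp [Pi.single_apply, hb]) (fun hj => absurd (Finset.mem_univ j) hj)] at h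
        simpa using h
  have hBnd : B.Nondegenerate := ⟨hN, fun u hu => hN u fun v => hA.isRefl _ _ (hu v)⟩
  have hV : Module.finrank F ((Fin k → Fin 2 → K) × (Fin e → Fin 2 → F)) = 2 * d := by
    rw [Module.finrank_prod, Module.finrank_pi_fintype, Module.finrank_pi_fintype]
    simp [Module.finrank_pi_fintype, hfin]
    rw [hd, hd₀']
    ring
  obtain ⟨T, hT⟩ : ∃ T : ((Fin k → Fin 2 → K) × (Fin e → Fin 2 → F)) →ₗ[F] ((Fin k → Fin 2 → K) × (Fin e → Fin 2 → F)),
      ∀ u, T u = (fun j => (L ^ ε j) (u.1 j), u.2) :=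
    ⟨((LinearMap.pi fun j => (L ^ ε j).comp (LinearMap.proj j)).prodMap LinearMap.id), fun u => rfl⟩
  have hI : ∀ u v, B (T u) (T v) = B u v := fun u v => by
    rw [hB, hB, hT, hT]
    congr 1
    refine Finset.sum_congr rfl fun j _ => congrArg _ ?_
    have hd' := (A ^ ε j).det_coe
    rw [Matrix.det_fin_two] at hd'
    simp only [hLp, Matrix.mulVec, dotProduct, Fin.sum_univ_two]
    linear_combination (u.1 j 0 * v.1 j 1 - u.1 j 1 * v.1 j 0) * hd'
  have hTr : T ^ r = 1 := by
    have h : ∀ (m : ℕ) u, (T ^ m) u = (fun j => ((L ^ ε j) ^ m) (u.1 j), u.2) := fun m => by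
      induction m with
      | zero => intro u; simp
      | succ m ih =>
        intro u
        rw [pow_succ, Module.End.mul_apply, ih, hT]
        refine Prod.ext (funext fun j => ?_) rfl
        show ((L ^ ε j) ^ m) ((L ^ ε j) (u.1 j)) = ((L ^ ε j) ^ (m + 1)) (u.1 j)
        rw [← Module.End.mul_apply, ← pow_succ]
    refine LinearMap.ext fun u => ?_
    rw [h]
    simp [hLn]
  obtain ⟨x, φ, hxφ, hform⟩ := exists_symp_model B hA hN hV T hI
  have hinj : Function.Injective T := injective_of_pow_eq_one (r := r) hTr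
  refine ⟨x, ?_, ?_, ?_⟩
  · have hp : ∀ (m : ℕ) u, ((Matrix.toLin' (x : Matrix (Fin d ⊕ Fin d) (Fin d ⊕ Fin d) F)) ^ m) (φ u) = φ ((T ^ m) u) :=
      fun m => by
        induction m with
        | zero => intro u; simp
        | succ m ih => intro u; rw [pow_succ, Module.End.mul_apply, hxφ, ih, ← Module.End.mul_apply, ← pow_succ]
    refine Matrix.toLin'.injective (LinearMap.ext fun v => ?_)
    obtain ⟨u, rfl⟩ := φ.surjective v
    rw [Matrix.toLin'_pow, hp, hTr, Matrix.toLin'_one]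
    rfl
  · have hk : LinearMap.ker (T - 1) = LinearMap.range (LinearMap.inr F (Fin k → Fin 2 → K) (Fin e → Fin 2 → F)) := by
      refine le_antisymm (fun u hu => ?_) ?_
      · refine ⟨u.2, ?_⟩
        rw [LinearMap.mem_ker, LinearMap.sub_apply, Module.End.one_apply, sub_eq_zero, hT] at hu
        exact Prod.ext (funext fun j => (hfixn _ (hεr j) _ (congrFun (congrArg Prod.fst hu) j)).symm) rfl
      · rintro _ ⟨v, rfl⟩
        rw [LinearMap.mem_ker, LinearMap.sub_apply, Module.End.one_apply, sub_eq_zero, hT]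
        refine Prod.ext (funext fun j => ?_) rfl
        simp
    have hker' : LinearMap.ker (Matrix.toLin' (x : Matrix (Fin d ⊕ Fin d) (Fin d ⊕ Fin d) F) - 1) =
        (LinearMap.ker (T - 1)).map (φ : _ →ₗ[F] (Fin d ⊕ Fin d → F)) := by
      ext v
      obtain ⟨u, rfl⟩ := φ.surjective v
      simp only [LinearMap.mem_ker, LinearMap.sub_apply, Module.End.one_apply, sub_eq_zero, hxφ,
        φ.injective.eq_iff, Submodule.mem_map, LinearEquiv.coe_coe, exists_eq_right]
    rw [hker', LinearEquiv.finrank_map_eq, hk, LinearMap.finrank_range_of_inj LinearMap.inr_injective,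
      Module.finrank_pi_fintype]
    simp [Module.finrank_fin_fun]
    ring
  intro W hWinv hWiso
  obtain ⟨W', hW'⟩ : ∃ W', W' = W.comap φ.toLinearMap := ⟨_, rfl⟩
  have hmem' : ∀ u, u ∈ W' ↔ φ u ∈ W := fun u => by rw [hW']; rfl
  have hWd : Module.finrank F W = Module.finrank F W' := by
    rw [← LinearEquiv.finrank_map_eq φ W', hW', Submodule.map_comap_eq_of_surjective φ.surjective]
  have hinv : ∀ u ∈ W', T u ∈ W' := fun u hu => by rw [hmem', ← hxφ]; exact hWinv _ ((hmem' u).1 hu)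
  have hiso : ∀ u ∈ W', ∀ v ∈ W', B u v = 0 := fun u hu v hv => by
    rw [← hform]; exact hWiso _ ((hmem' u).1 hu) _ ((hmem' v).1 hv)
  have hcomp1 : ∀ (P : F[X]) u j, (aeval T P u).1 j = aeval (L ^ ε j) P (u.1 j) := fun P u j =>
    aeval_intertwine (f := (LinearMap.proj j).comp (LinearMap.fst F (Fin k → Fin 2 → K) (Fin e → Fin 2 → F)))
      (fun v => by simp [hT]) P u
  have hcomp2 : ∀ (P : F[X]) u, (aeval T P u).2 = P.eval 1 • u.2 := fun P u => by
    have h := aeval_intertwine (f := LinearMap.snd F (Fin k → Fin 2 → K) (Fin e → Fin 2 → F)) (T := T)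
      (L := algebraMap F _ 1) (fun v => by simp [hT]) P u
    rw [aeval_algebraMap_apply, coe_aeval_eq_eval, Module.algebraMap_end_apply] at h
    exact h
  have hsingle : ∀ w ∈ W', ∀ j : Fin k, (j : ℕ) < s → w.1 j = 0 := by
    intro w hw j hj
    obtain ⟨ι, hι⟩ : ∃ ι, ι = (LinearMap.inl F (Fin k → Fin 2 → K) (Fin e → Fin 2 → F)).comp
        (LinearMap.single F (fun _ : Fin k => Fin 2 → K) j) := ⟨_, rfl⟩
    have hιapp : ∀ v, ι v = (Pi.single j v, 0) := fun v => by rw [hι]; rfl
    have hbot : W'.comap ι = ⊥ := by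
      refine (hirr _ (hεr j) (W'.comap ι) fun v hv => ?_).resolve_right fun htop => ?_
      · rw [Submodule.mem_comap] at hv ⊢
        have h := hinv _ hv
        convert h using 1
        rw [hιapp, hιapp, hT]
        refine Prod.ext (funext fun j' => ?_) rfl
        by_cases hjj : j' = j
        · subst hjj; simp
        · simp [Pi.single_eq_of_ne hjj]
      · refine one_ne_zero (key 1 fun c => ?_)
        have hm : ∀ v, ι v ∈ W' := fun v => Submodule.mem_comap.1 (htop ▸ Submodule.mem_top)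
        have h := hiso _ (hm ![1, 0]) _ (hm ![0, c])
        rw [hιapp, hιapp, hB, Finset.sum_eq_single j (fun b _ hb => by simp [Pi.single_apply, hb])
          (fun hj => absurd (Finset.mem_univ j) hj)] at h
        simpa using h
    obtain ⟨J, hJ⟩ : ∃ J, J = (Finset.univ : Finset (Fin s)).erase ⟨j, hj⟩ := ⟨_, rfl⟩
    obtain ⟨P, hP⟩ : ∃ P : F[X], P = (X - C 1) * (f 1 * ∏ j' ∈ J, f (ε₀ j')) := ⟨_, rfl⟩
    have hzero : ∀ (n : ℕ) (Q : F[X]), f n ∣ Q → aeval (L ^ n) Q = 0 := fun n Q ⟨c, hc⟩ => by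
      rw [hc, map_mul, hfzero, zero_mul]
    have hothers : ∀ j' ≠ j, aeval (L ^ ε j') P (w.1 j') = 0 := by
      intro j' hne
      have h : aeval (L ^ ε j') P = 0 := by
        refine hzero _ _ (hP ▸ dvd_mul_of_dvd_right ?_ _)
        rcases lt_or_ge (j' : ℕ) s with h | h
        · rw [hεs j' h]
          refine dvd_mul_of_dvd_right (Finset.dvd_prod_of_mem (fun c => f (ε₀ c)) ?_) _
          rw [hJ]
          exact Finset.mem_erase.2 ⟨fun e => hne (Fin.ext (congrArg Fin.val e :)), Finset.mem_univ _⟩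
        · rw [hεb j' h]; exact dvd_mul_right _ _
      rw [h, LinearMap.zero_apply]
    have hu : ι (aeval (L ^ ε j) P (w.1 j)) = aeval T P w := by
      rw [hιapp]
      refine Prod.ext (funext fun j' => ?_) ?_
      · rw [hcomp1]
        by_cases hjj : j' = j
        · subst hjj; simp
        · simp [Pi.single_eq_of_ne hjj, hothers j' hjj]
      · rw [hcomp2, hP]; simp
    have hz : aeval (L ^ ε j) P (w.1 j) = 0 := by
      rw [← Submodule.mem_bot F, ← hbot, Submodule.mem_comap, hu]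
      exact aeval_mem_of_invariant T hinv P hw
    have hinjP : ∀ v, aeval (L ^ ε j) P v = 0 → v = 0 := by
      have hprod : ∀ R : Finset (Fin s), ⟨(j : ℕ), hj⟩ ∉ R → ∀ v, aeval (L ^ ε j) (∏ j' ∈ R, f (ε₀ j')) v = 0 → v = 0 := by
        intro R
        induction R using Finset.induction_on with
        | empty => intro _ v hv; simpa using hv
        | insert a R ha ih =>
          intro hR v hv
          rw [Finset.mem_insert, not_or] at hR
          rw [Finset.prod_insert ha, map_mul, Module.End.mul_apply] at hv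
          refine ih hR.2 v (hfinj _ _ (hε₀ a).1 (hεr j) (fun c => ?_) _ hv)
          rw [hεs j hj]
          exact hε₀' _ _ hR.1 c
      intro v hv
      rw [hP, map_mul, Module.End.mul_apply, map_mul, Module.End.mul_apply] at hv
      refine hprod J (by rw [hJ]; exact Finset.notMem_erase _ _) v (hfinj 1 _ hr1 (hεr j) (fun c => ?_) _
        (hfixn _ (hεr j) _ (by simpa [sub_eq_zero] using hv)))
      rw [hεs j hj, Nat.cast_one, one_mul]
      exact (hε₀ _).2 c
    exact hinjP _ hz
  -- the two parts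
  obtain ⟨Z₁, hZ₁⟩ : ∃ Z, Z = LinearMap.ker (LinearMap.snd F (Fin k → Fin 2 → K) (Fin e → Fin 2 → F)) := ⟨_, rfl⟩
  obtain ⟨W₁, hW₁⟩ : ∃ W₁, W₁ = W' ⊓ Z₁ := ⟨_, rfl⟩
  obtain ⟨W₂, hW₂⟩ : ∃ W₂, W₂ = W' ⊓ LinearMap.ker (LinearMap.fst F (Fin k → Fin 2 → K) (Fin e → Fin 2 → F)) := ⟨_, rfl⟩
  have hw₁ : ∀ u ∈ W₁, u ∈ W' ∧ u.2 = 0 := fun u hu => by
    rw [hW₁, hZ₁] at hu; exact ⟨hu.1, hu.2⟩
  have hw₂ : ∀ u ∈ W₂, u ∈ W' ∧ u.1 = 0 := fun u hu => by
    rw [hW₂] at hu; exact ⟨hu.1, hu.2⟩
  have hdisW : Disjoint W₁ W₂ := Submodule.disjoint_def.2 fun u h1 h2 => Prod.ext (hw₂ u h2).2 (hw₁ u h1).2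
  have hsupW : W₁ ⊔ W₂ = W' := by
    refine le_antisymm (sup_le (hW₁ ▸ inf_le_left) (hW₂ ▸ inf_le_left)) fun w hw => ?_
    obtain ⟨v, hv⟩ : ∃ v, v = (r : F)⁻¹ • aeval T (cyclotomic r F) w := ⟨_, rfl⟩
    have hvW : v ∈ W' := hv ▸ W'.smul_mem _ (aeval_mem_of_invariant T hinv _ hw)
    have hv2 : v.2 = w.2 := by
      rw [hv, Prod.smul_snd, hcomp2, eval_one_cyclotomic_prime, inv_smul_smul₀ (natCast_ne_zero_of_ne hrp)]
    have hv1 : v.1 = 0 := funext fun j => by
      rw [hv, Prod.smul_fst, Pi.smul_apply, hcomp1, aeval_cyclotomic_of_fpf (hLn _) (hfixn _ (hεr j)),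
        LinearMap.zero_apply, smul_zero]
      rfl
    rw [← sub_add_cancel w v]
    refine Submodule.add_mem_sup ?_ ?_
    · rw [hW₁, hZ₁]
      exact ⟨W'.sub_mem hw hvW, by simp [hv2]⟩
    · rw [hW₂]
      exact ⟨hvW, hv1⟩
  have hsum : Module.finrank F W' = Module.finrank F W₁ + Module.finrank F W₂ := by
    have h := Submodule.finrank_sup_add_finrank_inf_eq W₁ W₂
    rwa [hdisW.eq_bot, finrank_bot, add_zero, hsupW] at h
  have hb₂ : 2 * Module.finrank F W₂ + k * i ≤ 2 * d := by
    have hZd : Module.finrank F Z₁ = k * i := by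
      rw [hZ₁, LinearMap.ker_snd, LinearMap.finrank_range_of_inj LinearMap.inl_injective, Module.finrank_pi_fintype]
      simp [hV2]
    rw [← hZd, ← hV]
    refine finrank_iso_add_le hBnd (fun u hu v hv => hiso _ (hw₂ u hu).1 _ (hw₂ v hv).1) (fun u hu v hv => ?_)
      (Submodule.disjoint_def.2 fun u hu hv => ?_)
    · rw [hZ₁, LinearMap.mem_ker] at hv
      have hv' : v.2 = 0 := hv
      rw [hB]
      simp [(hw₂ u hu).2, hv']
    · rw [hZ₁] at hv
      exact Prod.ext (hw₂ u hu).2 hv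
  obtain ⟨π, hπ⟩ : ∃ π : ((Fin k → Fin 2 → K) × (Fin e → Fin 2 → F)) →ₗ[F] (Fin (k - s) → Fin 2 → K),
      ∀ u c, π u c = u.1 ⟨s + c, by omega⟩ :=
    ⟨LinearMap.pi fun c => (LinearMap.proj ⟨s + c, by omega⟩).comp
      (LinearMap.fst F (Fin k → Fin 2 → K) (Fin e → Fin 2 → F)), fun u c => rfl⟩
  have hπ0 : ∀ u, π u = 0 → ∀ j : Fin k, s ≤ (j : ℕ) → u.1 j = 0 := fun u hu j hj => by
    have h := congrFun hu ⟨j - s, by omega⟩
    rw [hπ] at h
    simpa [Nat.add_sub_cancel' hj] using h
  have hπd : Module.finrank F (LinearMap.ker π) + (k - s) * i = 2 * d := by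
    have hsur : Function.Surjective π := fun y =>
      ⟨(fun j => if h : s ≤ (j : ℕ) then y ⟨j - s, by omega⟩ else 0, 0), funext fun c => by
        rw [hπ]
        show (if h : s ≤ s + (c : ℕ) then y ⟨s + c - s, _⟩ else 0) = y c
        rw [dif_pos (Nat.le_add_right _ _)]
        exact congrArg y (Fin.ext (Nat.add_sub_cancel_left _ _))⟩
    have h := LinearMap.finrank_range_add_finrank_ker π
    rw [LinearMap.range_eq_top.2 hsur, finrank_top, hV, Module.finrank_pi_fintype] at h
    simp only [hV2, Finset.sum_const, Finset.card_univ, Fintype.card_fin, smul_eq_mul] at h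
    omega
  have hb₁ : 2 * Module.finrank F W₁ + Module.finrank F (LinearMap.ker π) ≤ 2 * d := by
    rw [← hV]
    refine finrank_iso_add_le hBnd (fun u hu v hv => hiso _ (hw₁ u hu).1 _ (hw₁ v hv).1) (fun u hu v hv => ?_)
      (Submodule.disjoint_def.2 fun u hu hv => Prod.ext (funext fun j => ?_) (hw₁ u hu).2)
    · rw [hB, (hw₁ u hu).2, Finset.sum_eq_zero fun j _ => ?_]
      · simp
      rcases lt_or_ge (j : ℕ) s with h | h
      · rw [hsingle u (hw₁ u hu).1 j h]; simp
      · rw [hπ0 v (LinearMap.mem_ker.1 hv) j h]; simp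
    · rcases lt_or_ge (j : ℕ) s with h | h
      · exact hsingle u (hw₁ u hu).1 j h
      · exact hπ0 u (LinearMap.mem_ker.1 hv) j h
  obtain ⟨j, hj⟩ : ∃ j, Module.finrank F W₁ = j * i := by
    have hW₁inv : ∀ u ∈ W₁, T u ∈ W₁ := fun u hu => by
      rw [hW₁, hZ₁]
      exact ⟨hinv _ (hw₁ u hu).1, LinearMap.mem_ker.2 (by rw [LinearMap.snd_apply, hT]; exact (hw₁ u hu).2)⟩
    obtain ⟨j, hj, -⟩ := exists_split (p := p) hrp (T.restrict hW₁inv) (LinearMap.ext fun u => Subtype.ext (by
      have h := restrict_aeval_coe T hW₁inv (X ^ r) u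
      rw [map_pow, map_pow, aeval_X, aeval_X, hTr] at h
      exact h))
    have hk0 : LinearMap.ker (T.restrict hW₁inv - 1) = ⊥ := by
      rw [Submodule.eq_bot_iff]
      intro u hu
      have h : T (u : (Fin k → Fin 2 → K) × (Fin e → Fin 2 → F)) = u := by
        simpa [sub_eq_zero] using congrArg Subtype.val (LinearMap.mem_ker.1 hu)
      rw [hT] at h
      exact Subtype.ext (Prod.ext (funext fun j => hfixn _ (hεr j) _ (congrFun (congrArg Prod.fst h) j)) (hw₁ _ u.2).2)
    rw [hk0, finrank_bot, zero_add, ← hi] at hj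
    exact ⟨j, hj⟩
  have h2j : 2 * j + 1 ≤ k - s := by
    have h : 2 * j ≤ k - s := Nat.le_of_mul_le_mul_right (c := i) (by rw [hj] at hb₁; rw [mul_assoc]; omega) hipos
    obtain ⟨c, hc⟩ := hks
    omega
  have h2 := Nat.mul_le_mul_right i h2j
  rw [hWd, hsum, hj]
  have e1 : (2 * j + 1) * i = 2 * (j * i) + i := by ring
  have e2 : (s + 1) * i = s * i + i := by ring
  have e3 : (k - s) * i + s * i = k * i := by
    rw [← add_mul, Nat.sub_add_cancel (by obtain ⟨c, hc⟩ := hks; omega)]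
  omega

end CfsgLib.Perm.Elusive
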