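import Mathlib
import Cfsg.Agent.Lib.Perm.Elusive.OrthTypes
import Cfsg.Agent.Lib.Perm.Elusive.OrthTorus
import Cfsg.Agent.Lib.IsometryConj.OrthClasses
import Cfsg.Agent.Lib.Perm.Trans.QuadWitt
import Cfsg.Agent.Lib.Perm.Elusive.SympClassElement

/-!
# Isometries of odd prime order of quadratic spaces: blocks, types, elements
-/

set_option autoImplicit false
set_option linter.all false

namespace CfsgLib.Perm.Elusive

open CfsgLib.Classical
open scoped Matrix

variable {F : Type*} [Field F] [Fintype F] {p : ℕ} [Fact p.Prime] [CharP F p] {r : ℕ} [Fact r.Prime]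
variable {V : Type*} [AddCommGroup V] [Module F V] [FiniteDimensional F V]

omit [Fintype F] [Fact p.Prime] [CharP F p] [Fact r.Prime] [FiniteDimensional F V] in
theorem polar_map {Q : QuadraticForm F V} {T : V →ₗ[F] V} (hI : ∀ v, Q (T v) = Q v) (u v : V) :
    QuadraticMap.polar Q (T u) (T v) = QuadraticMap.polar Q u v := by
  simp only [QuadraticMap.polar, ← map_add, hI]

omit [Fintype F] [Fact p.Prime] [CharP F p] [FiniteDimensional F V] in
theorem fixed_of_sq_fixed (hr2 : r ≠ 2) {T : V →ₗ[F] V} (hT : T ^ r = 1) {x : V} (h2 : T (T x) = x) : T x = x := by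
  obtain ⟨m, hm⟩ := (Fact.out : r.Prime).odd_of_ne_two hr2
  have h3 : ∀ k, (T ^ (2 * k)) x = x := fun k => by
    induction k with
    | zero => simp
    | succ k ih => rw [Nat.mul_succ, pow_add, Module.End.mul_apply, sq, Module.End.mul_apply, h2, ih]
  have h := LinearMap.congr_fun hT x
  rw [hm, pow_succ', Module.End.mul_apply, h3, Module.End.one_apply] at h
  exact h

/-- blocks without fixed points -/
theorem exists_orth_block (hrp : r ≠ p) (hr2 : r ≠ 2) {Q : QuadraticForm F V} {T : V →ₗ[F] V}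
    (hI : ∀ v, Q (T v) = Q v) (hT : T ^ r = 1) {S : Submodule F V} (hS : ∀ u ∈ S, T u ∈ S)
    (hnd : QNd Q S) (hfp : ∀ u ∈ S, T u = u → u = 0) (hS0 : S ≠ ⊥) {c : ℕ}
    (hc : c = if Even (orderOf ((Fintype.card F : ℕ) : ZMod r)) then orderOf ((Fintype.card F : ℕ) : ZMod r)
      else 2 * orderOf ((Fintype.card F : ℕ) : ZMod r)) :
    ∃ W ≤ S, (∀ u ∈ W, T u ∈ W) ∧ QNd Q W ∧ Module.finrank F W = c := by
  classical
  obtain ⟨T', hT'⟩ : ∃ T' : S →ₗ[F] S, T' = T.restrict hS := ⟨_, rfl⟩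
  have hT'v : ∀ u : S, (T' u : V) = T u := fun u => by rw [hT']; rfl
  have hT'r : T' ^ r = 1 := LinearMap.ext fun u => Subtype.ext (by
    have h := restrict_aeval_coe T hS (Polynomial.X ^ r) u
    rw [map_pow, map_pow, Polynomial.aeval_X, Polynomial.aeval_X, hT] at h
    rw [hT']
    exact h)
  obtain ⟨D, hD⟩ : ∃ D : S →ₗ[F] S, D = T' - T' ^ (r - 1) := ⟨_, rfl⟩
  have hr1 : r - 1 + 1 = r := Nat.sub_add_cancel (Fact.out : r.Prime).one_le
  have hinv : ∀ u, T' ((T' ^ (r - 1)) u) = u := fun u => by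
    rw [← Module.End.mul_apply, ← pow_succ', hr1, hT'r, Module.End.one_apply]
  have hfix' : ∀ u : S, T' u = u → u = 0 := fun u hu =>
    Subtype.ext (hfp u u.2 (by rw [← hT'v, hu]))
  have hDinj : Function.Injective D := by
    refine (injective_iff_map_eq_zero D).2 fun u hu => ?_
    rw [hD, LinearMap.sub_apply, sub_eq_zero] at hu
    exact hfix' u (fixed_of_sq_fixed hr2 hT'r (by rw [hu, hinv]))
  obtain ⟨P, hP⟩ : ∃ P : LinearMap.BilinForm F S, ∀ u v, P u v = qB Q (D u : V) (v : V) :=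
    ⟨(qB Q).compl₁₂ (S.subtype.comp D) S.subtype, fun u v => rfl⟩
  have hPA : P.IsAlt := fun u => by
    have h : QuadraticMap.polar Q ((T' ^ (r - 1)) u : V) (u : V) = QuadraticMap.polar Q (u : V) (T' u : V) := by
      rw [← polar_map hI, ← hT'v, hinv, ← hT'v]
    rw [hP, qB_apply, hD, LinearMap.sub_apply, Submodule.coe_sub, QuadraticMap.polar_sub_left, h,
      QuadraticMap.polar_comm, sub_self]
  have hPn : P.Nondegenerate := by
    have key : ∀ u, (∀ v, P u v = 0) → u = 0 := fun u hu => by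
      by_contra hne
      obtain ⟨v, hv, h⟩ := (qnd_iff Q S).1 hnd _ (D u).2 fun h => hne (hDinj ((Subtype.ext h).trans (map_zero D).symm))
      exact h ((hP u ⟨v, hv⟩).symm.trans (hu _))
    exact ⟨key, fun v hv => key v fun u => hPA.isRefl u v (hv u)⟩
  obtain ⟨W, hW, hWnd, hWf⟩ := exists_symp_block (p := p) hrp hr2 (B := P) hPA hPn T' (fun u v => by
      rw [hP, hP, qB_apply, qB_apply]
      have hc' : D (T' u) = T' (D u) := by
        rw [hD, LinearMap.sub_apply, LinearMap.sub_apply, map_sub, ← Module.End.mul_apply (f := T') (g := T' ^ (r - 1)),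
          ← pow_succ', pow_succ, Module.End.mul_apply]
      rw [hc', hT'v, hT'v, polar_map hI]) hT'r
    (by
      rw [Submodule.eq_bot_iff]
      intro u hu
      exact hfix' u (by simpa [sub_eq_zero] using hu))
    (Nat.pos_of_ne_zero fun h => hS0 (Submodule.finrank_eq_zero.1 h)) hc
  refine ⟨W.map S.subtype, Submodule.map_subtype_le _ _, ?_, (qnd_iff Q _).2 ?_, ?_⟩
  · rintro _ ⟨u, hu, rfl⟩
    exact ⟨_, hW u hu, hT'v u⟩
  · rintro _ ⟨u, hu, rfl⟩ hu0
    have hDW : ∀ w ∈ W, D w ∈ W := fun w hw => by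
      rw [hD, LinearMap.sub_apply]
      refine W.sub_mem (hW w hw) ?_
      have hpow : ∀ (n : ℕ), (T' ^ n) w ∈ W := fun n => by
        induction n with
        | zero => simpa using hw
        | succ n ih => rw [pow_succ', Module.End.mul_apply]; exact hW _ ih
      exact hpow _
    obtain ⟨w, hw⟩ := (LinearMap.surjective_of_injective (f := D.restrict hDW) fun x y e =>
      Subtype.ext (hDinj (congrArg Subtype.val e))) ⟨u, hu⟩
    have hw' : D w = u := congrArg Subtype.val hw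
    obtain ⟨v, hv, hne⟩ := (disjoint_orth_iff hPA.isRefl W).1 hWnd w w.2 fun h0 => hu0 (by
      rw [← hw', h0, map_zero, Submodule.subtype_apply, Submodule.coe_zero])
    refine ⟨v, ⟨v, hv, rfl⟩, ?_⟩
    rwa [hP, hw'] at hne
  · rw [Submodule.finrank_map_subtype_eq, hWf]

/-- the type of a subspace without fixed points decides a congruence -/
theorem fpf_type_dvd (hrp : r ≠ p) (hr2 : r ≠ 2) {Q : QuadraticForm F V} {T : V →ₗ[F] V}
    (hI : ∀ v, Q (T v) = Q v) (hT : T ^ r = 1) {S : Submodule F V} (hS : ∀ u ∈ S, T u ∈ S)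
    (hnd : QNd Q S) (hfp : ∀ u ∈ S, T u = u → u = 0) {h : ℕ} (hd : Module.finrank F S = 2 * h) (hpos : 0 < h) :
    (QPlus Q S → (Fintype.card F : ZMod r) ^ h = 1) ∧ (¬ QPlus Q S → (Fintype.card F : ZMod r) ^ h = -1) := by
  classical
  obtain ⟨k, rfl⟩ : ∃ k, h = k + 1 := ⟨h - 1, by omega⟩
  have hr : r.Prime := Fact.out
  have hrq : ¬ r ∣ Fintype.card F := fun hd => card_ne_zero_zmod (F := F) hrp ((ZMod.natCast_eq_zero_iff _ r).2 hd)
  obtain ⟨a, b, hab⟩ := CfsgLib.IsometryConj.exists_anisotropic_binary (F := F)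
  have hgl : ∀ {κ : Type} [Fintype κ] [DecidableEq κ] (L : (κ → F) ≃ₗ[F] S) (P : (κ → F) → F),
      (∀ v, Q (L v : V) = P v) → ∃ g : GL κ F, g ∈ Cfsg.isometryGroup F P ∧ g ^ r = 1 ∧
        ∀ v, (g : Matrix κ κ F) *ᵥ v = v → v = 0 := by
    intro κ _ _ L P hLP
    obtain ⟨f, hf⟩ : ∃ f : Module.End F (κ → F), f = L.symm.conj (T.restrict hS) := ⟨_, rfl⟩
    have hfv : ∀ v, f v = L.symm ((T.restrict hS) (L v)) := fun v => by rw [hf]; rfl
    have hfp' : ∀ (j : ℕ) v, (L ((f ^ j) v) : V) = (T ^ j) (L v : V) := fun j => by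
      induction j with
      | zero => intro v; simp
      | succ j ih =>
        intro v
        rw [pow_succ', Module.End.mul_apply, hfv, L.apply_symm_apply, pow_succ', Module.End.mul_apply, ← ih]
        rfl
    have hfr : f ^ r = 1 := LinearMap.ext fun v => L.injective (Subtype.ext (by
      rw [hfp', hT]; rfl))
    have hXr : LinearMap.toMatrix' f ^ r = 1 := Matrix.toLin'.injective (by
      rw [Matrix.toLin'_pow, Matrix.toLin'_toMatrix', hfr, Matrix.toLin'_one]; rfl)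
    refine ⟨(IsUnit.of_pow_eq_one hXr hr.ne_zero).unit, CfsgLib.Classical.mem_isometryGroup_iff.2 fun v => ?_,
      Units.ext (by simp [hXr]), fun v hv => ?_⟩
    · rw [IsUnit.unit_spec, LinearMap.toMatrix'_mulVec, ← hLP, ← hLP, hfv, L.apply_symm_apply]
      exact hI _
    · rw [IsUnit.unit_spec, LinearMap.toMatrix'_mulVec, hfv, LinearEquiv.symm_apply_eq] at hv
      exact L.map_eq_zero_iff.1 (Subtype.ext (hfp _ (L v).2 (congrArg Subtype.val hv)))
  rcases qplus_cases hnd hd hab with ⟨hp, L, hL⟩ | ⟨hp, L, hL⟩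
  · refine ⟨fun _ => ?_, fun h => absurd hp h⟩
    obtain ⟨g, hg, hgr, hgf⟩ := hgl L _ hL
    have := CfsgLib.IsometryConj.plus_dvd hr hr2 hrq (m := k) (g := g) (by rw [plusQ_coe]; exact hg) hgr hgf
    rw [← ZMod.intCast_zmod_eq_zero_iff_dvd] at this
    push_cast at this
    exact sub_eq_zero.1 this
  · refine ⟨fun h => absurd h hp, fun _ => ?_⟩
    obtain ⟨g, hg, hgr, hgf⟩ := hgl L _ hL
    have := CfsgLib.IsometryConj.minus_dvd hr hr2 hrq hab (m := k) (g := g) (by rw [minusQ_coe]; exact hg) hgr hgf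
    rw [← ZMod.intCast_zmod_eq_zero_iff_dvd] at this
    push_cast at this
    exact eq_neg_of_add_eq_zero_left this

omit [Fintype F] [Fact p.Prime] [CharP F p] in
theorem one_ne_neg_one_zmod (hr2 : r ≠ 2) : (1 : ZMod r) ≠ -1 := fun h => by
  have h2 : ((2 : ℕ) : ZMod r) = 0 := by push_cast; linear_combination h
  exact hr2 ((Nat.prime_dvd_prime_iff_eq Fact.out Nat.prime_two).1 ((ZMod.natCast_eq_zero_iff 2 r).1 h2))

/-- the dimension of a block and the powers of `q` -/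
theorem block_power (hrp : r ≠ p) (hr2 : r ≠ 2) {i c : ℕ} (hi : i = orderOf ((Fintype.card F : ℕ) : ZMod r))
    (hc : c = if Even i then i else 2 * i) :
    0 < i ∧ 0 < c ∧ Even c ∧
      ∀ j, (Fintype.card F : ZMod r) ^ (j * (c / 2)) = if Odd i ∨ Even j then 1 else -1 := by
  have hipos : 0 < i := hi ▸ order_pos hrp
  refine ⟨hipos, by split_ifs at hc <;> omega, ?_, fun j => ?_⟩
  · rw [hc]; split_ifs with h
    · exact h
    · exact even_two_mul _
  · by_cases hev : Even i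
    · rw [if_pos hev] at hc
      obtain ⟨i', hi'⟩ := hev
      have hneg : (Fintype.card F : ZMod r) ^ i' = -1 := by
        have h1 : ((Fintype.card F : ZMod r) ^ i') ^ 2 = 1 := by
          rw [← pow_mul, show i' * 2 = i by omega, hi, pow_orderOf_eq_one]
        rcases sq_eq_one_iff.1 h1 with h | h
        · have := orderOf_dvd_of_pow_eq_one h
          rw [← hi] at this
          have := Nat.le_of_dvd (by omega) this
          omega
        · exact h
      rw [hc, show i / 2 = i' by omega, mul_comm, pow_mul, hneg]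
      rcases Nat.even_or_odd j with hj | hj
      · rw [hj.neg_one_pow, if_pos (Or.inr hj)]
      · rw [hj.neg_one_pow, if_neg]
        rintro (h | h)
        · exact Nat.not_even_iff_odd.2 h ⟨i', hi'⟩
        · exact Nat.not_even_iff_odd.2 hj h
    · rw [if_neg hev] at hc
      rw [if_pos (Or.inl (Nat.not_even_iff_odd.1 hev)), hc, Nat.mul_div_cancel_left _ two_pos, mul_comm, pow_mul, hi,
        pow_orderOf_eq_one, one_pow]

/-- fixed space and blocks -/
theorem orth_structure (hrp : r ≠ p) (hr2 : r ≠ 2) {Q : QuadraticForm F V}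
    (hN : (QuadraticMap.polarBilin Q).Nondegenerate) {T : V →ₗ[F] V} (hI : ∀ v, Q (T v) = Q v) (hT : T ^ r = 1)
    {i c : ℕ} (hi : i = orderOf ((Fintype.card F : ℕ) : ZMod r)) (hc : c = if Even i then i else 2 * i) :
    ∃ M k, QNd Q (LinearMap.ker (T - 1)) ∧ QNd Q M ∧ (∀ u ∈ M, T u ∈ M) ∧
      (∀ u ∈ LinearMap.ker (T - 1), ∀ v ∈ M, QuadraticMap.polar Q u v = 0) ∧
      LinearMap.ker (T - 1) ⊔ M = ⊤ ∧
      Module.finrank F M = k * c ∧
      Module.finrank F V = Module.finrank F (LinearMap.ker (T - 1)) + k * c ∧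
      (∀ j ≤ k, ∃ W ≤ M, (∀ u ∈ W, T u ∈ W) ∧ QNd Q W ∧ Module.finrank F W = j * c ∧
        (QPlus Q W ↔ Odd i ∨ Even j)) ∧
      (∀ W : Submodule F V, (∀ u ∈ W, T u ∈ W) → QNd Q W → ∃ j, j ≤ k ∧
        QNd Q (W ⊓ LinearMap.ker (T - 1)) ∧ QNd Q (W ⊓ M) ∧ W = (W ⊓ LinearMap.ker (T - 1)) ⊔ (W ⊓ M) ∧
        Module.finrank F (W ⊓ M : Submodule F V) = j * c ∧
        Module.finrank F W = Module.finrank F (W ⊓ LinearMap.ker (T - 1) : Submodule F V) + j * c ∧
        (QPlus Q (W ⊓ M) ↔ Odd i ∨ Even j)) := by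
  classical
  obtain ⟨hipos, hcpos, hce, hpw⟩ := block_power (F := F) (p := p) hrp hr2 hi hc
  have hR := polar_refl Q
  have hIB : ∀ u v, qB Q (T u) (T v) = qB Q u v := fun u v => polar_map hI u v
  have hinj := injective_of_pow_eq_one (r := r) hT
  obtain ⟨E, hE⟩ : ∃ E, E = LinearMap.ker (T - 1) := ⟨_, rfl⟩
  obtain ⟨M, hM⟩ : ∃ M, M = LinearMap.ker (Polynomial.aeval T (Polynomial.cyclotomic r F)) := ⟨_, rfl⟩
  obtain ⟨hcm, ho⟩ := fixed_moved (p := p) hrp (B := qB Q) T hIB hT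
  rw [← hE, ← hM] at hcm ho
  rw [← hE]
  have hfix : ∀ u ∈ E, T u = u := fun u hu => by rw [hE] at hu; simpa [sub_eq_zero] using hu
  have hEi : ∀ u ∈ E, T u ∈ E := fun u hu => by rw [hfix u hu]; exact hu
  have hMi : ∀ u ∈ M, T u ∈ M := fun u hu => by
    rw [hM, LinearMap.mem_ker] at hu ⊢
    rw [show T u = Polynomial.aeval T (Polynomial.X : Polynomial F) u by rw [Polynomial.aeval_X],
      ← Module.End.mul_apply, ← map_mul, mul_comm, map_mul, Module.End.mul_apply, hu, map_zero]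
  have hsplitnd : ∀ {X Y : Submodule F V}, (∀ u ∈ X, ∀ v ∈ Y, qB Q u v = 0) → QNd Q (X ⊔ Y) → QNd Q X := by
    intro X Y hXY h
    rw [qnd_iff] at h ⊢
    intro u hu hu0
    obtain ⟨v, hv, hne⟩ := h u (Submodule.mem_sup_left hu) hu0
    obtain ⟨x, hx, y, hy, rfl⟩ := Submodule.mem_sup.1 hv
    refine ⟨x, hx, fun e => hne ?_⟩
    rw [QuadraticMap.polar_add_right, e, zero_add]
    exact hXY u hu y hy
  have ho' : ∀ u ∈ M, ∀ v ∈ E, qB Q u v = 0 := fun u hu v hv => hR _ _ (ho v hv u hu)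
  have htop : E ⊔ M = ⊤ := hcm.sup_eq_top
  have hEnd : QNd Q E := hsplitnd ho (htop ▸ qnd_top hN)
  have hMnd : QNd Q M := hsplitnd ho' (sup_comm E M ▸ htop ▸ qnd_top hN)
  have hMfp : ∀ u ∈ M, T u = u → u = 0 := fun u hu h =>
    Submodule.disjoint_def.1 hcm.disjoint u (hE ▸ LinearMap.mem_ker.2 (by simp [h])) hu
  have hc' : c = if Even (orderOf ((Fintype.card F : ℕ) : ZMod r)) then orderOf ((Fintype.card F : ℕ) : ZMod r)
      else 2 * orderOf ((Fintype.card F : ℕ) : ZMod r) := hi ▸ hc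
  have hchain : ∀ {S : Submodule F V}, S ≤ M → (∀ u ∈ S, T u ∈ S) → QNd Q S →
      ∃ k, Module.finrank F S = k * c ∧ (QPlus Q S ↔ Odd i ∨ Even k) ∧
        ∀ j ≤ k, ∃ W ≤ S, (∀ u ∈ W, T u ∈ W) ∧ QNd Q W ∧ Module.finrank F W = j * c := by
    intro S hSM hSi hSnd
    obtain ⟨k, hk, hex⟩ := block_chain (B := qB Q) hR hIB hinj hcpos (S₀ := M) (fun S' hS' hS'i hS'nd hS'0 =>
      exists_orth_block (p := p) hrp hr2 hI hT hS'i hS'nd (fun u hu => hMfp u (hS' hu)) hS'0 hc') hSM hSi hSnd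
    refine ⟨k, hk, ?_, hex⟩
    rcases Nat.eq_zero_or_pos k with hk0 | hk0
    · subst hk0
      rw [zero_mul, Submodule.finrank_eq_zero] at hk
      subst hk
      exact iff_of_true (qplus_bot Q) (Or.inr Even.zero)
    obtain ⟨c', rfl⟩ := hce
    obtain ⟨hp, hm⟩ := fpf_type_dvd (p := p) hrp hr2 hI hT hSi hSnd (fun u hu => hMfp u (hSM hu)) (h := k * c')
      (by rw [hk]; ring) (Nat.mul_pos hk0 (by omega))
    have hpk := hpw k
    rw [show (c' + c') / 2 = c' by omega] at hpk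
    refine ⟨fun h => ?_, fun h => ?_⟩
    · by_contra hn
      rw [hp h, if_neg hn] at hpk
      exact one_ne_neg_one_zmod hr2 hpk
    · by_contra hn
      rw [hm hn, if_pos h] at hpk
      exact one_ne_neg_one_zmod hr2 hpk.symm
  obtain ⟨k, hk, -, hex⟩ := hchain le_rfl hMi hMnd
  refine ⟨M, k, hEnd, hMnd, hMi, ho, htop, hk, ?_, fun j hj => ?_, fun W hW hWnd => ?_⟩
  · rw [← hk, Submodule.finrank_add_eq_of_isCompl hcm]
  · obtain ⟨W, h1, h2, h3, h4⟩ := hex j hj
    obtain ⟨j', hj', hj'p, -⟩ := hchain h1 h2 h3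
    obtain rfl : j = j' := Nat.eq_of_mul_eq_mul_right hcpos (h4.symm.trans hj')
    exact ⟨W, h1, h2, h3, h4, hj'p⟩
  · have hWsup : W = (W ⊓ E) ⊔ (W ⊓ M) := by
      obtain ⟨hcW, -⟩ := fixed_moved (p := p) hrp (B := (qB Q).restrict W) (T.restrict hW) (fun u v => hIB u v)
        (LinearMap.ext fun u => Subtype.ext (by
          have h := restrict_aeval_coe T hW (Polynomial.X ^ r) u
          rw [map_pow, map_pow, Polynomial.aeval_X, Polynomial.aeval_X, hT] at h
          exact h))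
      refine le_antisymm (fun u hu => ?_) (sup_le inf_le_left inf_le_left)
      obtain ⟨x, hx, y, hy, hxy⟩ := Submodule.mem_sup.1 (hcW.sup_eq_top.ge (Submodule.mem_top (x := (⟨u, hu⟩ : W))))
      rw [show u = (x : V) + (y : V) from (congrArg Subtype.val hxy).symm]
      refine Submodule.add_mem_sup ⟨x.2, ?_⟩ ⟨y.2, ?_⟩
      · rw [SetLike.mem_coe, hE, LinearMap.mem_ker]
        have h := congrArg Subtype.val (LinearMap.mem_ker.1 hx)
        simpa using h
      · rw [SetLike.mem_coe, hM, LinearMap.mem_ker, ← restrict_aeval_coe T hW, LinearMap.mem_ker.1 hy]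
        rfl
    have hoW : ∀ u ∈ W ⊓ E, ∀ v ∈ W ⊓ M, qB Q u v = 0 := fun u hu v hv => ho u hu.2 v hv.2
    have hA : QNd Q (W ⊓ E) := hsplitnd hoW (hWsup ▸ hWnd)
    have hB : QNd Q (W ⊓ M) := hsplitnd (show ∀ u ∈ W ⊓ M, ∀ v ∈ W ⊓ E, qB Q u v = 0 from fun u hu v hv => ho' u hu.2 v hv.2)
      (by rw [sup_comm, ← hWsup]; exact hWnd)
    obtain ⟨j, hj, hjp, -⟩ := hchain (inf_le_right : W ⊓ M ≤ M) (fun u hu => ⟨hW u hu.1, hMi u hu.2⟩) hB
    refine ⟨j, ?_, hA, hB, hWsup, hj, ?_, hjp⟩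
    · have := Submodule.finrank_mono (inf_le_right : W ⊓ M ≤ M)
      rw [hj, hk] at this
      exact Nat.le_of_mul_le_mul_right this hcpos
    · conv_lhs => rw [hWsup]
      rw [finrank_sup_polar hA hoW, hj]

/-- every invariant nondegenerate subspace of even dimension -/
theorem fix_even_data (hrp : r ≠ p) (hr2 : r ≠ 2) {Q : QuadraticForm F V}
    (hN : (QuadraticMap.polarBilin Q).Nondegenerate) {T : V →ₗ[F] V} (hI : ∀ v, Q (T v) = Q v) (hT : T ^ r = 1)
    {i c : ℕ} (hi : i = orderOf ((Fintype.card F : ℕ) : ZMod r)) (hc : c = if Even i then i else 2 * i)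
    {W : Submodule F V} (hW : ∀ u ∈ W, T u ∈ W) (hWnd : QNd Q W) {m : ℕ} (hm : Even m)
    (hWf : Module.finrank F W = m) :
    ∃ j f, m = f + j * c ∧ Even f ∧ f ≤ Module.finrank F (LinearMap.ker (T - 1)) ∧
      Module.finrank F (LinearMap.ker (T - 1)) + j * c ≤ Module.finrank F V ∧
      (f = 0 → (QPlus Q W ↔ Odd i ∨ Even j)) ∧
      (f = Module.finrank F (LinearMap.ker (T - 1)) →
        (QPlus Q W ↔ (QPlus Q (LinearMap.ker (T - 1)) ↔ Odd i ∨ Even j))) := by
  obtain ⟨M, k, hEnd, hMnd, hMi, ho, htop, hk, hdim, -, hdata⟩ := orth_structure (p := p) hrp hr2 hN hI hT hi hc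
  obtain ⟨-, -, hce, -⟩ := block_power (F := F) (p := p) hrp hr2 hi hc
  obtain ⟨j, hj, hA, hB, hsup, hBf, hWd, hBp⟩ := hdata W hW hWnd
  obtain ⟨f, hf⟩ : ∃ f, f = Module.finrank F (W ⊓ LinearMap.ker (T - 1) : Submodule F V) := ⟨_, rfl⟩
  rw [← hf, hWf] at hWd
  have hfe : Even f := (Nat.even_add.1 (hWd ▸ hm : Even (f + j * c))).2 (hce.mul_left j)
  have hfle : f ≤ Module.finrank F (LinearMap.ker (T - 1)) := hf ▸ Submodule.finrank_mono inf_le_right
  have hjk : j * c ≤ k * c := Nat.mul_le_mul_right c hj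
  obtain ⟨h₁, hh₁⟩ := hfe
  obtain ⟨c', hc'⟩ := hce
  have hiff := qplus_sup_iff hA hB (fun u hu v hv => ho u hu.2 v hv.2) (h := h₁) (h' := j * c') (by omega)
    (by rw [hBf, hc']; ring)
  rw [← hsup, hBp] at hiff
  refine ⟨j, f, hWd, ⟨h₁, hh₁⟩, hfle, by omega, fun h0 => ?_, fun he => ?_⟩
  · rw [h0, eq_comm, Submodule.finrank_eq_zero] at hf
    rw [hiff, hf]
    exact iff_true_left (qplus_bot Q)
  · rw [hiff, Submodule.eq_of_le_of_finrank_eq (inf_le_right : W ⊓ LinearMap.ker (T - 1) ≤ _) (hf.symm.trans he)]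

/-- building invariant subspaces of even dimension -/
theorem exists_fix_even (hrp : r ≠ p) (hr2 : r ≠ 2) {Q : QuadraticForm F V}
    (hN : (QuadraticMap.polarBilin Q).Nondegenerate) {T : V →ₗ[F] V} (hI : ∀ v, Q (T v) = Q v) (hT : T ^ r = 1)
    {i c : ℕ} (hi : i = orderOf ((Fintype.card F : ℕ) : ZMod r)) (hc : c = if Even i then i else 2 * i)
    (b : Prop) {j f : ℕ} (hf : Even f) (hfe : f ≤ Module.finrank F (LinearMap.ker (T - 1)))
    (hj : Module.finrank F (LinearMap.ker (T - 1)) + j * c ≤ Module.finrank F V)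
    (h0 : f = 0 → (b ↔ Odd i ∨ Even j))
    (he : f = Module.finrank F (LinearMap.ker (T - 1)) → 0 < f →
      (b ↔ (QPlus Q (LinearMap.ker (T - 1)) ↔ Odd i ∨ Even j))) :
    ∃ W : Submodule F V, (∀ u ∈ W, T u ∈ W) ∧ QNd Q W ∧ Module.finrank F W = f + j * c ∧ (QPlus Q W ↔ b) := by
  obtain ⟨M, k, hEnd, hMnd, hMi, ho, htop, hk, hdim, hex, -⟩ := orth_structure (p := p) hrp hr2 hN hI hT hi hc
  obtain ⟨-, hcpos, hce, -⟩ := block_power (F := F) (p := p) hrp hr2 hi hc
  have hjk : j ≤ k := Nat.le_of_mul_le_mul_right (show j * c ≤ k * c by omega) hcpos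
  obtain ⟨B, hBM, hBi, hB, hBf, hBp⟩ := hex j hjk
  obtain ⟨h₁, hh₁⟩ := hf
  obtain ⟨c', hc'⟩ := hce
  obtain ⟨A, hAE, hA, hAf, hAp⟩ : ∃ A ≤ LinearMap.ker (T - 1), QNd Q A ∧ Module.finrank F A = f ∧
      ((QPlus Q A ↔ (Odd i ∨ Even j)) ↔ b) := by
    rcases Nat.eq_zero_or_pos f with h | h
    · refine ⟨⊥, bot_le, qnd_bot Q, by rw [finrank_bot, h], ?_⟩
      rw [h0 h]
      exact iff_true_left (qplus_bot Q)
    rcases hfe.lt_or_eq with h' | h'
    · obtain ⟨A, h1, h2, h3, h4⟩ := exists_sub_type hEnd (h := h₁) (by omega) (by omega) (b ↔ Odd i ∨ Even j)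
      exact ⟨A, h1, h2, by omega, by rw [h4]; tauto⟩
    · exact ⟨_, le_rfl, hEnd, h'.symm, (he h' h).symm⟩
  refine ⟨A ⊔ B, fun u hu => ?_, sup_nd (polar_refl Q) hA hB fun v hv u hu => ho u (hAE hu) v (hBM hv), ?_, ?_⟩
  · obtain ⟨x, hx, y, hy, rfl⟩ := Submodule.mem_sup.1 hu
    rw [map_add]
    refine Submodule.add_mem_sup ?_ (hBi y hy)
    have hxE : T x = x := by simpa [sub_eq_zero] using hAE hx
    rwa [hxE]
  · rw [finrank_sup_polar hA fun u hu v hv => ho u (hAE hu) v (hBM hv), hAf, hBf]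
  · rw [qplus_sup_iff hA hB (fun u hu v hv => ho u (hAE hu) v (hBM hv)) (h := h₁) (h' := j * c') (by omega)
      (by rw [hBf, hc']; ring), hBp]
    exact hAp

/-- an element with prescribed moved space -/
theorem exists_orth_element (hrp : r ≠ p) (hr2 : r ≠ 2) {Q : QuadraticForm F V}
    {i c k : ℕ} (hi : i = orderOf ((Fintype.card F : ℕ) : ZMod r)) (hc : c = if Even i then i else 2 * i) (hk : 0 < k)
    {W : Submodule F V} (hW : QNd Q W) (hWf : Module.finrank F W = k * c) (hWp : QPlus Q W ↔ Odd i ∨ Even k) :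
    ∃ T : V →ₗ[F] V, (∀ v, Q (T v) = Q v) ∧ T ^ r = 1 ∧
      LinearMap.ker (T - 1) = (qB Q).orthogonal W := by
  classical
  obtain ⟨hipos, hcpos, hce, hpw⟩ := block_power (F := F) (p := p) hrp hr2 hi hc
  obtain ⟨c', rfl⟩ := hce
  obtain ⟨h, hh⟩ : ∃ h, k * c' = h + 1 := ⟨k * c' - 1, by have := Nat.mul_pos hk (show 0 < c' by omega); omega⟩
  have hpk := hpw k
  rw [show (c' + c') / 2 = c' by omega, hh] at hpk
  obtain ⟨a, b, hab⟩ := CfsgLib.IsometryConj.exists_anisotropic_binary (F := F)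
  obtain ⟨f, hfI, hfr, hff⟩ : ∃ f : W →ₗ[F] W, (∀ v, Q (f v : V) = Q (v : V)) ∧ f ^ r = 1 ∧ ∀ v, f v = v → v = 0 := by
    have hmk : ∀ {κ : Type} [Fintype κ] [DecidableEq κ] (L : (κ → F) ≃ₗ[F] W) (P : (κ → F) → F),
        (∀ v, Q (L v : V) = P v) → (∃ g : GL κ F, g ∈ Cfsg.isometryGroup F P ∧ g ^ r = 1 ∧
          ∀ v, (g : Matrix κ κ F) *ᵥ v = v → v = 0) →
        ∃ f : W →ₗ[F] W, (∀ v, Q (f v : V) = Q (v : V)) ∧ f ^ r = 1 ∧ ∀ v, f v = v → v = 0 := by
      intro κ _ _ L P hLP ⟨g, hg, hgr, hgf⟩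
      obtain ⟨f, hf⟩ : ∃ f : Module.End F W, f = L.conj (Matrix.toLin' (g : Matrix κ κ F)) := ⟨_, rfl⟩
      have hfv : ∀ v, f v = L ((g : Matrix κ κ F) *ᵥ L.symm v) := fun v => by rw [hf]; rfl
      refine ⟨f, fun v => ?_, LinearMap.ext fun v => ?_, fun v hv => ?_⟩
      · rw [hfv, hLP, CfsgLib.Classical.mem_isometryGroup_iff.1 hg, ← hLP, L.apply_symm_apply]
      · have hp : ∀ (j : ℕ) v, (f ^ j) v = L (((g ^ j : GL κ F) : Matrix κ κ F) *ᵥ L.symm v) := fun j => by
          induction j with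
          | zero => intro v; simp
          | succ j ih =>
            intro v
            rw [pow_succ', Module.End.mul_apply, ih, hfv, L.symm_apply_apply, Matrix.mulVec_mulVec, ← Units.val_mul,
              ← pow_succ']
        rw [hp, hgr]; simp
      · rw [hfv, ← LinearEquiv.eq_symm_apply] at hv
        exact L.symm.map_eq_zero_iff.1 (hgf _ hv)
    have hfd : Module.finrank F W = 2 * (h + 1) := by rw [hWf, ← hh]; ring
    have hcast : ∀ s : ℕ, ((Fintype.card F ^ s - 1 : ℕ) : ZMod r) = (Fintype.card F : ZMod r) ^ s - 1 := fun s => by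
      rw [Nat.cast_sub (Nat.one_le_pow _ _ Fintype.card_pos), Nat.cast_one, Nat.cast_pow]
    rcases qplus_cases hW hfd hab with ⟨hp, L, hL⟩ | ⟨hp, L, hL⟩
    · rw [if_pos (hWp.1 hp)] at hpk
      exact hmk L _ hL (exists_plus_fpf (r := r) (d := h + 1) (by omega) (by
        rw [← ZMod.natCast_eq_zero_iff, hcast, hpk, sub_self]))
    · rw [if_neg (hWp.not.1 hp)] at hpk
      exact hmk L _ hL (exists_minus_fpf (r := r) (by
        rw [← ZMod.natCast_eq_zero_iff, Nat.cast_add, Nat.cast_one, Nat.cast_pow, hpk, neg_add_cancel]) hab)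
  obtain ⟨O, hO⟩ : ∃ O, O = (qB Q).orthogonal W := ⟨_, rfl⟩
  have hcm : IsCompl W O := hO ▸ isCompl_orth (polar_refl Q) hW
  rw [← hO]
  obtain ⟨T, hT⟩ : ∃ T : V →ₗ[F] V, T = W.subtype.comp (f.comp (W.projectionOnto O hcm)) +
      O.subtype.comp (O.projectionOnto W hcm.symm) := ⟨_, rfl⟩
  have hTW : ∀ w : W, T (w : V) = (f w : V) := fun w => by
    rw [hT, LinearMap.add_apply, LinearMap.comp_apply, LinearMap.comp_apply, LinearMap.comp_apply,
      Submodule.projectionOnto_apply_left hcm w, Submodule.projectionOnto_apply_right hcm.symm w]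
    simp
  have hTO : ∀ o ∈ O, T o = o := fun o ho => by
    rw [hT, LinearMap.add_apply, LinearMap.comp_apply, LinearMap.comp_apply, LinearMap.comp_apply,
      Submodule.projectionOnto_apply_right hcm ⟨o, ho⟩, Submodule.projectionOnto_apply_left hcm.symm ⟨o, ho⟩]
    simp
  have hdec : ∀ v, ∃ w : W, ∃ o ∈ O, v = (w : V) + o := fun v => by
    obtain ⟨x, hx, y, hy, rfl⟩ := Submodule.mem_sup.1 (hcm.sup_eq_top.ge (Submodule.mem_top (x := v)))
    exact ⟨⟨x, hx⟩, y, hy, rfl⟩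
  refine ⟨T, fun v => ?_, LinearMap.ext fun v => ?_, ?_⟩
  · obtain ⟨w, o, ho, rfl⟩ := hdec v
    have hp : ∀ w' : W, QuadraticMap.polar Q (w' : V) o = 0 := fun w' => (hO ▸ ho) w' w'.2
    rw [map_add, hTW, hTO o ho, QuadraticMap.map_add (⇑Q), QuadraticMap.map_add (⇑Q), hp, hp, hfI]
  · obtain ⟨w, o, ho, rfl⟩ := hdec v
    have hp : ∀ (j : ℕ), (T ^ j) ((w : V) + o) = ((f ^ j) w : V) + o := fun j => by
      induction j with
      | zero => simp
      | succ j ih =>
        rw [pow_succ', Module.End.mul_apply, ih, map_add, hTW, hTO o ho, pow_succ', Module.End.mul_apply]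
    rw [hp, hfr]; rfl
  · refine le_antisymm (fun v hv => ?_) fun o ho => LinearMap.mem_ker.2 (by simp [hTO o ho])
    obtain ⟨w, o, ho, rfl⟩ := hdec v
    have h : T ((w : V) + o) = (w : V) + o := by simpa [sub_eq_zero] using hv
    rw [map_add, hTW, hTO o ho, add_left_inj] at h
    rw [hff w (Subtype.ext h), Submodule.coe_zero, zero_add]
    exact ho

/-- one class of subspaces inside a space without isometries of order `r` has size prime to `r` -/
theorem class_not_dvd {Q : QuadraticForm F V} (hN : (QuadraticMap.polarBilin Q).Nondegenerate)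
    {T : V →ₗ[F] V} (hI : ∀ v, Q (T v) = Q v) (hT : T ^ r = 1) {M : Submodule F V}
    (ho : ∀ u ∈ LinearMap.ker (T - 1), ∀ v ∈ M, QuadraticMap.polar Q u v = 0)
    (hd : Disjoint (LinearMap.ker (T - 1)) M) (htop : LinearMap.ker (T - 1) ⊔ M = ⊤)
    (hno : ∀ g : V →ₗ[F] V, (∀ v, Q (g v) = Q v) → (∀ v ∈ M, g v = v) → g ^ r = 1 → g = 1)
    (X : Submodule F V → Prop)
    (hXmap : ∀ W (g : V ≃ₗ[F] V), (∀ v, Q (g v) = Q v) → X W → X (W.map g.toLinearMap))
    (hne : ∃ W, X W ∧ ∀ u ∈ W, T u ∈ W)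
    (hXE : ∀ W, X W → (∀ u ∈ W, T u ∈ W) → W ≤ LinearMap.ker (T - 1))
    (hiso : ∀ W W', X W → X W' → ∃ e : W ≃ₗ[F] W', ∀ w, Q (e w : V) = Q (w : V)) :
    ¬ r ∣ Nat.card {W : Submodule F V // X W} := by
  classical
  intro hdvd
  have hr : r.Prime := Fact.out
  haveI : Finite V := Module.finite_of_finite F
  have hinj := injective_of_pow_eq_one (r := r) hT
  obtain ⟨Te, hTe⟩ : ∃ Te : V ≃ₗ[F] V, ∀ v, Te v = T v := ⟨LinearEquiv.ofInjectiveEndo T hinj, fun v => rfl⟩
  -- isometries as permutations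
  let G : Subgroup (V ≃ₗ[F] V) :=
    { carrier := {g | ∀ v, Q (g v) = Q v}
      mul_mem' := fun {a b} ha hb v => (ha (b v)).trans (hb v)
      one_mem' := fun v => rfl
      inv_mem' := fun {a} ha v => (ha (a.symm v)).symm.trans (congrArg Q (a.apply_symm_apply v)) }
  letI act : MulAction G {W : Submodule F V // X W} :=
    { smul := fun g W => ⟨W.1.map (g.1 : V ≃ₗ[F] V).toLinearMap, hXmap W.1 g.1 g.2 W.2⟩
      one_smul := fun W => Subtype.ext (Submodule.map_id W.1)
      mul_smul := fun g h W => Subtype.ext (Submodule.map_comp (h.1 : V ≃ₗ[F] V).toLinearMap (g.1 : V ≃ₗ[F] V).toLinearMap W.1) }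
  have hsmul : ∀ (g : G) W, (g • W : {W : Submodule F V // X W}).1 = W.1.map (g.1 : V ≃ₗ[F] V).toLinearMap :=
    fun g W => rfl
  haveI : Finite G := Finite.of_injective (fun g : G => ((g.1 : V ≃ₗ[F] V) : V → V))
    fun g h e => Subtype.ext (LinearEquiv.ext (congrFun e))
  have hperp : ∀ x, (∀ v ∈ M, QuadraticMap.polar Q x v = 0) → T x = x := by
    intro x hx
    obtain ⟨e, he, m, hm, rfl⟩ := Submodule.mem_sup.1 (htop.ge (Submodule.mem_top (x := x)))
    have hm0 : m = 0 := hN.1 m fun z => by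
      show QuadraticMap.polar Q m z = 0
      obtain ⟨e', he', m', hm', rfl⟩ := Submodule.mem_sup.1 (htop.ge (Submodule.mem_top (x := z)))
      have h := hx m' hm'
      rw [QuadraticMap.polar_add_left, ho e he m' hm', zero_add] at h
      rw [QuadraticMap.polar_add_right, QuadraticMap.polar_comm, ho e' he' m hm, zero_add, h]
    rw [hm0, add_zero]
    simpa [sub_eq_zero] using he
  -- fixed points of `T`
  let t : G := ⟨Te, fun v => by rw [hTe, hI]⟩
  have hpow : ∀ (n : ℕ) v, ((t ^ n : G).1 : V ≃ₗ[F] V) v = (T ^ n) v := fun n => by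
    induction n with
    | zero => intro v; rfl
    | succ n ih =>
      intro v
      rw [pow_succ', pow_succ', Module.End.mul_apply, ← ih, ← hTe]
      rfl
  have htr : t ^ r = 1 := Subtype.ext (LinearEquiv.ext fun v => by rw [hpow, hT]; rfl)
  have hP : IsPGroup r (Subgroup.zpowers t) := by
    have hdvd : Nat.card (Subgroup.zpowers t) ∣ r ^ 1 := by
      rw [Nat.card_zpowers, pow_one]; exact orderOf_dvd_of_pow_eq_one htr
    obtain ⟨k, -, hk⟩ := (Nat.dvd_prime_pow hr).1 hdvd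
    exact IsPGroup.of_card hk
  have hmod := hP.card_modEq_card_fixedPoints {W : Submodule F V // X W}
  have hfixiff : ∀ W, W ∈ MulAction.fixedPoints (Subgroup.zpowers t) {W : Submodule F V // X W} ↔
      ∀ u ∈ W.1, T u ∈ W.1 := by
    intro W
    constructor
    · intro h u hu
      have h1 : t • W = W := h ⟨t, Subgroup.mem_zpowers t⟩
      rw [← h1, hsmul]
      exact ⟨u, hu, hTe u⟩
    · intro h
      have h1 : t • W = W := by
        refine Subtype.ext (Submodule.eq_of_le_of_finrank_eq ?_ ?_)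
        · rw [hsmul]
          rintro _ ⟨u, hu, rfl⟩
          show Te u ∈ W.1
          rw [hTe]; exact h u hu
        · rw [hsmul]; exact LinearEquiv.finrank_map_eq Te W.1
      rintro ⟨g, hg⟩
      have hle : Subgroup.zpowers t ≤ MulAction.stabilizer G W := Subgroup.zpowers_le.2 h1
      exact hle hg
  -- the centraliser of the moved part
  let C : Subgroup G :=
    { carrier := {g | ∀ v ∈ M, (g.1 : V ≃ₗ[F] V) v = v}
      mul_mem' := fun {a b} ha hb v hv => by
        show (a.1 : V ≃ₗ[F] V) ((b.1 : V ≃ₗ[F] V) v) = v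
        rw [hb v hv, ha v hv]
      one_mem' := fun v _ => rfl
      inv_mem' := fun {a} ha v hv => by
        show (a.1 : V ≃ₗ[F] V).symm v = v
        rw [LinearEquiv.symm_apply_eq]; exact (ha v hv).symm }
  have hCr : ¬ r ∣ Nat.card C := fun h => by
    obtain ⟨g, hg⟩ := exists_prime_orderOf_dvd_card' r h
    have hg' : g ^ r = 1 := hg ▸ pow_orderOf_eq_one g
    have hgp : ∀ (n : ℕ) v, (((g.1.1 : V ≃ₗ[F] V).toLinearMap) ^ n) v = (((g ^ n : C).1.1 : V ≃ₗ[F] V)) v := fun n => by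
      induction n with
      | zero => intro v; rfl
      | succ n ih => intro v; rw [pow_succ', Module.End.mul_apply, ih, pow_succ']; rfl
    have h1 := hno (g.1.1 : V ≃ₗ[F] V).toLinearMap (fun v => g.1.2 v) (fun v hv => g.2 v hv)
      (LinearMap.ext fun v => by rw [hgp, hg']; rfl)
    have hg1 : g = 1 := Subtype.ext (Subtype.ext (LinearEquiv.ext fun v => LinearMap.congr_fun h1 v))
    rw [hg1, orderOf_one] at hg
    exact hr.one_lt.ne hg
  obtain ⟨W₀, hW₀, hW₀T⟩ := hne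
  have horb : MulAction.orbit C (⟨W₀, hW₀⟩ : {W : Submodule F V // X W}) =
      MulAction.fixedPoints (Subgroup.zpowers t) {W : Submodule F V // X W} := by
    ext W
    rw [hfixiff]
    constructor
    · rintro ⟨g, rfl⟩
      have hW₀E := hXE W₀ hW₀ hW₀T
      show ∀ u ∈ (g.1 • (⟨W₀, hW₀⟩ : {W : Submodule F V // X W})).1, _
      rw [hsmul]
      rintro _ ⟨u, hu, rfl⟩
      refine ⟨u, hu, ?_⟩
      show (g.1.1 : V ≃ₗ[F] V) u = T ((g.1.1 : V ≃ₗ[F] V) u)
      -- the image is fixed because it is orthogonal to the moved space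
      have hgu : ∀ v ∈ M, QuadraticMap.polar Q ((g.1.1 : V ≃ₗ[F] V) u) v = 0 := fun v hv => by
        conv_lhs => arg 3; rw [← g.2 v hv]
        exact (polar_map (T := (g.1.1 : V ≃ₗ[F] V).toLinearMap) (fun x => g.1.2 x) u v).trans (ho u (hW₀E hu) v hv)
      exact (hperp _ hgu).symm
    · intro hW
      obtain ⟨e, he⟩ := hiso W₀ W.1 hW₀ W.2
      have hW₀E := hXE W₀ hW₀ hW₀T
      have hWE := hXE W.1 W.2 hW
      have hd₀ : Disjoint W₀ M := hd.mono_left hW₀E
      obtain ⟨φ, hφ⟩ : ∃ φ : (W₀ ⊔ M : Submodule F V) →ₗ[F] V, ∀ (x : W₀) (y : M) (h : (x : V) + y ∈ W₀ ⊔ M),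
          φ ⟨(x : V) + y, h⟩ = (e x : V) + y := by
        have hcop : Function.Injective (W₀.subtype.coprod M.subtype) := by
          refine (injective_iff_map_eq_zero _).2 fun z hz => ?_
          simp only [LinearMap.coprod_apply, Submodule.subtype_apply] at hz
          have h1 : (z.1 : V) = 0 := Submodule.disjoint_def.1 hd₀ _ z.1.2 (by
            rw [eq_neg_of_add_eq_zero_left hz]; exact M.neg_mem z.2.2)
          rw [h1, zero_add] at hz
          exact Prod.ext (Subtype.ext h1) (Subtype.ext hz)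
        let E₁ : (W₀ × M) ≃ₗ[F] (W₀ ⊔ M : Submodule F V) := (LinearEquiv.ofInjective _ hcop).trans
          (LinearEquiv.ofEq _ _ (by rw [LinearMap.range_coprod, Submodule.range_subtype, Submodule.range_subtype]))
        refine ⟨((W.1.subtype.comp e.toLinearMap).coprod M.subtype).comp E₁.symm.toLinearMap, fun x y h => ?_⟩
        have hE₁ : E₁ (x, y) = ⟨(x : V) + y, h⟩ := Subtype.ext rfl
        rw [LinearMap.comp_apply, ← hE₁, LinearEquiv.coe_coe, E₁.symm_apply_apply]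
        rfl
      have hdec : ∀ z : (W₀ ⊔ M : Submodule F V), ∃ (x : W₀) (y : M), ∃ h, z = ⟨(x : V) + y, h⟩ := fun z => by
        obtain ⟨x, hx, y, hy, hxy⟩ := Submodule.mem_sup.1 z.2
        exact ⟨⟨x, hx⟩, ⟨y, hy⟩, Submodule.add_mem_sup hx hy, Subtype.ext hxy.symm⟩
      obtain ⟨g, hg, hgφ⟩ := CfsgLib.Perm.Trans.Witt.witt_extension hN (W₀ ⊔ M) φ (by
          refine (injective_iff_map_eq_zero φ).2 fun z hz => ?_
          obtain ⟨x, y, h, rfl⟩ := hdec z
          rw [hφ] at hz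
          have h1 : (e x : V) = 0 := Submodule.disjoint_def.1 (hd.mono_left hWE) _ (e x).2 (by
            rw [eq_neg_of_add_eq_zero_left hz]; exact M.neg_mem y.2)
          rw [h1, zero_add] at hz
          have hx0 : x = 0 := e.map_eq_zero_iff.1 (Subtype.ext h1)
          exact Subtype.ext (by simp [hx0, hz]))
        (fun z => by
          obtain ⟨x, y, h, rfl⟩ := hdec z
          rw [hφ, QuadraticMap.map_add (⇑Q), ho _ (hWE (e x).2) _ y.2, he]
          show _ = Q ((x : V) + y)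
          rw [QuadraticMap.map_add (⇑Q), ho _ (hW₀E x.2) _ y.2])
      refine ⟨⟨⟨g, hg⟩, fun v hv => ?_⟩, Subtype.ext ?_⟩
      · have h := hgφ ⟨((0 : W₀) : V) + v, Submodule.add_mem_sup (zero_mem _) hv⟩
        rw [hφ (0 : W₀) ⟨v, hv⟩, map_zero] at h
        simpa using h
      · show W₀.map g.toLinearMap = W.1
        refine Submodule.eq_of_le_of_finrank_eq ?_ (by rw [LinearEquiv.finrank_map_eq, e.finrank_eq])
        rintro _ ⟨u, hu, rfl⟩
        have h := hgφ ⟨u + ((0 : M) : V), Submodule.add_mem_sup hu (zero_mem _)⟩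
        rw [hφ ⟨u, hu⟩ (0 : M)] at h
        have h' : g u = (e ⟨u, hu⟩ : V) := by simpa using h
        rw [LinearEquiv.coe_coe, h']
        exact (e _).2
  have hcard : r ∣ Nat.card (MulAction.fixedPoints (Subgroup.zpowers t) {W : Submodule F V // X W}) :=
    (Nat.ModEq.dvd_iff hmod dvd_rfl).1 hdvd
  rw [← horb] at hcard
  refine hCr (hcard.trans ?_)
  rw [← Nat.card_congr (MulAction.orbitProdStabilizerEquivGroup C (⟨W₀, hW₀⟩ : {W : Submodule F V // X W})),
    Nat.card_prod]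
  exact Dvd.intro _ rfl

end CfsgLib.Perm.Elusive
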