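import Mathlib
import Cfsg.Agent.Lib.Perm.Elusive.OrthSemisimple

/-!
# Elements of odd prime order fixing a nondegenerate subspace of even dimension and given type
-/

set_option autoImplicit false
set_option linter.all false

namespace CfsgLib.Perm.Elusive

open CfsgLib.Classical
open scoped Matrix

section General

variable {F : Type*} [Field F] {V : Type*} [AddCommGroup V] [Module F V]

theorem qnd_map {Q : QuadraticForm F V} (g : V ≃ₗ[F] V) (hg : ∀ v, Q (g v) = Q v) {W : Submodule F V} (hW : QNd Q W) :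
    QNd Q (W.map g.toLinearMap) := by
  rw [QNd, Submodule.disjoint_def]
  rintro _ ⟨u, hu, rfl⟩ ho
  have h0 : u = 0 := Submodule.disjoint_def.1 hW u hu fun v hv => by
    show QuadraticMap.polar Q v u = 0
    rw [← polar_map (T := g.toLinearMap) hg v u]
    exact ho _ ⟨v, hv, rfl⟩
  rw [h0, map_zero]

theorem qplus_map_iff {Q : QuadraticForm F V} (g : V ≃ₗ[F] V) (hg : ∀ v, Q (g v) = Q v) (W : Submodule F V) :
    QPlus Q (W.map g.toLinearMap) ↔ QPlus Q W := by
  have key : ∀ (g : V ≃ₗ[F] V), (∀ v, Q (g v) = Q v) → ∀ W : Submodule F V, QPlus Q W → QPlus Q (W.map g.toLinearMap) := by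
    rintro g hg W ⟨U, hU, hU0, hUd⟩
    refine ⟨U.map g.toLinearMap, Submodule.map_mono hU, ?_, by rw [LinearEquiv.finrank_map_eq, LinearEquiv.finrank_map_eq]; exact hUd⟩
    rintro _ ⟨u, hu, rfl⟩
    exact (hg u).trans (hU0 u hu)
  refine ⟨fun h => ?_, key g hg W⟩
  have h' := key g.symm (fun v => by conv_rhs => rw [← g.apply_symm_apply v, hg]) _ h
  rwa [← Submodule.map_comp, show g.symm.toLinearMap.comp g.toLinearMap = LinearMap.id from
    LinearMap.ext g.symm_apply_apply, Submodule.map_id] at h'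

end General

variable {F : Type*} [Field F] [Fintype F] {p : ℕ} [Fact p.Prime] [CharP F p] {r : ℕ} [Fact r.Prime]
variable {V : Type*} [AddCommGroup V] [Module F V] [FiniteDimensional F V]

/-- the type of the fixed space -/
theorem fixed_type (hrp : r ≠ p) (hr2 : r ≠ 2) {Q : QuadraticForm F V}
    (hN : (QuadraticMap.polarBilin Q).Nondegenerate) {T : V →ₗ[F] V} (hI : ∀ v, Q (T v) = Q v) (hT : T ^ r = 1)
    {i c : ℕ} (hi : i = orderOf ((Fintype.card F : ℕ) : ZMod r)) (hc : c = if Even i then i else 2 * i) :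
    ∃ k, Module.finrank F V = Module.finrank F (LinearMap.ker (T - 1)) + k * c ∧
      (Even (Module.finrank F V) → (QPlus Q ⊤ ↔ (QPlus Q (LinearMap.ker (T - 1)) ↔ Odd i ∨ Even k))) := by
  obtain ⟨M, k, hEnd, hMnd, hMi, ho, htop, hMf, hdim, -, hdata⟩ := orth_structure (p := p) hrp hr2 hN hI hT hi hc
  obtain ⟨-, hcpos, hce, -⟩ := block_power (F := F) (p := p) hrp hr2 hi hc
  refine ⟨k, hdim, fun hev => ?_⟩
  obtain ⟨c', hc'⟩ := hce
  rw [hdim, Nat.even_add] at hev
  obtain ⟨e, he⟩ := hev.2 ⟨k * c', by rw [hc']; ring⟩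
  obtain ⟨j, -, -, -, -, hjd, -, hjp⟩ := hdata M hMi hMnd
  rw [inf_idem] at hjd hjp
  obtain rfl : k = j := Nat.eq_of_mul_eq_mul_right hcpos (hMf.symm.trans hjd)
  rw [← htop, qplus_sup_iff hEnd hMnd ho (h := e) (h' := k * c') (by omega) (by rw [hMf, hc']; ring), hjp]

/-- elements with a fixed space of given dimension -/
theorem exists_orth_elem_dim (hrp : r ≠ p) (hr2 : r ≠ 2) {Q : QuadraticForm F V}
    (hN : (QuadraticMap.polarBilin Q).Nondegenerate) {i c k : ℕ}
    (hi : i = orderOf ((Fintype.card F : ℕ) : ZMod r)) (hc : c = if Even i then i else 2 * i) (hk : 0 < k)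
    (hle : k * c ≤ Module.finrank F V) (hfull : k * c = Module.finrank F V → (QPlus Q ⊤ ↔ Odd i ∨ Even k)) :
    ∃ T : V →ₗ[F] V, (∀ v, Q (T v) = Q v) ∧ T ^ r = 1 ∧
      Module.finrank F (LinearMap.ker (T - 1)) + k * c = Module.finrank F V ∧ T ≠ 1 := by
  obtain ⟨-, hcpos, hce, -⟩ := block_power (F := F) (p := p) hrp hr2 hi hc
  obtain ⟨c', hc'⟩ := hce
  have hkc : k * c = 2 * (k * c') := by rw [hc']; ring
  have hkc0 : 0 < k * c' := Nat.mul_pos hk (by omega)
  obtain ⟨W, hW, hWf, hWp⟩ : ∃ W, QNd Q W ∧ Module.finrank F W = k * c ∧ (QPlus Q W ↔ Odd i ∨ Even k) := by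
    rcases hle.lt_or_eq with h | h
    · obtain ⟨W, -, h1, h2, h3⟩ := exists_sub_type (qnd_top hN) (h := k * c') hkc0 (by rw [finrank_top]; omega)
        (Odd i ∨ Even k)
      exact ⟨W, h1, h2.trans hkc.symm, h3⟩
    · exact ⟨⊤, qnd_top hN, by rw [finrank_top, h], hfull h⟩
  obtain ⟨T, hI, hT, hker⟩ := exists_orth_element (p := p) hrp hr2 hi hc hk hW hWf hWp
  have hfr : Module.finrank F (LinearMap.ker (T - 1)) + k * c = Module.finrank F V := by
    rw [hker, ← hWf, add_comm]
    exact Submodule.finrank_add_eq_of_isCompl (isCompl_orth (polar_refl Q) hW)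
  refine ⟨T, hI, hT, hfr, fun h1 => ?_⟩
  rw [h1, sub_self, LinearMap.ker_zero, finrank_top] at hfr
  omega

theorem sigma_pred {i k : ℕ} (hk : 0 < k) : Odd i ∨ ((Odd i ∨ Even k) ↔ ¬ (Odd i ∨ Even (k - 1))) := by
  rcases Nat.even_or_odd i with hi | hi
  · refine Or.inr ?_
    have h := Nat.not_odd_iff_even.2 hi
    obtain ⟨k', rfl⟩ : ∃ k', k = k' + 1 := ⟨k - 1, by omega⟩
    simp [h, Nat.even_add_one]
  · exact Or.inl hi

/-- the criterion for subspaces of even dimension -/
theorem even_fixed_iff (hrp : r ≠ p) (hr2 : r ≠ 2) {Q : QuadraticForm F V}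
    (hN : (QuadraticMap.polarBilin Q).Nondegenerate) {i c : ℕ}
    (hi : i = orderOf ((Fintype.card F : ℕ) : ZMod r)) (hc : c = if Even i then i else 2 * i)
    (b : Prop) {m n : ℕ} (hn : Module.finrank F V = n) (hm : Even m) (hm0 : 0 < m) (hmn : m < n) :
    (∀ T : V →ₗ[F] V, (∀ v, Q (T v) = Q v) → T ^ r = 1 → T ≠ 1 →
      ∃ W : Submodule F V, (Module.finrank F W = m ∧ QNd Q W ∧ (QPlus Q W ↔ b)) ∧ ∀ u ∈ W, T u ∈ W) ↔
    ((0 < n % c ∧ (n < c ∨ (m % c < n % c ∧ (m % c = 0 → (b ↔ Odd i ∨ Even (m / c)))) ∨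
        (m % c = n % c ∧ (b ↔ ((QPlus Q ⊤ ↔ Odd i ∨ Even (n / c)) ↔ Odd i ∨ Even (m / c)))))) ∨
      (n % c = 0 ∧ (¬ (QPlus Q ⊤ ↔ Odd i ∨ Even (n / c)) ∨ (m % c = 0 ∧ (b ↔ Odd i ∨ Even (m / c)))))) := by
  classical
  obtain ⟨hipos, hcpos, hce, -⟩ := block_power (F := F) (p := p) hrp hr2 hi hc
  obtain ⟨N, hNdef⟩ : ∃ N, N = n / c := ⟨_, rfl⟩
  obtain ⟨ρ, hρdef⟩ : ∃ ρ, ρ = n % c := ⟨_, rfl⟩
  obtain ⟨M, hMdef⟩ : ∃ M, M = m / c := ⟨_, rfl⟩
  obtain ⟨l, hldef⟩ : ∃ l, l = m % c := ⟨_, rfl⟩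
  have hne : n = N * c + ρ := by rw [hNdef, hρdef]; exact (Nat.div_add_mod' n c).symm
  have hme : m = M * c + l := by rw [hMdef, hldef]; exact (Nat.div_add_mod' m c).symm
  have hlc : l < c := hldef ▸ Nat.mod_lt _ hcpos
  have hρc : ρ < c := hρdef ▸ Nat.mod_lt _ hcpos
  have hMN : M ≤ N := by rw [hMdef, hNdef]; exact Nat.div_le_div_right hmn.le
  rw [← hNdef, ← hρdef, ← hMdef, ← hldef]
  have hle : Even l := by
    rw [hme, Nat.even_add] at hm
    exact hm.1 (hce.mul_left M)
  have hmul : ∀ a b : ℕ, a < b → a * c + c ≤ b * c := fun a b h => by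
    have := Nat.mul_le_mul_right c (Nat.succ_le_of_lt h)
    rwa [Nat.succ_mul] at this
  constructor
  · intro hL
    rcases Nat.eq_zero_or_pos ρ with hρ | hρ
    · -- everything is moved
      refine Or.inr ⟨hρ, ?_⟩
      by_cases htp : QPlus Q ⊤ ↔ Odd i ∨ Even N
      swap
      · exact Or.inl htp
      refine Or.inr ?_
      have hN0 : 0 < N := Nat.pos_of_ne_zero fun h => by rw [h, hρ, zero_mul] at hne; omega
      obtain ⟨T, hI, hT, hfr, hT1⟩ := exists_orth_elem_dim (p := p) hrp hr2 hN hi hc hN0 (by omega) (fun _ => htp)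
      obtain ⟨W, ⟨hWf, hWnd, hWp⟩, hW⟩ := hL T hI hT hT1
      obtain ⟨j, f, hmjf, hfe, hfle, hjle, h0, he⟩ := fix_even_data (p := p) hrp hr2 hN hI hT hi hc hW hWnd hm hWf
      have hf0 : f = 0 := by omega
      rw [hf0, zero_add] at hmjf
      have hl0 : l = 0 := by rw [hldef, hmjf, Nat.mul_mod_left]
      obtain rfl : j = M := by rw [hMdef, hmjf, Nat.mul_div_cancel _ hcpos]
      exact ⟨hl0, hWp.symm.trans (h0 hf0)⟩
    · refine Or.inl ⟨hρ, ?_⟩
      rcases Nat.lt_or_ge n c with hnc | hnc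
      · exact Or.inl hnc
      refine Or.inr ?_
      have hN0 : 0 < N := hNdef ▸ Nat.div_pos hnc hcpos
      obtain ⟨T, hI, hT, hfr, hT1⟩ := exists_orth_elem_dim (p := p) hrp hr2 hN hi hc hN0 (by omega)
        (fun h => by omega)
      obtain ⟨W, ⟨hWf, hWnd, hWp⟩, hW⟩ := hL T hI hT hT1
      obtain ⟨j, f, hmjf, hfe, hfle, hjle, h0, he⟩ := fix_even_data (p := p) hrp hr2 hN hI hT hi hc hW hWnd hm hWf
      have hfρ : f ≤ ρ := by omega
      have hl : l = f := by
        rw [hldef, hmjf, Nat.add_mul_mod_self_right, Nat.mod_eq_of_lt (by omega)]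
      obtain rfl : j = M := by
        rw [hMdef, hmjf, Nat.add_mul_div_right _ _ hcpos, Nat.div_eq_of_lt (by omega : f < c), zero_add]
      rcases hfρ.lt_or_eq with h | h
      · exact Or.inl ⟨by omega, fun hl0 => hWp.symm.trans (h0 (by omega))⟩
      · refine Or.inr ⟨by omega, hWp.symm.trans ((he (by omega)).trans ?_)⟩
        obtain ⟨k, hk, hkp⟩ := fixed_type (p := p) hrp hr2 hN hI hT hi hc
        obtain rfl : k = N := Nat.eq_of_mul_eq_mul_right hcpos (by omega)
        have hev : Even n := by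
          rw [hne, Nat.even_add]
          exact iff_of_true (hce.mul_left k) (by rw [← h, ← hl]; exact hle)
        rw [hkp (hn ▸ hev)]
        by_cases h1 : Odd i ∨ Even k <;> simp [h1]
  · intro hcond T hI hT hT1
    obtain ⟨k, hk, hkp⟩ := fixed_type (p := p) hrp hr2 hN hI hT hi hc
    obtain ⟨e, he⟩ : ∃ e, e = Module.finrank F (LinearMap.ker (T - 1)) := ⟨_, rfl⟩
    rw [← he, hn] at hk
    have hk0 : 0 < k := Nat.pos_of_ne_zero fun h => hT1 (by
      have htop : LinearMap.ker (T - 1) = ⊤ := Submodule.eq_top_of_finrank_eq (by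
        rw [← he, hn]; rw [h, zero_mul] at hk; omega)
      rwa [LinearMap.ker_eq_top, sub_eq_zero] at htop)
    have hkN : k ≤ N := by
      rw [hNdef, Nat.le_div_iff_mul_le hcpos]; omega
    suffices hgoal : ∃ j f, Even f ∧ f ≤ e ∧ j ≤ k ∧ m = f + j * c ∧ (f = 0 → (b ↔ Odd i ∨ Even j)) ∧
        (f = e → 0 < f → (b ↔ ((QPlus Q ⊤ ↔ Odd i ∨ Even k) ↔ Odd i ∨ Even j))) by
      obtain ⟨j, f, hfe, hf, hj, hmjf, h0, hfull⟩ := hgoal
      have hjk := Nat.mul_le_mul_right c hj
      obtain ⟨W, hW, hWnd, hWf, hWp⟩ := exists_fix_even (p := p) hrp hr2 hN hI hT hi hc b hfe (he ▸ hf)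
        (by omega) h0 (fun h1 h2 => by
          rw [← he] at h1
          refine (hfull h1 h2).trans ?_
          have hev : Even n := by
            rw [hk, Nat.even_add]
            exact iff_of_true (h1 ▸ hfe) (hce.mul_left k)
          rw [hkp (hn ▸ hev)]
          by_cases h1 : Odd i ∨ Even k <;> simp [h1])
      exact ⟨W, ⟨hWf.trans hmjf.symm, hWnd, hWp⟩, hW⟩
    have hkc := Nat.mul_le_mul_right c hkN
    by_cases hbig : k < N ∧ c < e
    · obtain ⟨hkN', hce'⟩ := hbig
      rcases le_or_gt M k with hMk | hMk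
      · by_cases hfree : 0 < l ∨ (b ↔ Odd i ∨ Even M)
        · refine ⟨M, l, hle, by omega, hMk, by omega, fun h => hfree.resolve_left (by omega), fun h1 _ => by omega⟩
        · push Not at hfree
          have hM0 : 0 < M := Nat.pos_of_ne_zero fun h => by rw [h, zero_mul] at hme; omega
          refine ⟨M - 1, c, hce, hce'.le, by omega, ?_, fun h => by omega, fun h1 _ => by omega⟩
          obtain ⟨M', rfl⟩ : ∃ M', M = M' + 1 := ⟨M - 1, by omega⟩
          rw [Nat.add_sub_cancel, hme, Nat.succ_mul]; omega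
      · have h1 := hmul k M hMk
        refine ⟨k, m - k * c, (Nat.even_sub (by omega)).2 (iff_of_true hm (hce.mul_left k)), by omega, le_rfl,
          by omega, fun h => by omega, fun h1 _ => by omega⟩
    · rcases hcond with ⟨hρ, hcond⟩ | ⟨hρ, hcond⟩
      · -- largest possible moved space
        obtain rfl : k = N := by
          by_contra hne'
          have := hmul k N (by omega)
          omega
        obtain rfl : e = ρ := by omega
        rcases hcond with hnc | ⟨hl, h0⟩ | ⟨hl, hfull⟩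
        · have := hmul 0 k hk0; omega
        · exact ⟨M, l, hle, by omega, hMN, by omega, h0, fun h1 _ => by omega⟩
        · exact ⟨M, l, hle, by omega, hMN, by omega, fun h => by omega, fun _ _ => hfull⟩
      · rcases eq_or_lt_of_le hkN with hk' | hk'
        · subst hk'
          have he0 : e = 0 := by omega
          have hev : Even n := by rw [hk, he0, zero_add]; exact hce.mul_left k
          have hker : LinearMap.ker (T - 1) = ⊥ := Submodule.finrank_eq_zero.1 (by omega)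
          rw [hker, iff_true_left (qplus_bot Q)] at hkp
          obtain ⟨hl0, hb⟩ := hcond.resolve_left fun h => h (hkp (hn ▸ hev))
          exact ⟨M, 0, Even.zero, by omega, hMN, by omega, fun _ => hb, fun _ h => absurd h (lt_irrefl 0)⟩
        · have h1 := hmul k N hk'
          have hec : e = c := by omega
          obtain rfl : N = k + 1 := Nat.eq_of_mul_eq_mul_right hcpos (by rw [Nat.succ_mul]; omega)
          have hMk : M ≤ k := by
            by_contra h
            have := hmul k M (by omega)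
            omega
          rcases Nat.eq_zero_or_pos l with hl | hl
          swap
          · exact ⟨M, l, hle, by omega, hMk, by omega, fun h => by omega, fun h1 _ => by omega⟩
          by_cases hb : b ↔ Odd i ∨ Even M
          · exact ⟨M, 0, Even.zero, by omega, hMk, by omega, fun _ => hb, fun _ h => absurd h (lt_irrefl 0)⟩
          have htp : ¬ (QPlus Q ⊤ ↔ Odd i ∨ Even (k + 1)) := hcond.resolve_right fun h => hb h.2
          have hM0 : 0 < M := Nat.pos_of_ne_zero fun h => by rw [h, zero_mul] at hme; omega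
          have hs1 := sigma_pred (i := i) (k := k + 1) (by omega)
          have hs2 := sigma_pred (i := i) hM0
          rw [Nat.add_sub_cancel] at hs1
          refine ⟨M - 1, c, hce, by omega, by omega, ?_, fun h => by omega, fun _ _ => ?_⟩
          · obtain ⟨M', rfl⟩ : ∃ M', M = M' + 1 := ⟨M - 1, by omega⟩
            rw [Nat.add_sub_cancel, hme, Nat.succ_mul]; omega
          · by_cases ho : Odd i
            · simp only [ho, true_or, iff_true] at hb htp ⊢
              tauto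
            · have e1 := hs1.resolve_left ho
              have e2 := hs2.resolve_left ho
              by_cases h1 : Odd i ∨ Even (M - 1) <;> by_cases h2 : Odd i ∨ Even k <;>
                simp only [h1, h2, not_true, not_false_eq_true, iff_true, iff_false] at e1 e2 hb htp ⊢ <;>
                simp [e1, e2] at hb htp ⊢ <;> simp [hb, htp]

/-- few subspaces below the residue -/
theorem small_not_dvd_even (hrp : r ≠ p) (hr2 : r ≠ 2) {Q : QuadraticForm F V}
    (hN : (QuadraticMap.polarBilin Q).Nondegenerate) {i c : ℕ}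
    (hi : i = orderOf ((Fintype.card F : ℕ) : ZMod r)) (hc : c = if Even i then i else 2 * i)
    (b : Prop) {m n : ℕ} (hn : Module.finrank F V = n) (hm : Even m) (hm0 : 0 < m) (hρ : 0 < n % c) (hmc : m < c)
    (hcase : m < n % c ∨ (m = n % c ∧ (b ↔ (QPlus Q ⊤ ↔ Odd i ∨ Even (n / c))))) :
    ¬ r ∣ Nat.card {W : Submodule F V // Module.finrank F W = m ∧ QNd Q W ∧ (QPlus Q W ↔ b)} := by
  classical
  obtain ⟨-, hcpos, hce, -⟩ := block_power (F := F) (p := p) hrp hr2 hi hc
  have hne := Nat.div_add_mod' n c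
  have hρc := Nat.mod_lt n hcpos
  obtain ⟨T, hI, hT, hfr⟩ : ∃ T : V →ₗ[F] V, (∀ v, Q (T v) = Q v) ∧ T ^ r = 1 ∧
      Module.finrank F (LinearMap.ker (T - 1)) + n / c * c = n := by
    rcases Nat.eq_zero_or_pos (n / c) with h | h
    · exact ⟨1, fun v => rfl, one_pow r, by rw [sub_self, LinearMap.ker_zero, finrank_top, hn, h, zero_mul, add_zero]⟩
    · obtain ⟨T, h1, h2, h3, -⟩ := exists_orth_elem_dim (p := p) hrp hr2 hN hi hc h (by omega) (fun h' => by omega)
      exact ⟨T, h1, h2, h3.trans hn⟩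
  obtain ⟨M, k, hEnd, hMnd, hMi, ho, htop, hMf, hdim, -, hdata⟩ := orth_structure (p := p) hrp hr2 hN hI hT hi hc
  obtain ⟨k', hk', hkp⟩ := fixed_type (p := p) hrp hr2 hN hI hT hi hc
  obtain rfl : k' = n / c := Nat.eq_of_mul_eq_mul_right hcpos (by omega)
  have hd : Disjoint (LinearMap.ker (T - 1)) M :=
    Disjoint.mono_right (show M ≤ (qB Q).orthogonal (LinearMap.ker (T - 1)) from fun v hv u hu => ho u hu v hv) hEnd
  refine class_not_dvd hN hI hT ho hd htop (fun g hg hgM hgr => ?_)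
    (fun W => Module.finrank F W = m ∧ QNd Q W ∧ (QPlus Q W ↔ b))
    (fun W g hg hW => ⟨by rw [LinearEquiv.finrank_map_eq]; exact hW.1, qnd_map g hg hW.2.1,
      (qplus_map_iff g hg W).trans hW.2.2⟩) ?_ (fun W hW hWi => ?_) fun W W' hW hW' => ?_
  · obtain ⟨kg, hkg, -⟩ := fixed_type (p := p) hrp hr2 hN hg hgr hi hc
    have hle := Submodule.finrank_mono (show M ≤ LinearMap.ker (g - 1) from fun v hv =>
      LinearMap.mem_ker.2 (by simp [hgM v hv]))
    have hkg0 : kg = 0 := by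
      by_contra h
      have := Nat.mul_le_mul_right c (Nat.one_le_iff_ne_zero.2 h)
      rw [one_mul] at this
      omega
    rw [hkg0, zero_mul, add_zero] at hkg
    have := Submodule.eq_top_of_finrank_eq hkg.symm
    rwa [LinearMap.ker_eq_top, sub_eq_zero] at this
  · rcases hcase with h | ⟨h, hb⟩
    · obtain ⟨h', hh'⟩ := hm
      obtain ⟨W, hWE, h1, h2, h3⟩ := exists_sub_type hEnd (h := h') (by omega) (by omega) b
      exact ⟨W, ⟨by omega, h1, h3⟩, fun u hu => by
        have hu' : T u = u := by simpa [sub_eq_zero] using hWE hu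
        rwa [hu']⟩
    · refine ⟨_, ⟨by omega, hEnd, ?_⟩, fun u hu => by
        have hu' : T u = u := by simpa [sub_eq_zero] using hu
        rwa [hu']⟩
      rw [hb]
      have hev : Even n := by
        rw [← hne, Nat.even_add]
        exact iff_of_true (hce.mul_left _) (h ▸ hm)
      rw [hkp (hn ▸ hev)]
      by_cases h1 : Odd i ∨ Even (n / c) <;> simp [h1]
  · obtain ⟨j, -, -, -, hsup, hjf, hWf, -⟩ := hdata W hWi hW.2.1
    rw [hW.1] at hWf
    have hj : j = 0 := by
      by_contra h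
      have := Nat.mul_le_mul_right c (Nat.one_le_iff_ne_zero.2 h)
      rw [one_mul] at this
      omega
    rw [hj, zero_mul, Submodule.finrank_eq_zero] at hjf
    rw [hjf, sup_bot_eq] at hsup
    rw [hsup]
    exact inf_le_right
  · obtain ⟨h', hh'⟩ := hm
    exact exists_iso_same hW.2.1 hW'.2.1 (h := h') (by rw [hW.1]; omega) (by rw [hW'.1]; omega)
      (hW.2.2.trans hW'.2.2.symm)

/-- the criterion when `r` divides the number of subspaces -/
theorem even_elusive_iff (hrp : r ≠ p) (hr2 : r ≠ 2) {Q : QuadraticForm F V}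
    (hN : (QuadraticMap.polarBilin Q).Nondegenerate) {i c : ℕ}
    (hi : i = orderOf ((Fintype.card F : ℕ) : ZMod r)) (hc : c = if Even i then i else 2 * i)
    (b : Prop) {m n : ℕ} (hn : Module.finrank F V = n) (hm : Even m) (hm0 : 0 < m) (hmn : m < n)
    (hdvd : r ∣ Nat.card {W : Submodule F V // Module.finrank F W = m ∧ QNd Q W ∧ (QPlus Q W ↔ b)}) :
    (∀ T : V →ₗ[F] V, (∀ v, Q (T v) = Q v) → T ^ r = 1 → T ≠ 1 →
      ∃ W : Submodule F V, (Module.finrank F W = m ∧ QNd Q W ∧ (QPlus Q W ↔ b)) ∧ ∀ u ∈ W, T u ∈ W) ↔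
    ((0 < n % c ∧ c ≤ m ∧ ((m % c < n % c ∧ (m % c = 0 → (b ↔ Odd i ∨ Even (m / c)))) ∨
        (m % c = n % c ∧ (b ↔ ((QPlus Q ⊤ ↔ Odd i ∨ Even (n / c)) ↔ Odd i ∨ Even (m / c)))))) ∨
      (n % c = 0 ∧ (¬ (QPlus Q ⊤ ↔ Odd i ∨ Even (n / c)) ∨ (m % c = 0 ∧ (b ↔ Odd i ∨ Even (m / c)))))) := by
  rw [even_fixed_iff (p := p) hrp hr2 hN hi hc b hn hm hm0 hmn]
  refine or_congr ⟨fun ⟨hρ, h⟩ => ?_, fun ⟨hρ, _, h⟩ => ⟨hρ, Or.inr h⟩⟩ Iff.rfl
  have hmc : c ≤ m := by
    by_contra hlt
    have hlt' : m < c := by omega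
    refine small_not_dvd_even (p := p) hrp hr2 hN hi hc b hn hm hm0 hρ hlt' ?_ hdvd
    rw [Nat.mod_eq_of_lt hlt', Nat.div_eq_of_lt hlt'] at h
    rcases h with hnc | ⟨hl, -⟩ | ⟨hl, hb⟩
    · exact Or.inl (by rw [Nat.mod_eq_of_lt hnc]; omega)
    · exact Or.inl hl
    · refine Or.inr ⟨hl, ?_⟩
      rw [hb]
      simp
  exact ⟨hρ, hmc, h.resolve_left (by omega)⟩

end CfsgLib.Perm.Elusive
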