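import Mathlib
import Cfsg.Agent.Lib.Perm.Elusive.OrthEvenCriterion

/-!
# Elements of odd prime order fixing a nondegenerate subspace of odd dimension
-/

set_option autoImplicit false
set_option linter.all false

namespace CfsgLib.Perm.Elusive

open CfsgLib.Classical
open scoped Matrix

section Glue

variable {F : Type*} [Field F] [Fintype F] {V : Type*} [AddCommGroup V] [Module F V] [FiniteDimensional F V]

/-- gluing isometries of orthogonal summands -/
theorem exists_iso_sup {Q : QuadraticForm F V} {X Y X' Y' : Submodule F V} (hX : QNd Q X) (hX' : QNd Q X')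
    (ho : ∀ u ∈ X, ∀ v ∈ Y, QuadraticMap.polar Q u v = 0) (ho' : ∀ u ∈ X', ∀ v ∈ Y', QuadraticMap.polar Q u v = 0)
    (e₁ : X ≃ₗ[F] X') (h₁ : ∀ u, Q (e₁ u : V) = Q (u : V)) (e₂ : Y ≃ₗ[F] Y') (h₂ : ∀ u, Q (e₂ u : V) = Q (u : V)) :
    ∃ e : (X ⊔ Y : Submodule F V) ≃ₗ[F] (X' ⊔ Y' : Submodule F V), ∀ u, Q (e u : V) = Q (u : V) := by
  have hco : ∀ {A B : Submodule F V}, QNd Q A → (∀ u ∈ A, ∀ v ∈ B, QuadraticMap.polar Q u v = 0) →
      ∃ E : (A × B) ≃ₗ[F] (A ⊔ B : Submodule F V), ∀ z, (E z : V) = (z.1 : V) + z.2 := by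
    intro A B hA hAB
    have hd : Disjoint A B :=
      Disjoint.mono_right (show B ≤ (qB Q).orthogonal A from fun v hv u hu => hAB u hu v hv) hA
    have hcop : Function.Injective (A.subtype.coprod B.subtype) := by
      refine (injective_iff_map_eq_zero _).2 fun z hz => ?_
      simp only [LinearMap.coprod_apply, Submodule.subtype_apply] at hz
      have h1 : (z.1 : V) = 0 := Submodule.disjoint_def.1 hd _ z.1.2 (by
        rw [eq_neg_of_add_eq_zero_left hz]; exact B.neg_mem z.2.2)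
      rw [h1, zero_add] at hz
      exact Prod.ext (Subtype.ext h1) (Subtype.ext hz)
    exact ⟨(LinearEquiv.ofInjective _ hcop).trans (LinearEquiv.ofEq _ _
      (by rw [LinearMap.range_coprod, Submodule.range_subtype, Submodule.range_subtype])), fun z => rfl⟩
  obtain ⟨E, hE⟩ := hco hX ho
  obtain ⟨E', hE'⟩ := hco hX' ho'
  refine ⟨E.symm.trans ((e₁.prodCongr e₂).trans E'), fun u => ?_⟩
  have hu : (u : V) = ((E.symm u).1 : V) + (E.symm u).2 := by rw [← hE, E.apply_symm_apply]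
  rw [LinearEquiv.trans_apply, LinearEquiv.trans_apply, hE', hu, QuadraticMap.map_add (⇑Q), QuadraticMap.map_add (⇑Q),
    LinearEquiv.prodCongr_apply, h₁, h₂, ho _ (E.symm u).1.2 _ (E.symm u).2.2, ho' _ (e₁ _).2 _ (e₂ _).2]

/-- nondegenerate planes represent every value -/
theorem exists_value {Q : QuadraticForm F V} (h2 : (2 : F) ≠ 0) {W : Submodule F V} (hW : QNd Q W)
    (hd : Module.finrank F W = 2) (x : F) : ∃ v ∈ W, Q v = x := by
  obtain ⟨a, b, hab⟩ := CfsgLib.IsometryConj.exists_anisotropic_binary (F := F)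
  rcases qplus_cases hW (k := 0) hd hab with ⟨-, L, hL⟩ | ⟨-, L, hL⟩
  · exact ⟨_, (L (Sum.elim (fun _ => x) fun _ => 1)).2, by rw [hL]; simp [Cfsg.quadFormPlus]⟩
  · have hodd : ringChar F ≠ 2 := fun h => h2 (by
      haveI := ringChar.of_eq h
      exact CharP.cast_eq_zero F 2)
    have hD : b - a ^ 2 / 4 ≠ 0 := fun h => by
      have h4 : (4 : F) ≠ 0 := by
        rw [show (4 : F) = 2 * 2 by norm_num]; exact mul_ne_zero h2 h2
      have := (hab (-a / 2) 1 (by field_simp; field_simp at h; linear_combination h)).2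
      exact one_ne_zero this
    obtain ⟨s, t, hst⟩ := FiniteField.exists_root_sum_quadratic (R := F) (f := Polynomial.X ^ 2)
      (g := Polynomial.C (b - a ^ 2 / 4) * Polynomial.X ^ 2 - Polynomial.C x) (Polynomial.degree_X_pow 2)
      (by rw [Polynomial.degree_sub_C (by rw [Polynomial.degree_C_mul_X_pow 2 hD]; decide),
        Polynomial.degree_C_mul_X_pow 2 hD]; rfl)
      (FiniteField.odd_card_of_char_ne_two hodd)
    refine ⟨_, (L (Sum.elim (Sum.elim (fun i => i.elim0) fun i => i.elim0) ![s - a * t / 2, t])).2, ?_⟩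
    rw [hL]
    simp at hst
    simp [Cfsg.quadFormMinus]
    have h22 : (2 : F) * 2⁻¹ = 1 := mul_inv_cancel₀ h2
    have h4 : (4 : F)⁻¹ = 2⁻¹ * 2⁻¹ := by rw [← mul_inv]; norm_num
    rw [div_eq_mul_inv, h4] at hst
    rw [div_eq_mul_inv]
    linear_combination hst + (s * a * t - a ^ 2 * t ^ 2 * 2⁻¹) * h22 * (-1) + 0

/-- nondegenerate subspaces of odd dimension embed into larger spaces -/
theorem exists_embed_odd (h2 : (2 : F) ≠ 0) {Q : QuadraticForm F V} {E C : Submodule F V} (hE : QNd Q E) (hC : QNd Q C)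
    {h : ℕ} (hCd : Module.finrank F C = 2 * h + 1) (hlt : 2 * h + 1 < Module.finrank F E) :
    ∃ A ≤ E, QNd Q A ∧ ∃ e : C ≃ₗ[F] A, ∀ u, Q (e u : V) = Q (u : V) := by
  classical
  obtain ⟨d, L, hd0, hLi, hL⟩ := CfsgLib.Orth.FieldCls.exists_odd_normal h2 (Q.comp C.subtype) (qnd_restrict hC) hCd
  obtain ⟨P, hP⟩ : ∃ P : QuadraticForm F E, P = Q.comp E.subtype := ⟨_, rfl⟩
  have hPn : (QuadraticMap.polarBilin P).Nondegenerate := hP ▸ qnd_restrict hE
  obtain ⟨e, f, hef⟩ := exists_hypFamily P hPn h (by omega)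
  have hWn := hef.perp_nondegenerate hPn
  have hWd := hef.finrank_perp
  have hPe : QNd P (pairsPerp P e f) := (qnd_iff P _).2 fun u hu hu0 => by
    by_contra hcon
    push Not at hcon
    exact hu0 (congrArg Subtype.val (hWn.1 ⟨u, hu⟩ fun z => by
      show QuadraticMap.polar (P.comp (pairsPerp P e f).subtype) ⟨u, hu⟩ z = 0
      have := hcon z z.2
      simpa [QuadraticMap.polar] using this))
  obtain ⟨x, hx, hQx⟩ : ∃ x ∈ pairsPerp P e f, P x = d := by
    rcases Nat.lt_or_ge 2 (Module.finrank F (pairsPerp P e f)) with h3 | h3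
    · obtain ⟨e', f', h'⟩ := exists_hypFamily (P.comp (pairsPerp P e f).subtype) hWn 1 (by omega)
      refine ⟨((d • e' 0 + f' 0 : pairsPerp P e f) : E), Subtype.coe_prop _, ?_⟩
      show (P.comp (pairsPerp P e f).subtype) (d • e' 0 + f' 0) = d
      rw [QuadraticMap.map_add (⇑(P.comp (pairsPerp P e f).subtype)), QuadraticMap.map_smul, h'.qe, h'.qf,
        QuadraticMap.polar_smul_left, h'.ef]
      simp
    · exact exists_value h2 hPe (by omega) d
  have hp : ∀ u v : Unit ⊕ (Fin h ⊕ Fin h) → F, QuadraticMap.polar (Cfsg.quadFormOdd h F) u v =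
      2 * (u (.inl ()) * v (.inl ())) +
        ∑ i, (u (.inr (.inl i)) * v (.inr (.inr i)) + v (.inr (.inl i)) * u (.inr (.inr i))) := fun u v => by
    simp only [QuadraticMap.polar, Cfsg.quadFormOdd, Pi.add_apply, add_mul, mul_add, Finset.sum_add_distrib]
    ring
  have hmem := hx
  obtain ⟨xp, hxp⟩ : ∃ xp : pairsPerp P e f, xp = ⟨x, hx⟩ := ⟨_, rfl⟩
  have hxe : (xp : E) = x := by rw [hxp]
  obtain ⟨M, hMi, hM⟩ := CfsgLib.Orth.FieldCls.exists_frame_map
    (CfsgLib.Perm.Trans.Quad.quadFormOdd_nd (m := h) h2) P hd0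
    (Sum.elim (fun _ => (xp : E)) (Sum.elim (fun i => d • e i) f))
    (fun i => by
      rcases i with i | (i | i) <;>
        simp [Cfsg.quadFormOdd, QuadraticMap.map_smul, hef.qe, hef.qf, hxe, hQx, Pi.single_apply])
    (fun i j => by
      rw [hp]
      rcases i with i | (i | i) <;> rcases j with j | (j | j) <;>
        simp [QuadraticMap.polar_self, hxe, hQx, (hx _).1, (hx _).2, QuadraticMap.polar_comm (⇑P) (e _) x,
          QuadraticMap.polar_comm (⇑P) (f _) x, hef.ef, hef.ee, hef.ff,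
          QuadraticMap.polar_comm (⇑P) (f _) (e _), Pi.single_apply, eq_comm] <;> ring)
  have hfr : Module.finrank F (Unit ⊕ (Fin h ⊕ Fin h) → F) = Module.finrank F C := by
    rw [hCd, Module.finrank_fintype_fun_eq_card, Fintype.card_sum, Fintype.card_sum, Fintype.card_unit, Fintype.card_fin]
    omega
  let Le := LinearMap.linearEquivOfInjective L hLi hfr
  obtain ⟨Φ, hΦ⟩ : ∃ Φ : C →ₗ[F] V, Φ = E.subtype.comp (M.comp Le.symm.toLinearMap) := ⟨_, rfl⟩
  have hΦQ : ∀ u, Q (Φ u) = (Q.comp C.subtype) u := fun u => by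
    have e1 : Q (Φ u) = P (M (Le.symm u)) := by rw [hΦ, hP]; rfl
    rw [e1, hM, ← hL]
    exact congrArg (Q.comp C.subtype) (Le.apply_symm_apply u)
  obtain ⟨hΦi, hΦn⟩ := qnd_range (qnd_restrict hC) (Q := Q) Φ hΦQ
  refine ⟨LinearMap.range Φ, ?_, hΦn, LinearEquiv.ofInjective Φ hΦi, fun u => hΦQ u⟩
  rintro _ ⟨u, rfl⟩
  rw [hΦ]
  exact Subtype.coe_prop _

end Glue

variable {F : Type*} [Field F] [Fintype F] {p : ℕ} [Fact p.Prime] [CharP F p] {r : ℕ} [Fact r.Prime]
variable {V : Type*} [AddCommGroup V] [Module F V] [FiniteDimensional F V]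

theorem qnd_iso {Q : QuadraticForm F V} {W W₀ : Submodule F V} (h₀ : QNd Q W₀) (e : W ≃ₗ[F] W₀)
    (he : ∀ w, Q (e w : V) = Q (w : V)) : QNd Q W := by
  have h := qnd_range (qnd_restrict h₀) (Q := Q) (W.subtype.comp e.symm.toLinearMap) (fun v => by
    show Q ((e.symm v : W) : V) = Q (v : V)
    rw [← he (e.symm v), e.apply_symm_apply])
  have hr : LinearMap.range (W.subtype.comp e.symm.toLinearMap) = W := by
    rw [LinearMap.range_comp_of_range_eq_top _ (LinearEquiv.range e.symm), Submodule.range_subtype]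
  rw [hr] at h
  exact h.2

/-- the criterion for a class of subspaces of odd dimension in a space of even dimension -/
theorem odd_elusive_iff (hrp : r ≠ p) (hr2 : r ≠ 2) (h2 : (2 : F) ≠ 0) {Q : QuadraticForm F V}
    (hN : (QuadraticMap.polarBilin Q).Nondegenerate) {i c : ℕ}
    (hi : i = orderOf ((Fintype.card F : ℕ) : ZMod r)) (hc : c = if Even i then i else 2 * i)
    {m n : ℕ} (hn : Module.finrank F V = n) (hne : Even n) (hm : Odd m) (hmn : m < n)
    {W₀ : Submodule F V} (hW₀f : Module.finrank F W₀ = m) (hW₀ : QNd Q W₀)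
    (hdvd : r ∣ Nat.card {W : Submodule F V // Module.finrank F W = m ∧ QNd Q W ∧
      ∃ e : W ≃ₗ[F] W₀, ∀ w, Q (e w : V) = Q (w : V)}) :
    (∀ T : V →ₗ[F] V, (∀ v, Q (T v) = Q v) → T ^ r = 1 → T ≠ 1 →
      ∃ W : Submodule F V, (Module.finrank F W = m ∧ QNd Q W ∧ ∃ e : W ≃ₗ[F] W₀, ∀ w, Q (e w : V) = Q (w : V)) ∧
        ∀ u ∈ W, T u ∈ W) ↔
    ((0 < n % c ∧ c ≤ m ∧ m % c < n % c) ∨ (n % c = 0 ∧ ¬ (QPlus Q ⊤ ↔ Odd i ∨ Even (n / c)))) := by
  classical
  obtain ⟨hipos, hcpos, hce, -⟩ := block_power (F := F) (p := p) hrp hr2 hi hc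
  have hnN := Nat.div_add_mod' n c
  have hmM := Nat.div_add_mod' m c
  have hnc := Nat.mod_lt n hcpos
  have hmlc := Nat.mod_lt m hcpos
  obtain ⟨c', hc'⟩ := hce
  have hce : Even c := ⟨c', hc'⟩
  have hlodd : Odd (m % c) := by
    rw [← hmM, Nat.odd_add] at hm
    exact Nat.not_even_iff_odd.1 fun h => Nat.not_odd_iff_even.2 (hce.mul_left _) (hm.2 h)
  have hMN : m / c ≤ n / c := Nat.div_le_div_right hmn.le
  obtain ⟨h₀, hh₀⟩ := hm
  have hm : Odd m := ⟨h₀, hh₀⟩
  -- what an invariant member gives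
  have hdata : ∀ (T : V →ₗ[F] V), (∀ v, Q (T v) = Q v) → T ^ r = 1 → ∀ W : Submodule F V, QNd Q W → Module.finrank F W = m →
      (∀ u ∈ W, T u ∈ W) → ∃ j f, m = f + j * c ∧ f ≤ Module.finrank F (LinearMap.ker (T - 1)) := by
    intro T hI hT W hW hWf hWi
    obtain ⟨M, k, -, -, -, -, -, -, -, -, hd⟩ := orth_structure (p := p) hrp hr2 hN hI hT hi hc
    obtain ⟨j, -, -, -, -, -, hWd, -⟩ := hd W hWi hW
    exact ⟨j, _, hWf.symm.trans hWd, Submodule.finrank_mono inf_le_right⟩
  constructor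
  · intro hL
    rcases Nat.eq_zero_or_pos (n % c) with hρ | hρ
    · refine Or.inr ⟨hρ, fun htp => ?_⟩
      have hN0 : 0 < n / c := Nat.pos_of_ne_zero fun h => by rw [h, hρ] at hnN; omega
      obtain ⟨T, hI, hT, hfr, hT1⟩ := exists_orth_elem_dim (p := p) hrp hr2 hN hi hc hN0 (by omega) (fun _ => htp)
      obtain ⟨W, ⟨hWf, hWn, -⟩, hW⟩ := hL T hI hT hT1
      obtain ⟨j, f, hmjf, hf⟩ := hdata T hI hT W hWn hWf hW
      have : f = 0 := by omega
      rw [hmjf, this, zero_add] at hm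
      exact Nat.not_even_iff_odd.2 hm (hce.mul_left j)
    · refine Or.inl ⟨hρ, ?_⟩
      obtain ⟨T, hI, hT, hfr, hT1⟩ : ∃ T : V →ₗ[F] V, (∀ v, Q (T v) = Q v) ∧ T ^ r = 1 ∧
          Module.finrank F (LinearMap.ker (T - 1)) + n / c * c = n ∧ (0 < n / c → T ≠ 1) := by
        rcases Nat.eq_zero_or_pos (n / c) with h | h
        · exact ⟨1, fun v => rfl, one_pow r,
            by rw [sub_self, LinearMap.ker_zero, finrank_top, hn, h, zero_mul, add_zero], fun h' => by omega⟩
        · obtain ⟨T, h1, h2, h3, h4⟩ := exists_orth_elem_dim (p := p) hrp hr2 hN hi hc h (by omega) (fun h' => by omega)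
          exact ⟨T, h1, h2, h3.trans hn, fun _ => h4⟩
      have hlρ : m % c < n % c := by
        rcases Nat.eq_zero_or_pos (n / c) with h | h
        · rw [h, zero_mul, zero_add] at hnN
          have : m / c = 0 := Nat.div_eq_of_lt (by omega)
          rw [this, zero_mul, zero_add] at hmM
          omega
        obtain ⟨W, ⟨hWf, hWn, -⟩, hW⟩ := hL T hI hT (hT1 h)
        obtain ⟨j, f, hmjf, hf⟩ := hdata T hI hT W hWn hWf hW
        have hl : m % c = f := by rw [hmjf, Nat.add_mul_mod_self_right, Nat.mod_eq_of_lt (by omega)]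
        rcases hf.lt_or_eq with h' | h'
        · omega
        · exfalso
          obtain ⟨u, hu⟩ : Even (n % c) := (Nat.even_add.1 (hnN.symm ▸ hne)).1 (hce.mul_left _)
          obtain ⟨v, hv⟩ := hlodd
          omega
      refine ⟨?_, hlρ⟩
      by_contra hlt
      have hmc : m < c := by omega
      rw [Nat.mod_eq_of_lt hmc] at hlρ
      obtain ⟨M, k, hEnd, hMnd, hMi, ho, htop, hMf, hdim, -, hd⟩ := orth_structure (p := p) hrp hr2 hN hI hT hi hc
      have hdj : Disjoint (LinearMap.ker (T - 1)) M :=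
        Disjoint.mono_right (show M ≤ (qB Q).orthogonal (LinearMap.ker (T - 1)) from fun v hv u hu => ho u hu v hv) hEnd
      refine class_not_dvd hN hI hT ho hdj htop (fun g hg hgM hgr => ?_)
        (fun W => Module.finrank F W = m ∧ QNd Q W ∧ ∃ e : W ≃ₗ[F] W₀, ∀ w, Q (e w : V) = Q (w : V))
        (fun W g hg hW => ?_) ?_ (fun W hW hWi => ?_) (fun W W' hW hW' => ?_) hdvd
      · obtain ⟨kg, hkg, -⟩ := fixed_type (p := p) hrp hr2 hN hg hgr hi hc
        have hle := Submodule.finrank_mono (show M ≤ LinearMap.ker (g - 1) from fun v hv =>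
          LinearMap.mem_ker.2 (by simp [hgM v hv]))
        have hkg0 : kg = 0 := by
          by_contra h
          have := Nat.mul_le_mul_right c (Nat.one_le_iff_ne_zero.2 h)
          rw [one_mul] at this
          omega
        rw [hkg0, zero_mul, add_zero] at hkg
        have := Submodule.eq_top_of_finrank_eq hkg.symm
        rwa [LinearMap.ker_eq_top, sub_eq_zero] at this
      · obtain ⟨hf, hnd, e, he⟩ := hW
        refine ⟨by rw [LinearEquiv.finrank_map_eq]; exact hf, qnd_map g hg hnd, (g.submoduleMap W).symm.trans e, fun w => ?_⟩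
        rw [LinearEquiv.trans_apply, he]
        obtain ⟨u, rfl⟩ := (g.submoduleMap W).surjective w
        rw [LinearEquiv.symm_apply_apply]
        exact (hg u).symm
      · obtain ⟨A, hAE, hA, e, he⟩ := exists_embed_odd h2 hEnd hW₀ (h := h₀) (hW₀f.trans hh₀) (by omega)
        refine ⟨A, ⟨e.finrank_eq.symm.trans hW₀f, hA, e.symm, fun w => ?_⟩, fun u hu => by
          have hu' : T u = u := by simpa [sub_eq_zero] using hAE hu
          rwa [hu']⟩
        rw [← he (e.symm w), e.apply_symm_apply]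
      · obtain ⟨j, -, -, -, hsup, hjf, hWf, -⟩ := hd W hWi hW.2.1
        rw [hW.1] at hWf
        have hj : j = 0 := by
          by_contra h
          have := Nat.mul_le_mul_right c (Nat.one_le_iff_ne_zero.2 h)
          rw [one_mul] at this
          omega
        rw [hj, zero_mul, Submodule.finrank_eq_zero] at hjf
        rw [hjf, sup_bot_eq] at hsup
        rw [hsup]
        exact inf_le_right
      · obtain ⟨-, -, e, he⟩ := hW
        obtain ⟨-, -, e', he'⟩ := hW'
        exact ⟨e.trans e'.symm, fun w => by rw [LinearEquiv.trans_apply, ← he' (e'.symm _), e'.apply_symm_apply, he]⟩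
  · intro hcond T hI hT hT1
    obtain ⟨M, k, hEnd, hMnd, hMi, ho, htop, hMf, hdim, hex, -⟩ := orth_structure (p := p) hrp hr2 hN hI hT hi hc
    obtain ⟨k', hk', hkp⟩ := fixed_type (p := p) hrp hr2 hN hI hT hi hc
    obtain rfl : k' = k := Nat.eq_of_mul_eq_mul_right hcpos (by omega)
    obtain ⟨e, he⟩ : ∃ e, e = Module.finrank F (LinearMap.ker (T - 1)) := ⟨_, rfl⟩
    rw [← he, hn] at hdim
    have hkN : k' ≤ n / c := by rw [Nat.le_div_iff_mul_le hcpos]; omega
    obtain ⟨j, f, hjk, hmjf, hfe⟩ : ∃ j f, j ≤ k' ∧ m = f + j * c ∧ f < e := by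
      rcases le_or_gt (m / c) k' with hMk | hMk
      · refine ⟨m / c, m % c, hMk, by omega, ?_⟩
        rcases eq_or_lt_of_le hkN with hk | hk
        · rcases hcond with ⟨-, -, h⟩ | ⟨hρ, hn'⟩
          · rw [hk] at hdim; omega
          · exfalso
            have hkn : k' * c = n := by rw [hk]; omega
            have hker : LinearMap.ker (T - 1) = ⊥ := Submodule.finrank_eq_zero.1 (by omega)
            rw [hker, iff_true_left (qplus_bot Q)] at hkp
            rw [← hk] at hn'
            exact hn' (hkp (hn ▸ hne))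
        · have := Nat.mul_le_mul_right c (Nat.succ_le_of_lt hk)
          rw [Nat.succ_mul] at this
          omega
      · have := Nat.mul_le_mul_right c (Nat.succ_le_of_lt hMk)
        rw [Nat.succ_mul] at this
        exact ⟨k', m - k' * c, le_rfl, by omega, by omega⟩
    obtain ⟨B, hBM, hBi, hB, hBf, hBp⟩ := hex j hjk
    have hjc : Even (j * c) := hce.mul_left j
    have hfodd : Odd f := by
      rw [hmjf, Nat.odd_add] at hm
      exact hm.2 hjc
    obtain ⟨B', hB'W, hB', hB'f, hB'p⟩ : ∃ B' ≤ W₀, QNd Q B' ∧ Module.finrank F B' = j * c ∧ (QPlus Q B' ↔ Odd i ∨ Even j) := by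
      rcases Nat.eq_zero_or_pos j with h | h
      · exact ⟨⊥, bot_le, qnd_bot Q, by rw [finrank_bot, h, zero_mul], iff_of_true (qplus_bot Q) (Or.inr (h ▸ Even.zero))⟩
      · obtain ⟨B', h1, h2', h3, h4⟩ := exists_sub_type hW₀ (h := j * c') (Nat.mul_pos h (by omega))
          (by rw [hW₀f, show 2 * (j * c') = j * c by rw [hc']; ring]; obtain ⟨v, hv⟩ := hfodd; omega) (Odd i ∨ Even j)
        exact ⟨B', h1, h2', by rw [h3, hc']; ring, h4⟩
    obtain ⟨C, hCdef⟩ : ∃ C, C = W₀ ⊓ (qB Q).orthogonal B' := ⟨_, rfl⟩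
    have hoC : ∀ u ∈ B', ∀ v ∈ C, QuadraticMap.polar Q u v = 0 := fun u hu v hv => (hCdef ▸ hv).2 u hu
    have hsup : B' ⊔ C = W₀ := by
      rw [hCdef, inf_comm, ← sup_inf_assoc_of_le _ hB'W, (isCompl_orth (polar_refl Q) hB').sup_eq_top, top_inf_eq]
    have hCf : Module.finrank F C = f := by
      have h := finrank_sup_polar hB' hoC
      rw [hsup, hW₀f, hB'f] at h
      omega
    have hC : QNd Q C := by
      rw [qnd_iff]
      intro u hu hu0
      obtain ⟨v, hv, hne'⟩ := (qnd_iff Q W₀).1 hW₀ u ((hCdef ▸ inf_le_left : C ≤ W₀) hu) hu0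
      rw [← hsup] at hv
      obtain ⟨x, hx, y, hy, rfl⟩ := Submodule.mem_sup.1 hv
      refine ⟨y, hy, fun e0 => hne' ?_⟩
      rw [QuadraticMap.polar_add_right, e0, add_zero, QuadraticMap.polar_comm]
      exact hoC x hx u hu
    obtain ⟨f₁, hf₁⟩ := hfodd
    obtain ⟨A, hAE, hA, eA, heA⟩ := exists_embed_odd h2 hEnd hC (h := f₁) (hCf.trans hf₁) (by omega)
    obtain ⟨eB, heB⟩ := exists_iso_same hB hB' (h := j * c') (by rw [hBf, hc']; ring) (by rw [hB'f, hc']; ring)
      (hBp.trans hB'p.symm)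
    have hoA : ∀ u ∈ B, ∀ v ∈ A, QuadraticMap.polar Q u v = 0 := fun u hu v hv => by
      rw [QuadraticMap.polar_comm]; exact ho v (hAE hv) u (hBM hu)
    obtain ⟨ε, hε⟩ := exists_iso_sup hB hB' hoA hoC eB heB eA.symm (fun u => by
      rw [← heA (eA.symm u), eA.apply_symm_apply])
    refine ⟨B ⊔ A, ⟨?_, sup_nd (polar_refl Q) hB hA fun v hv u hu => hoA u hu v hv,
      ε.trans (LinearEquiv.ofEq _ _ hsup), fun w => ?_⟩, fun u hu => ?_⟩
    · rw [finrank_sup_polar hB hoA, hBf, ← eA.finrank_eq, hCf]; omega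
    · exact hε w
    · obtain ⟨x, hx, y, hy, rfl⟩ := Submodule.mem_sup.1 hu
      rw [map_add]
      refine Submodule.add_mem_sup (hBi x hx) ?_
      have hyE : T y = y := by simpa [sub_eq_zero] using hAE hy
      rwa [hyE]

end CfsgLib.Perm.Elusive
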