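import Mathlib
import Cfsg.Agent.Lib.Perm.Elusive.OrthOddCriterion

/-!
# From matrices in Omega to isometries of prime order
-/

set_option autoImplicit false
set_option linter.all false

namespace CfsgLib.Perm.Elusive

open CfsgLib.Classical
open scoped Matrix

variable {F : Type*} [Field F] [Fintype F] {r : ℕ} [Fact r.Prime]
variable {ι : Type} [Fintype ι] [DecidableEq ι]

omit [DecidableEq ι] in
theorem nd_on_iff (Q : QuadraticForm F (ι → F)) (W : Submodule F (ι → F)) :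
    Cfsg.Geo.IsNondegenerateOn (QuadraticMap.polar ⇑Q) W ↔ QNd Q W := by
  rw [qnd_iff]
  exact ⟨fun h u hu hu0 => (h u hu hu0).2, fun h u hu hu0 => ⟨by
    obtain ⟨v, hv, hne⟩ := h u hu hu0
    exact ⟨v, hv, by rwa [QuadraticMap.polar_comm]⟩, h u hu hu0⟩⟩

omit [Fintype ι] [DecidableEq ι] in
theorem plus_on_iff (Q : QuadraticForm F (ι → F)) (W : Submodule F (ι → F)) :
    Cfsg.Geo.IsPlusTypeOn (⇑Q) W ↔ QPlus Q W :=
  ⟨fun ⟨U, h1, h2, h3⟩ => ⟨U, h1, h2, h3⟩, fun ⟨U, h1, h2, h3⟩ => ⟨U, h1, h2, h3⟩⟩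

theorem scalar_square {Q : QuadraticForm F (ι → F)} (hQ : (QuadraticMap.polarBilin Q).Nondegenerate)
    [Nonempty ι] {z : F} (h : ∀ v, Q (z • v) = Q v) : z * z = 1 := by
  obtain ⟨v, hv⟩ : ∃ v, Q v ≠ 0 := by
    by_contra hno
    push Not at hno
    obtain ⟨i⟩ := ‹Nonempty ι›
    have h0 := hQ.1 (Pi.single i 1) fun y => by
      show QuadraticMap.polar Q _ _ = 0
      simp [QuadraticMap.polar, hno]
    simpa using congrFun h0 i
  have := h v
  rw [QuadraticMap.map_smul, smul_eq_mul] at this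
  exact mul_right_cancel₀ hv (this.trans (one_mul _).symm)

theorem mem_iso_of_omega {Q : (ι → F) → F} {x : GL ι F} (hx : x ∈ Cfsg.Geo.omegaGL Q) :
    x ∈ Cfsg.isometryGroup F Q := by
  obtain ⟨g, -, rfl⟩ := Subgroup.mem_map.1 hx
  exact g.2

theorem exists_gl_of_pow {T : (ι → F) →ₗ[F] (ι → F)} {n : ℕ} (hn : n ≠ 0) (hT : T ^ n = 1) :
    ∃ x : GL ι F, x ^ n = 1 ∧ ∀ v, (x : Matrix ι ι F) *ᵥ v = T v := by
  have hX : LinearMap.toMatrix' T ^ n = 1 := Matrix.toLin'.injective (by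
    rw [Matrix.toLin'_pow, Matrix.toLin'_toMatrix', hT, Matrix.toLin'_one]; rfl)
  exact ⟨(IsUnit.of_pow_eq_one hX hn).unit, Units.ext (by simp [hX]), fun v => by
    rw [IsUnit.unit_spec, LinearMap.toMatrix'_mulVec]⟩

/-- odd primes: scalar powers may be ignored -/
theorem elusive_scalar_iff (hr2 : r ≠ 2) {Q : QuadraticForm F (ι → F)}
    (hQ : (QuadraticMap.polarBilin Q).Nondegenerate) (hn : 5 ≤ Fintype.card ι) (P : Submodule F (ι → F) → Prop) :
    (∀ x : GL ι F, x ∈ Cfsg.Geo.omegaGL ⇑Q → (∃ z : F, ((x ^ r : GL ι F) : Matrix ι ι F) = z • (1 : Matrix ι ι F)) →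
      (∀ z : F, (x : Matrix ι ι F) ≠ z • (1 : Matrix ι ι F)) →
      ∃ W : Submodule F (ι → F), P W ∧ W.map (Matrix.toLin' (x : Matrix ι ι F)) ≤ W) ↔
    (∀ T : (ι → F) →ₗ[F] (ι → F), (∀ v, Q (T v) = Q v) → T ^ r = 1 → T ≠ 1 →
      ∃ W : Submodule F (ι → F), P W ∧ ∀ u ∈ W, T u ∈ W) := by
  haveI : Nonempty ι := Fintype.card_pos_iff.1 (by omega)
  have hr : r.Prime := Fact.out
  have hodd := hr.odd_of_ne_two hr2
  constructor
  · intro hL T hI hT hT1
    obtain ⟨x, hx, hxv⟩ := exists_gl_of_pow hr.ne_zero hT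
    have hmem : x ∈ Cfsg.Geo.omegaGL ⇑Q := mem_omega_of_odd (CfsgLib.Orth.nd_of_qf Q hQ) hn
      (mem_isometryGroup_iff.2 fun v => by rw [hxv]; exact hI v) hodd hx
    obtain ⟨W, hP, hW⟩ := hL x hmem ⟨1, by rw [hx, one_smul, Units.val_one]⟩ (fun z hz => hT1 (by
      have hTz : ∀ v, T v = z • v := fun v => by rw [← hxv, hz, Matrix.smul_mulVec, Matrix.one_mulVec]
      have hz2 := scalar_square hQ (z := z) fun v => by rw [← hTz]; exact hI v
      have hzr : z ^ r = 1 := by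
        have hp : ∀ (n : ℕ) v, (T ^ n) v = z ^ n • v := fun n => by
          induction n with
          | zero => intro v; simp
          | succ n ih => intro v; rw [pow_succ', Module.End.mul_apply, ih, map_smul, hTz, smul_smul, pow_succ]
        obtain ⟨i⟩ := ‹Nonempty ι›
        have h := congrFun (hp r (Pi.single i 1)) i
        rw [hT] at h
        simpa using h.symm
      obtain ⟨k, hk⟩ := hodd
      rw [hk, pow_succ, pow_mul, sq, hz2, one_pow, one_mul] at hzr
      exact LinearMap.ext fun v => by rw [hTz, hzr, one_smul]; rfl))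
    exact ⟨W, hP, fun u hu => by rw [← hxv, ← Matrix.toLin'_apply]; exact hW ⟨u, hu, rfl⟩⟩
  · intro hL x hx ⟨z, hxz⟩ hns
    have hxI := mem_isometryGroup_iff.1 (mem_iso_of_omega hx)
    obtain ⟨T₀, hT₀⟩ : ∃ T₀, T₀ = Matrix.toLin' (x : Matrix ι ι F) := ⟨_, rfl⟩
    have hT₀r : T₀ ^ r = z • LinearMap.id := by
      rw [hT₀, ← Matrix.toLin'_pow, ← Units.val_pow_eq_pow_val, hxz, map_smul, Matrix.toLin'_one]
    have hIp : ∀ (n : ℕ) v, Q ((T₀ ^ n) v) = Q v := fun n => by
      induction n with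
      | zero => intro v; rfl
      | succ n ih =>
        intro v
        rw [pow_succ', Module.End.mul_apply, hT₀, Matrix.toLin'_apply, hxI, ← hT₀]
        exact ih v
    have hz2 := scalar_square hQ (z := z) fun v => by
      have := hIp r v
      rwa [hT₀r, LinearMap.smul_apply, LinearMap.id_apply] at this
    obtain ⟨W, hP, hW⟩ := hL (z • T₀) (fun v => by
        rw [LinearMap.smul_apply, QuadraticMap.map_smul, hz2, one_smul, hT₀, Matrix.toLin'_apply, hxI])
      (by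
        obtain ⟨k, hk⟩ := hodd
        rw [_root_.smul_pow, hT₀r, smul_smul, hk, pow_succ, pow_mul, sq, hz2, one_pow, one_mul, hz2, one_smul]
        rfl)
      (fun h => hns z (by
        have h' : T₀ = z • 1 := by rw [← h, smul_smul, hz2, one_smul]
        have h2 := congrArg LinearMap.toMatrix' h'
        rw [hT₀, LinearMap.toMatrix'_toLin', map_smul] at h2
        rw [h2]
        exact congrArg (z • ·) LinearMap.toMatrix'_id))
    refine ⟨W, hP, ?_⟩
    rintro _ ⟨u, hu, rfl⟩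
    have h := W.smul_mem z (hW u hu)
    rw [LinearMap.smul_apply, smul_smul, hz2, one_smul, hT₀] at h
    exact h

/-- odd primes: elements of order `r` -/
theorem elusive_order_iff (hr2 : r ≠ 2) {Q : QuadraticForm F (ι → F)}
    (hQ : (QuadraticMap.polarBilin Q).Nondegenerate) (hn : 5 ≤ Fintype.card ι) (P : Submodule F (ι → F) → Prop) :
    (∀ x : GL ι F, x ∈ Cfsg.Geo.omegaGL ⇑Q → orderOf x = r →
      ∃ W : Submodule F (ι → F), P W ∧ W.map (Matrix.toLin' (x : Matrix ι ι F)) ≤ W) ↔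
    (∀ T : (ι → F) →ₗ[F] (ι → F), (∀ v, Q (T v) = Q v) → T ^ r = 1 → T ≠ 1 →
      ∃ W : Submodule F (ι → F), P W ∧ ∀ u ∈ W, T u ∈ W) := by
  have hr : r.Prime := Fact.out
  constructor
  · intro hL T hI hT hT1
    obtain ⟨x, hx, hxv⟩ := exists_gl_of_pow hr.ne_zero hT
    have hmem : x ∈ Cfsg.Geo.omegaGL ⇑Q := mem_omega_of_odd (CfsgLib.Orth.nd_of_qf Q hQ) hn
      (mem_isometryGroup_iff.2 fun v => by rw [hxv]; exact hI v) (hr.odd_of_ne_two hr2) hx
    obtain ⟨W, hP, hW⟩ := hL x hmem (orderOf_eq_prime hx fun h1 => hT1 (LinearMap.ext fun v => by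
      rw [← hxv, h1, Units.val_one, Matrix.one_mulVec]; rfl))
    exact ⟨W, hP, fun u hu => by rw [← hxv, ← Matrix.toLin'_apply]; exact hW ⟨u, hu, rfl⟩⟩
  · intro hL x hx hxo
    have hxI := mem_isometryGroup_iff.1 (mem_iso_of_omega hx)
    obtain ⟨W, hP, hW⟩ := hL (Matrix.toLin' (x : Matrix ι ι F))
      (fun v => by rw [Matrix.toLin'_apply]; exact hxI v)
      (by
        rw [← Matrix.toLin'_pow, ← Units.val_pow_eq_pow_val, ← hxo, pow_orderOf_eq_one, Units.val_one, Matrix.toLin'_one]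
        rfl)
      (fun h => by
        have h1 : x = 1 := Units.ext (Matrix.toLin'.injective (h.trans (by rw [Units.val_one, Matrix.toLin'_one]; rfl)))
        rw [h1, orderOf_one] at hxo
        exact hr.one_lt.ne hxo)
    exact ⟨W, hP, by rintro _ ⟨u, hu, rfl⟩; exact hW u hu⟩

end CfsgLib.Perm.Elusive
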