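import Mathlib
import Cfsg.Agent.Lib.Perm.Elusive.OrthOddCriterion
import Cfsg.Agent.Lib.Orth.Facts

/-!
# Isometries with square `±1` of quadratic spaces in odd characteristic
-/

set_option autoImplicit false
set_option linter.all false

namespace CfsgLib.Perm.Elusive

open CfsgLib.Classical CfsgLib.Orth
open scoped Matrix

variable {F : Type*} [Field F] [Fintype F] {V : Type*} [AddCommGroup V] [Module F V] [FiniteDimensional F V]

theorem value_zero_iff {Q : QuadraticForm F V} (h2 : (2 : F) ≠ 0) (v : V) : QuadraticMap.polar Q v v = 0 ↔ Q v = 0 := by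
  rw [QuadraticMap.polar_self]
  simp [h2]

theorem exists_anisotropic_vec (h2 : (2 : F) ≠ 0) {Q : QuadraticForm F V} {W : Submodule F V} (hW : QNd Q W) (h : W ≠ ⊥) :
    ∃ v ∈ W, Q v ≠ 0 := by
  by_contra hno
  push Not at hno
  obtain ⟨u, hu, hu0⟩ := Submodule.exists_mem_ne_zero_of_ne_bot h
  obtain ⟨v, hv, hne⟩ := (qnd_iff Q W).1 hW u hu hu0
  refine hne ?_
  rw [QuadraticMap.polar, hno _ (W.add_mem hu hv), hno u hu, hno v hv]; simp

theorem qnd_line (h2 : (2 : F) ≠ 0) {Q : QuadraticForm F V} {v : V} (hv : Q v ≠ 0) :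
    QNd Q (Submodule.span F {v}) ∧ Module.finrank F (Submodule.span F {v}) = 1 := by
  refine ⟨(qnd_iff Q _).2 fun u hu hu0 => ?_, finrank_span_singleton fun h => hv (by rw [h, map_zero])⟩
  obtain ⟨c, rfl⟩ := Submodule.mem_span_singleton.1 hu
  refine ⟨v, Submodule.mem_span_singleton_self v, ?_⟩
  rw [QuadraticMap.polar_smul_left, smul_eq_mul]
  exact mul_ne_zero (fun h => hu0 (by rw [h, zero_smul])) (fun h => hv ((value_zero_iff h2 v).1 h))

theorem qnd_inf_orth {Q : QuadraticForm F V} {W A : Submodule F V} (hW : QNd Q W) (hA : QNd Q A) (hAW : A ≤ W) :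
    QNd Q (W ⊓ (qB Q).orthogonal A) ∧ A ⊔ (W ⊓ (qB Q).orthogonal A) = W ∧
      Module.finrank F A + Module.finrank F (W ⊓ (qB Q).orthogonal A : Submodule F V) = Module.finrank F W := by
  have ho : ∀ u ∈ A, ∀ v ∈ W ⊓ (qB Q).orthogonal A, QuadraticMap.polar Q u v = 0 := fun u hu v hv => hv.2 u hu
  have hsup : A ⊔ (W ⊓ (qB Q).orthogonal A) = W := by
    rw [inf_comm, ← sup_inf_assoc_of_le _ hAW, (isCompl_orth (polar_refl Q) hA).sup_eq_top, top_inf_eq]
  refine ⟨(qnd_iff Q _).2 fun u hu hu0 => ?_, hsup, ?_⟩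
  · obtain ⟨v, hv, hne⟩ := (qnd_iff Q W).1 hW u hu.1 hu0
    rw [← hsup] at hv
    obtain ⟨x, hx, y, hy, rfl⟩ := Submodule.mem_sup.1 hv
    refine ⟨y, hy, fun e0 => hne ?_⟩
    rw [QuadraticMap.polar_add_right, e0, add_zero, QuadraticMap.polar_comm]
    exact ho x hx u hu
  · conv_rhs => rw [← hsup]
    rw [finrank_sup_polar hA ho]

theorem exists_nd_dim (h2 : (2 : F) ≠ 0) {Q : QuadraticForm F V} {W : Submodule F V} (hW : QNd Q W) {f : ℕ}
    (hf : f ≤ Module.finrank F W) : ∃ A ≤ W, QNd Q A ∧ Module.finrank F A = f := by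
  induction f generalizing W with
  | zero => exact ⟨⊥, bot_le, qnd_bot Q, finrank_bot F V⟩
  | succ f ih =>
    obtain ⟨v, hv, hQv⟩ := exists_anisotropic_vec h2 hW (fun h => by rw [h, finrank_bot] at hf; omega)
    obtain ⟨hl, hld⟩ := qnd_line h2 hQv
    obtain ⟨hn, -, hd⟩ := qnd_inf_orth hW hl ((Submodule.span_singleton_le_iff_mem _ _).2 hv)
    obtain ⟨A, hA, hAn, hAd⟩ := ih hn (by omega)
    have ho : ∀ u ∈ Submodule.span F {v}, ∀ w ∈ A, QuadraticMap.polar Q u w = 0 := fun u hu w hw => (hA hw).2 u hu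
    refine ⟨Submodule.span F {v} ⊔ A, sup_le ((Submodule.span_singleton_le_iff_mem _ _).2 hv) (hA.trans inf_le_left),
      sup_nd (polar_refl Q) hl hAn fun w hw u hu => ho u hu w hw, ?_⟩
    rw [finrank_sup_polar hl ho, hld, hAd]; omega

/-- any nondegenerate space embeds into a larger one -/
theorem exists_embed_any (h2 : (2 : F) ≠ 0) {Q : QuadraticForm F V} {E C : Submodule F V} (hE : QNd Q E) (hC : QNd Q C)
    (hlt : Module.finrank F C < Module.finrank F E) :
    ∃ A ≤ E, QNd Q A ∧ ∃ e : C ≃ₗ[F] A, ∀ u, Q (e u : V) = Q (u : V) := by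
  rcases Nat.even_or_odd' (Module.finrank F C) with ⟨h, hh | hh⟩
  · rcases Nat.eq_zero_or_pos h with h0 | h0
    · subst h0
      obtain ⟨e, he⟩ := exists_iso_same (W := C) (W' := ⊥) hC (qnd_bot Q) (h := 0) hh (by simp) (by
        rw [Submodule.finrank_eq_zero.1 hh])
      exact ⟨⊥, bot_le, qnd_bot Q, e, he⟩
    · obtain ⟨A, h1, h2', h3, h4⟩ := exists_sub_type hE h0 (by omega) (QPlus Q C)
      obtain ⟨e, he⟩ := exists_iso_same hC h2' hh h3 h4.symm
      exact ⟨A, h1, h2', e, he⟩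
  · exact exists_embed_odd h2 hE hC hh (by omega)

/-- an involution fixes a subspace of every class -/
theorem invol_fixed (h2 : (2 : F) ≠ 0) {Q : QuadraticForm F V} (hN : (QuadraticMap.polarBilin Q).Nondegenerate)
    {T : V →ₗ[F] V} (hI : ∀ v, Q (T v) = Q v) (hT : ∀ v, T (T v) = v) (hT1 : T ≠ 1) (hT2 : T ≠ -1)
    (hn3 : 3 ≤ Module.finrank F V) {W₀ : Submodule F V} (hW₀ : QNd Q W₀) (hm0 : 0 < Module.finrank F W₀)
    (hmn : Module.finrank F W₀ < Module.finrank F V) :
    ∃ W : Submodule F V, (∀ u ∈ W, T u ∈ W) ∧ QNd Q W ∧ Module.finrank F W = Module.finrank F W₀ ∧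
      ∃ e : W ≃ₗ[F] W₀, ∀ w, Q (e w : V) = Q (w : V) := by
  obtain ⟨A, hA⟩ : ∃ A, A = LinearMap.ker (T - 1) := ⟨_, rfl⟩
  obtain ⟨B, hB⟩ : ∃ B, B = LinearMap.ker (T + 1) := ⟨_, rfl⟩
  have hAf : ∀ u ∈ A, T u = u := fun u hu => by rw [hA] at hu; simpa [sub_eq_zero] using hu
  have hBf : ∀ u ∈ B, T u = -u := fun u hu => by rw [hB] at hu; simpa [add_eq_zero_iff_eq_neg] using hu
  have ho : ∀ u ∈ A, ∀ v ∈ B, QuadraticMap.polar Q u v = 0 := fun u hu v hv => by
    have h := polar_map hI u v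
    rw [hAf u hu, hBf v hv, QuadraticMap.polar_neg_right] at h
    exact (mul_eq_zero.1 (show (2 : F) * QuadraticMap.polar Q u v = 0 by linear_combination -h)).resolve_left h2
  have htop : A ⊔ B = ⊤ := by
    rw [eq_top_iff]
    intro v _
    refine Submodule.mem_sup.2 ⟨(2 : F)⁻¹ • (v + T v), ?_, (2 : F)⁻¹ • (v - T v), ?_, ?_⟩
    · rw [hA, LinearMap.mem_ker, LinearMap.sub_apply, Module.End.one_apply, map_smul, map_add, hT]; module
    · rw [hB, LinearMap.mem_ker, LinearMap.add_apply, Module.End.one_apply, map_smul, map_sub, hT]; module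
    · rw [← smul_add, show v + T v + (v - T v) = (2 : F) • v by module, inv_smul_smul₀ h2]
  have hsplit : ∀ {X Y : Submodule F V}, (∀ u ∈ X, ∀ v ∈ Y, QuadraticMap.polar Q u v = 0) → X ⊔ Y = ⊤ → QNd Q X := by
    intro X Y hXY h
    rw [qnd_iff]
    intro u hu hu0
    by_contra hno
    push Not at hno
    refine hu0 (hN.1 u fun z => ?_)
    obtain ⟨x, hx, y, hy, rfl⟩ := Submodule.mem_sup.1 (h.ge (Submodule.mem_top (x := z)))
    show QuadraticMap.polar Q u (x + y) = 0
    rw [QuadraticMap.polar_add_right, hno x hx, hXY u hu y hy, add_zero]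
  have hAn : QNd Q A := hsplit ho htop
  have hBn : QNd Q B := hsplit (fun u hu v hv => (QuadraticMap.polar_comm Q u v).trans (ho v hv u hu))
    ((sup_comm B A).trans htop)
  have hsum : Module.finrank F A + Module.finrank F B = Module.finrank F V := by
    rw [← finrank_sup_polar hAn ho, htop, finrank_top]
  have hA0 : 0 < Module.finrank F A := Nat.pos_of_ne_zero fun h => hT2 (LinearMap.ext fun v => by
    rw [Submodule.finrank_eq_zero.1 h, bot_sup_eq] at htop
    rw [hBf v (htop.ge Submodule.mem_top)]; rfl)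
  have hB0 : 0 < Module.finrank F B := Nat.pos_of_ne_zero fun h => hT1 (LinearMap.ext fun v => by
    rw [Submodule.finrank_eq_zero.1 h, sup_bot_eq] at htop
    rw [hAf v (htop.ge Submodule.mem_top)]; rfl)
  obtain ⟨m, hm⟩ : ∃ m, m = Module.finrank F W₀ := ⟨_, rfl⟩
  rw [← hm] at hm0 hmn ⊢
  rcases Nat.lt_or_ge (m + 1) (Module.finrank F V) with hlt | hge
  · -- one part in each eigenspace
    obtain ⟨f, hfm, hfA, hfB⟩ : ∃ f, f ≤ m ∧ f < Module.finrank F A ∧ m - f < Module.finrank F B :=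
      ⟨min m (Module.finrank F A - 1), by omega, by omega, by omega⟩
    obtain ⟨C, hC, hCn, hCd⟩ := exists_nd_dim h2 hW₀ (f := f) (by omega)
    obtain ⟨hDn, hDs, hDd⟩ := qnd_inf_orth hW₀ hCn hC
    obtain ⟨X, hXA, hXn, eX, heX⟩ := exists_embed_any h2 hAn hCn (by omega)
    obtain ⟨Y, hYB, hYn, eY, heY⟩ := exists_embed_any h2 hBn hDn (by omega)
    have hoXY : ∀ u ∈ X, ∀ v ∈ Y, QuadraticMap.polar Q u v = 0 := fun u hu v hv => ho u (hXA hu) v (hYB hv)
    have hoCD : ∀ u ∈ C, ∀ v ∈ W₀ ⊓ (qB Q).orthogonal C, QuadraticMap.polar Q u v = 0 := fun u hu v hv => hv.2 u hu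
    obtain ⟨ε, hε⟩ := exists_iso_sup hXn hCn hoXY hoCD
      eX.symm (fun u => by rw [← heX (eX.symm u), eX.apply_symm_apply])
      eY.symm (fun u => by rw [← heY (eY.symm u), eY.apply_symm_apply])
    refine ⟨X ⊔ Y, fun u hu => ?_, sup_nd (polar_refl Q) hXn hYn fun v hv u hu => hoXY u hu v hv, ?_,
      ε.trans (LinearEquiv.ofEq _ _ hDs), hε⟩
    · obtain ⟨x, hx, y, hy, rfl⟩ := Submodule.mem_sup.1 hu
      rw [map_add, hAf x (hXA hx), hBf y (hYB hy)]
      exact Submodule.add_mem_sup hx (Y.neg_mem hy)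
    · rw [(ε.trans (LinearEquiv.ofEq _ _ hDs)).finrank_eq, hm]
  · -- the orthogonal of a fixed line
    obtain ⟨hPn, -, hPd⟩ := qnd_inf_orth (qnd_top hN) hW₀ le_top
    rw [top_inf_eq] at hPn hPd
    rw [finrank_top] at hPd
    obtain ⟨u, hu, hQu⟩ := exists_anisotropic_vec h2 hPn (fun h => by rw [h, finrank_bot] at hPd; omega)
    obtain ⟨Z, s, hZn, hZ2, hZs⟩ : ∃ Z : Submodule F V, ∃ s : F, QNd Q Z ∧ 2 ≤ Module.finrank F Z ∧
        ∀ z ∈ Z, T z = s • z := by
      rcases Nat.lt_or_ge (Module.finrank F A) 2 with h | h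
      · exact ⟨B, -1, hBn, by omega, fun z hz => by rw [hBf z hz, neg_one_smul]⟩
      · exact ⟨A, 1, hAn, h, fun z hz => by rw [hAf z hz, one_smul]⟩
    obtain ⟨v, hvZ, hQv⟩ : ∃ v ∈ Z, Q v = Q u := by
      rcases hZ2.lt_or_eq with h | h
      · obtain ⟨P, hP, hPn', hPd', -⟩ := exists_sub_type hZn le_rfl (by omega) True
        obtain ⟨v, hv, e⟩ := exists_value h2 hPn' hPd' (Q u)
        exact ⟨v, hP hv, e⟩
      · exact exists_value h2 hZn h.symm (Q u)
    have hu0 : u ≠ 0 := fun h => hQu (by rw [h, map_zero])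
    have hv0 : v ≠ 0 := fun h => hQu (by rw [← hQv, h, map_zero])
    obtain ⟨g, hg, hgu⟩ := CfsgLib.Perm.Trans.Witt.witt_extension hN (Submodule.span F {u})
      ((LinearMap.toSpanSingleton F V v).comp (LinearEquiv.toSpanNonzeroSingleton F V u hu0).symm.toLinearMap)
      (fun x y h => (LinearEquiv.toSpanNonzeroSingleton F V u hu0).symm.injective (smul_left_injective F hv0 h))
      (fun x => by
        obtain ⟨c, rfl⟩ := (LinearEquiv.toSpanNonzeroSingleton F V u hu0).surjective x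
        rw [LinearMap.comp_apply, LinearEquiv.coe_coe, LinearEquiv.symm_apply_apply]
        show Q (c • v) = Q (c • u)
        rw [QuadraticMap.map_smul, QuadraticMap.map_smul, hQv])
    have hguv : g u = v := by
      have h := hgu ⟨u, Submodule.mem_span_singleton_self u⟩
      rw [LinearMap.comp_apply, LinearEquiv.coe_coe] at h
      rw [show (LinearEquiv.toSpanNonzeroSingleton F V u hu0).symm ⟨u, Submodule.mem_span_singleton_self u⟩ = 1 from
        (LinearEquiv.symm_apply_eq _).2 (Subtype.ext (one_smul F u).symm)] at h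
      simpa using h
    refine ⟨W₀.map g.toLinearMap, ?_, qnd_map g hg hW₀, by rw [LinearEquiv.finrank_map_eq, hm],
      (g.submoduleMap W₀).symm, fun w => ?_⟩
    · -- the image is the orthogonal of `v`
      have hchar : ∀ y, y ∈ W₀.map g.toLinearMap ↔ QuadraticMap.polar Q v y = 0 := by
        have hle : W₀.map g.toLinearMap ≤ (qB Q).orthogonal (Submodule.span F {v}) := by
          rintro _ ⟨y, hy, rfl⟩ z hz
          obtain ⟨c, rfl⟩ := Submodule.mem_span_singleton.1 hz
          show QuadraticMap.polar Q (c • v) (g y) = 0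
          have h0 : QuadraticMap.polar Q u y = 0 := by rw [QuadraticMap.polar_comm]; exact hu y hy
          have e : QuadraticMap.polar Q (g u) (g y) = QuadraticMap.polar Q u y := polar_map (T := g.toLinearMap) hg u y
          rw [QuadraticMap.polar_smul_left, ← hguv, e, h0, smul_zero]
        have heq := Submodule.eq_of_le_of_finrank_eq hle (by
          rw [LinearEquiv.finrank_map_eq, ← hm]
          have h := Submodule.finrank_add_eq_of_isCompl (isCompl_orth (polar_refl Q) (qnd_line h2 (hQv ▸ hQu)).1)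
          rw [(qnd_line h2 (hQv ▸ hQu)).2] at h
          omega)
        intro y
        rw [heq]
        refine ⟨fun h => h v (Submodule.mem_span_singleton_self v), fun h z hz => ?_⟩
        obtain ⟨c, rfl⟩ := Submodule.mem_span_singleton.1 hz
        show QuadraticMap.polar Q (c • v) y = 0
        rw [QuadraticMap.polar_smul_left, h, smul_zero]
      intro y hy
      rw [hchar] at hy ⊢
      have h := polar_map hI v y
      rw [hy, hZs v hvZ, QuadraticMap.polar_smul_left, smul_eq_mul] at h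
      refine (mul_eq_zero.1 h).resolve_left fun hs => hv0 ?_
      rw [← hT v, hZs v hvZ, hs, zero_smul, map_zero]
    · obtain ⟨y, rfl⟩ := (g.submoduleMap W₀).surjective w
      rw [LinearEquiv.symm_apply_apply]
      exact (hg y).symm

section NegSquare

variable {Q : QuadraticForm F V} {T : V →ₗ[F] V}

omit [Fintype F] [FiniteDimensional F V] in
theorem polar_negsq (h2 : (2 : F) ≠ 0) (hI : ∀ v, Q (T v) = Q v) (hT : ∀ v, T (T v) = -v) (v : V) :
    QuadraticMap.polar Q v (T v) = 0 := by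
  have h := polar_map hI v (T v)
  rw [hT, QuadraticMap.polar_neg_right, QuadraticMap.polar_comm] at h
  exact (mul_eq_zero.1 (show (2 : F) * QuadraticMap.polar Q v (T v) = 0 by linear_combination -h)).resolve_left h2

/-- planes of a square root of `-1` -/
theorem negsq_plane (h2 : (2 : F) ≠ 0) (hI : ∀ v, Q (T v) = Q v) (hT : ∀ v, T (T v) = -v) {v : V} (hv : Q v ≠ 0) :
    let P := Submodule.span F ({v, T v} : Set V)
    (∀ u ∈ P, T u ∈ P) ∧ QNd Q P ∧ Module.finrank F P = 2 ∧ (QPlus Q P ↔ IsSquare (-1 : F)) := by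
  intro P
  have hvT := polar_negsq h2 hI hT v
  have hTvv : QuadraticMap.polar Q (T v) v = 0 := by rw [QuadraticMap.polar_comm]; exact hvT
  have hvv : QuadraticMap.polar Q v v ≠ 0 := fun h => hv ((value_zero_iff h2 v).1 h)
  have hTT : QuadraticMap.polar Q (T v) (T v) = QuadraticMap.polar Q v v := polar_map hI v v
  have hQ : ∀ x y : F, Q (x • v + y • T v) = (x * x + y * y) * Q v := fun x y => by
    rw [QuadraticMap.map_add (⇑Q), QuadraticMap.map_smul, QuadraticMap.map_smul, hI, QuadraticMap.polar_smul_left,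
      QuadraticMap.polar_smul_right, hvT]
    simp; ring
  have hpol1 : ∀ x y : F, QuadraticMap.polar Q (x • v + y • T v) v = x * QuadraticMap.polar Q v v := fun x y => by
    rw [QuadraticMap.polar_add_left, QuadraticMap.polar_smul_left, QuadraticMap.polar_smul_left, hTvv]
    simp
  have hpol2 : ∀ x y : F, QuadraticMap.polar Q (x • v + y • T v) (T v) = y * QuadraticMap.polar Q v v := fun x y => by
    rw [QuadraticMap.polar_add_left, QuadraticMap.polar_smul_left, QuadraticMap.polar_smul_left, hvT, hTT]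
    simp
  have hli : LinearIndependent F ![v, T v] := by
    rw [LinearIndependent.pair_iff]
    intro x y hxy
    have h1 := hpol1 x y
    have h2' := hpol2 x y
    rw [hxy] at h1 h2'
    simp only [QuadraticMap.polar_zero_left] at h1 h2'
    exact ⟨(mul_eq_zero.1 h1.symm).resolve_right hvv, (mul_eq_zero.1 h2'.symm).resolve_right hvv⟩
  have hd : Module.finrank F P = 2 := by
    have h := finrank_span_eq_card hli
    rwa [Matrix.range_cons, Matrix.range_cons, Matrix.range_empty, Set.union_empty, Set.singleton_union,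
      Fintype.card_fin] at h
  refine ⟨fun u hu => ?_, (qnd_iff Q P).2 fun u hu hu0 => ?_, hd, ⟨fun hp => ?_, fun hs => ?_⟩⟩
  · obtain ⟨x, y, rfl⟩ := Submodule.mem_span_pair.1 hu
    rw [map_add, map_smul, map_smul, hT]
    exact Submodule.mem_span_pair.2 ⟨-y, x, by module⟩
  · obtain ⟨x, y, rfl⟩ := Submodule.mem_span_pair.1 hu
    by_cases hx : x = 0
    · refine ⟨T v, Submodule.subset_span (by simp), ?_⟩
      rw [hpol2]
      exact mul_ne_zero (fun hy => hu0 (by simp [hx, hy])) hvv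
    · refine ⟨v, Submodule.subset_span (by simp), ?_⟩
      rw [hpol1]
      exact mul_ne_zero hx hvv
  · obtain ⟨U, hU, hU0, hUd⟩ := hp
    obtain ⟨w, hw, hw0⟩ := Submodule.exists_mem_ne_zero_of_ne_bot (fun h : U = ⊥ => by
      rw [h, finrank_bot, hd] at hUd; omega)
    obtain ⟨x, y, rfl⟩ := Submodule.mem_span_pair.1 (hU hw)
    have h := hU0 _ hw
    rw [hQ, mul_eq_zero] at h
    have h' := h.resolve_right hv
    by_cases hy : y = 0
    · exfalso
      rw [hy, mul_zero, add_zero, mul_self_eq_zero] at h'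
      exact hw0 (by simp [hy, h'])
    · exact ⟨x / y, by field_simp; linear_combination -h'⟩
  · obtain ⟨s, hs⟩ := hs
    refine ⟨Submodule.span F {s • v + T v}, ?_, fun u hu => ?_, ?_⟩
    · exact (Submodule.span_singleton_le_iff_mem _ _).2 (Submodule.mem_span_pair.2 ⟨s, 1, by rw [one_smul]⟩)
    · obtain ⟨c, rfl⟩ := Submodule.mem_span_singleton.1 hu
      have h := hQ s 1
      rw [one_smul, one_mul, ← hs, neg_add_cancel, zero_mul] at h
      rw [QuadraticMap.map_smul, h, smul_zero]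
    · rw [finrank_span_singleton, hd]
      intro h
      have := hpol2 s 1
      rw [one_smul, h, QuadraticMap.polar_zero_left, one_mul] at this
      exact hvv this.symm

/-- invariant subspaces of a square root of `-1` -/
theorem negsq_sub (h2 : (2 : F) ≠ 0) (hI : ∀ v, Q (T v) = Q v) (hT : ∀ v, T (T v) = -v) {S : Submodule F V}
    (hS : ∀ u ∈ S, T u ∈ S) (hSn : QNd Q S) :
    ∃ k, Module.finrank F S = 2 * k ∧ (QPlus Q S ↔ IsSquare (-1 : F) ∨ Even k) ∧
      (∀ j ≤ k, ∃ W ≤ S, (∀ u ∈ W, T u ∈ W) ∧ QNd Q W ∧ Module.finrank F W = 2 * j) ∧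
      ∃ v : Fin k → V, (∀ j, v j ∈ S ∧ Q (v j) ≠ 0) ∧
        ∀ j l, j ≠ l → QuadraticMap.polar Q (v j) (v l) = 0 ∧ QuadraticMap.polar Q (v j) (T (v l)) = 0 := by
  induction hd : Module.finrank F S using Nat.strong_induction_on generalizing S with
  | _ n ih =>
    subst hd
    by_cases hS0 : S = ⊥
    · subst hS0
      exact ⟨0, by simp, iff_of_true (qplus_bot Q) (Or.inr Even.zero),
        fun j hj => ⟨⊥, le_rfl, hS, hSn, by rw [Nat.le_zero.1 hj]; simp⟩, fun j => j.elim0, fun j => j.elim0, fun j => j.elim0⟩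
    obtain ⟨v, hv, hQv⟩ := exists_anisotropic_vec h2 hSn hS0
    obtain ⟨hPi, hPn, hPd, hPp⟩ := negsq_plane h2 hI hT hQv
    obtain ⟨P, hP⟩ : ∃ P, P = Submodule.span F ({v, T v} : Set V) := ⟨_, rfl⟩
    rw [← hP] at hPi hPn hPd hPp
    have hPS : P ≤ S := hP ▸ Submodule.span_le.2 (Set.insert_subset hv (Set.singleton_subset_iff.2 (hS v hv)))
    obtain ⟨hRn, hRs, hRd⟩ := qnd_inf_orth hSn hPn hPS
    obtain ⟨R, hR⟩ : ∃ R, R = S ⊓ (qB Q).orthogonal P := ⟨_, rfl⟩
    rw [← hR] at hRn hRs hRd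
    have hinj : Function.Injective T := fun x y h => by
      have := congrArg T h
      rwa [hT, hT, neg_inj] at this
    have hRi : ∀ u ∈ R, T u ∈ R := fun u hu => by
      rw [hR] at hu ⊢
      exact ⟨hS u hu.1, orth_invariant (polar_refl Q) (fun a b => polar_map hI a b) hinj hPi u hu.2⟩
    obtain ⟨k, hk, hkp, hex, w, hw, hww⟩ := ih _ (by omega) hRi hRn rfl
    have hoPR : ∀ u ∈ P, ∀ z ∈ R, QuadraticMap.polar Q u z = 0 := fun u hu z hz => (hR ▸ hz).2 u hu
    refine ⟨k + 1, by omega, ?_, fun j hj => ?_, Fin.cons v w, fun j => ?_, fun j l hjl => ?_⟩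
    · rw [← hRs, qplus_sup_iff hPn hRn hoPR (h := 1) hPd hk, hkp, hPp]
      by_cases hs : IsSquare (-1 : F)
      · simp [hs]
      · simp [hs, Nat.even_add_one]
    · rcases j with _ | j
      · exact ⟨⊥, bot_le, fun u hu => by rw [(Submodule.mem_bot F).1 hu, map_zero]; exact zero_mem _, qnd_bot Q, by simp⟩
      obtain ⟨W, hWR, hWi, hWn, hWd⟩ := hex j (by omega)
      have hoPW : ∀ u ∈ P, ∀ z ∈ W, QuadraticMap.polar Q u z = 0 := fun u hu z hz => hoPR u hu z (hWR hz)
      refine ⟨P ⊔ W, sup_le hPS (hWR.trans (hR ▸ inf_le_left)), fun u hu => ?_,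
        sup_nd (polar_refl Q) hPn hWn fun z hz u hu => hoPW u hu z hz, ?_⟩
      · obtain ⟨a, ha, b, hb, rfl⟩ := Submodule.mem_sup.1 hu
        rw [map_add]
        exact Submodule.add_mem_sup (hPi a ha) (hWi b hb)
      · rw [finrank_sup_polar hPn hoPW, hPd, hWd]; ring
    · induction j using Fin.cases with
      | zero => exact ⟨by simpa using hv, by simpa using hQv⟩
      | succ j => simpa using ⟨(hR ▸ (hw j).1).1, (hw j).2⟩
    · have hvP : v ∈ P := hP ▸ Submodule.subset_span (by simp)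
      induction j using Fin.cases with
      | zero =>
        induction l using Fin.cases with
        | zero => exact absurd rfl hjl
        | succ l =>
          simp only [Fin.cons_zero, Fin.cons_succ]
          exact ⟨hoPR v hvP _ (hw l).1, hoPR v hvP _ (hRi _ (hw l).1)⟩
      | succ j =>
        induction l using Fin.cases with
        | zero =>
          simp only [Fin.cons_zero, Fin.cons_succ]
          exact ⟨by rw [QuadraticMap.polar_comm]; exact hoPR v hvP _ (hw j).1,
            by rw [QuadraticMap.polar_comm]; exact hoPR _ (hPi v hvP) _ (hw j).1⟩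
        | succ l =>
          simp only [Fin.cons_succ]
          exact hww j l fun h => hjl (h ▸ rfl)

/-- existence of a square root of `-1` -/
theorem negsq_exists (h2 : (2 : F) ≠ 0) (hN : (QuadraticMap.polarBilin Q).Nondegenerate) {d : ℕ}
    (hd : Module.finrank F V = 2 * (d + 1)) (hp : QPlus Q ⊤ ↔ IsSquare (-1 : F) ∨ Even (d + 1)) :
    ∃ T : V →ₗ[F] V, (∀ v, Q (T v) = Q v) ∧ ∀ v, T (T v) = -v := by
  classical
  obtain ⟨R, hR⟩ : ∃ R : QuadraticForm F (Fin (d + 1) ⊕ Fin (d + 1) → F),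
      R = QuadraticMap.weightedSumSquares F (fun _ : Fin (d + 1) ⊕ Fin (d + 1) => (1 : F)) := ⟨_, rfl⟩
  have hRv : ∀ v, R v = ∑ x, v x * v x := fun v => by
    rw [hR, QuadraticMap.weightedSumSquares_apply]; simp
  obtain ⟨J, hJ⟩ : ∃ J : (Fin (d + 1) ⊕ Fin (d + 1) → F) →ₗ[F] (Fin (d + 1) ⊕ Fin (d + 1) → F),
      ∀ v, J v = Sum.elim (fun j => -v (.inr j)) (fun j => v (.inl j)) :=
    ⟨{ toFun := fun v => Sum.elim (fun j => -v (.inr j)) (fun j => v (.inl j))
       map_add' := fun a b => by ext (i | i) <;> simp; ring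
       map_smul' := fun c a => by ext (i | i) <;> simp }, fun v => rfl⟩
  have hJ2 : ∀ v, J (J v) = -v := fun v => by rw [hJ, hJ]; ext (i | i) <;> simp
  have hJI : ∀ v, R (J v) = R v := fun v => by
    rw [hRv, hRv, hJ, Fintype.sum_sum_type, Fintype.sum_sum_type]
    simp [add_comm]
  have hRn : (QuadraticMap.polarBilin R).Nondegenerate := by
    have key : ∀ u, (∀ v, QuadraticMap.polar R u v = 0) → u = 0 := fun u hu => by
      funext x
      have h := hu (Pi.single x 1)
      simp [QuadraticMap.polar, hRv, Pi.single_apply, add_mul, mul_add, Finset.sum_add_distrib] at h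
      have h' : (2 : F) * u x = 0 := by linear_combination h
      exact (mul_eq_zero.1 h').resolve_left h2
    exact ⟨key, fun v hv => key v fun u => (QuadraticMap.polar_comm _ v u).trans (hv u)⟩
  obtain ⟨k, hk, hkp, -, -⟩ := negsq_sub h2 hJI hJ2 (fun _ _ => Submodule.mem_top) (qnd_top hRn)
  rw [finrank_top, Module.finrank_fintype_fun_eq_card, Fintype.card_sum, Fintype.card_fin] at hk
  obtain rfl : k = d + 1 := by omega
  obtain ⟨a, b, hab⟩ := CfsgLib.IsometryConj.exists_anisotropic_binary (F := F)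
  have hfR : Module.finrank F (⊤ : Submodule F (Fin (d + 1) ⊕ Fin (d + 1) → F)) = 2 * (d + 1) := by
    rw [finrank_top, Module.finrank_fintype_fun_eq_card, Fintype.card_sum, Fintype.card_fin]; omega
  obtain ⟨L, hL⟩ : ∃ L : (Fin (d + 1) ⊕ Fin (d + 1) → F) ≃ₗ[F] V, ∀ v, Q (L v) = R v := by
    rcases qplus_cases (qnd_top hN) (k := d) (by rw [finrank_top, hd]) hab with ⟨h1, L, hL⟩ | ⟨h1, L, hL⟩ <;>
      rcases qplus_cases (qnd_top hRn) hfR hab with ⟨h1', L', hL'⟩ | ⟨h1', L', hL'⟩
    · exact ⟨Submodule.topEquiv.symm.trans (L'.symm.trans (L.trans Submodule.topEquiv)), fun v => by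
        show Q (L (L'.symm _) : V) = _
        rw [hL, ← hL', L'.apply_symm_apply]; rfl⟩
    · exact absurd (hkp.2 (hp.1 h1)) h1'
    · exact absurd (hp.2 (hkp.1 h1')) h1
    · exact ⟨Submodule.topEquiv.symm.trans (L'.symm.trans (L.trans Submodule.topEquiv)), fun v => by
        show Q (L (L'.symm _) : V) = _
        rw [hL, ← hL', L'.apply_symm_apply]; rfl⟩
  refine ⟨L.conj J, fun v => ?_, fun v => ?_⟩
  · rw [LinearEquiv.conj_apply_apply, hL, hJI, ← hL, L.apply_symm_apply]
  · rw [LinearEquiv.conj_apply_apply, LinearEquiv.conj_apply_apply, L.symm_apply_apply, hJ2, map_neg,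
      L.apply_symm_apply]

end NegSquare

section Spinor

variable {ι : Type} [Fintype ι] [DecidableEq ι]

/-- spinor norm and parity of a square root of `-1` -/
theorem negsq_spn (h2 : (2 : F) ≠ 0) {Q : QuadraticForm F (ι → F)} (hQ : (QuadraticMap.polarBilin Q).Nondegenerate)
    {g : GL ι F} (hg : g ∈ Cfsg.isometryGroup F ⇑Q) (hsq : ∀ v, (g : Matrix ι ι F) *ᵥ ((g : Matrix ι ι F) *ᵥ v) = -v)
    {d : ℕ} (hd : Fintype.card ι = 2 * d) : wrk g = 2 * d ∧ spn (⇑Q) g = sqc ((2 : F) ^ d) := by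
  classical
  obtain ⟨T, hT⟩ : ∃ T, T = Matrix.toLin' (g : Matrix ι ι F) := ⟨_, rfl⟩
  have hTv : ∀ v, T v = (g : Matrix ι ι F) *ᵥ v := fun v => by rw [hT, Matrix.toLin'_apply]
  have hI : ∀ v, Q (T v) = Q v := fun v => by rw [hTv]; exact mem_isometryGroup_iff.1 hg v
  have hT2 : ∀ v, T (T v) = -v := fun v => by rw [hTv, hTv]; exact hsq v
  obtain ⟨k, hk, -, -, v, hv, hvv⟩ := negsq_sub h2 hI hT2 (fun _ _ => Submodule.mem_top) (qnd_top hQ)
  rw [finrank_top, Module.finrank_fintype_fun_eq_card, hd] at hk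
  obtain rfl : k = d := by omega
  obtain ⟨w', hw'⟩ : ∃ w' : Fin 2 × Fin k → ι → F, ∀ x, w' x = if x.1 = 0 then v x.2 else T (v x.2) :=
    ⟨_, fun x => rfl⟩
  let e : Fin (2 * k) ≃ Fin 2 × Fin k := finProdFinEquiv.symm
  obtain ⟨M, hM⟩ : ∃ M : Fin k → Matrix (Fin 2) (Fin 2) F, ∀ j, M j =
      !![QuadraticMap.polar Q (v j) (v j), QuadraticMap.polar Q (v j) (v j);
        -QuadraticMap.polar Q (v j) (v j), QuadraticMap.polar Q (v j) (v j)] := ⟨_, fun j => rfl⟩
  have hdisp : ∀ u, disp g u = u - T u := fun u => by rw [disp_apply, hTv]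
  have hwm : wallMat (⇑Q) g (fun x => w' (e x)) = (Matrix.blockDiagonal M).submatrix e e := by
    ext x y
    obtain ⟨⟨s, j⟩, hx⟩ : ∃ z, e x = z := ⟨_, rfl⟩
    obtain ⟨⟨t, l⟩, hy⟩ : ∃ z, e y = z := ⟨_, rfl⟩
    rw [Matrix.submatrix_apply, hx, hy, Matrix.blockDiagonal_apply, wallMat, Matrix.of_apply, hdisp, hx, hy, hw', hw',
      QuadraticMap.polar_sub_right]
    have hTT : ∀ a b, QuadraticMap.polar Q (T a) (T b) = QuadraticMap.polar Q a b := polar_map hI
    by_cases hjl : j = l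
    · subst hjl
      have h0 := polar_negsq h2 hI hT2 (v j)
      have h0' : QuadraticMap.polar Q (T (v j)) (v j) = 0 := by rw [QuadraticMap.polar_comm]; exact h0
      fin_cases s <;> fin_cases t <;>
        simp [hM, h0, h0', hTT, hT2, QuadraticMap.polar_neg_right]
    · obtain ⟨h1, h3⟩ := hvv j l hjl
      have h4 : QuadraticMap.polar Q (T (v j)) (v l) = 0 := by
        rw [QuadraticMap.polar_comm]; exact (hvv l j (Ne.symm hjl)).2
      fin_cases s <;> fin_cases t <;>
        simp [hjl, h1, h3, h4, hTT, hT2, QuadraticMap.polar_neg_right]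
  have hdetM : ∀ j, (M j).det = (2 : F) * QuadraticMap.polar Q (v j) (v j) * QuadraticMap.polar Q (v j) (v j) :=
    fun j => by rw [hM, Matrix.det_fin_two_of]; ring
  have hne : ∀ j, QuadraticMap.polar Q (v j) (v j) ≠ 0 := fun j h => (hv j).2 ((value_zero_iff h2 _).1 h)
  have hdet : (wallMat (⇑Q) g fun x => w' (e x)).det =
      (2 : F) ^ k * ((∏ j, QuadraticMap.polar Q (v j) (v j)) * ∏ j, QuadraticMap.polar Q (v j) (v j)) := by
    rw [hwm, Matrix.det_submatrix_equiv_self, Matrix.det_blockDiagonal, Finset.prod_congr rfl fun j _ => hdetM j,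
      Finset.prod_mul_distrib, Finset.prod_mul_distrib, Finset.prod_const, Finset.card_univ, Fintype.card_fin, mul_assoc]
  have hdne : (wallMat (⇑Q) g fun x => w' (e x)).det ≠ 0 := by
    rw [hdet]
    exact mul_ne_zero (pow_ne_zero _ h2) (mul_ne_zero (Finset.prod_ne_zero_iff.2 fun j _ => hne j)
      (Finset.prod_ne_zero_iff.2 fun j _ => hne j))
  have hli : LinearIndependent F fun x => disp g (w' (e x)) := by
    rw [Fintype.linearIndependent_iff]
    intro c hc x
    by_contra hcx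
    refine hdne (Matrix.exists_mulVec_eq_zero_iff.1 ⟨c, fun h => hcx (congrFun h x), funext fun y => ?_⟩)
    have h : qB Q (w' (e y)) (∑ z, c z • disp g (w' (e z))) = 0 := by rw [hc, map_zero]
    rw [map_sum] at h
    refine Eq.trans ?_ h
    simp only [Matrix.mulVec, dotProduct, wallMat, Matrix.of_apply, map_smul, smul_eq_mul, qB_apply]
    exact Finset.sum_congr rfl fun z _ => mul_comm _ _
  obtain ⟨h1, h3⟩ := spn_eq_det (nd_of_qf Q hQ) hg hli (by
    intro u _
    rw [hli.span_eq_top_of_card_eq_finrank' (by rw [Fintype.card_fin, Module.finrank_fintype_fun_eq_card, hd])]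
    exact Submodule.mem_top)
  refine ⟨h1, ?_⟩
  rw [h3, hdet]
  have hP : (∏ j, QuadraticMap.polar Q (v j) (v j)) ≠ 0 := Finset.prod_ne_zero_iff.2 fun j _ => hne j
  rw [sqc_mul (pow_ne_zero _ h2) (mul_ne_zero hP hP), sqc_mul hP hP, sqc_mul_self hP, mul_one]

end Spinor

end CfsgLib.Perm.Elusive
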