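import Mathlib
import Cfsg.Agent.Lib.Perm.Elusive.OrthElusive
import Cfsg.Agent.Lib.Perm.Elusive.OrthInvolution
import Cfsg.Agent.Lib.Perm.Trans.QuadSubfInvol

/-!
# Elements of order two of orthogonal groups in odd characteristic
-/

set_option autoImplicit false
set_option linter.all false

namespace CfsgLib.Perm.Elusive

open CfsgLib.Classical CfsgLib.Orth
open scoped Matrix

variable {F : Type*} [Field F] [Fintype F] {ι : Type} [Fintype ι] [DecidableEq ι]

omit [Fintype F] in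
theorem pow_two_power_square {a : F} (ha : a ≠ 0) (d : ℕ) : IsSquare (a ^ d) ↔ Even d ∨ IsSquare a := by
  rcases Nat.even_or_odd d with hd | hd
  · exact iff_of_true (hd.isSquare_pow a) (Or.inl hd)
  · refine ⟨fun h => Or.inr ?_, fun h => (h.resolve_left (Nat.not_even_iff_odd.2 hd)).pow d⟩
    obtain ⟨k, rfl⟩ := hd
    obtain ⟨s, hs⟩ := h
    refine ⟨s / a ^ k, ?_⟩
    have hk := pow_ne_zero k ha
    rw [pow_succ, two_mul, pow_add] at hs
    field_simp
    linear_combination hs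

/-- squares of elements with scalar square -/
theorem two_scalar_cases {Q : QuadraticForm F (ι → F)} (hQ : (QuadraticMap.polarBilin Q).Nondegenerate) (hn : 5 ≤ Fintype.card ι)
    {x : GL ι F} (hx : x ∈ Cfsg.Geo.omegaGL ⇑Q) {z : F}
    (hxz : ((x ^ 2 : GL ι F) : Matrix ι ι F) = z • (1 : Matrix ι ι F)) :
    ((∀ v, Matrix.toLin' (x : Matrix ι ι F) (Matrix.toLin' (x : Matrix ι ι F) v) = v) ∨
      (∀ v, Matrix.toLin' (x : Matrix ι ι F) (Matrix.toLin' (x : Matrix ι ι F) v) = -v)) ∧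
    ∀ v, Q (Matrix.toLin' (x : Matrix ι ι F) v) = Q v := by
  haveI : Nonempty ι := Fintype.card_pos_iff.1 (by omega)
  have hxI := mem_isometryGroup_iff.1 (mem_iso_of_omega hx)
  have hI : ∀ v, Q (Matrix.toLin' (x : Matrix ι ι F) v) = Q v := fun v => by rw [Matrix.toLin'_apply]; exact hxI v
  have hTT : ∀ v, Matrix.toLin' (x : Matrix ι ι F) (Matrix.toLin' (x : Matrix ι ι F) v) = z • v := fun v => by
    rw [Matrix.toLin'_apply, Matrix.toLin'_apply, Matrix.mulVec_mulVec, ← Units.val_mul, ← sq, hxz, Matrix.smul_mulVec,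
      Matrix.one_mulVec]
  have hz2 := scalar_square hQ (z := z) fun v => by rw [← hTT, hI, hI]
  refine ⟨?_, hI⟩
  rcases mul_self_eq_one_iff.1 hz2 with h | h
  · exact Or.inl fun v => by rw [hTT, h, one_smul]
  · exact Or.inr fun v => by rw [hTT, h, neg_one_smul]

/-- the square roots of `-1` inside Omega -/
theorem negsq_omega_iff (h2 : (2 : F) ≠ 0) {Q : QuadraticForm F (ι → F)} (hQ : (QuadraticMap.polarBilin Q).Nondegenerate)
    {d : ℕ} (hd : Fintype.card ι = 2 * d) (hd3 : 3 ≤ d) {g : GL ι F} (hg : g ∈ Cfsg.isometryGroup F ⇑Q)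
    (hsq : ∀ v, (g : Matrix ι ι F) *ᵥ ((g : Matrix ι ι F) *ᵥ v) = -v) :
    g ∈ Cfsg.Geo.omegaGL ⇑Q ↔ Even d ∨ IsSquare (2 : F) := by
  obtain ⟨hw, hs⟩ := negsq_spn h2 hQ hg hsq hd
  have hiff := CfsgLib.Orth.mem_omega_iff (nd_of_qf Q hQ) (by omega) (hex_of_two h2) ⟨g, hg⟩
  rw [← pow_two_power_square h2 d, ← sqc_eq_one_iff (pow_ne_zero d h2), ← hs]
  constructor
  · rintro ⟨y, hy, hyg⟩
    have hy' : y = ⟨g, hg⟩ := Subtype.ext hyg
    exact (hiff.1 (hy' ▸ hy)).1
  · exact fun h => Subgroup.mem_map.2 ⟨⟨g, hg⟩, hiff.2 ⟨h, ⟨d, by rw [hw]; ring⟩⟩, rfl⟩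

/-- elements with scalar square fixing a member of a class closed under the involutions -/
theorem two_elusive_iff (h2 : (2 : F) ≠ 0) {Q : QuadraticForm F (ι → F)} (hQ : (QuadraticMap.polarBilin Q).Nondegenerate)
    {d : ℕ} (hd : Fintype.card ι = 2 * d) (hd3 : 3 ≤ d) (P : Submodule F (ι → F) → Prop)
    (hinv : ∀ T : (ι → F) →ₗ[F] (ι → F), (∀ v, Q (T v) = Q v) → (∀ v, T (T v) = v) → T ≠ 1 → T ≠ -1 →
      ∃ W : Submodule F (ι → F), P W ∧ ∀ u ∈ W, T u ∈ W) :
    (∀ x : GL ι F, x ∈ Cfsg.Geo.omegaGL ⇑Q → (∃ z : F, ((x ^ 2 : GL ι F) : Matrix ι ι F) = z • (1 : Matrix ι ι F)) →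
      (∀ z : F, (x : Matrix ι ι F) ≠ z • (1 : Matrix ι ι F)) →
      ∃ W : Submodule F (ι → F), P W ∧ W.map (Matrix.toLin' (x : Matrix ι ι F)) ≤ W) ↔
    (((QPlus Q ⊤ ↔ IsSquare (-1 : F) ∨ Even d) ∧ (Even d ∨ IsSquare (2 : F))) →
      ∀ T : (ι → F) →ₗ[F] (ι → F), (∀ v, Q (T v) = Q v) → (∀ v, T (T v) = -v) →
        ∃ W : Submodule F (ι → F), P W ∧ ∀ u ∈ W, T u ∈ W) := by
  haveI : Nonempty ι := Fintype.card_pos_iff.1 (by omega)
  constructor
  · rintro hL ⟨-, h2d⟩ T hI hT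
    have hT4 : T ^ 4 = 1 := LinearMap.ext fun v => by
      simp [pow_succ, Module.End.mul_apply, hT]
    obtain ⟨x, -, hxv⟩ := exists_gl_of_pow (by norm_num : (4 : ℕ) ≠ 0) hT4
    have hsq : ∀ v, (x : Matrix ι ι F) *ᵥ ((x : Matrix ι ι F) *ᵥ v) = -v := fun v => by rw [hxv, hxv]; exact hT v
    have hmem := (negsq_omega_iff h2 hQ hd hd3 (mem_isometryGroup_iff.2 fun v => by rw [hxv]; exact hI v) hsq).2 h2d
    obtain ⟨W, hP, hW⟩ := hL x hmem ⟨-1, Matrix.ext_iff_mulVec.2 fun v => by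
        rw [sq, Units.val_mul, ← Matrix.mulVec_mulVec, hsq, neg_one_smul, Matrix.neg_mulVec, Matrix.one_mulVec]⟩
      (fun z hz => by
        have hz2 := scalar_square hQ (z := z) fun v => by
          have := hI v
          rwa [← hxv, hz, Matrix.smul_mulVec, Matrix.one_mulVec] at this
        have h := hsq (Pi.single (Classical.arbitrary ι) 1)
        rw [hz, Matrix.smul_mulVec, Matrix.one_mulVec, Matrix.smul_mulVec, Matrix.one_mulVec, smul_smul, hz2, one_smul] at h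
        have h' := congrFun h (Classical.arbitrary ι)
        simp at h'
        exact h2 (by linear_combination h'))
    exact ⟨W, hP, fun u hu => by rw [← hxv, ← Matrix.toLin'_apply]; exact hW ⟨u, hu, rfl⟩⟩
  · intro hneg x hx ⟨z, hxz⟩ hns
    obtain ⟨hcase, hI⟩ := two_scalar_cases hQ (by omega) hx hxz
    suffices h : ∃ W : Submodule F (ι → F), P W ∧ ∀ u ∈ W, Matrix.toLin' (x : Matrix ι ι F) u ∈ W by
      obtain ⟨W, hP, hW⟩ := h
      exact ⟨W, hP, by rintro _ ⟨u, hu, rfl⟩; exact hW u hu⟩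
    rcases hcase with h | h
    · refine hinv _ hI h (fun e => hns 1 ?_) (fun e => hns (-1) ?_)
      · rw [one_smul]; exact Matrix.toLin'.injective (e.trans Matrix.toLin'_one.symm)
      · rw [neg_one_smul]; exact Matrix.toLin'.injective (by rw [e, map_neg, Matrix.toLin'_one]; rfl)
    · refine hneg ⟨?_, ?_⟩ _ hI h
      · obtain ⟨k, hk, hkp, -, -⟩ := negsq_sub h2 hI h (fun _ _ => Submodule.mem_top) (qnd_top hQ)
        rw [finrank_top, Module.finrank_fintype_fun_eq_card, hd] at hk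
        obtain rfl : k = d := by omega
        exact hkp
      · exact (negsq_omega_iff h2 hQ hd hd3 (mem_iso_of_omega hx) fun v => by
          have := h v; rwa [Matrix.toLin'_apply, Matrix.toLin'_apply] at this).1 hx

/-- every involution of odd-dimensional Omega fixes a member of every class -/
theorem order_two_fixed (h2 : (2 : F) ≠ 0) {Q : QuadraticForm F (ι → F)} (hQ : (QuadraticMap.polarBilin Q).Nondegenerate)
    (hn : 5 ≤ Fintype.card ι) (hodd : Odd (Fintype.card ι)) {W₀ : Submodule F (ι → F)} (hW₀ : QNd Q W₀)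
    (hm0 : 0 < Module.finrank F W₀) (hmn : Module.finrank F W₀ < Fintype.card ι) {x : GL ι F}
    (hx : x ∈ Cfsg.Geo.omegaGL ⇑Q) (hxo : orderOf x = 2) :
    ∃ W : Submodule F (ι → F), (Module.finrank F W = Module.finrank F W₀ ∧ QNd Q W ∧
      ∃ e : W ≃ₗ[F] W₀, ∀ w, Q (e w : ι → F) = Q (w : ι → F)) ∧ W.map (Matrix.toLin' (x : Matrix ι ι F)) ≤ W := by
  have hxI := mem_isometryGroup_iff.1 (mem_iso_of_omega hx)
  have hx2 : x * x = 1 := by rw [← sq, ← hxo, pow_orderOf_eq_one]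
  obtain ⟨T, hT⟩ : ∃ T, T = Matrix.toLin' (x : Matrix ι ι F) := ⟨_, rfl⟩
  have hTv : ∀ v, T v = (x : Matrix ι ι F) *ᵥ v := fun v => by rw [hT, Matrix.toLin'_apply]
  obtain ⟨W, h1, h2', h3, h4⟩ := invol_fixed h2 hQ (T := T) (fun v => by rw [hTv]; exact hxI v)
    (fun v => by rw [hTv, hTv, Matrix.mulVec_mulVec, ← Units.val_mul, hx2, Units.val_one, Matrix.one_mulVec])
    (fun e => by
      have h1 : x = 1 := Units.ext (Matrix.ext_iff_mulVec.2 fun v => by
        rw [← hTv, e, Units.val_one, Matrix.one_mulVec]; rfl)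
      rw [h1, orderOf_one] at hxo; omega)
    (fun e => by
      have hw := CfsgLib.Perm.Trans.Quad.wrk_even (nd_of_qf Q hQ) hn hx
      have hmv : moved x = ⊤ := eq_top_iff.2 fun v _ => ⟨(2 : F)⁻¹ • v, by
        rw [disp_apply, ← hTv, e, LinearMap.neg_apply, Module.End.one_apply, sub_neg_eq_add, ← two_smul F,
          smul_inv_smul₀ h2]⟩
      rw [wrk, hmv, finrank_top, Module.finrank_fintype_fun_eq_card] at hw
      exact Nat.not_even_iff_odd.2 hodd hw)
    (by rw [Module.finrank_fintype_fun_eq_card]; omega) hW₀ hm0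
    (by rw [Module.finrank_fintype_fun_eq_card]; exact hmn)
  exact ⟨W, ⟨h3, h2', h4⟩, by rintro _ ⟨u, hu, rfl⟩; rw [← hT]; exact h1 u hu⟩

/-- isometric subspaces have the same type -/
theorem qplus_iso {Q : QuadraticForm F (ι → F)} {W W' : Submodule F (ι → F)} (e : W ≃ₗ[F] W')
    (he : ∀ w, Q (e w : ι → F) = Q (w : ι → F)) : QPlus Q W → QPlus Q W' := by
  rintro ⟨U, hU, hU0, hUd⟩
  refine ⟨((U.comap W.subtype).map e.toLinearMap).map W'.subtype, Submodule.map_subtype_le _ _, ?_, ?_⟩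
  · rintro _ ⟨_, ⟨u, hu, rfl⟩, rfl⟩
    exact (he u).trans (hU0 _ hu)
  · rw [Submodule.finrank_map_subtype_eq, LinearEquiv.finrank_map_eq,
      LinearEquiv.finrank_eq (Submodule.comapSubtypeEquivOfLe hU), hUd, e.finrank_eq]

theorem qplus_iso_iff {Q : QuadraticForm F (ι → F)} {W W' : Submodule F (ι → F)} (e : W ≃ₗ[F] W')
    (he : ∀ w, Q (e w : ι → F) = Q (w : ι → F)) : QPlus Q W ↔ QPlus Q W' :=
  ⟨qplus_iso e he, qplus_iso e.symm fun w => by rw [← he (e.symm w), e.apply_symm_apply]⟩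

end CfsgLib.Perm.Elusive
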