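import Mathlib

/-!
# Rank sequences of nilpotent maps on invariant subspaces
-/

set_option autoImplicit false
set_option linter.all false

namespace CfsgLib.Perm.Elusive

variable {F V : Type*} [Field F] [AddCommGroup V] [Module F V] [FiniteDimensional F V] (N : Module.End F V)

/-- rank of a power of `N` on `M` -/
noncomputable def powRank (M : Submodule F V) (j : ℕ) : ℕ := Module.finrank F (M.map (N ^ j))

theorem powRank_zero (M : Submodule F V) : powRank N M 0 = Module.finrank F M := by
  rw [powRank, pow_zero, Module.End.one_eq_id, Submodule.map_id]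

theorem finrank_map_add_ker (P : Submodule F V) :
    Module.finrank F (P.map N) + Module.finrank F (↥(LinearMap.ker N ⊓ P)) = Module.finrank F P := by
  have h := LinearMap.finrank_range_add_finrank_ker (N.domRestrict P)
  rwa [LinearMap.range_domRestrict, LinearMap.ker_domRestrict,
    ← Submodule.finrank_map_subtype_eq P ((LinearMap.ker N).comap P.subtype), Submodule.map_comap_subtype,
    inf_comm] at h

theorem powRank_succ (M : Submodule F V) (j : ℕ) :
    powRank N M (j + 1) + Module.finrank F (↥(LinearMap.ker N ⊓ M.map (N ^ j))) = powRank N M j := by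
  rw [powRank, powRank, pow_succ', Module.End.mul_eq_comp, Submodule.map_comp]
  exact finrank_map_add_ker N _

theorem powRank_convex {M : Submodule F V} (hM : M.map N ≤ M) (j : ℕ) :
    2 * powRank N M (j + 1) ≤ powRank N M j + powRank N M (j + 2) := by
  have h1 := powRank_succ N M j
  have h2 : powRank N M (j + 2) + _ = powRank N M (j + 1) := powRank_succ N M (j + 1)
  have h3 : M.map (N ^ (j + 1)) ≤ M.map (N ^ j) := by
    rw [pow_succ, Module.End.mul_eq_comp, Submodule.map_comp]
    exact Submodule.map_mono hM
  have h4 := Submodule.finrank_mono (inf_le_inf_left (LinearMap.ker N) h3)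
  omega

theorem map_pow_le {M : Submodule F V} (hM : M.map N ≤ M) (j : ℕ) : M.map (N ^ j) ≤ M := by
  induction j with
  | zero => rw [pow_zero, Module.End.one_eq_id, Submodule.map_id]
  | succ j ih =>
    rw [pow_succ, Module.End.mul_eq_comp, Submodule.map_comp]
    exact (Submodule.map_mono hM).trans ih

theorem powRank_top_add {A B : Submodule F V} (hA : A.map N ≤ A) (hB : B.map N ≤ B) (h : IsCompl A B) (j : ℕ) :
    powRank N ⊤ j = powRank N A j + powRank N B j := by
  rw [powRank, powRank, powRank, ← h.sup_eq_top, Submodule.map_sup, ← Submodule.finrank_sup_add_finrank_inf_eq,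
    (h.disjoint.mono (map_pow_le N hA j) (map_pow_le N hB j)).eq_bot, finrank_bot, add_zero]

/-- the Jordan type read off from the ranks -/
theorem sum_weighted (R : ℕ → ℕ) (hR : ∀ j, 2 * R (j + 1) ≤ R j + R (j + 2)) :
    ∀ m : ℕ, ∑ i ∈ Finset.range m, (i + 1) * (R i + R (i + 2) - 2 * R (i + 1)) + (m + 1) * R m = R 0 + m * R (m + 1) := by
  intro m
  induction m with
  | zero => simp
  | succ m ih =>
    rw [Finset.sum_range_succ]
    obtain ⟨c, hc⟩ : ∃ c, R m + R (m + 2) = 2 * R (m + 1) + c := ⟨_, (Nat.add_sub_of_le (hR m)).symm⟩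
    rw [hc, Nat.add_sub_cancel_left, show m + 1 + 1 = m + 2 from rfl]
    nlinarith

end CfsgLib.Perm.Elusive
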