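import Mathlib
import Cfsg.Agent.Lib.Perm.Elusive.OrthElusive
import Cfsg.Agent.Lib.Perm.Elusive.JordanType

/-!
# Unipotent isometries of large rank and the subspaces they fix
-/

set_option autoImplicit false
set_option linter.all false

namespace CfsgLib.Perm.Elusive

open CfsgLib.Classical
open scoped Matrix

section Abstract

variable {F : Type*} [Field F] [Fintype F] {V : Type*} [AddCommGroup V] [Module F V] [FiniteDimensional F V]
variable {Q : QuadraticForm F V} {T : V →ₗ[F] V}

/-- ranks split over a nondegenerate invariant subspace -/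
theorem rank_split (hI : ∀ v, Q (T v) = Q v) (hinj : Function.Injective T) {W : Submodule F V}
    (hW : ∀ u ∈ W, T u ∈ W) (hWn : QNd Q W) :
    W.map (T - 1) ≤ W ∧ ((qB Q).orthogonal W).map (T - 1) ≤ (qB Q).orthogonal W ∧
      Module.finrank F W + Module.finrank F ((qB Q).orthogonal W) = Module.finrank F V ∧
      ∀ j, powRank (T - 1) ⊤ j = powRank (T - 1) W j + powRank (T - 1) ((qB Q).orthogonal W) j := by
  have hO := orth_invariant (polar_refl Q) (B := qB Q) (fun a b => polar_map hI a b) hinj hW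
  have hA : W.map (T - 1) ≤ W := by
    rintro _ ⟨u, hu, rfl⟩
    exact W.sub_mem (hW u hu) hu
  have hB : ((qB Q).orthogonal W).map (T - 1) ≤ (qB Q).orthogonal W := by
    rintro _ ⟨u, hu, rfl⟩
    exact Submodule.sub_mem _ (hO u hu) hu
  have hc := isCompl_orth (polar_refl Q) hWn
  exact ⟨hA, hB, Submodule.finrank_add_eq_of_isCompl hc, powRank_top_add _ hA hB hc⟩

omit [Fintype F] [FiniteDimensional F V] in
theorem map_zero_of_rank {f : V →ₗ[F] V} [FiniteDimensional F V] {W : Submodule F V}
    (h : Module.finrank F (W.map f) = 0) : ∀ w ∈ W, f w = 0 := fun w hw => by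
  have hb := Submodule.finrank_eq_zero.1 h
  exact (Submodule.mem_bot F).1 (hb.le ⟨w, hw, rfl⟩)

omit [Fintype F] [FiniteDimensional F V] in
/-- singular images in odd characteristic -/
theorem image_singular (h2 : (2 : F) ≠ 0) (hI : ∀ v, Q (T v) = Q v) {w : V} (hw : (T - 1) ((T - 1) w) = 0) :
    Q ((T - 1) w) = 0 := by
  have hfix : T ((T - 1) w) = (T - 1) w := by
    rw [← sub_eq_zero]; simpa using hw
  have h := polar_map hI ((T - 1) w) w
  rw [hfix, show T w = w + (T - 1) w by simp, QuadraticMap.polar_add_right, add_eq_left,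
    QuadraticMap.polar_self] at h
  simpa [h2] using h

omit [Fintype F] [FiniteDimensional F V] in
/-- a half-size singular image makes the plus type -/
theorem plus_of_half_image (hsq : ∀ w, (T - 1) ((T - 1) w) = 0 → Q ((T - 1) w) = 0) {W : Submodule F V}
    (hW : W.map (T - 1) ≤ W) (h0 : ∀ w ∈ W, (T - 1) ((T - 1) w) = 0)
    (hd : 2 * Module.finrank F (W.map (T - 1)) = Module.finrank F W) : QPlus Q W :=
  ⟨_, hW, by rintro _ ⟨w, hw, rfl⟩; exact hsq w (h0 w hw), hd⟩

/-- square-zero unipotent isometries of rank at least half the dimension less one -/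
theorem square_zero_plus (hN : (QuadraticMap.polarBilin Q).Nondegenerate) (hI : ∀ v, Q (T v) = Q v)
    (hinj : Function.Injective T) (h0 : ∀ v, (T - 1) ((T - 1) v) = 0) (hs : ∀ v, Q ((T - 1) v) = 0) {d : ℕ}
    (hn : Module.finrank F V = 2 * d) (hrk : d ≤ Module.finrank F (LinearMap.range (T - 1)) + 1) (htop : QPlus Q ⊤)
    {W : Submodule F V} (hW : ∀ u ∈ W, T u ∈ W) (hWn : QNd Q W) {h : ℕ} (hWd : Module.finrank F W = 2 * h) :
    QPlus Q W := by
  obtain ⟨hA, hB, hsum, hR⟩ := rank_split hI hinj hW hWn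
  have hz : ∀ X : Submodule F V, powRank (T - 1) X 2 = 0 := fun X => by
    rw [powRank, Submodule.finrank_eq_zero, eq_bot_iff]
    rintro _ ⟨u, -, rfl⟩
    rw [sq, Module.End.mul_apply, h0]; exact zero_mem _
  have h1 := powRank_convex (T - 1) hA 0
  have h2 := powRank_convex (T - 1) hB 0
  rw [powRank_zero, zero_add, zero_add, hz] at h1 h2
  have hR1 := hR 1
  have e1 : ∀ X : Submodule F V, powRank (T - 1) X 1 = Module.finrank F (X.map (T - 1)) := fun X => by
    rw [powRank, pow_one]
  rw [e1, e1, e1, Submodule.map_top] at hR1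
  rw [e1] at h1 h2
  by_cases hfull : 2 * Module.finrank F (W.map (T - 1)) = Module.finrank F W
  · exact plus_of_half_image (fun w _ => hs w) hA (fun w _ => h0 w) hfull
  · have hW' : 2 * Module.finrank F (((qB Q).orthogonal W).map (T - 1)) = Module.finrank F ((qB Q).orthogonal W) := by
      omega
    have hp := plus_of_half_image (fun w _ => hs w) hB (fun w _ => h0 w) hW'
    have hOn : QNd Q ((qB Q).orthogonal W) := by
      have := (qnd_top hN)
      have h3 := orth_nd (polar_refl Q) (B := qB Q) hN hWn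
      exact h3
    have hiff := qplus_sup_iff hWn hOn (fun u hu v hv => hv u hu) hWd
      (h' := Module.finrank F (((qB Q).orthogonal W).map (T - 1))) hW'.symm
    rw [(isCompl_orth (polar_refl Q) hWn).sup_eq_top] at hiff
    exact (hiff.1 htop).2 hp

/-- rank of an element with at most one long block in a space of odd dimension -/
theorem long_block_plus (h2 : (2 : F) ≠ 0) (hI : ∀ v, Q (T v) = Q v) (hinj : Function.Injective T) {d : ℕ}
    (hn : Module.finrank F V = 2 * d + 1) (hR2 : powRank (T - 1) ⊤ 2 ≤ 1)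
    (hrk : 2 * d + powRank (T - 1) ⊤ 2 ≤ 2 * powRank (T - 1) ⊤ 1)
    {W : Submodule F V} (hW : ∀ u ∈ W, T u ∈ W) (hWn : QNd Q W) {h : ℕ} (hWd : Module.finrank F W = 2 * h) :
    QPlus Q W := by
  obtain ⟨hA, hB, hsum, hR⟩ := rank_split hI hinj hW hWn
  have h1 := powRank_convex (T - 1) hA 0
  have h1' := powRank_convex (T - 1) hB 0
  rw [powRank_zero, zero_add, zero_add] at h1 h1'
  have e2 := hR 2
  have e1 := hR 1
  have ha2 : powRank (T - 1) W 2 = 0 := by omega
  refine plus_of_half_image (fun w => image_singular h2 hI) hA (fun w hw => ?_) ?_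
  · have := map_zero_of_rank ha2 w hw
    rwa [sq, Module.End.mul_apply] at this
  · have hw1 : powRank (T - 1) W 1 = Module.finrank F (W.map (T - 1)) := by rw [powRank, pow_one]
    omega

/-- the fixed vectors outside the image carry one square class -/
theorem fixed_class (h2 : (2 : F) ≠ 0) (hI : ∀ v, Q (T v) = Q v) {e₀ : V}
    (hker : ∀ v, (T - 1) v = 0 → ∃ (u : V) (c : F), v = (T - 1) u + c • e₀) (he₀ : T e₀ = e₀) {v : V}
    (hv : (T - 1) v = 0) : ∃ c : F, Q v = c * c * Q e₀ := by
  obtain ⟨u, c, rfl⟩ := hker v hv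
  have h0 : ∀ x, T x = x → QuadraticMap.polar Q ((T - 1) u) x = 0 := fun x hx => by
    rw [LinearMap.sub_apply, Module.End.one_apply, QuadraticMap.polar_sub_left, sub_eq_zero]
    conv_lhs => arg 3; rw [← hx]
    exact polar_map hI u x
  have hN2 : (T - 1) ((T - 1) u) = 0 := by
    rw [map_add, map_smul, LinearMap.sub_apply, Module.End.one_apply] at hv
    have he : (T - 1) e₀ = 0 := by simp [he₀]
    rw [he, smul_zero, add_zero] at hv
    exact hv
  refine ⟨c, ?_⟩
  rw [QuadraticMap.map_add (⇑Q), image_singular h2 hI hN2, QuadraticMap.map_smul, QuadraticMap.polar_smul_right,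
    h0 e₀ he₀, smul_eq_mul, smul_zero, zero_add, add_zero]

/-- two half-size singular subspaces of an odd space carry the same square class -/
theorem odd_class_unique (h2 : (2 : F) ≠ 0) {W : Submodule F V} (hW : QNd Q W) {h : ℕ}
    (hd : Module.finrank F W = 2 * h + 1) {U U' : Submodule F V} (hU : U ≤ W) (hU' : U' ≤ W) (hU0 : ∀ u ∈ U, Q u = 0)
    (hU'0 : ∀ u ∈ U', Q u = 0) (hUd : Module.finrank F U = h) (hU'd : Module.finrank F U' = h) {e e' : V}
    (he : e ∈ W) (he' : e' ∈ W) (heU : ∀ u ∈ U, QuadraticMap.polar Q u e = 0)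
    (he'U : ∀ u ∈ U', QuadraticMap.polar Q u e' = 0) (hQe' : Q e' ≠ 0) : ∃ c : F, Q e = c * c * Q e' := by
  obtain ⟨P, hP⟩ : ∃ P : QuadraticForm F W, P = Q.comp W.subtype := ⟨_, rfl⟩
  have hPn : (QuadraticMap.polarBilin P).Nondegenerate := hP ▸ qnd_restrict hW
  have hPv : ∀ w : W, P w = Q (w : V) := fun w => by rw [hP]; rfl
  obtain ⟨f⟩ : Nonempty (U.comap W.subtype ≃ₗ[F] U'.comap W.subtype) := ⟨LinearEquiv.ofFinrankEq _ _ (by
    rw [LinearEquiv.finrank_eq (Submodule.comapSubtypeEquivOfLe hU),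
      LinearEquiv.finrank_eq (Submodule.comapSubtypeEquivOfLe hU'), hUd, hU'd])⟩
  obtain ⟨g, hg, hgf⟩ := CfsgLib.Perm.Trans.Witt.witt_extension hPn (U.comap W.subtype)
    ((U'.comap W.subtype).subtype.comp f.toLinearMap) ((Submodule.injective_subtype _).comp f.injective)
    (fun x => by
      rw [hPv, hPv, hU0 ((x : W) : V) x.2]
      exact hU'0 _ (f x).2)
  obtain ⟨y, hy⟩ : ∃ y, y = g ⟨e, he⟩ := ⟨_, rfl⟩
  have hperp : ∀ u ∈ U', QuadraticMap.polar Q u (y : V) = 0 := fun u hu => by
    obtain ⟨x, hx⟩ := f.surjective ⟨⟨u, hU' hu⟩, hu⟩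
    have hgx : g (x : W) = ⟨u, hU' hu⟩ := by
      rw [hgf, LinearMap.comp_apply, LinearEquiv.coe_coe, hx]; rfl
    have h := polar_map (T := g.toLinearMap) hg (x : W) ⟨e, he⟩
    rw [LinearEquiv.coe_coe, hgx, ← hy] at h
    simp only [QuadraticMap.polar, hPv, Submodule.coe_add] at h ⊢
    rw [h]
    exact heU _ x.2
  obtain ⟨Z, hZ⟩ : ∃ Z, Z = U' ⊔ Submodule.span F {e'} := ⟨_, rfl⟩
  obtain ⟨R, hR⟩ : ∃ R : LinearMap.BilinForm F W, ∀ a b : W, R a b = QuadraticMap.polar Q (a : V) b :=
    ⟨(qB Q).compl₁₂ W.subtype W.subtype, fun a b => rfl⟩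
  have hRn : R.Nondegenerate := by
    have key : ∀ u : W, (∀ v, R u v = 0) → u = 0 := fun u hu => by
      by_contra hne
      obtain ⟨v, hv, h'⟩ := (qnd_iff Q W).1 hW u u.2 fun h => hne (Subtype.ext h)
      exact h' ((hR _ ⟨v, hv⟩).symm.trans (hu _))
    exact ⟨key, fun v hv => key v fun u => by rw [hR, QuadraticMap.polar_comm, ← hR]; exact hv u⟩
  have hle : Z.comap W.subtype ≤ R.orthogonal (U'.comap W.subtype) := fun z hz u hu => by
    show R u z = 0
    rw [hR]
    have hz' : (z : V) ∈ U' ⊔ Submodule.span F {e'} := hZ ▸ hz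
    obtain ⟨a, ha, b, hb, hab⟩ := Submodule.mem_sup.1 hz'
    obtain ⟨c, rfl⟩ := Submodule.mem_span_singleton.1 hb
    rw [← hab, QuadraticMap.polar_add_right, QuadraticMap.polar_smul_right, he'U (u : V) hu, smul_zero, add_zero,
      QuadraticMap.polar, hU'0 _ (U'.add_mem (show (u : V) ∈ U' from hu) ha), hU'0 (u : V) hu, hU'0 _ ha]
    simp
  have heq := Submodule.eq_of_le_of_finrank_eq hle (by
    rw [LinearMap.BilinForm.finrank_orthogonal hRn, hd,
      LinearEquiv.finrank_eq (Submodule.comapSubtypeEquivOfLe hU'), hU'd,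
      LinearEquiv.finrank_eq (Submodule.comapSubtypeEquivOfLe (show Z ≤ W from hZ ▸ sup_le hU'
        ((Submodule.span_singleton_le_iff_mem _ _).2 he')))]
    have hdj : Disjoint U' (Submodule.span F {e'}) := Submodule.disjoint_def.2 fun x hx hx' => by
      obtain ⟨c, rfl⟩ := Submodule.mem_span_singleton.1 hx'
      have h := hU'0 _ hx
      rw [QuadraticMap.map_smul, smul_eq_mul, mul_eq_zero, mul_eq_zero, or_self] at h
      rw [h.resolve_right hQe', zero_smul]
    have h := Submodule.finrank_sup_add_finrank_inf_eq U' (Submodule.span F {e'})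
    rw [hdj.eq_bot, finrank_bot, add_zero, finrank_span_singleton (fun h0 => hQe' (by rw [h0, map_zero])), ← hZ] at h
    omega)
  have hyZ : y ∈ R.orthogonal (U'.comap W.subtype) := fun u hu => by
    show R u y = 0
    rw [hR]
    exact hperp _ hu
  rw [← heq] at hyZ
  have hyZ' : (y : V) ∈ U' ⊔ Submodule.span F {e'} := hZ ▸ hyZ
  obtain ⟨a, ha, b, hb, hab⟩ := Submodule.mem_sup.1 hyZ'
  obtain ⟨c, rfl⟩ := Submodule.mem_span_singleton.1 hb
  refine ⟨c, ?_⟩
  have h1 : Q (y : V) = Q e := by rw [← hPv, hy, hg, hPv]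
  rw [← h1, ← hab, QuadraticMap.map_add (⇑Q), hU'0 a ha, QuadraticMap.map_smul, QuadraticMap.polar_smul_right,
    he'U a ha, smul_eq_mul, smul_zero, zero_add, add_zero]

end Abstract

section Model

variable {F : Type*} [Field F]

theorem one_add_pow_char {p : ℕ} [Fact p.Prime] [CharP F p] {V : Type*} [AddCommGroup V] [Module F V]
    (N : Module.End F V) (hN : N ^ p = 0) : (1 + N) ^ p = 1 := by
  rcases subsingleton_or_nontrivial (Module.End F V) with h | h
  · exact Subsingleton.elim _ _
  · haveI : CharP (Module.End F V) p := charP_of_injective_algebraMap (algebraMap F (Module.End F V)).injective p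
    rw [add_pow_char_of_commute (p := p) (Commute.one_left N), one_pow, hN, add_zero]

/-- an invertible alternating pairing of the indices, with the middle one left out -/
def skewRev (d : ℕ) (y : Fin d → F) : Fin d → F := fun j =>
  if 2 * (j : ℕ) + 1 < d then y j.rev else if d < 2 * (j : ℕ) + 1 then -y j.rev else 0

theorem skewRev_linear (d : ℕ) : ∃ S : (Fin d → F) →ₗ[F] (Fin d → F), ∀ y, S y = skewRev d y :=
  ⟨{ toFun := skewRev d
     map_add' := fun a b => by
      funext j; simp only [skewRev, Pi.add_apply]; split_ifs <;> ring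
     map_smul' := fun c a => by
      funext j; simp only [skewRev, Pi.smul_apply, smul_eq_mul, RingHom.id_apply]; split_ifs <;> ring }, fun y => rfl⟩

theorem skewRev_isotropic (d : ℕ) (y : Fin d → F) : ∑ j, skewRev d y j * y j = 0 := by
  refine Finset.sum_involution (fun j _ => j.rev) (fun j _ => ?_) (fun j _ h hj => h ?_) (fun j _ => Finset.mem_univ _)
    (fun j _ => Fin.rev_rev j)
  · simp only [skewRev, Fin.rev_rev, Fin.val_rev]
    split_ifs <;> first | (exfalso; omega) | ring
  · have := congrArg Fin.val hj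
    rw [Fin.val_rev] at this
    rw [skewRev, if_neg (by omega), if_neg (by omega), zero_mul]

/-- the image misses exactly the middle index -/
theorem skewRev_surj (d : ℕ) (z : Fin d → F) (hz : ∀ j : Fin d, 2 * (j : ℕ) + 1 = d → z j = 0) :
    ∃ y : Fin d → F, (∀ j : Fin d, 2 * (j : ℕ) + 1 = d → y j = 0) ∧ skewRev d y = z := by
  refine ⟨fun j => if 2 * (j : ℕ) + 1 < d then -z j.rev else if d < 2 * (j : ℕ) + 1 then z j.rev else 0, fun j hj => ?_, ?_⟩
  · simp only [if_neg (show ¬ 2 * (j : ℕ) + 1 < d by omega), if_neg (show ¬ d < 2 * (j : ℕ) + 1 by omega)]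
  · funext j
    simp only [skewRev, Fin.rev_rev, Fin.val_rev]
    split_ifs <;> first | (exfalso; omega) | simp | exact (hz j (by omega)).symm

/-- the square-zero element of the plus form -/
theorem exists_plus_square_zero {p : ℕ} [Fact p.Prime] [CharP F p] (d : ℕ) :
    ∃ T : (Fin d ⊕ Fin d → F) →ₗ[F] (Fin d ⊕ Fin d → F), (∀ v, Cfsg.quadFormPlus d F (T v) = Cfsg.quadFormPlus d F v) ∧
      T ^ p = 1 ∧ (∀ v, (T - 1) ((T - 1) v) = 0) ∧ (∀ v, Cfsg.quadFormPlus d F ((T - 1) v) = 0) ∧
      Module.finrank F (LinearMap.range (T - 1)) = 2 * (d / 2) := by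
  classical
  obtain ⟨S, hS⟩ := skewRev_linear (F := F) d
  obtain ⟨N, hN⟩ : ∃ N : (Fin d ⊕ Fin d → F) →ₗ[F] (Fin d ⊕ Fin d → F),
      ∀ v, N v = Sum.elim (S fun j => v (.inr j)) 0 :=
    ⟨{ toFun := fun v => Sum.elim (S fun j => v (.inr j)) 0
       map_add' := fun a b => by
        ext (j | j)
        · simp only [Sum.elim_inl, Pi.add_apply, hS, skewRev]; split_ifs <;> ring
        · simp
       map_smul' := fun c a => by
        ext (j | j)
        · simp only [Sum.elim_inl, Pi.smul_apply, hS, skewRev, smul_eq_mul, RingHom.id_apply]; split_ifs <;> ring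
        · simp }, fun v => rfl⟩
  have hNN : ∀ v, N (N v) = 0 := fun v => by
    rw [hN, hN]
    ext (j | j)
    · simp [hS, skewRev]
    · simp
  refine ⟨1 + N, fun v => ?_, ?_, fun v => by simp [hNN], fun v => ?_, ?_⟩
  · simp only [LinearMap.add_apply, Module.End.one_apply, hN, Cfsg.quadFormPlus, Pi.add_apply, Sum.elim_inl,
      Sum.elim_inr, Pi.zero_apply, add_zero, add_mul, Finset.sum_add_distrib, hS, skewRev_isotropic]
  · obtain ⟨k, hk⟩ : ∃ k, p = k + 2 := ⟨p - 2, by have := (Fact.out : p.Prime).two_le; omega⟩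
    refine one_add_pow_char N ?_
    rw [hk, pow_add, sq, show N * N = 0 from LinearMap.ext hNN, mul_zero]
  · simp [hN, Cfsg.quadFormPlus]
  · rw [add_sub_cancel_left]
    obtain ⟨P, hP⟩ : ∃ P : Submodule F (Fin d → F), ∀ z, z ∈ P ↔ ∀ j : Fin d, 2 * (j : ℕ) + 1 = d → z j = 0 :=
      ⟨⨅ j : {j : Fin d // 2 * (j : ℕ) + 1 = d}, LinearMap.ker (LinearMap.proj j.1), fun z => by
        simp [Submodule.mem_iInf]⟩
    let inc : (Fin d → F) →ₗ[F] (Fin d ⊕ Fin d → F) :=
      { toFun := fun z => Sum.elim z 0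
        map_add' := fun a b => by ext (j | j) <;> simp
        map_smul' := fun c a => by ext (j | j) <;> simp }
    have hinc : Function.Injective inc := fun a b h => funext fun j => congrFun h (.inl j)
    have hrange : LinearMap.range N = P.map inc := by
      refine le_antisymm ?_ ?_
      · rintro _ ⟨v, rfl⟩
        refine ⟨S fun j => v (.inr j), (hP _).2 fun j hj => ?_, (hN v).symm⟩
        rw [hS, skewRev, if_neg (by omega), if_neg (by omega)]
      · rintro _ ⟨z, hz, rfl⟩
        obtain ⟨y, -, hy⟩ := skewRev_surj d z ((hP z).1 hz)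
        refine ⟨Sum.elim 0 y, ?_⟩
        rw [hN]
        show Sum.elim (S y) 0 = Sum.elim z 0
        rw [hS, hy]
    rw [hrange, ← (Submodule.equivMapOfInjective inc hinc P).finrank_eq]
    rcases Nat.even_or_odd' d with ⟨s, hs | hs⟩
    · have : P = ⊤ := eq_top_iff.2 fun z _ => (hP z).2 fun j hj => by omega
      rw [this, finrank_top, Module.finrank_fintype_fun_eq_card, Fintype.card_fin]
      omega
    · obtain ⟨j₀, hj₀⟩ : ∃ j₀ : Fin d, (j₀ : ℕ) = s := ⟨⟨s, by omega⟩, rfl⟩
      have hPk : P = LinearMap.ker (LinearMap.proj (φ := fun _ : Fin d => F) (R := F) j₀) := by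
        ext z
        rw [hP, LinearMap.mem_ker, LinearMap.proj_apply]
        refine ⟨fun h => h j₀ (by omega), fun h j hj => ?_⟩
        rw [show j = j₀ from Fin.ext (by omega)]
        exact h
      have h := LinearMap.finrank_range_add_finrank_ker (LinearMap.proj (φ := fun _ : Fin d => F) (R := F) j₀)
      rw [LinearMap.range_eq_top.2 (fun c => ⟨Pi.single j₀ c, by simp⟩), finrank_top, Module.finrank_self,
        Module.finrank_fintype_fun_eq_card, Fintype.card_fin] at h
      rw [hPk]
      omega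

/-- the element of the odd form with at most one block of length three -/
theorem exists_odd_unipotent {p : ℕ} [Fact p.Prime] [CharP F p] (h2 : (2 : F) ≠ 0) (hp : 3 ≤ p) (d : ℕ) :
    ∃ T : (Unit ⊕ (Fin d ⊕ Fin d) → F) →ₗ[F] (Unit ⊕ (Fin d ⊕ Fin d) → F),
      (∀ v, Cfsg.quadFormOdd d F (T v) = Cfsg.quadFormOdd d F v) ∧ T ^ p = 1 ∧ (∀ v, (T - 1) ((T - 1) ((T - 1) v)) = 0) ∧
      powRank (T - 1) ⊤ 2 = d % 2 ∧ powRank (T - 1) ⊤ 1 = d + d % 2 ∧
      (Odd d → ∀ v, (T - 1) v = 0 → ∃ u, v = (T - 1) u) := by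
  classical
  obtain ⟨μ, hμ⟩ : ∃ μ : (Fin d → F) →ₗ[F] F, ∀ y, μ y = ∑ j : Fin d, if 2 * (j : ℕ) + 1 = d then y j else 0 :=
    ⟨∑ j : Fin d, if 2 * (j : ℕ) + 1 = d then LinearMap.proj j else 0, fun y => by
      rw [LinearMap.sum_apply]
      exact Finset.sum_congr rfl fun j _ => by split_ifs <;> simp⟩
  have hμ1 : ∀ (j : Fin d), 2 * (j : ℕ) + 1 = d → ∀ y, μ y = y j := fun j hj y => by
    rw [hμ, Finset.sum_eq_single j (fun i _ hi => if_neg fun h => hi (Fin.ext (by omega)))
      (fun h => absurd (Finset.mem_univ j) h), if_pos hj]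
  obtain ⟨S, hS⟩ := skewRev_linear (F := F) d
  obtain ⟨δ, hδ⟩ : ∃ δ : Fin d → F, ∀ j, δ j = if 2 * (j : ℕ) + 1 = d then 1 else 0 := ⟨_, fun j => rfl⟩
  obtain ⟨N, hN⟩ : ∃ N : (Unit ⊕ (Fin d ⊕ Fin d) → F) →ₗ[F] (Unit ⊕ (Fin d ⊕ Fin d) → F), ∀ v,
      N v = Sum.elim (fun _ => μ fun j => v (.inr (.inr j))) (Sum.elim
        (fun j => S (fun i => v (.inr (.inr i))) j + δ j * (-2 * v (.inl ()) - v (.inr (.inr j)))) 0) :=
    ⟨{ toFun := fun v => Sum.elim (fun _ => μ fun j => v (.inr (.inr j))) (Sum.elim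
          (fun j => S (fun i => v (.inr (.inr i))) j + δ j * (-2 * v (.inl ()) - v (.inr (.inr j)))) 0)
       map_add' := fun a b => by
        ext (u | j | j)
        · exact (congrArg μ (by rfl : (fun j => (a + b) (.inr (.inr j))) =
            (fun j => a (.inr (.inr j))) + fun j => b (.inr (.inr j)))).trans (map_add μ _ _)
        · simp only [Sum.elim_inr, Sum.elim_inl, Pi.add_apply, hS, skewRev]; split_ifs <;> ring
        · simp
       map_smul' := fun c a => by
        ext (u | j | j)
        · exact (congrArg μ (by rfl : (fun j => (c • a) (.inr (.inr j))) =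
            c • fun j => a (.inr (.inr j)))).trans (map_smul μ _ _)
        · simp only [Sum.elim_inr, Sum.elim_inl, Pi.smul_apply, hS, skewRev, smul_eq_mul, RingHom.id_apply]
          split_ifs <;> ring
        · simp }, fun v => rfl⟩
  obtain ⟨E, hE⟩ : ∃ E : Unit ⊕ (Fin d ⊕ Fin d) → F, E = Sum.elim (fun _ => 0) (Sum.elim δ 0) := ⟨_, rfl⟩
  have hS0 : S (0 : Fin d → F) = 0 := map_zero S
  have hN2 : ∀ v, N (N v) = (-2 * μ (fun j => v (.inr (.inr j)))) • E := fun v => by
    rw [hN, hN, hE]
    ext (u | j | j)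
    · simp only [Sum.elim_inl, Sum.elim_inr, Pi.zero_apply, Pi.smul_apply, smul_eq_mul, mul_zero]
      exact map_zero μ
    · simp only [Sum.elim_inl, Sum.elim_inr, Pi.zero_apply, Pi.smul_apply, smul_eq_mul, sub_zero]
      rw [show (fun _ : Fin d => (0 : F)) = 0 from rfl, hS0, Pi.zero_apply]; ring
    · simp
  have hN3 : ∀ v, N (N (N v)) = 0 := fun v => by
    rw [hN2, show (fun j => N v (.inr (.inr j))) = 0 by funext j; rw [hN]; rfl, map_zero]
    simp
  have hkey : ∀ v, Cfsg.quadFormOdd d F (v + N v) = Cfsg.quadFormOdd d F v := fun v => by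
    obtain ⟨y, hy⟩ : ∃ y, y = fun j => v (.inr (.inr j)) := ⟨_, rfl⟩
    have hyv : ∀ j, v (.inr (.inr j)) = y j := fun j => by rw [hy]
    have hm : ∑ j, δ j * (-2 * v (.inl ()) - y j) * y j = -2 * v (.inl ()) * μ y - μ y * μ y := by
      by_cases hd : ∃ j : Fin d, 2 * (j : ℕ) + 1 = d
      · obtain ⟨j, hj⟩ := hd
        rw [Finset.sum_eq_single j (fun i _ hi => by rw [hδ, if_neg (fun h => hi (Fin.ext (by omega)))]; ring)
          (fun h => absurd (Finset.mem_univ j) h), hδ, if_pos hj, hμ1 j hj]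
        ring
      · have h0 : μ y = 0 := by
          rw [hμ]; exact Finset.sum_eq_zero fun j _ => if_neg fun h => hd ⟨j, h⟩
        rw [h0, Finset.sum_eq_zero fun j _ => by rw [hδ, if_neg fun h => hd ⟨j, h⟩]; ring]
        ring
    have hs := skewRev_isotropic d y
    simp only [Cfsg.quadFormOdd, hN, Pi.add_apply, Sum.elim_inl, Sum.elim_inr, Pi.zero_apply, add_zero, hyv, hS,
      add_mul, Finset.sum_add_distrib]
    linear_combination hm + hs
  refine ⟨1 + N, fun v => hkey v, ?_, fun v => by simp [hN3], ?_, ?_, fun hodd v hv => ?_⟩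
  · obtain ⟨k, hk⟩ : ∃ k, p = k + 3 := ⟨p - 3, by omega⟩
    refine one_add_pow_char N ?_
    rw [hk, pow_add, show N ^ 3 = 0 from LinearMap.ext fun v => by simp [pow_succ, Module.End.mul_apply, hN3],
      mul_zero]
  all_goals rw [add_sub_cancel_left] at *
  · rw [powRank, Submodule.map_top]
    rcases Nat.even_or_odd' d with ⟨s, hs | hs⟩
    · rw [show N ^ 2 = 0 from LinearMap.ext fun v => by
        rw [sq, Module.End.mul_apply, hN2]
        have : μ (fun j => v (.inr (.inr j))) = 0 := by
          rw [hμ]; exact Finset.sum_eq_zero fun j _ => if_neg (by omega)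
        simp [this], LinearMap.range_zero, finrank_bot]
      omega
    · obtain ⟨j₀, hj₀⟩ : ∃ j₀ : Fin d, (j₀ : ℕ) = s := ⟨⟨s, by omega⟩, rfl⟩
      have hE0 : E ≠ 0 := fun h => by
        have := congrFun h (.inr (.inl j₀))
        rw [hE] at this
        simp [hδ, show 2 * (j₀ : ℕ) + 1 = d by omega] at this
      rw [show LinearMap.range (N ^ 2) = Submodule.span F {E} from le_antisymm (by
          rintro _ ⟨v, rfl⟩
          rw [sq, Module.End.mul_apply, hN2]
          exact Submodule.smul_mem _ _ (Submodule.mem_span_singleton_self E)) ((Submodule.span_singleton_le_iff_mem _ _).2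
          ⟨Sum.elim 0 (Sum.elim 0 fun j => (-2 : F)⁻¹ * δ j), by
            rw [sq, Module.End.mul_apply, hN2]
            simp only [Sum.elim_inr]
            rw [hμ1 j₀ (by omega), hδ, if_pos (by omega), mul_one, mul_inv_cancel₀ (neg_ne_zero.2 h2), one_smul]⟩),
        finrank_span_singleton hE0]
      omega
  · rw [powRank, Submodule.map_top, pow_one]
    let inc : (Unit ⊕ Fin d → F) →ₗ[F] (Unit ⊕ (Fin d ⊕ Fin d) → F) :=
      { toFun := fun z => Sum.elim (fun u => z (.inl u)) (Sum.elim (fun j => z (.inr j)) 0)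
        map_add' := fun a b => by ext (u | j | j) <;> simp
        map_smul' := fun c a => by ext (u | j | j) <;> simp }
    have hinc : Function.Injective inc := fun a b h => funext fun x => by
      rcases x with u | j
      · exact congrFun h (.inl u)
      · exact congrFun h (.inr (.inl j))
    rcases Nat.even_or_odd' d with ⟨s, hs | hs⟩
    · let inc' : (Fin d → F) →ₗ[F] (Unit ⊕ (Fin d ⊕ Fin d) → F) :=
        { toFun := fun z => Sum.elim 0 (Sum.elim z 0)
          map_add' := fun a b => by ext (u | j | j) <;> simp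
          map_smul' := fun c a => by ext (u | j | j) <;> simp }
      have hinc' : Function.Injective inc' := fun a b h => funext fun j => congrFun h (.inr (.inl j))
      have hμ0 : ∀ y, μ y = 0 := fun y => by rw [hμ]; exact Finset.sum_eq_zero fun j _ => if_neg (by omega)
      have hδ0 : ∀ j, δ j = 0 := fun j => by rw [hδ, if_neg (by omega)]
      have : LinearMap.range N = LinearMap.range inc' := by
        refine le_antisymm ?_ ?_
        · rintro _ ⟨v, rfl⟩
          refine ⟨fun j => S (fun i => v (.inr (.inr i))) j, ?_⟩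
          rw [hN]
          ext (u | j | j) <;> simp [inc', hμ0, hδ0]
        · rintro _ ⟨z, rfl⟩
          obtain ⟨y, -, hy⟩ := skewRev_surj d z (fun j hj => by omega)
          refine ⟨Sum.elim 0 (Sum.elim 0 y), ?_⟩
          rw [hN]
          ext (u | j | j) <;> simp [inc', hμ0, hδ0, hS, hy]
      rw [this, LinearMap.finrank_range_of_inj hinc', Module.finrank_fintype_fun_eq_card, Fintype.card_fin]
      omega
    · obtain ⟨j₀, hj₀⟩ : ∃ j₀ : Fin d, (j₀ : ℕ) = s := ⟨⟨s, by omega⟩, rfl⟩
      have hj : 2 * (j₀ : ℕ) + 1 = d := by omega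
      have : LinearMap.range N = LinearMap.range inc := by
        refine le_antisymm ?_ ?_
        · rintro _ ⟨v, rfl⟩
          refine ⟨Sum.elim (fun _ => N v (.inl ())) (fun j => N v (.inr (.inl j))), ?_⟩
          ext (u | j | j) <;> simp [inc, hN]
        · rintro _ ⟨z, rfl⟩
          obtain ⟨y, hy0, hy⟩ := skewRev_surj d (fun j => if j = j₀ then 0 else z (.inr j))
            (fun j hj' => if_pos (Fin.ext (by omega)))
          refine ⟨Sum.elim (fun _ => (-2 : F)⁻¹ * (z (.inr j₀) + z (.inl ())))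
            (Sum.elim 0 (fun j => if j = j₀ then z (.inl ()) else y j)), ?_⟩
          rw [hN]
          ext (u | j | j)
          · simp [inc, hμ1 j₀ hj]
          · have hSy : skewRev d (fun i => if i = j₀ then z (.inl ()) else y i) j = skewRev d y j := by
              simp only [skewRev]
              split_ifs with h1 h2' h3 h4 <;> first | rfl | (exfalso; have := congrArg Fin.val ‹Fin.rev j = j₀›; rw [Fin.val_rev] at this; omega)
            simp only [inc, LinearMap.coe_mk, AddHom.coe_mk, Sum.elim_inl, Sum.elim_inr, hS, hSy, hy, hδ]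
            by_cases hjj : j = j₀
            · subst hjj
              rw [if_pos hj]
              simp only [if_true]
              field_simp
              ring
            · rw [if_neg (show ¬ 2 * (j : ℕ) + 1 = d from fun h => hjj (Fin.ext (by omega)))]
              simp [hjj]
          · simp [inc]
      rw [this, LinearMap.finrank_range_of_inj hinc, Module.finrank_fintype_fun_eq_card, Fintype.card_sum,
        Fintype.card_unit, Fintype.card_fin]
      omega
  · obtain ⟨s, hs⟩ := hodd
    obtain ⟨j₀, hj₀⟩ : ∃ j₀ : Fin d, (j₀ : ℕ) = s := ⟨⟨s, by omega⟩, rfl⟩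
    have hj : 2 * (j₀ : ℕ) + 1 = d := by omega
    rw [hN] at hv
    have hy0 : v (.inr (.inr j₀)) = 0 := by
      have h := congrFun hv (.inl ())
      simpa [hμ1 j₀ hj] using h
    have hx0 : v (.inl ()) = 0 := by
      have h := congrFun hv (.inr (.inl j₀))
      simp [hS, skewRev, hδ, hj, hy0] at h
      rw [if_neg (by omega)] at h
      exact (mul_eq_zero.1 (by simpa using h)).resolve_left h2
    have hy : ∀ j, v (.inr (.inr j)) = 0 := fun j => by
      by_cases hjj : j = j₀
      · rw [hjj, hy0]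
      have hne : 2 * (j : ℕ) + 1 ≠ d := fun h => hjj (Fin.ext (by omega))
      have hrev : 2 * (j.rev : ℕ) + 1 ≠ d := by rw [Fin.val_rev]; omega
      have h := congrFun hv (.inr (.inl j.rev))
      simp only [Sum.elim_inr, Sum.elim_inl, Pi.zero_apply, hS, skewRev, hδ, if_neg hrev, zero_mul, add_zero,
        Fin.rev_rev] at h
      split_ifs at h
      · exact h
      · exact neg_eq_zero.1 h
      · omega
    obtain ⟨y, hy', hSy⟩ := skewRev_surj d (fun j => if j = j₀ then 0 else v (.inr (.inl j)))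
      (fun j hj' => if_pos (Fin.ext (by omega)))
    refine ⟨Sum.elim (fun _ => (-2 : F)⁻¹ * v (.inr (.inl j₀))) (Sum.elim 0 y), ?_⟩
    rw [hN]
    ext (u | j | j)
    · simp [hμ1 j₀ hj, hy' j₀ hj, hx0]
    · simp only [Sum.elim_inl, Sum.elim_inr, hS, hSy, hδ]
      by_cases hjj : j = j₀
      · subst hjj
        rw [if_pos rfl, if_pos hj, hy' _ hj]
        field_simp
        ring
      · rw [if_neg hjj, if_neg (show ¬ 2 * (j : ℕ) + 1 = d from fun h => hjj (Fin.ext (by omega)))]
        ring
    · simp [hy]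

end Model

end CfsgLib.Perm.Elusive
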