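import Mathlib
import Cfsg.Agent.Lib.Perm.Elusive.OrthTwo
import Cfsg.Agent.Lib.Perm.Elusive.OrthUnipotent

/-!
# The standard forms, and involutions in characteristic two
-/

set_option autoImplicit false
set_option linter.all false

namespace CfsgLib.Perm.Elusive

open CfsgLib.Classical CfsgLib.Orth
open scoped Matrix

variable {F : Type*} [Field F] [Fintype F]

theorem qplus_top_plusQ (d : ℕ) : QPlus (plusQ d F) ⊤ := by
  let inc : (Fin d → F) →ₗ[F] (Fin d ⊕ Fin d → F) :=
    { toFun := fun c => Sum.elim c 0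
      map_add' := fun a b => by ext (i | i) <;> simp
      map_smul' := fun c a => by ext (i | i) <;> simp }
  have hinc : Function.Injective inc := fun a b e => funext fun i => congrFun e (.inl i)
  refine ⟨LinearMap.range inc, le_top, ?_, ?_⟩
  · rintro _ ⟨c, rfl⟩
    rw [plusQ_coe]
    simp [Cfsg.quadFormPlus, inc]
  · rw [LinearMap.finrank_range_of_inj hinc, finrank_top, Module.finrank_fintype_fun_eq_card,
      Module.finrank_fintype_fun_eq_card, Fintype.card_sum, Fintype.card_fin]
    omega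

theorem not_qplus_top_minusQ {k : ℕ} {a b : F}
    (hab : ∀ z₁ z₂ : F, z₁ ^ 2 + a * z₁ * z₂ + b * z₂ ^ 2 = 0 → z₁ = 0 ∧ z₂ = 0) : ¬ QPlus (minusQ k F a b) ⊤ := by
  rintro ⟨U, -, hU0, hUd⟩
  have hle := CfsgLib.Orth.Aut.minus_ts_finrank_le (m := k) a b hab (U := U) (fun x hx => by
    rw [← minusQ_coe]; exact hU0 x hx)
  rw [finrank_top, Module.finrank_fintype_fun_eq_card, Fintype.card_sum, Fintype.card_sum, Fintype.card_fin,
    Fintype.card_fin] at hUd
  omega

/-- squares `-1` and `2` by congruences -/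
theorem square_congr (hodd : Odd (Fintype.card F)) :
    (IsSquare (-1 : F) ↔ Fintype.card F % 4 = 1) ∧
      (IsSquare (2 : F) ↔ Fintype.card F % 8 = 1 ∨ Fintype.card F % 8 = 7) := by
  have h := Nat.odd_iff.1 hodd
  refine ⟨?_, ?_⟩
  · rw [FiniteField.isSquare_neg_one_iff]; omega
  · rw [FiniteField.isSquare_two_iff]; omega

variable {ι : Type} [Fintype ι] [DecidableEq ι]

/-- characteristic two: isometries of even rank lie in Omega -/
theorem omega_of_even_rank (h2 : (2 : F) = 0) {Q : QuadraticForm F (ι → F)} (hQ : (QuadraticMap.polarBilin Q).Nondegenerate)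
    (hn : 5 ≤ Fintype.card ι) {g : GL ι F} (hg : g ∈ Cfsg.isometryGroup F ⇑Q)
    (hev : Even (Module.finrank F (LinearMap.range (Matrix.toLin' (g : Matrix ι ι F) - 1)))) :
    g ∈ Cfsg.Geo.omegaGL ⇑Q := by
  have hw : wrk g = Module.finrank F (LinearMap.range (Matrix.toLin' (g : Matrix ι ι F) - 1)) := by
    rw [wrk, moved, show disp g = -(Matrix.toLin' (g : Matrix ι ι F) - 1) from LinearMap.ext fun v => by
      simp [disp_apply, Matrix.toLin'_apply], LinearMap.range_neg]
  refine Subgroup.mem_map.2 ⟨⟨g, hg⟩,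
    (CfsgLib.Orth.mem_omega_iff (nd_of_qf Q hQ) (by omega) (Or.inr (by omega)) ⟨g, hg⟩).2 ⟨?_, hw ▸ hev⟩, rfl⟩
  have hc := card_sqClass_two h2
  rw [Nat.card_eq_one_iff_unique] at hc
  haveI := hc.1
  exact Subsingleton.elim _ _

end CfsgLib.Perm.Elusive
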