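import Mathlib
import Cfsg.Agent.Lib.Perm.Elusive.JordanType
import Cfsg.Agent.Lib.Perm.Elusive.SympPrime

/-!
# Jordan types of unipotent isometries

Multiplicities of blocks of the wrong parity are even, and invariant non-degenerate subspaces give sub-partitions.
-/

set_option autoImplicit false
set_option linter.all false

namespace CfsgLib.Perm.Elusive

variable {F : Type*} [Field F] {V : Type*} [AddCommGroup V] [Module F V] [FiniteDimensional F V]

/-- number of blocks of size `j + 1` -/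
noncomputable def blockMult (N : Module.End F V) (M : Submodule F V) (j : ℕ) : ℕ :=
  powRank N M j + powRank N M (j + 2) - 2 * powRank N M (j + 1)

theorem blockMult_add (N : Module.End F V) {A B : Submodule F V} (hA : A.map N ≤ A) (hB : B.map N ≤ B)
    (h : IsCompl A B) (j : ℕ) : blockMult N ⊤ j = blockMult N A j + blockMult N B j := by
  have h1 := powRank_convex N hA j
  have h2 := powRank_convex N hB j
  simp only [blockMult, powRank_top_add N hA hB h]
  omega

theorem powRank_restrict (N : Module.End F V) (W : Submodule F V) (hW : ∀ u ∈ W, N u ∈ W) (j : ℕ) :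
    powRank (N.restrict hW) ⊤ j = powRank N W j := by
  have hp : ∀ (k : ℕ) (u : W), (((N.restrict hW) ^ k) u : V) = (N ^ k) u := fun k => by
    induction k with
    | zero => intro u; simp
    | succ k ih => intro u; rw [pow_succ, pow_succ, Module.End.mul_apply, Module.End.mul_apply, ih]; rfl
  rw [powRank, powRank, ← Submodule.finrank_map_subtype_eq W]
  suffices h : ((⊤ : Submodule F W).map ((N.restrict hW) ^ j)).map W.subtype = W.map (N ^ j) by rw [h]
  refine le_antisymm ?_ ?_
  · rintro _ ⟨_, ⟨u, -, rfl⟩, rfl⟩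
    exact ⟨u, u.2, (hp j u).symm⟩
  · rintro _ ⟨v, hv, rfl⟩
    exact ⟨_, ⟨⟨v, hv⟩, Submodule.mem_top, rfl⟩, hp j ⟨v, hv⟩⟩

/-- blocks of the wrong parity come in pairs -/
theorem even_blockMult {B : LinearMap.BilinForm F V} {ε : F} (hsym : ∀ u v, B u v = ε * B v u) (h2 : (2 : F) ≠ 0)
    (hN : B.Nondegenerate) (T : Module.End F V) (hI : ∀ u v, B (T u) (T v) = B u v) (hnil : IsNilpotent (T - 1)) (j : ℕ)
    (hj : ε * (-1) ^ j = -1) : Even (blockMult (T - 1) ⊤ j) := by
  classical
  obtain ⟨Ti, hTi⟩ : ∃ Ti : Module.End F V, Ti * T = 1 := by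
    obtain ⟨u, hu⟩ : IsUnit T := by simpa using hnil.isUnit_one_add
    exact ⟨(↑u⁻¹ : Module.End F V), by rw [← hu, Units.inv_mul]⟩
  have hinj : Function.Injective T := fun u v h => by
    have h' := congrArg Ti h
    rwa [← Module.End.mul_apply, ← Module.End.mul_apply, hTi] at h'
  obtain ⟨N, hNd⟩ : ∃ N : Module.End F V, N = T - 1 := ⟨_, rfl⟩
  rw [← hNd]
  have hNapp : ∀ u, N u = T u - u := fun u => by rw [hNd]; rfl
  have hTpow : ∀ k : ℕ, ∀ v, N ((T ^ k) v) = (T ^ k) (N v) := fun k v => by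
    rw [← Module.End.mul_apply, ← Module.End.mul_apply, hNd, sub_mul, mul_sub, ← pow_succ', ← pow_succ, one_mul, mul_one]
  have hstep : ∀ u v, B (N u) (T v) = -B u (N v) := fun u v => by
    rw [hNapp, hNapp, map_sub, LinearMap.sub_apply, hI, map_sub, neg_sub]
  have hadj : ∀ (k : ℕ) u v, B ((N ^ k) u) ((T ^ k) v) = (-1) ^ k * B u ((N ^ k) v) := fun k => by
    induction k with
    | zero => intro u v; simp
    | succ k ih =>
      intro u v
      rw [pow_succ' N, Module.End.mul_apply, pow_succ' T, Module.End.mul_apply, hstep, hTpow, ih, ← pow_succ' N,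
        pow_succ (-1 : F), ← Module.End.mul_apply, ← pow_succ N]
      ring
  obtain ⟨S, hS⟩ : ∃ S, S = LinearMap.ker (N ^ (j + 1)) := ⟨_, rfl⟩
  have horth : LinearMap.range (N ^ (j + 1)) = B.orthogonal S := by
    refine Submodule.eq_of_le_of_finrank_eq ?_ ?_
    · rintro _ ⟨w, rfl⟩ u hu
      rw [hS] at hu
      have h := hadj (j + 1) u w
      rw [LinearMap.mem_ker.1 hu, map_zero, LinearMap.zero_apply, eq_comm, mul_eq_zero] at h
      exact h.resolve_left (pow_ne_zero _ (neg_ne_zero.2 one_ne_zero))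
    · rw [LinearMap.BilinForm.finrank_orthogonal hN, hS]
      have := LinearMap.finrank_range_add_finrank_ker (N ^ (j + 1))
      omega
  -- the induced form
  obtain ⟨C', hC'⟩ : ∃ C' : LinearMap.BilinForm F S, ∀ u v : S, C' u v = B ((N ^ j) (u : V)) v :=
    ⟨(B.compl₁₂ ((N ^ j).comp S.subtype) S.subtype), fun u v => rfl⟩
  have hfix : ∀ v ∈ S, (T ^ j) ((N ^ j) v) = (N ^ j) v := fun v hv => by
    have h1 : T ((N ^ j) v) = (N ^ j) v := by
      rw [← sub_eq_zero, ← hNapp, ← Module.End.mul_apply, ← pow_succ']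
      rw [hS] at hv
      exact LinearMap.mem_ker.1 hv
    have : ∀ k : ℕ, (T ^ k) ((N ^ j) v) = (N ^ j) v := fun k => by
      induction k with
      | zero => simp
      | succ k ih => rw [pow_succ, Module.End.mul_apply, h1, ih]
    exact this j
  have hpowI : ∀ (k : ℕ) u v, B ((T ^ k) u) ((T ^ k) v) = B u v := fun k => by
    induction k with
    | zero => intro u v; simp
    | succ k ih => intro u v; rw [pow_succ', Module.End.mul_apply, Module.End.mul_apply, hI, ih]
  have hskew : ∀ u v : S, C' u v = -C' v u := fun u v => by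
    rw [hC', hC']
    have h1 : B ((N ^ j) (u : V)) ((T ^ j) (v : V)) = (-1) ^ j * B (u : V) ((N ^ j) (v : V)) := hadj j _ _
    have h2' : B ((N ^ j) (u : V)) ((T ^ j) (v : V)) = B ((N ^ j) (u : V)) v := by
      conv_lhs => rw [← hfix u u.2]
      rw [hpowI]
    rw [← h2', h1, hsym]
    linear_combination B ((N ^ j) (v : V)) (u : V) * hj
  have hA : C'.IsAlt := fun u => by
    have h := hskew u u
    exact (mul_eq_zero.1 (show (2 : F) * C' u u = 0 by linear_combination h)).resolve_left h2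
  obtain ⟨R, hR⟩ : ∃ R, R = C'.orthogonal ⊤ := ⟨_, rfl⟩
  obtain ⟨C, hC⟩ := Submodule.exists_isCompl R
  have hCnd : Disjoint C (C'.orthogonal C) := by
    rw [Submodule.disjoint_def]
    intro x hx hxo
    refine Submodule.disjoint_def.1 hC.disjoint x ?_ hx
    rw [hR, LinearMap.BilinForm.mem_orthogonal_iff]
    intro y _
    obtain ⟨a, ha, b, hb, rfl⟩ := Submodule.mem_sup.1 (hC.sup_eq_top.ge (Submodule.mem_top (x := y)))
    have hxa : C' a x = 0 := by
      rw [hR] at ha
      exact hA.isRefl _ _ (ha x Submodule.mem_top)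
    rw [map_add, LinearMap.add_apply, hxa, LinearMap.BilinForm.mem_orthogonal_iff.1 hxo b hb, add_zero]
  have heven := even_of_nd hA hCnd
  -- dimensions
  have hsum := Submodule.finrank_add_eq_of_isCompl hC
  obtain ⟨R', hR'⟩ : ∃ R' : Submodule F V, R' = R.map S.subtype := ⟨_, rfl⟩
  have hR'd : Module.finrank F R' = Module.finrank F R := hR' ▸ Submodule.finrank_map_subtype_eq S R
  have hkle : LinearMap.ker (N ^ j) ≤ S := fun u hu => by
    rw [hS, LinearMap.mem_ker, pow_succ', Module.End.mul_apply, LinearMap.mem_ker.1 hu, map_zero]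
  have hmemR : ∀ u : V, u ∈ R' ↔ u ∈ S ∧ (N ^ j) u ∈ LinearMap.range (N ^ (j + 1)) := by
    intro u
    rw [horth, hR', hR]
    constructor
    · rintro ⟨w, hw, rfl⟩
      refine ⟨w.2, fun v hv => ?_⟩
      have h := hskew ⟨v, hv⟩ w
      rw [hw ⟨v, hv⟩ Submodule.mem_top, eq_comm, neg_eq_zero, hC'] at h
      rw [hsym]
      exact mul_eq_zero_of_right _ h
    · rintro ⟨hu, ho⟩
      refine ⟨⟨u, hu⟩, fun v _ => ?_, rfl⟩
      show C' v ⟨u, hu⟩ = 0
      rw [hskew, hC', hsym, LinearMap.BilinForm.mem_orthogonal_iff.1 ho (v : V) v.2, mul_zero, neg_zero]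
  have hSmap : S.map (N ^ j) = LinearMap.ker N ⊓ (⊤ : Submodule F V).map (N ^ j) := by
    refine le_antisymm ?_ ?_
    · rintro _ ⟨u, hu, rfl⟩
      rw [SetLike.mem_coe, hS, LinearMap.mem_ker, pow_succ', Module.End.mul_apply] at hu
      exact ⟨LinearMap.mem_ker.2 hu, u, Submodule.mem_top, rfl⟩
    · rintro _ ⟨h1, u, -, rfl⟩
      refine ⟨u, ?_, rfl⟩
      rw [SetLike.mem_coe, hS, LinearMap.mem_ker, pow_succ', Module.End.mul_apply]
      exact LinearMap.mem_ker.1 h1
  have hRmap : R'.map (N ^ j) = LinearMap.ker N ⊓ (⊤ : Submodule F V).map (N ^ (j + 1)) := by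
    refine le_antisymm ?_ ?_
    · rintro _ ⟨u, hu, rfl⟩
      obtain ⟨hu1, hu2⟩ := (hmemR u).1 hu
      rw [hS, LinearMap.mem_ker, pow_succ', Module.End.mul_apply] at hu1
      obtain ⟨w, hw⟩ := hu2
      exact ⟨LinearMap.mem_ker.2 hu1, w, Submodule.mem_top, hw⟩
    · rintro _ ⟨h1, w, -, rfl⟩
      have h1' := LinearMap.mem_ker.1 h1
      rw [pow_succ, Module.End.mul_apply] at h1'
      refine ⟨N w, (hmemR _).2 ⟨?_, ⟨w, ?_⟩⟩, ?_⟩
      · rw [hS, LinearMap.mem_ker, pow_succ', Module.End.mul_apply, h1']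
      · rw [pow_succ, Module.End.mul_apply]
      · rw [pow_succ, Module.End.mul_apply]
  have hk1 := finrank_map_add_ker (N ^ j) S
  rw [inf_eq_left.2 hkle, hSmap] at hk1
  have hk2 := finrank_map_add_ker (N ^ j) R'
  have hkR : LinearMap.ker (N ^ j) ≤ R' := fun u hu => (hmemR u).2 ⟨hkle hu, by
    rw [LinearMap.mem_ker.1 hu]; exact zero_mem _⟩
  rw [inf_eq_left.2 hkR, hRmap] at hk2
  have e1 := powRank_succ N ⊤ j
  have e2 : powRank N ⊤ (j + 2) + _ = powRank N ⊤ (j + 1) := powRank_succ N ⊤ (j + 1)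
  obtain ⟨w, hw⟩ := heven
  exact ⟨w, by rw [blockMult]; omega⟩

/-- the multiset of block sizes -/
noncomputable def blockParts (N : Module.End F V) (M : Submodule F V) (p : ℕ) : Multiset ℕ :=
  ∑ j ∈ Finset.range p, Multiset.replicate (blockMult N M j) (j + 1)

theorem count_blockParts (N : Module.End F V) (M : Submodule F V) (p e : ℕ) :
    (blockParts N M p).count e = if 1 ≤ e ∧ e ≤ p then blockMult N M (e - 1) else 0 := by
  rw [blockParts, Multiset.count_sum']
  simp only [Multiset.count_replicate]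
  split_ifs with h
  · rw [Finset.sum_eq_single (e - 1) (fun b _ hb => if_neg (by omega)) (fun hb => absurd (Finset.mem_range.2 (by omega)) hb),
      if_pos (by omega)]
  · exact Finset.sum_eq_zero fun b hb => if_neg (by have := Finset.mem_range.1 hb; omega)

theorem sum_blockParts (N : Module.End F V) {M : Submodule F V} (hM : M.map N ≤ M) {p : ℕ} (hp : N ^ p = 0) :
    (blockParts N M p).sum = Module.finrank F M := by
  have h0 : ∀ k, p ≤ k → powRank N M k = 0 := fun k hk => by
    rw [powRank, show N ^ k = 0 from by rw [← Nat.add_sub_cancel' hk, pow_add, hp, zero_mul], Submodule.map_zero, finrank_bot]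
  rw [blockParts, ← Multiset.coe_sumAddMonoidHom, map_sum]
  have h := sum_weighted (powRank N M) (fun j => powRank_convex N hM j) p
  rw [h0 p le_rfl, h0 (p + 1) (Nat.le_succ _), powRank_zero, mul_zero, add_zero, mul_zero, add_zero] at h
  rw [← h]
  refine Finset.sum_congr rfl fun j _ => ?_
  simp [blockMult, mul_comm]

/-- invariant nondegenerate subspaces give sub-partitions of the right parity -/
theorem sub_partition_blocks {B : LinearMap.BilinForm F V} {ε : F} (hsym : ∀ u v, B u v = ε * B v u) (h2 : (2 : F) ≠ 0)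
    (hN : B.Nondegenerate) (T : Module.End F V) (hI : ∀ u v, B (T u) (T v) = B u v) {p : ℕ} (hp : (T - 1) ^ p = 0)
    (bad : ℕ → Prop) (hbad : ∀ e, bad e → 1 ≤ e → ε * (-1) ^ (e - 1) = -1)
    {μ : Multiset ℕ} (hμ : ∀ e, 1 ≤ e → e ≤ p → μ.count e = blockMult (T - 1) ⊤ (e - 1))
    {W : Submodule F V} (hW : ∀ u ∈ W, T u ∈ W) (hnd : ∀ u ∈ W, u ≠ 0 → ∃ v ∈ W, B u v ≠ 0) :
    blockParts (T - 1) W p ≤ μ ∧ (blockParts (T - 1) W p).sum = Module.finrank F W ∧
      ∀ e, bad e → Even ((blockParts (T - 1) W p).count e) := by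
  have hR : B.IsRefl := fun u v h => by rw [hsym, h, mul_zero]
  have hdis := (disjoint_orth_iff hR W).2 hnd
  have hcomp := isCompl_orth hR hdis
  have hinj : Function.Injective T := fun u v h => sub_eq_zero.1 (hN.1 _ fun w => by
    rw [← hI, map_sub, h, sub_self, map_zero, LinearMap.zero_apply])
  have hNW : ∀ u ∈ W, (T - 1) u ∈ W := fun u hu => W.sub_mem (hW u hu) hu
  have hmapW : W.map (T - 1) ≤ W := by rintro _ ⟨u, hu, rfl⟩; exact hNW u hu
  have hmapO : (B.orthogonal W).map (T - 1) ≤ B.orthogonal W := by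
    rintro _ ⟨u, hu, rfl⟩
    exact (B.orthogonal W).sub_mem (orth_invariant hR hI hinj hW u hu) hu
  refine ⟨Multiset.le_iff_count.2 fun e => ?_, sum_blockParts _ hmapW hp, fun e he => ?_⟩
  · rw [count_blockParts]
    split_ifs with h
    · rw [hμ e h.1 h.2, blockMult_add _ hmapW hmapO hcomp]
      exact Nat.le_add_right _ _
    · exact Nat.zero_le _
  · rw [count_blockParts]
    split_ifs with h
    · have hTW : T.restrict hW - 1 = (T - 1).restrict hNW := LinearMap.ext fun u => Subtype.ext rfl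
      have hrk : blockMult (T.restrict hW - 1) ⊤ (e - 1) = blockMult (T - 1) W (e - 1) := by
        simp only [blockMult, hTW, powRank_restrict]
      rw [← hrk]
      refine even_blockMult (B := B.restrict W) (fun u v => hsym u v) h2
        (LinearMap.BilinForm.nondegenerate_restrict_of_disjoint_orthogonal _ hR hdis) (T.restrict hW) (fun u v => hI u v)
        ⟨p, ?_⟩ (e - 1) (hbad e he h.1)
      rw [hTW]
      refine LinearMap.ext fun u => Subtype.ext ?_
      have hp' : ∀ k : ℕ, ((((T - 1).restrict hNW) ^ k) u : V) = ((T - 1) ^ k) u := fun k => by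
        induction k with
        | zero => simp
        | succ k ih => rw [pow_succ', pow_succ', Module.End.mul_apply, Module.End.mul_apply, ← ih]; rfl
      rw [hp', hp]; rfl
    · exact ⟨0, rfl⟩

/-- some sub-partition of the right parity -/
theorem exists_sub_partition {B : LinearMap.BilinForm F V} {ε : F} (hsym : ∀ u v, B u v = ε * B v u) (h2 : (2 : F) ≠ 0)
    (hN : B.Nondegenerate) (T : Module.End F V) (hI : ∀ u v, B (T u) (T v) = B u v) {p : ℕ} (hp : (T - 1) ^ p = 0)
    (bad : ℕ → Prop) (hbad : ∀ e, bad e → 1 ≤ e → ε * (-1) ^ (e - 1) = -1)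
    {μ : Multiset ℕ} (hμ : ∀ e, 1 ≤ e → e ≤ p → μ.count e = blockMult (T - 1) ⊤ (e - 1))
    {W : Submodule F V} (hW : ∀ u ∈ W, T u ∈ W) (hnd : ∀ u ∈ W, u ≠ 0 → ∃ v ∈ W, B u v ≠ 0) :
    ∃ ν : Multiset ℕ, ν ≤ μ ∧ ν.sum = Module.finrank F W ∧ ∀ e, bad e → Even (ν.count e) := by
  exact ⟨_, sub_partition_blocks hsym h2 hN T hI hp bad hbad hμ hW hnd⟩

end CfsgLib.Perm.Elusive
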