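import Mathlib
import Cfsg.Agent.Lib.Perm.Elusive.JordanForm

/-!
# Unipotent isometries with given Jordan blocks

Blocks `b` of sizes `e b` are paired by an involution `π`; the form pairs position `i` of `b` with position
`e b - 1 - i` of `π b`, the shift is skew and its Cayley transform is the isometry.
-/

set_option autoImplicit false
set_option linter.all false

namespace CfsgLib.Perm.Elusive

variable {F : Type*} [Field F] {κ : Type*} [Fintype κ] [DecidableEq κ] (e : κ → ℕ) (π : κ → κ) (c : κ → F)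

/-- positions in blocks -/
abbrev BlockIdx : Type _ := (b : κ) × Fin (e b)

variable (he : ∀ b, e (π b) = e b)

/-- the partner position -/
def blockMate (x : BlockIdx e) : BlockIdx e :=
  ⟨π x.1, ⟨e x.1 - 1 - x.2, by rw [he]; have := x.2.2; omega⟩⟩

/-- the coefficient -/
def blockCoef (x : BlockIdx e) : F := c x.1 * (-1) ^ (x.2 : ℕ)

/-- the block form -/
noncomputable def blockForm : LinearMap.BilinForm F (BlockIdx e → F) :=
  LinearMap.mk₂ F (fun u v => ∑ x, blockCoef e c x * (u x * v (blockMate e π he x)))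
    (fun a b w => by rw [← Finset.sum_add_distrib]; exact Finset.sum_congr rfl fun x _ => by simp; ring)
    (fun s a w => by rw [smul_eq_mul, Finset.mul_sum]; exact Finset.sum_congr rfl fun x _ => by simp; ring)
    (fun a b w => by rw [← Finset.sum_add_distrib]; exact Finset.sum_congr rfl fun x _ => by simp; ring)
    (fun s a w => by rw [smul_eq_mul, Finset.mul_sum]; exact Finset.sum_congr rfl fun x _ => by simp; ring)

theorem blockForm_apply (u v : BlockIdx e → F) :
    blockForm e π c he u v = ∑ x, blockCoef e c x * (u x * v (blockMate e π he x)) := rfl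

/-- the shift inside blocks -/
def blockShift : Module.End F (BlockIdx e → F) where
  toFun v x := if (x.2 : ℕ) = 0 then 0 else v ⟨x.1, ⟨x.2 - 1, by have := x.2.2; omega⟩⟩
  map_add' u v := by funext x; simp only [Pi.add_apply]; split_ifs <;> simp
  map_smul' s u := by funext x; simp only [Pi.smul_apply, RingHom.id_apply]; split_ifs <;> simp

theorem idx_ext {x y : BlockIdx e} (h1 : x.1 = y.1) (h2 : (x.2 : ℕ) = (y.2 : ℕ)) : x = y := by
  obtain ⟨b, i⟩ := x
  obtain ⟨b', i'⟩ := y
  simp only at h1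
  subst h1
  exact congrArg _ (Fin.ext h2)

variable (hπ : ∀ b, π (π b) = b)

include hπ in
theorem blockMate_mate (x : BlockIdx e) : blockMate e π he (blockMate e π he x) = x := by
  refine idx_ext e (hπ x.1) ?_
  show e (π x.1) - 1 - (e x.1 - 1 - (x.2 : ℕ)) = x.2
  rw [he]
  have := x.2.2
  omega

include hπ in
theorem blockForm_single (x y : BlockIdx e) : blockForm e π c he (Pi.single x 1) (Pi.single y 1) =
    if y = blockMate e π he x then blockCoef e c x else 0 := by
  rw [blockForm_apply, Finset.sum_eq_single x (fun b _ hb => by simp [Pi.single_eq_of_ne hb])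
    (fun h => absurd (Finset.mem_univ _) h)]
  by_cases hy : y = blockMate e π he x
  · subst hy; simp
  · rw [if_neg hy, Pi.single_eq_of_ne (Ne.symm hy)]; simp

include hπ in
theorem blockForm_symm {ε : F} (hc : ∀ b, c (π b) * (-1) ^ (e b - 1) = ε * c b) (u v : BlockIdx e → F) :
    blockForm e π c he u v = ε * blockForm e π c he v u := by
  rw [blockForm_apply, blockForm_apply, Finset.mul_sum]
  refine Fintype.sum_equiv (Function.Involutive.toPerm _ (blockMate_mate e π he hπ)) _ _ fun x => ?_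
  show _ = ε * (blockCoef e c (blockMate e π he x) *
    (v (blockMate e π he x) * u (blockMate e π he (blockMate e π he x))))
  rw [blockMate_mate e π he hπ]
  have h : blockCoef e c x = ε * blockCoef e c (blockMate e π he x) := by
    have h1 := hc (π x.1)
    rw [hπ, he] at h1
    show c x.1 * (-1) ^ (x.2 : ℕ) = ε * (c (π x.1) * (-1) ^ (e x.1 - 1 - (x.2 : ℕ)))
    have hi : (x.2 : ℕ) + (e x.1 - 1 - (x.2 : ℕ)) = e x.1 - 1 := by have := x.2.2; omega
    have hsq : ((-1 : F) ^ (e x.1 - 1 - (x.2 : ℕ))) * (-1) ^ (e x.1 - 1 - (x.2 : ℕ)) = 1 := by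
      rw [← mul_pow, neg_one_mul, neg_neg, one_pow]
    rw [← hi, pow_add] at h1
    linear_combination ((-1 : F) ^ (e x.1 - 1 - (x.2 : ℕ))) * h1 - c x.1 * (-1) ^ (x.2 : ℕ) * hsq
  rw [h]; ring

include hπ in
theorem blockForm_nondeg (hc : ∀ b, c b ≠ 0) : (blockForm e π c he).Nondegenerate := by
  refine ⟨fun u h => funext fun x => ?_, fun u h => funext fun x => ?_⟩
  · have h1 := h (Pi.single (blockMate e π he x) 1)
    rw [blockForm_apply, Finset.sum_eq_single x (fun b _ hb => by
      rw [Pi.single_eq_of_ne (fun hh => hb (by rw [← blockMate_mate e π he hπ b, hh, blockMate_mate e π he hπ])), mul_zero,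
        mul_zero]) (fun hh => absurd (Finset.mem_univ _) hh), Pi.single_eq_same, mul_one, mul_eq_zero] at h1
    exact h1.resolve_left (mul_ne_zero (hc _) (pow_ne_zero _ (neg_ne_zero.2 one_ne_zero)))
  · have h1 := h (Pi.single (blockMate e π he x) 1)
    rw [blockForm_apply, Finset.sum_eq_single (blockMate e π he x) (fun b _ hb => by
      rw [Pi.single_eq_of_ne hb, zero_mul, mul_zero]) (fun hh => absurd (Finset.mem_univ _) hh), Pi.single_eq_same, one_mul,
      blockMate_mate e π he hπ, mul_eq_zero] at h1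
    exact h1.resolve_left (mul_ne_zero (hc _) (pow_ne_zero _ (neg_ne_zero.2 one_ne_zero)))

include hπ in
theorem blockShift_skew (u v : BlockIdx e → F) :
    blockForm e π c he (blockShift e u) v + blockForm e π c he u (blockShift e v) = 0 := by
  have key : (blockForm e π c he).comp (blockShift e) LinearMap.id +
      (blockForm e π c he).comp LinearMap.id (blockShift e) = 0 := by
    refine LinearMap.BilinForm.ext_basis (Pi.basisFun F (BlockIdx e)) fun x y => ?_
    simp only [Pi.basisFun_apply, LinearMap.add_apply, LinearMap.BilinForm.comp_apply, LinearMap.id_apply,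
      LinearMap.zero_apply]
    have hs : ∀ z : BlockIdx e, blockShift e (Pi.single z 1 : BlockIdx e → F) =
        if h : (z.2 : ℕ) + 1 < e z.1 then Pi.single ⟨z.1, ⟨z.2 + 1, h⟩⟩ 1 else 0 := by
      intro z
      funext w
      show (if (w.2 : ℕ) = 0 then 0 else (Pi.single z 1 : BlockIdx e → F) ⟨w.1, ⟨w.2 - 1, _⟩⟩) = _
      by_cases h : (z.2 : ℕ) + 1 < e z.1
      · rw [dif_pos h]
        by_cases hw : w = ⟨z.1, ⟨z.2 + 1, h⟩⟩
        · subst hw; simp
        · rw [Pi.single_eq_of_ne hw]
          by_cases h0 : (w.2 : ℕ) = 0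
          · rw [if_pos h0]
          · rw [if_neg h0, Pi.single_eq_of_ne fun heq => hw ?_]
            subst heq
            exact idx_ext e rfl (show (w.2 : ℕ) = (w.2 : ℕ) - 1 + 1 by omega)
      · rw [dif_neg h]
        by_cases h0 : (w.2 : ℕ) = 0
        · rw [if_pos h0]; rfl
        · rw [if_neg h0, Pi.single_eq_of_ne fun heq => ?_]
          · rfl
          · subst heq
            have := w.2.2
            exact h (show (w.2 : ℕ) - 1 + 1 < e w.1 by omega)
    rw [hs, hs]
    have hx := x.2.2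
    have hy := y.2.2
    by_cases h : (y.1 = π x.1 ∧ (x.2 : ℕ) + 1 + (y.2 : ℕ) + 1 = e x.1)
    · obtain ⟨h1, h2⟩ := h
      rw [dif_pos (by omega), dif_pos (show (y.2 : ℕ) + 1 < e y.1 by have := congrArg e h1; rw [he] at this; omega), blockForm_single e π c he hπ,
        blockForm_single e π c he hπ, if_pos (idx_ext e h1 (show (y.2 : ℕ) = e x.1 - 1 - ((x.2 : ℕ) + 1) by omega)),
        if_pos (idx_ext e h1 (show (y.2 : ℕ) + 1 = e x.1 - 1 - (x.2 : ℕ) by omega))]
      simp only [blockCoef, pow_succ]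
      ring
    · have hl : blockForm e π c he (if h : (x.2 : ℕ) + 1 < e x.1 then Pi.single ⟨x.1, ⟨x.2 + 1, h⟩⟩ 1 else 0)
          (Pi.single y 1) = 0 := by
        split_ifs with h'
        · rw [blockForm_single e π c he hπ, if_neg fun hh => h ?_]
          subst hh
          exact ⟨rfl, show (x.2 : ℕ) + 1 + (e x.1 - 1 - ((x.2 : ℕ) + 1)) + 1 = e x.1 by omega⟩
        · simp
      have hr : blockForm e π c he (Pi.single x 1)
          (if h : (y.2 : ℕ) + 1 < e y.1 then Pi.single ⟨y.1, ⟨y.2 + 1, h⟩⟩ 1 else 0) = 0 := by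
        split_ifs with h'
        · rw [blockForm_single e π c he hπ, if_neg fun hh => h ?_]
          have h1 : y.1 = π x.1 := congrArg Sigma.fst hh
          have h2 : (y.2 : ℕ) + 1 = e x.1 - 1 - (x.2 : ℕ) := congrArg (fun z : BlockIdx e => (z.2 : ℕ)) hh
          exact ⟨h1, by omega⟩
        · simp
      rw [hl, hr, add_zero]
  exact LinearMap.congr_fun₂ key u v

theorem blockShift_pow (j : ℕ) (v : BlockIdx e → F) (x : BlockIdx e) :
    (blockShift e ^ j) v x = if (x.2 : ℕ) < j then 0 else v ⟨x.1, ⟨x.2 - j, by have := x.2.2; omega⟩⟩ := by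
  induction j generalizing x with
  | zero => simp
  | succ j ih =>
    rw [pow_succ', Module.End.mul_apply]
    show (if (x.2 : ℕ) = 0 then 0 else ((blockShift e ^ j) v) ⟨x.1, ⟨x.2 - 1, _⟩⟩) = _
    by_cases h0 : (x.2 : ℕ) = 0
    · rw [if_pos h0, if_pos (by omega)]
    · rw [if_neg h0, ih]
      by_cases h1 : (x.2 : ℕ) - 1 < j
      · rw [if_pos h1, if_pos (by omega)]
      · rw [if_neg h1, if_neg (by omega)]
        exact congrArg v (idx_ext e rfl (show (x.2 : ℕ) - 1 - j = (x.2 : ℕ) - (j + 1) by omega))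

theorem powRank_blockShift (j : ℕ) : powRank (blockShift (F := F) e) ⊤ j = ∑ b, (e b - j) := by
  classical
  obtain ⟨E, hE⟩ : ∃ E : ({x : BlockIdx e // j ≤ (x.2 : ℕ)} → F) →ₗ[F] (BlockIdx e → F),
      ∀ f x, E f x = if h : j ≤ (x.2 : ℕ) then f ⟨x, h⟩ else 0 :=
    ⟨{ toFun := fun f x => if h : j ≤ (x.2 : ℕ) then f ⟨x, h⟩ else 0
       map_add' := fun a b => by funext x; simp only [Pi.add_apply]; split_ifs <;> simp
       map_smul' := fun s a => by funext x; simp only [Pi.smul_apply, RingHom.id_apply]; split_ifs <;> simp },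
      fun f x => rfl⟩
  have hinj : Function.Injective E := fun f g h => funext fun x => by
    have h1 := congrFun h x.1
    rw [hE, hE, dif_pos x.2, dif_pos x.2] at h1
    exact h1
  have hrange : (⊤ : Submodule F (BlockIdx e → F)).map (blockShift e ^ j) = LinearMap.range E := by
    refine le_antisymm ?_ ?_
    · rintro _ ⟨v, -, rfl⟩
      refine ⟨fun x => (blockShift e ^ j) v x.1, funext fun x => ?_⟩
      rw [hE]
      split_ifs with h
      · rfl
      · rw [blockShift_pow, if_pos (by omega)]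
    · rintro _ ⟨f, rfl⟩
      refine ⟨fun x => if h : (x.2 : ℕ) + j < e x.1 then f ⟨⟨x.1, ⟨x.2 + j, h⟩⟩, Nat.le_add_left _ _⟩ else 0,
        Submodule.mem_top, funext fun x => ?_⟩
      rw [blockShift_pow, hE]
      have := x.2.2
      by_cases h : (x.2 : ℕ) < j
      · rw [if_pos h, dif_neg (by omega)]
      · rw [if_neg h, dif_pos (by omega : j ≤ (x.2 : ℕ)),
          dif_pos (show (x.2 : ℕ) - j + j < e x.1 by omega)]
        exact congrArg f (Subtype.ext (idx_ext e rfl (show (x.2 : ℕ) - j + j = (x.2 : ℕ) by omega)))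
  rw [powRank, hrange, LinearMap.finrank_range_of_inj hinj, Module.finrank_fintype_fun_eq_card]
  have eqv : {x : BlockIdx e // j ≤ (x.2 : ℕ)} ≃ ((b : κ) × Fin (e b - j)) :=
    { toFun := fun x => ⟨x.1.1, ⟨x.1.2 - j, by have := x.1.2.2; have := x.2; omega⟩⟩
      invFun := fun y => ⟨⟨y.1, ⟨y.2 + j, by have := y.2.2; omega⟩⟩, Nat.le_add_left _ _⟩
      left_inv := fun x => Subtype.ext (idx_ext e rfl (show (x.1.2 : ℕ) - j + j = x.1.2 by have := x.2; omega))
      right_inv := fun y => by
        rcases y with ⟨b, i⟩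
        exact congrArg (Sigma.mk b) (Fin.ext (show (i : ℕ) + j - j = i by omega)) }
  rw [Fintype.card_congr eqv, Fintype.card_sigma]
  simp

theorem blockMult_blockShift (j : ℕ) :
    blockMult (blockShift (F := F) e) ⊤ j = ∑ b, if e b = j + 1 then 1 else 0 := by
  have h : powRank (blockShift (F := F) e) ⊤ j + powRank (blockShift (F := F) e) ⊤ (j + 2) =
      2 * powRank (blockShift (F := F) e) ⊤ (j + 1) + ∑ b, (if e b = j + 1 then 1 else 0) := by
    simp only [powRank_blockShift]
    rw [Finset.mul_sum, ← Finset.sum_add_distrib, ← Finset.sum_add_distrib]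
    exact Finset.sum_congr rfl fun b _ => by split_ifs <;> omega
  rw [blockMult, h, Nat.add_sub_cancel_left]

/-- the sign reversal of blocks -/
def blockRev (δ : κ → F) : Module.End F (BlockIdx e → F) where
  toFun v x := δ x.1 * (-1) ^ (x.2 : ℕ) * v x
  map_add' u v := by funext x; simp [mul_add]
  map_smul' s u := by funext x; simp; ring

include hπ in
/-- the unipotent isometry, reversed by a similitude (possibly zero) -/
theorem exists_block_isometry_mul {p : ℕ} [Fact p.Prime] [CharP F p] (hep : ∀ b, e b ≤ p) (h2 : (2 : F) ≠ 0)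
    {δ : κ → F} {θ : F} (hδ : ∀ b, δ b * δ (π b) * (-1) ^ (e b - 1) = θ) :
    ∃ T S : Module.End F (BlockIdx e → F),
      (∀ u v, blockForm e π c he (T u) (T v) = blockForm e π c he u v) ∧
      (∀ u v, blockForm e π c he (S u) (S v) = θ * blockForm e π c he u v) ∧
      T ^ p = 1 ∧ (∃ Ti, T * Ti = 1 ∧ S * T = Ti * S) ∧ (∀ k, (∀ b, e b ≤ k) → (T - 1) ^ k = 0) ∧
      ∀ j, blockMult (T - 1) ⊤ j = ∑ b, if e b = j + 1 then 1 else 0 := by
  obtain ⟨N, hN⟩ : ∃ N, N = blockShift (F := F) e := ⟨_, rfl⟩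
  have hNp : N ^ p = 0 := LinearMap.ext fun v => funext fun x => by
    rw [hN, blockShift_pow, if_pos (lt_of_lt_of_le x.2.2 (hep _))]; rfl
  obtain ⟨M, hM⟩ : IsUnit (1 - N) := IsNilpotent.isUnit_one_sub ⟨p, hNp⟩
  obtain ⟨P, hP⟩ : IsUnit (1 + N) := IsNilpotent.isUnit_one_add ⟨p, hNp⟩
  have hPM : Commute (P : Module.End F (BlockIdx e → F)) (M : Module.End F (BlockIdx e → F)) := by
    rw [hP, hM]
    exact ((Commute.one_left _).add_left ((Commute.one_right N).sub_right (Commute.refl N)))
  obtain ⟨T, hT⟩ : ∃ T, T = (P : Module.End F (BlockIdx e → F)) * (↑M⁻¹ : Module.End F (BlockIdx e → F)) := ⟨_, rfl⟩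
  have hskew : ∀ u v, blockForm e π c he (N u) v = -blockForm e π c he u (N v) := fun u v =>
    eq_neg_of_add_eq_zero_left (hN ▸ blockShift_skew e π c he hπ u v)
  have hT1 : T - 1 = N * ((2 : F) • (↑M⁻¹ : Module.End F (BlockIdx e → F))) := by
    have h : (1 : Module.End F (BlockIdx e → F)) = (M : Module.End F (BlockIdx e → F)) * ↑M⁻¹ := (Units.mul_inv M).symm
    rw [hT]
    nth_rewrite 1 [h]
    rw [← sub_mul, hP, hM, mul_smul_comm, show (1 : Module.End F (BlockIdx e → F)) + N - (1 - N) = (2 : F) • N by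
      rw [two_smul]; abel, smul_mul_assoc]
  have hcomm : Commute N ((2 : F) • (↑M⁻¹ : Module.End F (BlockIdx e → F))) :=
    (Commute.units_inv_right (by rw [hM]; exact (Commute.one_right N).sub_right (Commute.refl N))).smul_right _
  have hTp : (T - 1) ^ p = 0 := by rw [hT1, hcomm.mul_pow, hNp, zero_mul]
  have hTk : ∀ k, (∀ b, e b ≤ k) → (T - 1) ^ k = 0 := fun k hk => by
    have hNk : N ^ k = 0 := LinearMap.ext fun v => funext fun x => by
      rw [hN, blockShift_pow, if_pos (lt_of_lt_of_le x.2.2 (hk _))]; rfl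
    rw [hT1, hcomm.mul_pow, hNk, zero_mul]
  obtain ⟨S, hS⟩ : ∃ S, S = blockRev e δ := ⟨_, rfl⟩
  have hSN : S * N = -(N * S) := LinearMap.ext fun v => funext fun x => by
    rw [hS, hN]
    show δ x.1 * (-1) ^ (x.2 : ℕ) * (if (x.2 : ℕ) = 0 then 0 else v ⟨x.1, ⟨x.2 - 1, _⟩⟩) =
      -(if (x.2 : ℕ) = 0 then 0 else δ x.1 * (-1) ^ ((x.2 : ℕ) - 1) * v ⟨x.1, ⟨x.2 - 1, _⟩⟩)
    by_cases h0 : (x.2 : ℕ) = 0
    · simp [h0]
    · rw [if_neg h0, if_neg h0]
      have hp1 : (-1 : F) ^ (x.2 : ℕ) = (-1) ^ ((x.2 : ℕ) - 1) * (-1) := by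
        rw [← pow_succ, Nat.sub_add_cancel (Nat.pos_of_ne_zero h0)]
      rw [hp1]; ring
  refine ⟨T, S, fun u v => ?_, fun u v => ?_, ?_, ⟨(M : Module.End F (BlockIdx e → F)) * ↑P⁻¹, ?_, ?_⟩, hTk, fun j => ?_⟩
  · have hkey : ∀ a b, blockForm e π c he ((P : Module.End F (BlockIdx e → F)) a) ((P : Module.End F (BlockIdx e → F)) b) =
        blockForm e π c he ((M : Module.End F (BlockIdx e → F)) a) ((M : Module.End F (BlockIdx e → F)) b) := fun a b => by
      rw [hP, hM]
      simp only [LinearMap.add_apply, LinearMap.sub_apply, Module.End.one_apply, map_add, map_sub, hskew]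
      ring
    rw [hT, Module.End.mul_apply, Module.End.mul_apply, hkey, ← Module.End.mul_apply, ← Module.End.mul_apply, Units.mul_inv]
    rfl
  · rw [blockForm_apply, blockForm_apply, Finset.mul_sum]
    refine Finset.sum_congr rfl fun x _ => ?_
    rw [hS]
    show blockCoef e c x * (δ x.1 * (-1) ^ (x.2 : ℕ) * u x *
      (δ (π x.1) * (-1) ^ (e x.1 - 1 - (x.2 : ℕ)) * v (blockMate e π he x))) = _
    have hi : (x.2 : ℕ) + (e x.1 - 1 - (x.2 : ℕ)) = e x.1 - 1 := by have := x.2.2; omega
    have h := hδ x.1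
    rw [← hi, pow_add] at h
    linear_combination (blockCoef e c x * (u x * v (blockMate e π he x))) * h
  · haveI : CharP (Module.End F (BlockIdx e → F)) p ∨ Subsingleton (Module.End F (BlockIdx e → F)) := by
      rcases subsingleton_or_nontrivial (Module.End F (BlockIdx e → F)) with h | h
      · exact Or.inr h
      · exact Or.inl (charP_of_injective_algebraMap (algebraMap F (Module.End F (BlockIdx e → F))).injective p)
    rcases this with h | h
    · have h1 := sub_pow_char_of_commute (p := p) (Commute.one_right T)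
      rw [hTp, one_pow, eq_comm, sub_eq_zero] at h1
      exact h1
    · exact Subsingleton.elim _ _
  · rw [hT, mul_assoc, ← mul_assoc (↑M⁻¹ : Module.End F (BlockIdx e → F)), Units.inv_mul, one_mul, Units.mul_inv]
  · have hSP : S * (P : Module.End F (BlockIdx e → F)) = (M : Module.End F (BlockIdx e → F)) * S := by
      rw [hP, hM, mul_add, mul_one, hSN, sub_mul, one_mul]; abel
    have hSM : S * (M : Module.End F (BlockIdx e → F)) = (P : Module.End F (BlockIdx e → F)) * S := by
      rw [hP, hM, mul_sub, mul_one, hSN, add_mul, one_mul]; abel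
    have hSMi : S * (↑M⁻¹ : Module.End F (BlockIdx e → F)) = (↑P⁻¹ : Module.End F (BlockIdx e → F)) * S := by
      rw [Units.eq_inv_mul_iff_mul_eq, ← mul_assoc, ← hSM, mul_assoc, Units.mul_inv, mul_one]
    rw [hT, ← mul_assoc, hSP, mul_assoc, hSMi, ← mul_assoc]
  · have hrk : ∀ k, powRank (T - 1) ⊤ k = powRank (blockShift (F := F) e) ⊤ k := fun k => by
      obtain ⟨R, hR⟩ : IsUnit (((2 : F) • (↑M⁻¹ : Module.End F (BlockIdx e → F))) ^ k) := by
        refine IsUnit.pow _ (isUnit_iff_exists.2 ⟨(2 : F)⁻¹ • (M : Module.End F (BlockIdx e → F)), ?_, ?_⟩)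
        · rw [smul_mul_assoc, mul_smul_comm, Units.inv_mul, smul_smul, mul_inv_cancel₀ h2, one_smul]
        · rw [smul_mul_assoc, mul_smul_comm, Units.mul_inv, smul_smul, inv_mul_cancel₀ h2, one_smul]
      have hsur : LinearMap.range (R : Module.End F (BlockIdx e → F)) = ⊤ := LinearMap.range_eq_top.2 fun y =>
        ⟨(↑R⁻¹ : Module.End F (BlockIdx e → F)) y, by rw [← Module.End.mul_apply, Units.mul_inv]; rfl⟩
      rw [powRank, powRank, hT1, hcomm.mul_pow, ← hR, ← hN, Module.End.mul_eq_comp, Submodule.map_comp, Submodule.map_top,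
        hsur]
    rw [← blockMult_blockShift (F := F) e j]
    simp only [blockMult, hrk]

include hπ in
/-- the unipotent isometry, reversed by an isometry -/
theorem exists_block_isometry {p : ℕ} [Fact p.Prime] [CharP F p] (hep : ∀ b, e b ≤ p) (h2 : (2 : F) ≠ 0)
    {δ : κ → F} (hδ : ∀ b, δ b * δ (π b) * (-1) ^ (e b - 1) = 1) :
    ∃ T S : Module.End F (BlockIdx e → F),
      (∀ u v, blockForm e π c he (T u) (T v) = blockForm e π c he u v) ∧
      (∀ u v, blockForm e π c he (S u) (S v) = blockForm e π c he u v) ∧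
      T ^ p = 1 ∧ (∃ Ti, T * Ti = 1 ∧ S * T = Ti * S) ∧ (∀ k, (∀ b, e b ≤ k) → (T - 1) ^ k = 0) ∧
      ∀ j, blockMult (T - 1) ⊤ j = ∑ b, if e b = j + 1 then 1 else 0 := by
  obtain ⟨T, S, h1, h3, h⟩ := exists_block_isometry_mul e π c he hπ hep h2 hδ
  exact ⟨T, S, h1, fun u v => (h3 u v).trans (one_mul _), h⟩

end CfsgLib.Perm.Elusive
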