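import Mathlib

/-!
# Involutions preserving a block system
-/

set_option autoImplicit false
set_option linter.all false

namespace CfsgLib.Perm.Elusive

/-- the number of points moved by a permutation -/
def movedCount {α : Type*} [Fintype α] [DecidableEq α] (π : Equiv.Perm α) : ℕ := ∑ x, if π x = x then 0 else 1

theorem movedCount_eq_support {α : Type*} [Fintype α] [DecidableEq α] (π : Equiv.Perm α) :
    movedCount π = π.support.card := by
  rw [movedCount, Finset.sum_ite, Finset.sum_const_zero, zero_add, Finset.sum_const, smul_eq_mul, mul_one]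
  congr 1

theorem movedCount_permCongr {α β : Type*} [Fintype α] [DecidableEq α] [Fintype β] [DecidableEq β] (e : α ≃ β)
    (π : Equiv.Perm α) : movedCount (e.permCongr π) = movedCount π := by
  rw [movedCount, movedCount, ← Equiv.sum_comp e]
  refine Finset.sum_congr rfl fun x _ => ?_
  simp

/-- involutions with equally many moved points are conjugate -/
theorem exists_conj_equiv {α β : Type*} [Fintype α] [DecidableEq α] [Fintype β] [DecidableEq β]
    (π : Equiv.Perm α) (π' : Equiv.Perm β) (hπ : ∀ x, π (π x) = x) (hπ' : ∀ x, π' (π' x) = x)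
    (hcard : Fintype.card α = Fintype.card β) (h : movedCount π = movedCount π') :
    ∃ e : α ≃ β, ∀ x, e (π x) = π' (e x) := by
  haveI : Fact (Nat.Prime 2) := ⟨Nat.prime_two⟩
  obtain ⟨e₀⟩ : Nonempty (α ≃ β) := ⟨Fintype.equivOfCardEq hcard⟩
  obtain ⟨ρ, hρ⟩ : ∃ ρ, ρ = e₀.symm.permCongr π' := ⟨_, rfl⟩
  have e1 := Equiv.Perm.cycleType_of_pow_prime_eq_one (σ := π) (p := 2)
    (Equiv.ext fun x => by rw [sq]; exact hπ x)
  have e2 := Equiv.Perm.cycleType_of_pow_prime_eq_one (σ := ρ) (p := 2)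
    (Equiv.ext fun x => by rw [sq, hρ]; simp [hπ'])
  have hs1 := Equiv.Perm.sum_cycleType π
  have hs2 := Equiv.Perm.sum_cycleType ρ
  rw [e1, ← movedCount_eq_support, h, Multiset.sum_replicate, smul_eq_mul] at hs1
  rw [e2, ← movedCount_eq_support, hρ, movedCount_permCongr, Multiset.sum_replicate, smul_eq_mul, ← hs1, ← hρ] at hs2
  have hct : π.cycleType = ρ.cycleType := by
    rw [e1, e2]
    congr 1
    omega
  obtain ⟨c, hc⟩ := isConj_iff.1 (Equiv.Perm.isConj_iff_cycleType_eq.2 hct)
  refine ⟨c.trans e₀, fun x => ?_⟩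
  have e3 := congrArg (fun g : Equiv.Perm α => g (c x)) hc
  simp only [Equiv.Perm.mul_apply, Equiv.Perm.inv_def, Equiv.symm_apply_apply, hρ, Equiv.permCongr_apply, Equiv.symm_symm] at e3
  show e₀ (c (π x)) = π' (e₀ (c x))
  rw [e3, Equiv.apply_symm_apply]

/-- an involution of `Fin t × Fin a` respecting the blocks and moving `2k` points -/
def BlockInvol (a t k : ℕ) : Prop :=
  ∃ π : Equiv.Perm (Fin t × Fin a), (∀ p, π (π p) = p) ∧ movedCount π = 2 * k ∧
    ∃ σ : Equiv.Perm (Fin t), ∀ p, (π p).1 = σ p.1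

theorem blockInvol_zero (a t : ℕ) : BlockInvol a t 0 :=
  ⟨1, fun p => rfl, by simp [movedCount], 1, fun p => rfl⟩

theorem blockInvol_add {a t t' k k' : ℕ} (h : BlockInvol a t k) (h' : BlockInvol a t' k') :
    BlockInvol a (t + t') (k + k') := by
  obtain ⟨π, hπ, hm, σ, hσ⟩ := h
  obtain ⟨π', hπ', hm', σ', hσ'⟩ := h'
  obtain ⟨E, hE⟩ : ∃ E : (Fin t × Fin a) ⊕ (Fin t' × Fin a) ≃ Fin (t + t') × Fin a,
      E = (Equiv.sumProdDistrib _ _ _).symm.trans (Equiv.prodCongr finSumFinEquiv (Equiv.refl _)) := ⟨_, rfl⟩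
  refine ⟨E.permCongr (Equiv.sumCongr π π'), fun p => ?_, ?_, finSumFinEquiv.permCongr (Equiv.sumCongr σ σ'),
    fun p => ?_⟩
  · simp only [Equiv.permCongr_apply, Equiv.symm_apply_apply]
    rcases hx : E.symm p with x | x <;> simp only [Equiv.sumCongr_apply, Sum.map_inl, Sum.map_inr, hπ, hπ'] <;>
      rw [← hx, Equiv.apply_symm_apply]
  · rw [movedCount_permCongr, movedCount, Fintype.sum_sum_type]
    simp only [Equiv.sumCongr_apply, Sum.map_inl, Sum.map_inr, Sum.inl.injEq, Sum.inr.injEq]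
    rw [mul_add, ← hm, ← hm']
    rfl
  · obtain ⟨x, rfl⟩ := E.surjective p
    rw [Equiv.permCongr_apply, Equiv.symm_apply_apply, hE]
    rcases x with ⟨j, i⟩ | ⟨j, i⟩ <;> simp [hσ, hσ']

theorem blockInvol_one {a k : ℕ} (hk : 2 * k ≤ a) : BlockInvol a 1 k := by
  let G : ℕ → ℕ := fun n => if n < 2 * k then (if n % 2 = 0 then n + 1 else n - 1) else n
  have hGa : ∀ n, n < a → G n < a := fun n hn => by simp only [G]; split_ifs <;> omega
  have hG : ∀ n, G (G n) = n := fun n => by simp only [G]; split_ifs <;> omega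
  have hGf : ∀ n, G n = n ↔ ¬ n < 2 * k := fun n => by simp only [G]; split_ifs <;> omega
  let g : Fin a → Fin a := fun i => ⟨G i.1, hGa _ i.2⟩
  have hg : ∀ i, g (g i) = i := fun i => Fin.ext (hG i.1)
  obtain ⟨π, hπdef⟩ : ∃ π : Equiv.Perm (Fin 1 × Fin a),
      π = Equiv.prodCongr (Equiv.refl _) (Function.Involutive.toPerm g hg) := ⟨_, rfl⟩
  refine ⟨π, fun p => by rw [hπdef]; exact Prod.ext rfl (hg p.2), ?_, 1, fun p => by rw [hπdef]; rfl⟩
  rw [movedCount, Fintype.sum_prod_type, Fin.sum_univ_one]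
  have hiff : ∀ i : Fin a, π (0, i) = (0, i) ↔ ¬ i.1 < 2 * k := fun i => by
    rw [hπdef]
    show ((0 : Fin 1), g i) = (0, i) ↔ _
    rw [Prod.mk.injEq, Fin.ext_iff (a := g i)]
    simp only [g, true_and, hGf]
  rw [show (∑ i : Fin a, if π (0, i) = (0, i) then 0 else 1) = ∑ i : Fin a, if i.1 < 2 * k then 1 else 0 from
    Finset.sum_congr rfl fun i _ => by by_cases h : i.1 < 2 * k <;> simp [hiff, h]]
  rw [Fin.sum_univ_eq_sum_range (fun i => if i < 2 * k then 1 else 0), Finset.sum_boole]
  rw [show (Finset.range a).filter (fun i => i < 2 * k) = Finset.range (2 * k) by ext i; simp; omega]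
  simp

theorem blockInvol_two (a : ℕ) : BlockInvol a 2 a := by
  refine ⟨Equiv.prodCongr (Equiv.swap 0 1) (Equiv.refl _), fun p => Prod.ext (Equiv.swap_apply_self _ _ _) rfl, ?_, Equiv.swap 0 1, fun p => rfl⟩
  rw [movedCount, Fintype.sum_prod_type, Fin.sum_univ_two]
  simp [two_mul]

/-- every number of transpositions occurs -/
theorem blockInvol_exists (a : ℕ) : ∀ t k : ℕ, 2 * k ≤ a * t → BlockInvol a t k := by
  intro t
  induction t using Nat.strong_induction_on with
  | _ t ih =>
    intro k hk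
    rcases Nat.eq_zero_or_pos k with rfl | hk0
    · exact blockInvol_zero a t
    rcases t with _ | t
    · rw [mul_zero] at hk; omega
    by_cases h1 : 2 * k ≤ a
    · have := blockInvol_add (blockInvol_one h1) (blockInvol_zero a t)
      rwa [add_zero, add_comm 1 t] at this
    rcases t with _ | t
    · omega
    by_cases h2 : a ≤ k
    · have := blockInvol_add (blockInvol_two a) (ih t (by omega) (k - a) (by
        have e1 : a * (t + 1 + 1) = a * t + 2 * a := by ring
        omega))
      rwa [Nat.add_sub_cancel' h2, add_comm 2 t] at this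
    · have := blockInvol_add (blockInvol_one (a := a) (k := a / 2) (by omega)) (ih (t + 1) (by omega) (k - a / 2) (by
        have e1 : a * (t + 1) = a * t + a := by ring
        omega))
      rwa [Nat.add_sub_cancel' (show a / 2 ≤ k by omega), add_comm 1 (t + 1)] at this

/-- blocks for an involution moving `2k` points of an `a * t` set -/
theorem exists_blocks {α : Type*} [Fintype α] [DecidableEq α] (π : Equiv.Perm α) (hπ : ∀ x, π (π x) = x) {a t k : ℕ}
    (hcard : Fintype.card α = a * t) (hk : movedCount π = 2 * k) :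
    ∃ (e : α ≃ Fin t × Fin a) (σ : Equiv.Perm (Fin t)), ∀ x, (e (π x)).1 = σ (e x).1 := by
  have hle : 2 * k ≤ a * t := by
    rw [← hk, ← hcard, movedCount_eq_support]
    exact Finset.card_le_univ _
  obtain ⟨π', hπ', hm, σ, hσ⟩ := blockInvol_exists a t k hle
  obtain ⟨e, he⟩ := exists_conj_equiv π π' hπ hπ' (by simp [hcard, mul_comm]) (hk.trans hm.symm)
  exact ⟨e, σ, fun x => by rw [he, hσ]⟩

end CfsgLib.Perm.Elusive
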