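import Mathlib
import Cfsg.Agent.Lib.Perm.Elusive.InvolBlocks

/-!
# Normal forms of linear maps with scalar square
-/

set_option autoImplicit false
set_option linter.all false

namespace CfsgLib.Perm.Elusive

variable {F V : Type*} [Field F] [AddCommGroup V] [Module F V] [FiniteDimensional F V]

/-- the sum map `(c, c', u) ↦ c + T c' + u` -/
def pairMap (T : V →ₗ[F] V) (C U : Submodule F V) : ((C × C) × U) →ₗ[F] V :=
  LinearMap.coprod (LinearMap.coprod C.subtype (T.comp C.subtype)) U.subtype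

theorem pairMap_apply (T : V →ₗ[F] V) (C U : Submodule F V) (c c' : C) (u : U) :
    pairMap T C U ((c, c'), u) = (c : V) + T c' + u := rfl

/-- no eigenvalue: `V = C ⊕ T C` -/
theorem exists_pairs_irred (T : V →ₗ[F] V) {z : F} (hT : ∀ v, T (T v) = z • v) (hz : ∀ ρ : F, ρ * ρ ≠ z) :
    ∃ C : Submodule F V, Function.Bijective (pairMap T C ⊥) := by
  classical
  have key : ∀ m : ℕ, ∀ C : Submodule F V, Function.Injective (pairMap T C ⊥) →
      Module.finrank F V ≤ 2 * Module.finrank F C + m → ∃ C' : Submodule F V, Function.Bijective (pairMap T C' ⊥) := by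
    intro m
    induction m with
    | zero =>
      intro C hC hle
      refine ⟨C, hC, (LinearMap.injective_iff_surjective_of_finrank_eq_finrank (le_antisymm
        (LinearMap.finrank_le_finrank_of_injective hC) ?_)).1 hC⟩
      rw [Module.finrank_prod, Module.finrank_prod, finrank_bot]
      omega
    | succ m ih =>
      intro C hC hle
      by_cases hs : Function.Surjective (pairMap T C ⊥)
      · exact ⟨C, hC, hs⟩
      simp only [Function.Surjective, not_forall] at hs
      obtain ⟨v, hv⟩ := hs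
      have hW : ∀ w, (∃ a, pairMap T C ⊥ a = w) → ∃ a, pairMap T C ⊥ a = T w := by
        rintro _ ⟨⟨⟨c, c'⟩, u⟩, rfl⟩
        refine ⟨((z • c', c), 0), ?_⟩
        rw [pairMap_apply, pairMap_apply, map_add, map_add, hT, show (u : V) = 0 from (Submodule.mem_bot F).1 u.2,
          map_zero, add_zero, Submodule.coe_smul, ZeroMemClass.coe_zero, add_zero, add_comm]
      have hsep : ∀ α β : F, (∃ a, pairMap T C ⊥ a = α • v + β • T v) → α = 0 ∧ β = 0 := by
        intro α β ⟨a, ha⟩
        obtain ⟨b, hb⟩ := hW _ ⟨a, ha⟩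
        rw [map_add, map_smul, map_smul, hT] at hb
        have e1 : pairMap T C ⊥ (α • a - β • b) = (α * α - β * β * z) • v := by
          rw [map_sub, map_smul, map_smul, ha, hb]
          module
        by_cases h0 : α * α - β * β * z = 0
        · rcases eq_or_ne β 0 with rfl | hβ
          · exact ⟨by simpa using h0, rfl⟩
          · exact absurd (show α / β * (α / β) = z by field_simp; linear_combination h0) (hz _)
        · exact absurd ⟨(α * α - β * β * z)⁻¹ • (α • a - β • b), by rw [map_smul, e1, inv_smul_smul₀ h0]⟩ hv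
      have hvC : v ∉ C := fun hvC => hv ⟨((⟨v, hvC⟩, 0), 0), by rw [pairMap_apply]; simp⟩
      refine ih (C ⊔ Submodule.span F {v}) ?_ ?_
      · rw [injective_iff_map_eq_zero]
        rintro ⟨⟨⟨c, hc⟩, ⟨c', hc'⟩⟩, u⟩ h
        obtain ⟨c₁, hc₁, _, h₁, rfl⟩ := Submodule.mem_sup.1 hc
        obtain ⟨α, rfl⟩ := Submodule.mem_span_singleton.1 h₁
        obtain ⟨c₂, hc₂, _, h₂, rfl⟩ := Submodule.mem_sup.1 hc'
        obtain ⟨β, rfl⟩ := Submodule.mem_span_singleton.1 h₂
        have hu : (u : V) = 0 := (Submodule.mem_bot F).1 u.2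
        rw [pairMap_apply, hu, add_zero] at h
        simp only [map_add, map_smul] at h
        have e1 : pairMap T C ⊥ ((-⟨c₁, hc₁⟩, -⟨c₂, hc₂⟩), 0) = α • v + β • T v := by
          rw [pairMap_apply]
          simp only [Submodule.coe_neg, map_neg, ZeroMemClass.coe_zero, add_zero]
          linear_combination (norm := abel) (-1 : ℤ) • h
        obtain ⟨rfl, rfl⟩ := hsep α β ⟨_, e1⟩
        rw [zero_smul, zero_smul, add_zero] at e1
        have e2 := hC (e1.trans (map_zero (pairMap T C ⊥)).symm)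
        simp only [Prod.ext_iff, Prod.fst_zero, Prod.snd_zero, neg_eq_zero] at e2
        have e3 : c₁ = 0 := congrArg Subtype.val e2.1.1
        have e4 : c₂ = 0 := congrArg Subtype.val e2.1.2
        refine Prod.ext (Prod.ext (Subtype.ext ?_) (Subtype.ext ?_)) (Subtype.ext hu) <;> simp [e3, e4]
      · have := Submodule.finrank_lt_finrank_of_lt (lt_of_le_of_ne (le_sup_left : C ≤ C ⊔ Submodule.span F {v})
          fun h => hvC (h ▸ Submodule.mem_sup_right (Submodule.mem_span_singleton_self v)))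
        omega
  refine key (Module.finrank F V) ⊥ ?_ (by omega)
  rw [injective_iff_map_eq_zero]
  rintro ⟨⟨c, c'⟩, u⟩ -
  exact Subsingleton.elim _ _

/-- characteristic two: `V = C ⊕ T C ⊕ U` with `T = ρ` on `U` -/
theorem exists_pairs_char_two (T : V →ₗ[F] V) {ρ : F} (hT : ∀ v, T (T v) = (ρ * ρ) • v) (h2 : (2 : F) = 0) :
    ∃ C U : Submodule F V, Function.Bijective (pairMap T C U) ∧ ∀ u ∈ U, T u = ρ • u := by
  obtain ⟨N, hN⟩ : ∃ N : V →ₗ[F] V, N = T - ρ • LinearMap.id := ⟨_, rfl⟩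
  have hNv : ∀ v, T v = N v + ρ • v := fun v => by rw [hN]; simp
  have hN2 : ∀ v, N (N v) = 0 := fun v => by
    rw [hN]
    simp only [LinearMap.sub_apply, LinearMap.smul_apply, LinearMap.id_coe, id_eq, map_sub, map_smul, hT]
    linear_combination (norm := module) h2 • ((ρ * ρ) • v - ρ • T v)
  obtain ⟨C, hC⟩ := Submodule.exists_isCompl (LinearMap.ker N)
  obtain ⟨U', hU'⟩ := Submodule.exists_isCompl (LinearMap.range N)
  refine ⟨C, U' ⊓ LinearMap.ker N, ⟨?_, ?_⟩, fun u hu => by rw [hNv, LinearMap.mem_ker.1 hu.2, zero_add]⟩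
  · rw [injective_iff_map_eq_zero]
    rintro ⟨⟨c, c'⟩, u⟩ h
    rw [pairMap_apply, hNv] at h
    have e1 : (c : V) + ρ • (c' : V) = 0 := by
      refine Submodule.disjoint_def.1 hC.disjoint _ ?_ (C.add_mem c.2 (C.smul_mem ρ c'.2))
      rw [show (c : V) + ρ • (c' : V) = -N c' - u by linear_combination (norm := abel) h]
      exact sub_mem (neg_mem (LinearMap.mem_ker.2 (hN2 _))) u.2.2
    have e2 : N c' = 0 := by
      refine Submodule.disjoint_def.1 hU'.disjoint _ ⟨_, rfl⟩ ?_
      rw [show N c' = -(u : V) by linear_combination (norm := abel) h - e1]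
      exact neg_mem u.2.1
    have e3 : (c' : V) = 0 := Submodule.disjoint_def.1 hC.disjoint _ (LinearMap.mem_ker.2 e2) c'.2
    rw [e3, smul_zero, add_zero] at e1
    rw [e1, e3, map_zero, smul_zero, zero_add, zero_add, zero_add] at h
    exact Prod.ext (Prod.ext (Subtype.ext e1) (Subtype.ext e3)) (Subtype.ext h)
  · intro v
    obtain ⟨k, hk, c, hc, rfl⟩ := Submodule.mem_sup.1 (hC.sup_eq_top.ge (Submodule.mem_top (x := v)))
    obtain ⟨_, ⟨w, rfl⟩, u, hu, rfl⟩ := Submodule.mem_sup.1 (hU'.sup_eq_top.ge (Submodule.mem_top (x := k)))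
    obtain ⟨k', hk', c', hc', rfl⟩ := Submodule.mem_sup.1 (hC.sup_eq_top.ge (Submodule.mem_top (x := w)))
    have huk : u ∈ LinearMap.ker N := by
      have := LinearMap.mem_ker.1 hk
      rwa [map_add, hN2, zero_add] at this
    refine ⟨((⟨c - ρ • c', C.sub_mem hc (C.smul_mem ρ hc')⟩, ⟨c', hc'⟩), ⟨u, hu, huk⟩), ?_⟩
    rw [pairMap_apply, map_add, LinearMap.mem_ker.1 hk', hNv]
    simp only [zero_add]
    abel

/-- a map with scalar square is diagonal with two eigenvalues or a sum of pairs and eigenvectors -/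
theorem exists_square_scalar_basis (T : V →ₗ[F] V) {z : F} (hz : z ≠ 0)
    (hT : ∀ v, T (T v) = z • v) :
    (∃ ρ : F, ρ * ρ = z ∧ (2 : F) ≠ 0 ∧ ∃ (k l : ℕ) (b : Module.Basis (Fin k ⊕ Fin l) F V),
      (∀ i, T (b (Sum.inl i)) = ρ • b (Sum.inl i)) ∧ (∀ i, T (b (Sum.inr i)) = (-ρ) • b (Sum.inr i))) ∨
    (∃ (ρ : F) (k l : ℕ) (b : Module.Basis ((Fin k ⊕ Fin k) ⊕ Fin l) F V),
      (∀ i, T (b (Sum.inl (Sum.inl i))) = b (Sum.inl (Sum.inr i))) ∧
      (∀ i, T (b (Sum.inl (Sum.inr i))) = z • b (Sum.inl (Sum.inl i))) ∧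
      (∀ i, T (b (Sum.inr i)) = ρ • b (Sum.inr i)) ∧
      (((∀ c : F, c * c ≠ z) ∧ l = 0) ∨ ((2 : F) = 0 ∧ ρ * ρ = z))) := by
  classical
  have fromMap : ∀ (C U : Submodule F V) (ρ : F), Function.Bijective (pairMap T C U) → (∀ u ∈ U, T u = ρ • u) →
      ∃ (k l : ℕ) (b : Module.Basis ((Fin k ⊕ Fin k) ⊕ Fin l) F V), l = Module.finrank F U ∧
      (∀ i, T (b (Sum.inl (Sum.inl i))) = b (Sum.inl (Sum.inr i))) ∧
      (∀ i, T (b (Sum.inl (Sum.inr i))) = z • b (Sum.inl (Sum.inl i))) ∧
      (∀ i, T (b (Sum.inr i)) = ρ • b (Sum.inr i)) := by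
    intro C U ρ hbij hU
    obtain ⟨b, hb⟩ : ∃ b, b = (((Module.finBasis F C).prod (Module.finBasis F C)).prod (Module.finBasis F U)).map
        (LinearEquiv.ofBijective (pairMap T C U) hbij) := ⟨_, rfl⟩
    have e1 : ∀ i, b (Sum.inl (Sum.inl i)) = (Module.finBasis F C i : V) := fun i => by
      rw [hb]; simp [Module.Basis.prod_apply, pairMap_apply]
    have e2 : ∀ i, b (Sum.inl (Sum.inr i)) = T (Module.finBasis F C i : V) := fun i => by
      rw [hb]; simp [Module.Basis.prod_apply, pairMap_apply]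
    have e3 : ∀ i, b (Sum.inr i) = (Module.finBasis F U i : V) := fun i => by
      rw [hb]; simp [Module.Basis.prod_apply, pairMap]
    exact ⟨_, _, b, rfl, fun i => by rw [e1, e2], fun i => by rw [e1, e2, hT],
      fun i => by rw [e3]; exact hU _ (Module.finBasis F U i).2⟩
  by_cases hsq : ∃ ρ : F, ρ * ρ = z
  · obtain ⟨ρ, hρ⟩ := hsq
    by_cases h2 : (2 : F) = 0
    · obtain ⟨C, U, hbij, hU⟩ := exists_pairs_char_two T (ρ := ρ) (by rw [hρ]; exact hT) h2
      obtain ⟨k, l, b, -, h⟩ := fromMap C U ρ hbij hU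
      exact Or.inr ⟨ρ, k, l, b, h.1, h.2.1, h.2.2, Or.inr ⟨h2, hρ⟩⟩
    have hρ0 : ρ ≠ 0 := fun h => hz (by rw [← hρ, h, zero_mul])
    left
    obtain ⟨A, hA⟩ : ∃ A, A = LinearMap.ker (T - ρ • LinearMap.id) := ⟨_, rfl⟩
    obtain ⟨B, hB⟩ : ∃ B, B = LinearMap.ker (T + ρ • LinearMap.id) := ⟨_, rfl⟩
    have hA' : ∀ v ∈ A, T v = ρ • v := fun v hv => by
      rw [hA] at hv; simpa [sub_eq_zero] using hv
    have hB' : ∀ v ∈ B, T v = (-ρ) • v := fun v hv => by
      rw [hB] at hv; rw [neg_smul]; exact eq_neg_of_add_eq_zero_left (by simpa using hv)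
    have hAB : IsCompl A B := by
      refine IsCompl.of_eq (Submodule.eq_bot_iff _ |>.2 fun v hv => ?_) (eq_top_iff.2 fun v _ => ?_)
      · have e1 := (hA' v hv.1).symm.trans (hB' v hv.2)
        have e2 : ((2 : F) * ρ) • v = 0 := by linear_combination (norm := module) e1
        exact (smul_eq_zero.1 e2).resolve_left (mul_ne_zero h2 hρ0)
      · have hne : (2 * ρ : F) ≠ 0 := mul_ne_zero h2 hρ0
        refine Submodule.mem_sup.2 ⟨(2 * ρ)⁻¹ • (ρ • v + T v), ?_, (2 * ρ)⁻¹ • (ρ • v - T v), ?_, ?_⟩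
        · rw [hA, LinearMap.mem_ker]
          simp only [LinearMap.sub_apply, LinearMap.smul_apply, LinearMap.id_coe, id_eq, map_smul, map_add, hT, ← hρ]
          module
        · rw [hB, LinearMap.mem_ker]
          simp only [LinearMap.add_apply, LinearMap.smul_apply, LinearMap.id_coe, id_eq, map_smul, map_sub, hT, ← hρ]
          module
        · rw [← smul_add, show ρ • v + T v + (ρ • v - T v) = (2 * ρ) • v by module, inv_smul_smul₀ hne]
    refine ⟨ρ, hρ, h2, _, _, ((Module.finBasis F A).prod (Module.finBasis F B)).map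
      (Submodule.prodEquivOfIsCompl A B hAB), fun i => ?_, fun i => ?_⟩
    · simp only [Module.Basis.map_apply, Module.Basis.prod_apply, Sum.elim_inl, Function.comp_apply, LinearMap.coe_inl,
        Submodule.coe_prodEquivOfIsCompl', ZeroMemClass.coe_zero, add_zero]
      exact hA' _ (Module.finBasis F A i).2
    · simp only [Module.Basis.map_apply, Module.Basis.prod_apply, Sum.elim_inr, Function.comp_apply, LinearMap.coe_inr,
        Submodule.coe_prodEquivOfIsCompl', ZeroMemClass.coe_zero, zero_add]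
      exact hB' _ (Module.finBasis F B i).2
  · push Not at hsq
    obtain ⟨C, hbij⟩ := exists_pairs_irred T hT hsq
    obtain ⟨k, l, b, hl, h⟩ := fromMap C ⊥ 0 hbij (fun u hu => by
      rw [(Submodule.mem_bot F).1 hu, map_zero, smul_zero])
    exact Or.inr ⟨0, k, l, b, h.1, h.2.1, h.2.2, Or.inl ⟨hsq, hl.trans (finrank_bot F V)⟩⟩

end CfsgLib.Perm.Elusive
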