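import Mathlib
import Cfsg.Prelude.Def_GeometricClasses
import Cfsg.Agent.Lib.Descent.Similitude
import Cfsg.Agent.Lib.Perm.Elusive.InvolBasis

/-!
# Maps which are sums of two-dimensional pieces of equal determinant are similitudes
-/

set_option autoImplicit false
set_option linter.all false

namespace CfsgLib.Perm.Elusive

open Matrix Cfsg.Geo

variable {F : Type*} [Field F] {ι : Type} [Fintype ι] [DecidableEq ι]

/-- the form as a bilinear map -/
def bilinMap {f : (ι → F) → (ι → F) → F} (hf : IsBilinearForm f) : (ι → F) →ₗ[F] (ι → F) →ₗ[F] F :=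
  LinearMap.mk₂ F f hf.add_left hf.smul_left hf.add_right hf.smul_right

/-- a basis in which a symplectic form is standard -/
theorem exists_hyperbolic_basis {f : (ι → F) → (ι → F) → F} (hf : IsSymplecticForm f) {d : ℕ}
    (e : ι ≃ Fin d ⊕ Fin d) : ∃ w : Module.Basis (Fin d ⊕ Fin d) F (ι → F),
      (∀ i j, f (w (Sum.inl i)) (w (Sum.inl j)) = 0) ∧ (∀ i j, f (w (Sum.inr i)) (w (Sum.inr j)) = 0) ∧
      (∀ i j, f (w (Sum.inl i)) (w (Sum.inr j)) = if i = j then -1 else 0) ∧
      (∀ i j, f (w (Sum.inr i)) (w (Sum.inl j)) = if i = j then 1 else 0) := by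
  obtain ⟨s, hs⟩ : ∃ s : Module.Basis (Fin d ⊕ Fin d) F (ι → F), s = (Pi.basisFun F ι).reindex e := ⟨_, rfl⟩
  obtain ⟨G, hG⟩ : ∃ G : Matrix (Fin d ⊕ Fin d) (Fin d ⊕ Fin d) F, G = Matrix.of fun a b => f (s a) (s b) := ⟨_, rfl⟩
  have hval : ∀ x y, x ⬝ᵥ (G *ᵥ y) = f (s.equivFun.symm x) (s.equivFun.symm y) := fun x y => by
    show _ = bilinMap hf.bilinear (s.equivFun.symm x) (s.equivFun.symm y)
    rw [Module.Basis.equivFun_symm_apply, Module.Basis.equivFun_symm_apply]
    simp only [map_sum, map_smul, LinearMap.sum_apply, LinearMap.smul_apply, smul_eq_mul, dotProduct, mulVec, hG,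
      Matrix.of_apply]
    simp only [Finset.mul_sum]
    rw [Finset.sum_comm]
    refine Finset.sum_congr rfl fun i _ => Finset.sum_congr rfl fun j _ => ?_
    show _ = _
    simp only [bilinMap, LinearMap.mk₂_apply]
    ring
  have hdet : G.det ≠ 0 := fun h0 => by
    obtain ⟨v, hv, hv0⟩ := Matrix.exists_mulVec_eq_zero_iff.2 h0
    obtain ⟨y, hy⟩ := (hf.nondegenerate (s.equivFun.symm v) (fun h => hv (s.equivFun.symm.injective (h.trans (map_zero _).symm)))).1
    refine hy ?_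
    rw [← s.equivFun.symm_apply_apply y, ← hval, hv0, dotProduct_zero]
  obtain ⟨C, hC⟩ := CfsgLib.Descent.exists_symplectic_basis G (fun x => by rw [hval]; exact hf.alternating _) hdet
  refine ⟨(Pi.basisFun F (Fin d ⊕ Fin d)).map ((LinearEquiv.ofBijective (Matrix.mulVecLin C.1)
      ⟨Matrix.mulVec_injective_iff_isUnit.2 (Units.isUnit C),
        Matrix.mulVec_surjective_iff_isUnit.2 (Units.isUnit C)⟩).trans s.equivFun.symm), ?_⟩
  have key : ∀ a b, f (s.equivFun.symm (C.1 *ᵥ Pi.single a 1)) (s.equivFun.symm (C.1 *ᵥ Pi.single b 1)) =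
      Matrix.J (Fin d) F a b := fun a b => by
    rw [← hval, ← hC]
    simp only [Matrix.mul_apply, dotProduct, mulVec, Matrix.transpose_apply, Pi.single_apply, mul_ite, mul_one, mul_zero,
      Finset.sum_ite_eq', Finset.mem_univ, if_true, Finset.mul_sum, Finset.sum_mul]
    rw [Finset.sum_comm]
    refine Finset.sum_congr rfl fun i _ => Finset.sum_congr rfl fun j _ => ?_
    ring
  have hw : ∀ a, ((Pi.basisFun F (Fin d ⊕ Fin d)).map ((LinearEquiv.ofBijective (Matrix.mulVecLin C.1)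
      ⟨Matrix.mulVec_injective_iff_isUnit.2 (Units.isUnit C),
        Matrix.mulVec_surjective_iff_isUnit.2 (Units.isUnit C)⟩).trans s.equivFun.symm)) a =
      s.equivFun.symm (C.1 *ᵥ Pi.single a 1) := fun a => by
    rw [Module.Basis.map_apply, Pi.basisFun_apply]; rfl
  refine ⟨fun i j => ?_, fun i j => ?_, fun i j => ?_, fun i j => ?_⟩ <;>
    rw [hw, hw, key] <;>
    simp [Matrix.J, Matrix.one_apply] <;> split_ifs <;> simp

/-- conjugation into a similarity group by an element of determinant one -/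
theorem exists_sl_conj_similitude {f : (ι → F) → (ι → F) → F} (hf : IsSymplecticForm f)
    (x : Matrix.SpecialLinearGroup ι F) {d : ℕ} (hd : 0 < d) (e : ι ≃ Fin d ⊕ Fin d)
    (b : Module.Basis (Fin d ⊕ Fin d) F (ι → F)) (A B C E : Fin d → F) {μ : F} (hμ : μ ≠ 0)
    (hdet : ∀ i, A i * E i - B i * C i = μ)
    (hl : ∀ i, (x : Matrix ι ι F) *ᵥ b (Sum.inl i) = A i • b (Sum.inl i) + C i • b (Sum.inr i))
    (hr : ∀ i, (x : Matrix ι ι F) *ᵥ b (Sum.inr i) = B i • b (Sum.inl i) + E i • b (Sum.inr i)) :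
    ∃ P : Matrix.SpecialLinearGroup ι F,
      Matrix.SpecialLinearGroup.toGL (P⁻¹ * x * P) ∈ similarityGroup f := by
  obtain ⟨w, hw⟩ := exists_hyperbolic_basis hf e
  obtain ⟨i₀⟩ : Nonempty (Fin d) := ⟨⟨0, hd⟩⟩
  have hdet0 : LinearMap.det (w.equiv b (Equiv.refl _) : (ι → F) →ₗ[F] (ι → F)) ≠ 0 :=
    (LinearEquiv.isUnit_det' (w.equiv b (Equiv.refl _))).ne_zero
  obtain ⟨lam, hlam⟩ : ∃ lam, lam = (LinearMap.det (w.equiv b (Equiv.refl _) : (ι → F) →ₗ[F] (ι → F)))⁻¹ := ⟨_, rfl⟩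
  have hlam0 : lam ≠ 0 := hlam ▸ inv_ne_zero hdet0
  -- the scaled basis
  obtain ⟨S, hS⟩ : ∃ S : (ι → F) →ₗ[F] (ι → F),
      S = b.constr F (Function.update (b : Fin d ⊕ Fin d → (ι → F)) (Sum.inl i₀) (lam • b (Sum.inl i₀))) := ⟨_, rfl⟩
  have hSdet : LinearMap.det S = lam := by
    have h1 := b.det_comp S b
    rw [b.det_self, mul_one] at h1
    rw [← h1, show S ∘ (b : Fin d ⊕ Fin d → (ι → F)) =
      Function.update (b : Fin d ⊕ Fin d → (ι → F)) (Sum.inl i₀) (lam • b (Sum.inl i₀)) from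
        funext fun i => by rw [hS, Function.comp_apply, Module.Basis.constr_basis],
      AlternatingMap.map_update_smul, Function.update_eq_self, b.det_self, smul_eq_mul, mul_one]
  obtain ⟨Pl, hPl⟩ : ∃ Pl : (ι → F) →ₗ[F] (ι → F), Pl = S.comp (w.equiv b (Equiv.refl _) : (ι → F) →ₗ[F] (ι → F)) :=
    ⟨_, rfl⟩
  have hP1 : LinearMap.det Pl = 1 := by
    rw [hPl, LinearMap.det_comp, hSdet, hlam, inv_mul_cancel₀ hdet0]
  obtain ⟨lv, hlv⟩ : ∃ lv : Fin d → F, lv = Function.update (fun _ => 1) i₀ lam := ⟨_, rfl⟩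
  have hlv0 : ∀ i, lv i ≠ 0 := fun i => by
    rw [hlv, Function.update_apply]; split_ifs
    · exact hlam0
    · exact one_ne_zero
  have hPinl : ∀ i, Pl (w (Sum.inl i)) = lv i • b (Sum.inl i) := fun i => by
    rw [hPl, LinearMap.comp_apply, LinearEquiv.coe_coe, Module.Basis.equiv_apply, Equiv.refl_apply, hS,
      Module.Basis.constr_basis, hlv]
    rcases eq_or_ne i i₀ with rfl | h
    · rw [Function.update_self, Function.update_self]
    · rw [Function.update_of_ne (fun e => h (Sum.inl_injective e)), Function.update_of_ne h, one_smul]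
  have hPinr : ∀ i, Pl (w (Sum.inr i)) = b (Sum.inr i) := fun i => by
    rw [hPl, LinearMap.comp_apply, LinearEquiv.coe_coe, Module.Basis.equiv_apply, Equiv.refl_apply, hS,
      Module.Basis.constr_basis, Function.update_of_ne (by simp)]
  obtain ⟨P, hP⟩ : ∃ P : Matrix.SpecialLinearGroup ι F, (P : Matrix ι ι F) = LinearMap.toMatrix' Pl :=
    ⟨⟨LinearMap.toMatrix' Pl, by rw [LinearMap.det_toMatrix', hP1]⟩, rfl⟩
  have hPv : ∀ v, (P : Matrix ι ι F) *ᵥ v = Pl v := fun v => by rw [hP, LinearMap.toMatrix'_mulVec]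
  obtain ⟨Y, hY⟩ : ∃ Y : Matrix ι ι F, Y = ((P⁻¹ * x * P : Matrix.SpecialLinearGroup ι F) : Matrix ι ι F) := ⟨_, rfl⟩
  have hback : ∀ v u, (x : Matrix ι ι F) *ᵥ Pl v = Pl u → Y *ᵥ v = u := by
    intro v u h
    rw [hY, Matrix.SpecialLinearGroup.coe_mul, Matrix.SpecialLinearGroup.coe_mul, ← Matrix.mulVec_mulVec,
      ← Matrix.mulVec_mulVec, hPv, h, ← hPv, Matrix.mulVec_mulVec, ← Matrix.SpecialLinearGroup.coe_mul,
      inv_mul_cancel, Matrix.SpecialLinearGroup.coe_one, Matrix.one_mulVec]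
  have hwl : ∀ i, Y *ᵥ w (Sum.inl i) = A i • w (Sum.inl i) + (lv i * C i) • w (Sum.inr i) := fun i => hback _ _ (by
    rw [hPinl, mulVec_smul, hl, map_add, map_smul, map_smul, hPinl, hPinr, smul_add, smul_smul, smul_smul, smul_smul,
      mul_comm (lv i) (A i)])
  have hwr : ∀ i, Y *ᵥ w (Sum.inr i) = (B i / lv i) • w (Sum.inl i) + E i • w (Sum.inr i) := fun i => hback _ _ (by
    rw [hPinr, hr, map_add, map_smul, map_smul, hPinl, hPinr, smul_smul, div_mul_cancel₀ _ (hlv0 i)])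
  refine ⟨P, Units.mk0 μ hμ, fun u v => ?_⟩
  show f (((P⁻¹ * x * P : Matrix.SpecialLinearGroup ι F) : Matrix ι ι F) *ᵥ u)
      (((P⁻¹ * x * P : Matrix.SpecialLinearGroup ι F) : Matrix ι ι F) *ᵥ v) = μ * f u v
  rw [← hY]
  have heq : (bilinMap hf.bilinear).compl₁₂ (Matrix.mulVecLin Y) (Matrix.mulVecLin Y) = μ • bilinMap hf.bilinear := by
    refine w.ext fun a => w.ext fun a' => ?_
    show f (Y *ᵥ w a) (Y *ᵥ w a') = μ * f (w a) (w a')
    obtain ⟨h1, h2, h3, h4⟩ := hw
    have hb := hf.bilinear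
    rcases a with i | i <;> rcases a' with j | j <;>
      simp only [hwl, hwr, hb.add_left, hb.add_right, hb.smul_left, hb.smul_right, h1, h2, h3, h4] <;>
      split_ifs with hij hji hji <;> try subst hij
    all_goals first
      | ring1
      | (simp only [div_eq_mul_inv]; linear_combination (B i * C i) * (mul_inv_cancel₀ (hlv0 i)) - hdet i)
      | (simp only [div_eq_mul_inv]; linear_combination hdet i - (B i * C i) * (mul_inv_cancel₀ (hlv0 i)))
      | (have := hdet i; field_simp [hlv0 i]; linear_combination -this)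
      | (have := hdet i; field_simp [hlv0 i]; linear_combination this)
      | exact absurd (Eq.symm hji) hij
      | simp_all
  exact LinearMap.congr_fun (LinearMap.congr_fun heq u) v

end CfsgLib.Perm.Elusive
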