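import Mathlib

/-!
# Three by three matrices of determinant one with scalar cube
-/

set_option autoImplicit false
set_option linter.all false

namespace CfsgLib.Perm.Elusive

open Matrix

variable {F : Type*} [Field F]

theorem indep_three {V : Type*} [AddCommGroup V] [Module F V] {v w u : V} (hvw : LinearIndependent F ![v, w])
    (hu : u ∉ Submodule.span F {v, w}) : LinearIndependent F ![v, w, u] := by
  rw [Fintype.linearIndependent_iff]
  intro g hg
  simp [Fin.sum_univ_three] at hg
  have h2 : g 2 = 0 := by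
    by_contra h2
    refine hu (Submodule.mem_span_pair.2 ⟨-(g 2)⁻¹ * g 0, -(g 2)⁻¹ * g 1, ?_⟩)
    rw [← inv_smul_smul₀ h2 u, eq_neg_of_add_eq_zero_right hg]
    module
  rw [h2, zero_smul, add_zero] at hg
  obtain ⟨h0, h1⟩ := (LinearIndependent.pair_iff.1 hvw) _ _ hg
  intro i
  fin_cases i <;> assumption

/-- no repeated eigenvalue outside the scalars -/
theorem eigen_single {x : Matrix (Fin 3) (Fin 3) F} (h3 : (3 : F) ≠ 0) (hdet : x.det = 1) (hx : x * x * x = 1)
    {μ : F} {v w : Fin 3 → F} (hv : x *ᵥ v = μ • v) (hw : x *ᵥ w = μ • w) (hvw : LinearIndependent F ![v, w]) :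
    x = μ • 1 := by
  classical
  obtain ⟨u, hu⟩ : ∃ u : Fin 3 → F, u ∉ Submodule.span F {v, w} := by
    by_contra hall
    push Not at hall
    have h : Module.finrank F (Submodule.span F ({v, w} : Set (Fin 3 → F))) ≤ 2 := by
      refine le_trans (finrank_span_le_card _) ?_
      rw [Set.toFinset_insert, Set.toFinset_singleton]
      exact Finset.card_le_two
    rw [Submodule.eq_top_iff'.2 hall, finrank_top, Module.finrank_fin_fun] at h
    omega
  have hli := indep_three hvw hu
  obtain ⟨b, hb⟩ : ∃ b : Module.Basis (Fin 3) F (Fin 3 → F), ∀ i, b i = ![v, w, u] i :=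
    ⟨basisOfLinearIndependentOfCardEqFinrank hli (by simp), fun i => by simp⟩
  have hb0 : b 0 = v := hb 0
  have hb1 : b 1 = w := hb 1
  have hb2 : b 2 = u := hb 2
  obtain ⟨s, t, a, hua⟩ : ∃ s t a : F, x *ᵥ u = s • v + t • w + a • u :=
    ⟨b.repr (x *ᵥ u) 0, b.repr (x *ᵥ u) 1, b.repr (x *ᵥ u) 2, by
      conv_lhs => rw [← b.sum_repr (x *ᵥ u), Fin.sum_univ_three, hb0, hb1, hb2]⟩
  have hM : LinearMap.toMatrix b b (Matrix.toLin' x) = !![μ, 0, s; 0, μ, t; 0, 0, a] := by
    ext i j
    rw [LinearMap.toMatrix_apply, Matrix.toLin'_apply]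
    fin_cases j
    · rw [show b ((fun i => i) ⟨0, by norm_num⟩) = v from hb0, hv, ← hb0]
      fin_cases i <;> simp
    · rw [show b ((fun i => i) ⟨1, by norm_num⟩) = w from hb1, hw, ← hb1]
      fin_cases i <;> simp
    · rw [show b ((fun i => i) ⟨2, by norm_num⟩) = u from hb2, hua, ← hb0, ← hb1, ← hb2]
      fin_cases i <;> simp
  have hd : μ * μ * a = 1 := by
    have h : (LinearMap.toMatrix b b (Matrix.toLin' x)).det = 1 := by
      rw [LinearMap.det_toMatrix, LinearMap.det_toLin', hdet]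
    rw [hM, Matrix.det_fin_three] at h
    simpa using h
  have hM3 : LinearMap.toMatrix b b (Matrix.toLin' x) * LinearMap.toMatrix b b (Matrix.toLin' x) *
      LinearMap.toMatrix b b (Matrix.toLin' x) = 1 := by
    rw [← LinearMap.toMatrix_comp, ← LinearMap.toMatrix_comp, ← Matrix.toLin'_mul, ← Matrix.toLin'_mul, hx,
      Matrix.toLin'_one, LinearMap.toMatrix_id]
  rw [hM] at hM3
  have e00 := congrFun (congrFun hM3 0) 0
  have e02 := congrFun (congrFun hM3 0) 2
  have e12 := congrFun (congrFun hM3 1) 2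
  simp [Matrix.mul_apply, Fin.sum_univ_three] at e00 e02 e12
  have ha : a = μ := by linear_combination (-a) * e00 + μ * hd
  subst ha
  have hμ : a ≠ 0 := fun h => by simp [h] at e00
  have hne : 3 * (a * a) ≠ 0 := mul_ne_zero h3 (mul_ne_zero hμ hμ)
  have hs : s = 0 := (mul_eq_zero.1 (show (3 * (a * a)) * s = 0 by linear_combination e02)).resolve_left hne
  have ht : t = 0 := (mul_eq_zero.1 (show (3 * (a * a)) * t = 0 by linear_combination e12)).resolve_left hne
  refine Matrix.toLin'.injective (b.ext fun i => ?_)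
  rw [Matrix.toLin'_apply, map_smul, Matrix.toLin'_one]
  fin_cases i
  · rw [show b ((fun i => i) ⟨0, by norm_num⟩) = v from hb0]; simpa using hv
  · rw [show b ((fun i => i) ⟨1, by norm_num⟩) = w from hb1]; simpa using hw
  · rw [show b ((fun i => i) ⟨2, by norm_num⟩) = u from hb2, hua, hs, ht]; simp

/-- an eigenbasis for the three cube roots of one -/
theorem exists_eigenbasis_three {x : Matrix (Fin 3) (Fin 3) F} (h3 : (3 : F) ≠ 0) {om : F} (hom : om * om + om + 1 = 0)
    (hx : x * x * x = 1) (hsingle : ∀ μ : F, ∀ v w, x *ᵥ v = μ • v → x *ᵥ w = μ • w → ¬ LinearIndependent F ![v, w]) :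
    ∃ b : Module.Basis (Fin 3) F (Fin 3 → F), ∀ i, x *ᵥ b i = om ^ (i : ℕ) • b i := by
  classical
  have hom3 : om * om * om = 1 := by linear_combination (om - 1) * hom
  obtain ⟨E, hE⟩ : ∃ E : Fin 3 → Submodule F (Fin 3 → F),
      ∀ j v, v ∈ E j ↔ x *ᵥ v = om ^ (j : ℕ) • v :=
    ⟨fun j => LinearMap.ker (Matrix.toLin' x - (om ^ (j : ℕ)) • LinearMap.id),
      fun j v => by simp [sub_eq_zero]⟩
  have hx3 : ∀ v, x *ᵥ (x *ᵥ (x *ᵥ v)) = v := fun v => by
    rw [mulVec_mulVec, mulVec_mulVec, hx, one_mulVec]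
  have htop : E 0 ⊔ E 1 ⊔ E 2 = ⊤ := by
    refine Submodule.eq_top_iff'.2 fun v => ?_
    rw [← inv_smul_smul₀ h3 v]
    refine Submodule.smul_mem _ _ ?_
    rw [show (3 : F) • v = (v + x *ᵥ v + x *ᵥ (x *ᵥ v)) + (v + (om * om) • (x *ᵥ v) + om • (x *ᵥ (x *ᵥ v))) +
      (v + om • (x *ᵥ v) + (om * om) • (x *ᵥ (x *ᵥ v))) by
        match_scalars <;> first | ring1 | linear_combination -hom]
    refine Submodule.add_mem_sup (Submodule.add_mem_sup ?_ ?_) ?_
    · rw [hE]
      simp only [mulVec_add, hx3, Fin.val_zero, pow_zero, one_smul]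
      abel
    · rw [hE]
      simp only [mulVec_add, mulVec_smul, hx3, Fin.val_one, pow_one]
      match_scalars <;> first | ring1 | linear_combination -hom3 | linear_combination hom3
    · rw [hE]
      simp only [mulVec_add, mulVec_smul, hx3, Fin.val_two]
      match_scalars <;> first | ring1 | linear_combination -hom3 | linear_combination hom3 | linear_combination (-om) * hom3 | linear_combination om * hom3
  have hle : ∀ j, Module.finrank F (E j) ≤ 1 := fun j => by
    by_contra h
    push Not at h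
    obtain ⟨f, hf⟩ := exists_linearIndependent_of_le_finrank (R := F) (M := E j) (n := 2) h
    refine hsingle (om ^ (j : ℕ)) (f 0 : Fin 3 → F) (f 1) ((hE j _).1 (f 0).2) ((hE j _).1 (f 1).2) ?_
    have := hf.map' (E j).subtype (E j).ker_subtype
    rw [show ![(f 0 : Fin 3 → F), (f 1 : Fin 3 → F)] = (E j).subtype ∘ f by funext i; fin_cases i <;> rfl]
    exact this
  have hne : ∀ j, ∃ e ∈ E j, e ≠ 0 := by
    by_contra hcon
    push Not at hcon
    obtain ⟨j, hj⟩ := hcon
    have hj0 : Module.finrank F (E j) = 0 := Submodule.finrank_eq_zero.2 ((Submodule.eq_bot_iff _).2 hj)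
    have h1 := Submodule.finrank_add_le_finrank_add_finrank (E 0 ⊔ E 1) (E 2)
    have h2 := Submodule.finrank_add_le_finrank_add_finrank (E 0) (E 1)
    rw [htop, finrank_top, Module.finrank_fin_fun] at h1
    have := hle 0
    have := hle 1
    have := hle 2
    fin_cases j
    · change Module.finrank F (E 0) = 0 at hj0; omega
    · change Module.finrank F (E 1) = 0 at hj0; omega
    · change Module.finrank F (E 2) = 0 at hj0; omega
  choose e he he0 using hne
  have hinj : Function.Injective fun j : Fin 3 => om ^ (j : ℕ) := by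
    have h1 : om ≠ 1 := fun h => h3 (by rw [h] at hom; linear_combination hom)
    have h2 : om ^ 2 ≠ 1 := fun h => h1 (by linear_combination hom3 - om * h)
    have h12 : om ≠ om ^ 2 := fun h => h1 (by linear_combination hom3 + (om + 1) * h)
    intro i j hij
    simp only at hij
    fin_cases i <;> fin_cases j <;> simp [-sq_eq_one_iff] at hij ⊢
    exacts [h1 hij.symm, h2 hij.symm, h1 hij, h12 hij, h2 hij, h12 hij.symm]
  have hli : LinearIndependent F e :=
    Module.End.eigenvectors_linearIndependent' (Matrix.toLin' x) (fun j : Fin 3 => om ^ (j : ℕ)) hinj e fun j =>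
      ⟨Module.End.mem_eigenspace_iff.2 (by rw [Matrix.toLin'_apply]; exact (hE j _).1 (he j)), he0 j⟩
  exact ⟨basisOfLinearIndependentOfCardEqFinrank hli (by simp), fun i => by simpa using (hE i _).1 (he i)⟩

/-- without an eigenvalue the cube is the determinant -/
theorem det_eq_of_no_root {x : Matrix (Fin 3) (Fin 3) F} {z : F} (hx : x * x * x = z • 1)
    (hz : ∀ l : F, l * l * l ≠ z) : x.det = z := by
  classical
  obtain ⟨v, hv⟩ : ∃ v : Fin 3 → F, v = Pi.single 0 1 := ⟨_, rfl⟩
  have hv0 : v ≠ 0 := by rw [hv]; simp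
  have hx3 : ∀ v, x *ᵥ (x *ᵥ (x *ᵥ v)) = z • v := fun v => by
    rw [mulVec_mulVec, mulVec_mulVec, hx, smul_mulVec, one_mulVec]
  have hno : ∀ u : Fin 3 → F, u ≠ 0 → ∀ l : F, x *ᵥ u ≠ l • u := fun u hu l h => by
    have e := hx3 u
    rw [h, mulVec_smul, h, mulVec_smul, mulVec_smul, h, smul_smul, smul_smul] at e
    exact hz l (smul_left_injective F hu e)
  have h01 : LinearIndependent F ![v, x *ᵥ v] := by
    rw [LinearIndependent.pair_iff]
    intro s t h
    by_cases ht : t = 0
    · rw [ht, zero_smul, add_zero] at h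
      exact ⟨(smul_eq_zero.1 h).resolve_right hv0, ht⟩
    · refine absurd ?_ (hno v hv0 (-s / t))
      rw [div_eq_inv_mul, ← smul_smul, neg_smul, ← eq_neg_of_add_eq_zero_right h, inv_smul_smul₀ ht]
  have h2 : x *ᵥ (x *ᵥ v) ∉ Submodule.span F {v, x *ᵥ v} := by
    intro h
    obtain ⟨a, b, hab⟩ := Submodule.mem_span_pair.1 h
    have e := hx3 v
    rw [← hab, mulVec_add, mulVec_smul, mulVec_smul, ← hab] at e
    have e' : (a * b - z) • v + (a + b * b) • (x *ᵥ v) = 0 := by linear_combination (norm := module) e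
    obtain ⟨e1, e2⟩ := LinearIndependent.pair_iff.1 h01 _ _ e'
    exact hz (-b) (by linear_combination e1 - b * e2)
  have hli := indep_three h01 h2
  obtain ⟨b, hb⟩ : ∃ b : Module.Basis (Fin 3) F (Fin 3 → F), ∀ i, b i = ![v, x *ᵥ v, x *ᵥ (x *ᵥ v)] i :=
    ⟨basisOfLinearIndependentOfCardEqFinrank hli (by simp), fun i => by simp⟩
  have hb0 : b 0 = v := hb 0
  have hb1 : b 1 = x *ᵥ v := hb 1
  have hb2 : b 2 = x *ᵥ (x *ᵥ v) := hb 2
  have hM : LinearMap.toMatrix b b (Matrix.toLin' x) = !![0, 0, z; 1, 0, 0; 0, 1, 0] := by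
    ext i j
    rw [LinearMap.toMatrix_apply, Matrix.toLin'_apply]
    fin_cases j
    · rw [show b ((fun i => i) ⟨0, by norm_num⟩) = v from hb0, ← hb1]
      fin_cases i <;> simp
    · rw [show b ((fun i => i) ⟨1, by norm_num⟩) = x *ᵥ v from hb1, ← hb2]
      fin_cases i <;> simp
    · rw [show b ((fun i => i) ⟨2, by norm_num⟩) = x *ᵥ (x *ᵥ v) from hb2, hx3, ← hb0]
      fin_cases i <;> simp
  rw [← LinearMap.det_toLin', ← LinearMap.det_toMatrix b, hM, Matrix.det_fin_three]
  simp

end CfsgLib.Perm.Elusive
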