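import Mathlib
import Cfsg.Prelude.Def_GeometricClasses
import Cfsg.Agent.Lib.Perm.Elusive.OrderThree
import Cfsg.Agent.Lib.PGroup.MetacyclicOmega

/-!
# The extraspecial group of order twenty-seven in three dimensions
-/

set_option autoImplicit false
set_option linter.all false

namespace CfsgLib.Perm.Elusive

open Matrix

variable {F : Type*} [Field F]

theorem mul_cols_of_eigen {n : ℕ} (A : Matrix (Fin n) (Fin n) F) (e : Fin n → Fin n → F) (d : Fin n → F)
    (h : ∀ j, A *ᵥ e j = d j • e j) :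
    A * (Matrix.of fun i j => e j i) = (Matrix.of fun i j => e j i) * Matrix.diagonal d := by
  ext i j
  have hij := congrFun (h j) i
  simp only [Matrix.mulVec, dotProduct, Pi.smul_apply, smul_eq_mul] at hij
  rw [Matrix.mul_diagonal]
  simp only [Matrix.mul_apply, Matrix.of_apply]
  rw [hij, mul_comm]

theorem det_of_eigenbasis {n : ℕ} {A : Matrix (Fin n) (Fin n) F} {d : Fin n → F}
    (b : Module.Basis (Fin n) F (Fin n → F)) (h : ∀ j, A *ᵥ b j = d j • b j) : A.det = ∏ j, d j := by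
  have hu : IsUnit (Matrix.of fun i j => b j i) :=
    Matrix.linearIndependent_cols_iff_isUnit.1 b.linearIndependent
  have := congrArg Matrix.det (mul_cols_of_eigen A (fun j => b j) d h)
  rw [Matrix.det_mul, Matrix.det_mul, Matrix.det_diagonal, mul_comm] at this
  exact mul_left_cancel₀ ((Matrix.isUnit_iff_isUnit_det _).1 hu).ne_zero this

/-- elements with the same diagonal form are conjugate inside the special linear group -/
theorem exists_conj_of_eigenbasis (x P W : GL (Fin 3) F) (d : Fin 3 → F)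
    (b : Module.Basis (Fin 3) F (Fin 3 → F)) (h : ∀ j, (x : Matrix (Fin 3) (Fin 3) F) *ᵥ b j = d j • b j)
    (hW : (W : Matrix (Fin 3) (Fin 3) F) = Matrix.diagonal d) :
    ∃ g ∈ Cfsg.Geo.specialLinear (Fin 3) F, g⁻¹ * x * g = P * W * P⁻¹ := by
  have hu : IsUnit (Matrix.of fun i j => b j i) :=
    Matrix.linearIndependent_cols_iff_isUnit.1 b.linearIndependent
  obtain ⟨B, hB⟩ := hu
  have hxB : x * B = B * W := Units.ext (by
    rw [Units.val_mul, Units.val_mul, hB, hW]; exact mul_cols_of_eigen _ _ _ h)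
  obtain ⟨δ, hδ⟩ : ∃ δ : Fˣ, δ = Matrix.GeneralLinearGroup.det P * (Matrix.GeneralLinearGroup.det B)⁻¹ := ⟨_, rfl⟩
  obtain ⟨C, hC⟩ : ∃ C : GL (Fin 3) F, (C : Matrix (Fin 3) (Fin 3) F) = Matrix.diagonal ![(δ : F), 1, 1] :=
    ⟨Matrix.GeneralLinearGroup.mkOfDetNeZero (Matrix.diagonal ![(δ : F), 1, 1]) (by
      rw [Matrix.det_diagonal, Fin.prod_univ_three]; simp), rfl⟩
  have hCW : C * W = W * C := Units.ext (by
    rw [Units.val_mul, Units.val_mul, hC, hW, Matrix.diagonal_mul_diagonal, Matrix.diagonal_mul_diagonal]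
    congr 1; funext i; exact mul_comm _ _)
  have hCd : Matrix.GeneralLinearGroup.det C = δ := Units.ext (by
    rw [Matrix.GeneralLinearGroup.val_det_apply, hC, Matrix.det_diagonal, Fin.prod_univ_three]; simp)
  refine ⟨B * C * P⁻¹, ?_, ?_⟩
  · show Matrix.GeneralLinearGroup.det (B * C * P⁻¹) = 1
    rw [map_mul, map_mul, map_inv, hCd, hδ]
    simp [mul_left_comm]
  · calc (B * C * P⁻¹)⁻¹ * x * (B * C * P⁻¹) = P * C⁻¹ * B⁻¹ * (x * B) * C * P⁻¹ := by group
      _ = P * C⁻¹ * (W * C) * P⁻¹ := by rw [hxB]; group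
      _ = P * W * P⁻¹ := by rw [← hCW]; group

/-- a double eigenvalue -/
theorem exists_double_basis {x : Matrix (Fin 3) (Fin 3) F} {α : F} {v w : Fin 3 → F}
    (hv : x *ᵥ v = α • v) (hw : x *ᵥ w = α • w) (hvw : LinearIndependent F ![v, w])
    (hdet : x.det ≠ α * α * α) :
    ∃ a : F, α * α * a = x.det ∧ ∃ b : Module.Basis (Fin 3) F (Fin 3 → F), ∀ i, x *ᵥ b i = ![α, α, a] i • b i := by
  classical
  obtain ⟨u, hu⟩ : ∃ u : Fin 3 → F, u ∉ Submodule.span F {v, w} := by
    by_contra hall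
    push Not at hall
    have h : Module.finrank F (Submodule.span F ({v, w} : Set (Fin 3 → F))) ≤ 2 := by
      refine le_trans (finrank_span_le_card _) ?_
      rw [Set.toFinset_insert, Set.toFinset_singleton]
      exact Finset.card_le_two
    rw [Submodule.eq_top_iff'.2 hall, finrank_top, Module.finrank_fin_fun] at h
    omega
  obtain ⟨b, hb⟩ : ∃ b : Module.Basis (Fin 3) F (Fin 3 → F), ∀ i, b i = ![v, w, u] i :=
    ⟨basisOfLinearIndependentOfCardEqFinrank (indep_three hvw hu) (by simp), fun i => by simp⟩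
  have hb0 : b 0 = v := hb 0
  have hb1 : b 1 = w := hb 1
  have hb2 : b 2 = u := hb 2
  obtain ⟨s, t, a, hua⟩ : ∃ s t a : F, x *ᵥ u = s • v + t • w + a • u :=
    ⟨b.repr (x *ᵥ u) 0, b.repr (x *ᵥ u) 1, b.repr (x *ᵥ u) 2, by
      conv_lhs => rw [← b.sum_repr (x *ᵥ u), Fin.sum_univ_three, hb0, hb1, hb2]⟩
  have hM : LinearMap.toMatrix b b (Matrix.toLin' x) = !![α, 0, s; 0, α, t; 0, 0, a] := by
    ext i j
    rw [LinearMap.toMatrix_apply, Matrix.toLin'_apply]
    fin_cases j
    · rw [show b ((fun i => i) ⟨0, by norm_num⟩) = v from hb0, hv, ← hb0]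
      fin_cases i <;> simp
    · rw [show b ((fun i => i) ⟨1, by norm_num⟩) = w from hb1, hw, ← hb1]
      fin_cases i <;> simp
    · rw [show b ((fun i => i) ⟨2, by norm_num⟩) = u from hb2, hua, ← hb0, ← hb1, ← hb2]
      fin_cases i <;> simp
  have hd : α * α * a = x.det := by
    rw [← LinearMap.det_toLin', ← LinearMap.det_toMatrix b, hM, Matrix.det_fin_three]
    simp
  have ha : a - α ≠ 0 := fun h => hdet (by rw [← hd, sub_eq_zero.1 h])
  refine ⟨a, hd, ?_⟩
  obtain ⟨u', hu'd⟩ : ∃ u', u' = (s / (a - α)) • v + (t / (a - α)) • w + u := ⟨_, rfl⟩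
  have hu' : u' ∉ Submodule.span F {v, w} := fun h => hu (by
    rw [show u = u' - ((s / (a - α)) • v + (t / (a - α)) • w) by rw [hu'd]; abel]
    exact sub_mem h (Submodule.mem_span_pair.2 ⟨_, _, rfl⟩))
  refine ⟨basisOfLinearIndependentOfCardEqFinrank (indep_three hvw hu') (by simp), fun i => ?_⟩
  simp only [coe_basisOfLinearIndependentOfCardEqFinrank]
  fin_cases i
  · simpa using hv
  · simpa using hw
  · show x *ᵥ u' = a • u'
    rw [hu'd, mulVec_add, mulVec_add, mulVec_smul, mulVec_smul, hv, hw, hua]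
    match_scalars <;> field_simp <;> ring

/-- involutions of determinant one -/
theorem exists_involution_basis {x : Matrix (Fin 3) (Fin 3) F} (h2 : (2 : F) ≠ 0) (hx : x * x = 1) (hdet : x.det = 1)
    (h1 : x ≠ 1) :
    ∃ b : Module.Basis (Fin 3) F (Fin 3 → F), ∀ i, x *ᵥ b i = ![(-1 : F), -1, 1] i • b i := by
  classical
  obtain ⟨Em, hEm⟩ : ∃ E : Submodule F (Fin 3 → F), ∀ v, v ∈ E ↔ x *ᵥ v = (-1 : F) • v :=
    ⟨LinearMap.ker (Matrix.toLin' x + LinearMap.id), fun v => by simp [add_eq_zero_iff_eq_neg]⟩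
  obtain ⟨Ep, hEp⟩ : ∃ E : Submodule F (Fin 3 → F), ∀ v, v ∈ E ↔ x *ᵥ v = v :=
    ⟨LinearMap.ker (Matrix.toLin' x - LinearMap.id), fun v => by simp [sub_eq_zero]⟩
  have htop : Em ⊔ Ep = ⊤ := by
    refine Submodule.eq_top_iff'.2 fun v => ?_
    rw [← inv_smul_smul₀ h2 v]
    refine Submodule.smul_mem _ _ ?_
    rw [show (2 : F) • v = (v - x *ᵥ v) + (v + x *ᵥ v) by module]
    refine Submodule.add_mem_sup ?_ ?_
    · rw [hEm, mulVec_sub, mulVec_mulVec, hx, one_mulVec]; module
    · rw [hEp, mulVec_add, mulVec_mulVec, hx, one_mulVec]; abel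
  have h3 := Submodule.finrank_add_le_finrank_add_finrank Em Ep
  rw [htop, finrank_top, Module.finrank_fin_fun] at h3
  by_cases hm : 2 ≤ Module.finrank F Em
  · obtain ⟨f, hf⟩ := exists_linearIndependent_of_le_finrank (R := F) (M := Em) (n := 2) hm
    have hli := hf.map' Em.subtype Em.ker_subtype
    have hvw : LinearIndependent F ![(f 0 : Fin 3 → F), (f 1 : Fin 3 → F)] := by
      rw [show ![(f 0 : Fin 3 → F), (f 1 : Fin 3 → F)] = Em.subtype ∘ f by funext i; fin_cases i <;> rfl]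
      exact hli
    obtain ⟨a, ha, b, hb⟩ := exists_double_basis ((hEm _).1 (f 0).2) ((hEm _).1 (f 1).2) hvw (by
      rw [hdet]; exact fun h => h2 (by linear_combination h))
    rw [hdet] at ha
    have ha1 : a = 1 := by linear_combination ha
    subst ha1
    exact ⟨b, hb⟩
  · exfalso
    obtain ⟨f, hf⟩ := exists_linearIndependent_of_le_finrank (R := F) (M := Ep) (n := 2) (by omega)
    have hli := hf.map' Ep.subtype Ep.ker_subtype
    have hvw : LinearIndependent F ![(f 0 : Fin 3 → F), (f 1 : Fin 3 → F)] := by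
      rw [show ![(f 0 : Fin 3 → F), (f 1 : Fin 3 → F)] = Ep.subtype ∘ f by funext i; fin_cases i <;> rfl]
      exact hli
    obtain ⟨u, hu, hu0⟩ : ∃ u ∈ Em, u ≠ 0 := by
      by_contra hcon
      push Not at hcon
      refine h1 (Matrix.ext_of_mulVec_single fun i => ?_)
      have : Pi.single i (1 : F) ∈ Em ⊔ Ep := htop ▸ Submodule.mem_top
      obtain ⟨m, hm', q, hq, e⟩ := Submodule.mem_sup.1 this
      rw [hcon m hm', zero_add] at e
      rw [← e, (hEp q).1 hq, one_mulVec]
    have hus : u ∉ Submodule.span F {(f 0 : Fin 3 → F), (f 1 : Fin 3 → F)} := fun h => by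
      have hp : u ∈ Ep := Submodule.span_le.2 (by
        rintro _ (rfl | rfl)
        · exact (f 0).2
        · exact (f 1).2) h
      have e := ((hEp u).1 hp).symm.trans ((hEm u).1 hu)
      exact hu0 ((smul_eq_zero.1 (show (2 : F) • u = 0 by linear_combination (norm := module) e)).resolve_left h2)
    obtain ⟨b, hb⟩ : ∃ b : Module.Basis (Fin 3) F (Fin 3 → F), ∀ i, b i = ![(f 0 : Fin 3 → F), (f 1 : Fin 3 → F), u] i :=
      ⟨basisOfLinearIndependentOfCardEqFinrank (indep_three hvw hus) (by simp), fun i => by simp⟩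
    have hd := det_of_eigenbasis (A := x) (d := ![1, 1, -1]) b (fun i => by
      rw [hb]
      fin_cases i
      · simpa using (hEp _).1 (f 0).2
      · simpa using (hEp _).1 (f 1).2
      · simpa using (hEm _).1 hu)
    rw [hdet, Fin.prod_univ_three] at hd
    exact h2 (by simp at hd; linear_combination hd)

/-- the standard frame of the group of order twenty-seven and exponent three -/
theorem exists_frame (R : Subgroup (GL (Fin 3) F)) (hR : Nat.card R = 27) (hRe : Monoid.exponent R = 3)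
    (hRna : ¬ IsMulCommutative R) (h3 : (3 : F) ≠ 0) {om : F} (hom : om * om + om + 1 = 0) :
    ∃ μ : F, μ * μ + μ + 1 = 0 ∧ ∃ P D S : GL (Fin 3) F,
      (D : Matrix (Fin 3) (Fin 3) F) = Matrix.diagonal ![1, μ, μ * μ] ∧
      (S : Matrix (Fin 3) (Fin 3) F) = !![0, 0, 1; 1, 0, 0; 0, 1, 0] ∧
      P * D * P⁻¹ ∈ R ∧ P * S * P⁻¹ ∈ R ∧ R = Subgroup.closure {P * D * P⁻¹, P * S * P⁻¹} ∧
      R ≤ Cfsg.Geo.specialLinear (Fin 3) F := by
  classical
  haveI : Fact (Nat.Prime 3) := ⟨Nat.prime_three⟩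
  haveI : Finite R := Nat.finite_of_card_ne_zero (by omega)
  obtain ⟨a', b', hab⟩ : ∃ a b : R, a * b ≠ b * a := by
    by_contra h
    push Not at h
    exact hRna ⟨⟨h⟩⟩
  obtain ⟨c', hc'⟩ : ∃ c : R, c = a' * b' * a'⁻¹ * b'⁻¹ := ⟨_, rfl⟩
  have hp3 : IsPGroup 3 R := IsPGroup.of_card (n := 3) (by rw [hR]; norm_num)
  have hcen : c' ∈ Subgroup.center R := by
    refine CfsgLib.MetacyclicOmega.commutator_le_center_of_card (p := 3) hp3 (by rw [hR]; norm_num) ?_
    rw [hc', ← commutatorElement_def]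
    exact Subgroup.commutator_mem_commutator (Subgroup.mem_top _) (Subgroup.mem_top _)
  have hcube : ∀ g : R, (g : GL (Fin 3) F).1 * (g : GL (Fin 3) F).1 * (g : GL (Fin 3) F).1 = 1 := fun g => by
    have h := congrArg (fun y : R => ((y : GL (Fin 3) F) : Matrix (Fin 3) (Fin 3) F)) (Monoid.pow_exponent_eq_one g)
    rw [hRe, pow_succ, sq] at h
    simpa using h
  obtain ⟨a, ha⟩ : ∃ a, a = ((a' : GL (Fin 3) F) : Matrix (Fin 3) (Fin 3) F) := ⟨_, rfl⟩
  obtain ⟨b, hb⟩ : ∃ b, b = ((b' : GL (Fin 3) F) : Matrix (Fin 3) (Fin 3) F) := ⟨_, rfl⟩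
  obtain ⟨c, hc⟩ : ∃ c, c = ((c' : GL (Fin 3) F) : Matrix (Fin 3) (Fin 3) F) := ⟨_, rfl⟩
  have hcomm : ∀ g : R, (g : GL (Fin 3) F).1 * c = c * (g : GL (Fin 3) F).1 := fun g => by
    have h := congrArg (fun y : R => ((y : GL (Fin 3) F) : Matrix (Fin 3) (Fin 3) F)) (Subgroup.mem_center_iff.1 hcen g)
    simpa [hc] using h
  have hcab : a * b = c * (b * a) := by
    have h := congrArg (fun y : R => ((y : GL (Fin 3) F) : Matrix (Fin 3) (Fin 3) F))
      (show a' * b' = c' * (b' * a') by rw [hc']; group)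
    simpa [ha, hb, hc] using h
  have hne : a * b ≠ b * a := fun h => hab (Subtype.ext (Units.ext (by simpa [ha, hb] using h)))
  have hc3 : c * c * c = 1 := hc ▸ hcube c'
  have hcd : c.det = 1 := by
    have h := congrArg Matrix.det hcab
    rw [Matrix.det_mul, Matrix.det_mul, Matrix.det_mul] at h
    have hu : IsUnit (b.det * a.det) := by
      rw [ha, hb]
      exact ((Matrix.isUnit_iff_isUnit_det _).1 (b' : GL (Fin 3) F).isUnit).mul
        ((Matrix.isUnit_iff_isUnit_det _).1 (a' : GL (Fin 3) F).isUnit)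
    exact hu.mul_right_cancel (by linear_combination -h)
  obtain ⟨μ, hμ⟩ : ∃ μ : F, c = μ • 1 := by
    by_contra hns
    push Not at hns
    have hsingle : ∀ μ : F, ∀ v w, c *ᵥ v = μ • v → c *ᵥ w = μ • w → ¬ LinearIndependent F ![v, w] :=
      fun μ v w hv hw hli => hns μ (eigen_single h3 hcd hc3 hv hw hli)
    obtain ⟨e, he⟩ := exists_eigenbasis_three h3 hom hc3 hsingle
    have hline : ∀ g : R, ∀ i, ∃ t : F, t • e i = (g : GL (Fin 3) F).1 *ᵥ e i := fun g i => by
      by_contra hcon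
      push Not at hcon
      refine hsingle (om ^ (i : ℕ)) (e i) ((g : GL (Fin 3) F).1 *ᵥ e i) (he i) ?_
        ((LinearIndependent.pair_iff' (e.ne_zero i)).2 hcon)
      rw [mulVec_mulVec, ← hcomm g, ← mulVec_mulVec, he, mulVec_smul]
    refine hne (Matrix.toLin'.injective (e.ext fun i => ?_))
    obtain ⟨s, hs⟩ := hline a' i
    obtain ⟨t, ht⟩ := hline b' i
    rw [← ha] at hs
    rw [← hb] at ht
    simp only [Matrix.toLin'_apply]
    rw [← mulVec_mulVec, ← mulVec_mulVec, ← ht, ← hs, mulVec_smul, mulVec_smul, ← hs, ← ht, smul_comm]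
  have hμ3 : μ * μ * μ = 1 := by
    have h := congrFun (congrFun hc3 0) 0
    rw [hμ] at h
    simp at h
    linear_combination h
  have hμ1 : μ ≠ 1 := fun h => hne (by rw [hcab, hμ, h, one_smul, one_mul])
  have hμq : μ * μ + μ + 1 = 0 :=
    (mul_eq_zero.1 (show (μ - 1) * (μ * μ + μ + 1) = 0 by linear_combination hμ3)).resolve_left (sub_ne_zero.2 hμ1)
  have hμ0 : μ ≠ 0 := fun h => by simp [h] at hμ3
  rw [hμ, Matrix.smul_mul, Matrix.one_mul] at hcab
  have ha3 : a * a * a = 1 := ha ▸ hcube a'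
  have hb3 : b * b * b = 1 := hb ▸ hcube b'
  obtain ⟨u, hu⟩ : ∃ u : Fin 3 → F, u + a *ᵥ u + a *ᵥ (a *ᵥ u) ≠ 0 := by
    by_contra hcon
    push Not at hcon
    have hN : a * a + a + 1 = 0 := Matrix.ext_of_mulVec_single fun i => by
      rw [add_mulVec, add_mulVec, ← mulVec_mulVec, one_mulVec, zero_mulVec]
      rw [← hcon (Pi.single i 1)]
      abel
    have h1 : b * ((μ * μ) • (a * a) + μ • a + 1) = 0 := by
      have : (a * a + a + 1) * b = b * ((μ * μ) • (a * a) + μ • a + 1) := by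
        rw [add_mul, add_mul, one_mul, Matrix.mul_assoc, hcab, Matrix.mul_smul, ← Matrix.mul_assoc, hcab,
          Matrix.smul_mul, smul_smul, mul_add, mul_add, mul_one, Matrix.mul_smul, Matrix.mul_smul, Matrix.mul_assoc]
      rw [← this, hN, zero_mul]
    have h2 : (μ * μ) • (a * a) + μ • a + 1 = 0 := by
      have := congrArg (fun M => b * b * M) h1
      simpa [← Matrix.mul_assoc, hb3] using this
    have h4 : a * a = (-(μ + 1)) • (1 : Matrix (Fin 3) (Fin 3) F) := by
      have h5 : (μ + 1) • (a * a) + a = 0 := by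
        refine (smul_eq_zero.1 (show (μ - 1) • ((μ + 1) • (a * a) + a) = 0 from ?_)).resolve_left (sub_ne_zero.2 hμ1)
        linear_combination (norm := module) h2 - hN
      have h6 := congrArg (fun M => a * M) h5
      simp only [mul_add, Matrix.mul_smul, ← Matrix.mul_assoc, ha3, mul_zero] at h6
      linear_combination (norm := module) h6
    have h7 : a = ((-(μ + 1)) * (-(μ + 1))) • (1 : Matrix (Fin 3) (Fin 3) F) := by
      calc a = (a * a) * (a * a) := by rw [← Matrix.mul_assoc, ha3, one_mul]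
        _ = _ := by rw [h4, Matrix.smul_mul, Matrix.one_mul, smul_smul]
    refine hne ?_
    rw [h7, Matrix.smul_mul, Matrix.one_mul, Matrix.mul_smul, Matrix.mul_one]
  obtain ⟨v, hv⟩ : ∃ v, v = u + a *ᵥ u + a *ᵥ (a *ᵥ u) := ⟨_, rfl⟩
  have hav : a *ᵥ v = v := by
    rw [hv, mulVec_add, mulVec_add, show a *ᵥ (a *ᵥ (a *ᵥ u)) = u by rw [mulVec_mulVec, mulVec_mulVec, ha3, one_mulVec]]
    abel
  have habv : ∀ w (l : F), a *ᵥ w = l • w → a *ᵥ (b *ᵥ w) = (μ * l) • (b *ᵥ w) := fun w l hw => by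
    rw [mulVec_mulVec, hcab, smul_mulVec, ← mulVec_mulVec, hw, mulVec_smul, smul_smul]
  obtain ⟨e, he⟩ : ∃ e : Fin 3 → Fin 3 → F, e = ![v, b *ᵥ v, b *ᵥ (b *ᵥ v)] := ⟨_, rfl⟩
  have hv0 : v ≠ 0 := hv ▸ hu
  have hbinj : ∀ w, b *ᵥ w = 0 → w = 0 := fun w hw => by
    have : (b * b * b) *ᵥ w = 0 := by rw [← mulVec_mulVec, hw, mulVec_zero]
    rwa [hb3, one_mulVec] at this
  have he1 : a *ᵥ (b *ᵥ v) = μ • (b *ᵥ v) := by
    rw [habv v 1 (by rw [one_smul, hav]), mul_one]
  have hae : ∀ j, a *ᵥ e j = ![1, μ, μ * μ] j • e j := fun j => by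
    rw [he]
    fin_cases j
    · simpa using hav
    · simpa using he1
    · simpa using habv _ _ he1
  have hinj : Function.Injective ![(1 : F), μ, μ * μ] := by
    have h12 : μ ≠ μ * μ := fun h => hμ1 (mul_left_cancel₀ hμ0 (by rw [mul_one]; exact h.symm))
    have h02 : μ * μ ≠ 1 := fun h => hμ1 (by linear_combination hμ3 - μ * h)
    intro i j h
    fin_cases i <;> fin_cases j <;> simp [-mul_right_eq_self₀] at h ⊢
    exacts [hμ1 h.symm, h02 h.symm, hμ1 h, h12 h, h02 h, h12 h.symm]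
  have hli : LinearIndependent F e :=
    Module.End.eigenvectors_linearIndependent' (Matrix.toLin' a) _ hinj e fun j =>
      ⟨Module.End.mem_eigenspace_iff.2 (by rw [Matrix.toLin'_apply]; exact hae j), by
        rw [he]
        fin_cases j
        · simpa using hv0
        · simpa using fun h => hv0 (hbinj _ h)
        · simpa using fun h => hv0 (hbinj _ (hbinj _ h))⟩
  obtain ⟨P, hP⟩ := (Matrix.linearIndependent_cols_iff_isUnit (A := Matrix.of fun i j => e j i)).1 hli
  obtain ⟨D, hD⟩ : ∃ D : GL (Fin 3) F, (D : Matrix (Fin 3) (Fin 3) F) = Matrix.diagonal ![1, μ, μ * μ] :=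
    ⟨Matrix.GeneralLinearGroup.mkOfDetNeZero (Matrix.diagonal ![1, μ, μ * μ]) (by
      rw [Matrix.det_diagonal, Fin.prod_univ_three]; simp [hμ0]), rfl⟩
  obtain ⟨S, hS⟩ : ∃ S : GL (Fin 3) F, (S : Matrix (Fin 3) (Fin 3) F) = !![0, 0, 1; 1, 0, 0; 0, 1, 0] :=
    ⟨Matrix.GeneralLinearGroup.mkOfDetNeZero !![0, 0, 1; 1, 0, 0; 0, 1, 0] (by
      rw [Matrix.det_fin_three]; simp), rfl⟩
  have hPD : P * D * P⁻¹ = (a' : GL (Fin 3) F) := by
    rw [mul_inv_eq_iff_eq_mul]
    exact Units.ext (by rw [Units.val_mul, Units.val_mul, hP, hD, ← ha]; exact (mul_cols_of_eigen a e _ hae).symm)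
  have hPS : P * S * P⁻¹ = (b' : GL (Fin 3) F) := by
    rw [mul_inv_eq_iff_eq_mul]
    refine Units.ext ?_
    rw [Units.val_mul, Units.val_mul, hP, hS, ← hb]
    have hb2' : b *ᵥ (b *ᵥ (b *ᵥ v)) = v := by rw [mulVec_mulVec, mulVec_mulVec, hb3, one_mulVec]
    have hcol : ∀ j, b *ᵥ e j = e (j + 1) := fun j => by
      rw [he]
      fin_cases j <;> simp [hb2', ← Matrix.mul_assoc, hb3]
    ext i j
    have hij : (b * Matrix.of fun i j => e j i) i j = e (j + 1) i := by
      rw [← hcol j]; rfl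
    rw [hij, Matrix.mul_apply, Fin.sum_univ_three]
    fin_cases j <;> simp
  have hcl : R = Subgroup.closure {(a' : GL (Fin 3) F), (b' : GL (Fin 3) F)} := by
    obtain ⟨K, hK⟩ : ∃ K, K = Subgroup.closure {(a' : GL (Fin 3) F), (b' : GL (Fin 3) F)} := ⟨_, rfl⟩
    rw [← hK]
    have hle : K ≤ R := by
      rw [hK, Subgroup.closure_le]
      rintro _ (rfl | rfl)
      · exact a'.2
      · exact b'.2
    have haK : (a' : GL (Fin 3) F) ∈ K := hK ▸ Subgroup.subset_closure (Set.mem_insert _ _)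
    have hbK : (b' : GL (Fin 3) F) ∈ K := hK ▸ Subgroup.subset_closure (Set.mem_insert_of_mem _ rfl)
    have hna : ¬ ∀ x y : K, x * y = y * x := fun h =>
      hab (Subtype.ext (by simpa using congrArg Subtype.val (h ⟨_, haK⟩ ⟨_, hbK⟩)))
    obtain ⟨k, hk3, hk⟩ := (Nat.dvd_prime_pow Nat.prime_three).1
      (show Nat.card K ∣ 3 ^ 3 from (Subgroup.card_dvd_of_le hle).trans (dvd_of_eq (by rw [hR]; norm_num)))
    haveI : Finite K := Nat.finite_of_card_ne_zero (by rw [hk]; positivity)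
    interval_cases k
    · exfalso
      haveI : Subsingleton K := (Nat.card_eq_one_iff_unique.1 (by rw [hk, pow_zero])).1
      exact hna fun x y => Subsingleton.elim _ _
    · exfalso
      haveI : IsCyclic K := isCyclic_of_prime_card (p := 3) (by rw [hk, pow_one])
      exact hna fun x y => (IsCyclic.isMulCommutative (α := K)).is_comm.comm x y
    · exact absurd (IsPGroup.commutative_of_card_eq_prime_sq hk) hna
    · exact (Subgroup.eq_of_le_of_card_ge hle (by rw [hR, hk]; norm_num)).symm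
  refine ⟨μ, hμq, P, D, S, hD, hS, hPD ▸ a'.2, hPS ▸ b'.2, by rw [hPD, hPS]; exact hcl, ?_⟩
  rw [hcl, Subgroup.closure_le]
  rintro _ (rfl | rfl)
  · show Matrix.GeneralLinearGroup.det (a' : GL (Fin 3) F) = 1
    rw [← hPD, map_mul, map_mul, map_inv, mul_comm (Matrix.GeneralLinearGroup.det P) _, mul_inv_cancel_right]
    refine Units.ext ?_
    rw [Matrix.GeneralLinearGroup.val_det_apply, hD, Matrix.det_diagonal, Fin.prod_univ_three]
    simp [← mul_assoc, hμ3]
  · show Matrix.GeneralLinearGroup.det (b' : GL (Fin 3) F) = 1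
    rw [← hPS, map_mul, map_mul, map_inv, mul_comm (Matrix.GeneralLinearGroup.det P) _, mul_inv_cancel_right]
    refine Units.ext ?_
    rw [Matrix.GeneralLinearGroup.val_det_apply, hS, Matrix.det_fin_three]
    simp

/-- a conjugate normalising both generators normalises the group -/
theorem mem_normalizer_of_generators {G : Type*} [Group G] {R : Subgroup G} [Finite R] {a b g : G}
    (hR : R = Subgroup.closure {a, b}) (ha : g * a * g⁻¹ ∈ R) (hb : g * b * g⁻¹ ∈ R) :
    g ∈ Subgroup.normalizer (R : Set G) := by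
  rw [Subgroup.mem_normalizer_iff_map_conj_eq]
  refine Subgroup.eq_of_le_of_card_ge ?_ ?_
  · nth_rw 1 [hR]
    rw [MonoidHom.map_closure, Subgroup.closure_le]
    rintro _ ⟨x, hx | hx, rfl⟩
    · subst hx; exact ha
    · obtain rfl := hx; exact hb
  · exact (Nat.card_congr (R.equivMapOfInjective _ (MulAut.conj g).injective).toEquiv).le

end CfsgLib.Perm.Elusive
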