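import Mathlib
import Cfsg.Prelude.Def_LieClassical
import Cfsg.Prelude.Def_GeometricClasses
import Cfsg.Agent.Lib.Perm.Elusive.ExtraspecialThree

/-!
# Unitary frames in dimension three
-/

set_option autoImplicit false
set_option linter.all false

namespace CfsgLib.Perm.Elusive

open Matrix Cfsg

variable {F : Type*} [Field F] [Fintype F] {p : ℕ} [Fact p.Prime] [CharP F p]

theorem herm_add_left (u u' v : Fin 3 → F) : hermForm 3 F p (u + u') v = hermForm 3 F p u v + hermForm 3 F p u' v := by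
  simp only [hermForm, Pi.add_apply, add_mul, Finset.sum_add_distrib]

theorem herm_smul_left (c : F) (u v : Fin 3 → F) : hermForm 3 F p (c • u) v = c * hermForm 3 F p u v := by
  simp only [hermForm, Pi.smul_apply, smul_eq_mul, Finset.mul_sum, mul_assoc]

theorem herm_add_right (u v v' : Fin 3 → F) : hermForm 3 F p u (v + v') = hermForm 3 F p u v + hermForm 3 F p u v' := by
  simp only [hermForm, Pi.add_apply, add_pow_char, mul_add, Finset.sum_add_distrib]

theorem herm_smul_right (c : F) (u v : Fin 3 → F) : hermForm 3 F p u (c • v) = c ^ p * hermForm 3 F p u v := by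
  simp only [hermForm, Pi.smul_apply, smul_eq_mul, mul_pow, Finset.mul_sum]
  exact Finset.sum_congr rfl fun i _ => by ring

theorem herm_swap (hF : Fintype.card F = p ^ 2) (u v : Fin 3 → F) : hermForm 3 F p v u = hermForm 3 F p u v ^ p := by
  simp only [hermForm]
  rw [← frobenius_def, map_sum]
  refine Finset.sum_congr rfl fun i _ => ?_
  rw [frobenius_def, mul_pow, ← pow_mul, ← sq, ← hF, FiniteField.pow_card, mul_comm]

/-- norms are onto the fixed field -/
theorem exists_norm_root (hF : Fintype.card F = p ^ 2) {s : F} (hs : s ≠ 0) (hsp : s ^ p = s) :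
    ∃ c : F, c ≠ 0 ∧ c * c ^ p = s := by
  have hp := (Fact.out : p.Prime)
  obtain ⟨g, hg⟩ := IsCyclic.exists_ofOrder_eq_natCard (α := Fˣ)
  rw [Nat.card_units, Nat.card_eq_fintype_card, hF] at hg
  have hmem : Units.mk0 s hs ∈ Subgroup.zpowers g := by
    rw [Subgroup.eq_top_of_card_eq (Subgroup.zpowers g) (by
      rw [Nat.card_zpowers, hg, Nat.card_units, Nat.card_eq_fintype_card, hF])]
    exact Subgroup.mem_top _
  obtain ⟨k, hk⟩ := (mem_powers_iff_mem_zpowers).2 hmem
  simp only at hk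
  have h1 : (g ^ k) ^ (p - 1) = 1 := by
    rw [hk]
    refine Units.ext ?_
    rw [Units.val_pow_eq_pow_val, Units.val_mk0, Units.val_one]
    refine mul_left_cancel₀ hs ?_
    rw [mul_one, ← pow_succ', Nat.sub_add_cancel hp.pos, hsp]
  rw [← pow_mul] at h1
  have h2 := orderOf_dvd_of_pow_eq_one h1
  rw [hg, show p ^ 2 - 1 = (p + 1) * (p - 1) from Nat.sq_sub_sq p 1] at h2
  obtain ⟨j, rfl⟩ := Nat.dvd_of_mul_dvd_mul_right (by have := hp.two_le; omega) h2
  refine ⟨((g ^ j : Fˣ) : F), (g ^ j).ne_zero, ?_⟩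
  have := congrArg Units.val hk
  rw [Units.val_mk0] at this
  rw [← this, ← pow_succ', Units.val_pow_eq_pow_val, Units.val_pow_eq_pow_val, ← pow_mul, mul_comm]

theorem herm_mulVec (A : Matrix (Fin 3) (Fin 3) F) (u v : Fin 3 → F) :
    hermForm 3 F p (A *ᵥ u) (A *ᵥ v) = u ⬝ᵥ ((Aᵀ * A.map (frobenius F p)) *ᵥ fun i => v i ^ p) := by
  rw [show hermForm 3 F p (A *ᵥ u) (A *ᵥ v) = (A *ᵥ u) ⬝ᵥ fun i => (A *ᵥ v) i ^ p from rfl,
    ← mulVec_mulVec, dotProduct_mulVec u, ← vecMul_transpose A u]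
  congr 1
  funext i
  rw [← frobenius_def]
  exact RingHom.map_mulVec (frobenius F p) A v i

theorem mem_GU_three {g : GL (Fin 3) F} :
    g ∈ GU 3 F p ↔ (g : Matrix (Fin 3) (Fin 3) F)ᵀ * (g : Matrix (Fin 3) (Fin 3) F).map (frobenius F p) = 1 := by
  have hp := (Fact.out : p.Prime)
  constructor
  · intro h
    ext i j
    have hij : hermForm 3 F p ((g : Matrix (Fin 3) (Fin 3) F) *ᵥ Pi.single i 1) ((g : Matrix (Fin 3) (Fin 3) F) *ᵥ Pi.single j 1) =
        hermForm 3 F p (Pi.single i 1) (Pi.single j 1) := h _ _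
    rw [mulVec_single_one, mulVec_single_one] at hij
    rw [Matrix.mul_apply]
    refine Eq.trans ?_ (hij.trans ?_)
    · exact Finset.sum_congr rfl fun k _ => by simp [frobenius_def, Matrix.col]
    · simp [hermForm, Matrix.one_apply, Pi.single_apply, eq_comm, ite_pow, zero_pow hp.ne_zero]
  · intro h u v
    show hermForm 3 F p ((g : Matrix (Fin 3) (Fin 3) F) *ᵥ u) ((g : Matrix (Fin 3) (Fin 3) F) *ᵥ v) = _
    rw [herm_mulVec, h, one_mulVec]
    rfl

theorem det_norm_of_mem {g : GL (Fin 3) F} (hg : g ∈ GU 3 F p) :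
    (g : Matrix (Fin 3) (Fin 3) F).det * (g : Matrix (Fin 3) (Fin 3) F).det ^ p = 1 := by
  have h := congrArg Matrix.det (mem_GU_three.1 hg)
  rw [Matrix.det_mul, Matrix.det_transpose, Matrix.det_one, ← RingHom.mapMatrix_apply, ← RingHom.map_det,
    frobenius_def] at h
  exact h

theorem mem_GU_of_diagonal {C : GL (Fin 3) F} {d : Fin 3 → F} (hC : (C : Matrix (Fin 3) (Fin 3) F) = Matrix.diagonal d)
    (hd : ∀ i, d i * d i ^ p = 1) : C ∈ GU 3 F p := by
  rw [mem_GU_three, hC, Matrix.diagonal_transpose, Matrix.diagonal_map (map_zero _), Matrix.diagonal_mul_diagonal,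
    ← Matrix.diagonal_one]
  congr 1
  funext i
  exact hd i

/-- orthogonal anisotropic eigenvectors give a unitary frame -/
theorem exists_gu_of_orth (hF : Fintype.card F = p ^ 2) (x : Matrix (Fin 3) (Fin 3) F) (d : Fin 3 → F)
    (b : Fin 3 → Fin 3 → F) (hb : ∀ i, x *ᵥ b i = d i • b i) (horth : ∀ i j, i ≠ j → hermForm 3 F p (b i) (b j) = 0)
    (hn : ∀ i, hermForm 3 F p (b i) (b i) ≠ 0) :
    ∃ U ∈ GU 3 F p, x * (U : Matrix (Fin 3) (Fin 3) F) = (U : Matrix (Fin 3) (Fin 3) F) * Matrix.diagonal d := by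
  choose c hc0 hc using fun i => exists_norm_root hF (hn i) (herm_swap hF (b i) (b i)).symm
  obtain ⟨e, he⟩ : ∃ e, e = fun i => (c i)⁻¹ • b i := ⟨_, rfl⟩
  obtain ⟨E, hE⟩ : ∃ E : Matrix (Fin 3) (Fin 3) F, E = Matrix.of fun i j => e j i := ⟨_, rfl⟩
  have hEE : Eᵀ * E.map (frobenius F p) = 1 := by
    ext i j
    rw [Matrix.mul_apply]
    have h : ∑ k, Eᵀ i k * E.map (frobenius F p) k j = hermForm 3 F p (e i) (e j) := by
      refine Finset.sum_congr rfl fun k _ => ?_
      simp [hE, frobenius_def]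
    rw [h, he, herm_smul_left, herm_smul_right, Matrix.one_apply]
    split
    · next h =>
      subst h
      rw [inv_pow, ← mul_assoc, ← mul_inv, hc, inv_mul_cancel₀ (hn i)]
    · next h => rw [horth i j h, mul_zero, mul_zero]
  have hd : E.det ≠ 0 := fun h0 => by
    have h := congrArg Matrix.det hEE
    rw [Matrix.det_mul, Matrix.det_transpose, h0, zero_mul, Matrix.det_one] at h
    exact zero_ne_one h
  refine ⟨Matrix.GeneralLinearGroup.mkOfDetNeZero E hd, mem_GU_three.2 hEE, ?_⟩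
  show x * E = E * Matrix.diagonal d
  rw [hE]
  refine mul_cols_of_eigen x e d fun i => ?_
  rw [he]
  simp only [mulVec_smul, hb, smul_comm (d i)]

/-- unitary eigenvectors -/
theorem exists_gu_eigen (hF : Fintype.card F = p ^ 2) (h2 : (2 : F) ≠ 0) {x : GL (Fin 3) F} (hx : x ∈ GU 3 F p)
    (d : Fin 3 → F) (hd : ∀ i, d i * d i ^ p = 1) (hd02 : d 0 ≠ d 2) (hd12 : d 1 ≠ d 2)
    (b : Module.Basis (Fin 3) F (Fin 3 → F)) (hb : ∀ i, (x : Matrix (Fin 3) (Fin 3) F) *ᵥ b i = d i • b i) :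
    ∃ U ∈ GU 3 F p, (x : Matrix (Fin 3) (Fin 3) F) * (U : Matrix (Fin 3) (Fin 3) F) =
      (U : Matrix (Fin 3) (Fin 3) F) * Matrix.diagonal d := by
  classical
  have hdp : ∀ i, d i ^ p = (d i)⁻¹ := fun i => eq_inv_of_mul_eq_one_right (hd i)
  have hd0 : ∀ i, d i ≠ 0 := fun i h => by have := hd i; rw [h, zero_mul] at this; exact zero_ne_one this
  have horth : ∀ (u v : Fin 3 → F) (i j : Fin 3), (x : Matrix (Fin 3) (Fin 3) F) *ᵥ u = d i • u →
      (x : Matrix (Fin 3) (Fin 3) F) *ᵥ v = d j • v → d i ≠ d j → hermForm 3 F p u v = 0 := fun u v i j hu hv hne => by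
    have h : hermForm 3 F p ((x : Matrix (Fin 3) (Fin 3) F) *ᵥ u) ((x : Matrix (Fin 3) (Fin 3) F) *ᵥ v) =
        hermForm 3 F p u v := hx u v
    rw [hu, hv, herm_smul_left, herm_smul_right, hdp, ← mul_assoc] at h
    by_contra h0
    have h' : d i * (d j)⁻¹ = 1 := by
      refine mul_right_cancel₀ h0 ?_
      rw [one_mul, h]
    exact hne (mul_inv_eq_one₀ (hd0 j) |>.1 h')
  obtain ⟨B, hB⟩ : ∃ B : Matrix (Fin 3) (Fin 3) F, B = Matrix.of fun i j => b j i := ⟨_, rfl⟩
  obtain ⟨G, hG⟩ : ∃ G : Fin 3 → Fin 3 → F, G = fun i j => hermForm 3 F p (b i) (b j) := ⟨_, rfl⟩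
  have hGd : (Matrix.of G).det ≠ 0 := by
    have e : Matrix.of G = Bᵀ * B.map (frobenius F p) := by
      ext i j
      rw [Matrix.mul_apply, hG]
      show hermForm 3 F p (b i) (b j) = _
      simp [hermForm, hB, frobenius_def]
    rw [e, Matrix.det_mul, Matrix.det_transpose, ← RingHom.mapMatrix_apply, ← RingHom.map_det, frobenius_def]
    have hu : B.det ≠ 0 := hB ▸ ((Matrix.isUnit_iff_isUnit_det _).1
      (Matrix.linearIndependent_cols_iff_isUnit.1 b.linearIndependent)).ne_zero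
    exact mul_ne_zero hu (pow_ne_zero _ hu)
  have hG02 : G 0 2 = 0 := hG ▸ horth _ _ 0 2 (hb 0) (hb 2) hd02
  have hG20 : G 2 0 = 0 := hG ▸ horth _ _ 2 0 (hb 2) (hb 0) (Ne.symm hd02)
  have hG12 : G 1 2 = 0 := hG ▸ horth _ _ 1 2 (hb 1) (hb 2) hd12
  have hG21 : G 2 1 = 0 := hG ▸ horth _ _ 2 1 (hb 2) (hb 1) (Ne.symm hd12)
  have hGd' : (G 0 0 * G 1 1 - G 0 1 * G 1 0) * G 2 2 ≠ 0 := fun h => hGd (by
    rw [Matrix.det_fin_three]
    simp only [Matrix.of_apply, hG02, hG20, hG12, hG21]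
    linear_combination h)
  have h22 : hermForm 3 F p (b 2) (b 2) ≠ 0 := by
    have := (mul_ne_zero_iff.1 hGd').2
    rwa [hG] at this
  have hdet2 := (mul_ne_zero_iff.1 hGd').1
  by_cases h01 : d 0 = d 1
  · have step : ∀ v u : Fin 3 → F, (x : Matrix (Fin 3) (Fin 3) F) *ᵥ v = d 0 • v →
        (x : Matrix (Fin 3) (Fin 3) F) *ᵥ u = d 0 • u → hermForm 3 F p v v ≠ 0 →
        hermForm 3 F p v v * hermForm 3 F p u u - hermForm 3 F p u v * hermForm 3 F p v u ≠ 0 →
        ∃ U ∈ GU 3 F p, (x : Matrix (Fin 3) (Fin 3) F) * (U : Matrix (Fin 3) (Fin 3) F) =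
          (U : Matrix (Fin 3) (Fin 3) F) * Matrix.diagonal d := by
      intro v u hv hu hvv hdd
      obtain ⟨k, hk⟩ : ∃ k, k = -(hermForm 3 F p u v / hermForm 3 F p v v) := ⟨_, rfl⟩
      obtain ⟨w, hw⟩ : ∃ w, w = u + k • v := ⟨_, rfl⟩
      have hwe : (x : Matrix (Fin 3) (Fin 3) F) *ᵥ w = d 0 • w := by
        rw [hw, mulVec_add, mulVec_smul, hu, hv, smul_add, smul_comm]
      have hwv : hermForm 3 F p w v = 0 := by
        rw [hw, herm_add_left, herm_smul_left, hk, neg_mul, div_mul_cancel₀ _ hvv, add_neg_cancel]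
      have hvw : hermForm 3 F p v w = 0 := by
        rw [herm_swap hF w v, hwv, zero_pow (Fact.out : p.Prime).ne_zero]
      have hww : hermForm 3 F p w w ≠ 0 := by
        intro h0
        have hww' : hermForm 3 F p w w = hermForm 3 F p u w + k * hermForm 3 F p v w := by
          rw [← herm_smul_left, ← herm_add_left, ← hw]
        rw [hww', hvw, mul_zero, add_zero, hw, herm_add_right, herm_smul_right] at h0
        have h1 : hermForm 3 F p v u + k ^ p * hermForm 3 F p v v = 0 := by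
          rw [← herm_smul_right, ← herm_add_right, ← hw, hvw]
        exact hdd (by linear_combination hermForm 3 F p v v * h0 - hermForm 3 F p u v * h1)
      refine exists_gu_of_orth hF _ d ![v, w, b 2] (fun i => ?_) (fun i j hij => ?_) (fun i => ?_)
      · fin_cases i
        · exact hv
        · show _ = d 1 • w; rw [← h01]; exact hwe
        · exact hb 2
      · fin_cases i <;> fin_cases j <;> simp at hij ⊢
        exacts [hvw, horth _ _ 0 2 hv (hb 2) hd02, hwv, horth _ _ 0 2 hwe (hb 2) hd02,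
          horth _ _ 2 0 (hb 2) hv (Ne.symm hd02), horth _ _ 2 0 (hb 2) hwe (Ne.symm hd02)]
      · fin_cases i
        · exact hvv
        · exact hww
        · exact h22
    have hb1 : (x : Matrix (Fin 3) (Fin 3) F) *ᵥ b 1 = d 0 • b 1 := h01 ▸ hb 1
    by_cases h00 : G 0 0 = 0
    · by_cases h11 : G 1 1 = 0
      · have h10 : G 1 0 ≠ 0 := fun h => hdet2 (by rw [h00, h]; ring)
        have hswap : G 0 1 = G 1 0 ^ p := by rw [hG]; exact herm_swap hF _ _
        obtain ⟨c, hc⟩ : ∃ c, c = (G 1 0)⁻¹ := ⟨_, rfl⟩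
        refine step (b 0 + c • b 1) (b 1) ?_ hb1 ?_ ?_
        · rw [mulVec_add, mulVec_smul, hb 0, hb1, smul_add, smul_comm]
        · rw [herm_add_left, herm_smul_left, herm_add_right, herm_add_right, herm_smul_right, herm_smul_right]
          simp only [hG] at h00 h11 hswap h10 hc
          rw [h00, h11, hswap, hc, inv_pow, inv_mul_cancel₀ (pow_ne_zero _ h10)]
          simp only [zero_add, mul_zero, add_zero]
          rw [inv_mul_cancel₀ h10, one_add_one_eq_two]
          exact h2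
        · intro h
          refine hdet2 ?_
          simp only [hG]
          simp only [herm_add_left, herm_smul_left, herm_add_right, herm_smul_right] at h
          linear_combination h
      · refine step (b 1) (b 0) hb1 (hb 0) (by rw [hG] at h11; exact h11) ?_
        intro h
        refine hdet2 ?_
        simp only [hG]
        linear_combination h
    · refine step (b 0) (b 1) (hb 0) hb1 (by rw [hG] at h00; exact h00) ?_
      intro h
      refine hdet2 ?_
      simp only [hG]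
      linear_combination h
  · refine exists_gu_of_orth hF _ d (fun i => b i) hb (fun i j hij => horth _ _ i j (hb i) (hb j) ?_) (fun i => ?_)
    · fin_cases i <;> fin_cases j <;> simp at hij ⊢
      exacts [h01, hd02, Ne.symm h01, hd12, Ne.symm hd02, Ne.symm hd12]
    · have hG01 : G 0 1 = 0 := hG ▸ horth _ _ 0 1 (hb 0) (hb 1) h01
      rw [hG01, zero_mul, sub_zero] at hdet2
      have h := mul_ne_zero_iff.1 hdet2
      simp only [hG] at h
      fin_cases i
      · exact h.1
      · exact h.2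
      · exact h22

/-- conjugation inside the special unitary group -/
theorem exists_gu_conj (x P W U : GL (Fin 3) F) (d : Fin 3 → F) (hW : (W : Matrix (Fin 3) (Fin 3) F) = Matrix.diagonal d)
    (hU : U ∈ GU 3 F p) (hP : P ∈ GU 3 F p)
    (hxU : (x : Matrix (Fin 3) (Fin 3) F) * (U : Matrix (Fin 3) (Fin 3) F) = (U : Matrix (Fin 3) (Fin 3) F) * Matrix.diagonal d) :
    ∃ g ∈ GU 3 F p ⊓ Cfsg.Geo.specialLinear (Fin 3) F, g⁻¹ * x * g = P * W * P⁻¹ := by
  have hxU' : x * U = U * W := Units.ext (by rw [Units.val_mul, Units.val_mul, hW]; exact hxU)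
  obtain ⟨δ, hδ⟩ : ∃ δ : F, δ = (P : Matrix (Fin 3) (Fin 3) F).det / (U : Matrix (Fin 3) (Fin 3) F).det := ⟨_, rfl⟩
  have hUd : (U : Matrix (Fin 3) (Fin 3) F).det ≠ 0 := ((Matrix.isUnit_iff_isUnit_det _).1 U.isUnit).ne_zero
  have hPd : (P : Matrix (Fin 3) (Fin 3) F).det ≠ 0 := ((Matrix.isUnit_iff_isUnit_det _).1 P.isUnit).ne_zero
  have hδ0 : δ ≠ 0 := hδ ▸ div_ne_zero hPd hUd
  obtain ⟨C, hC⟩ : ∃ C : GL (Fin 3) F, (C : Matrix (Fin 3) (Fin 3) F) = Matrix.diagonal ![δ, 1, 1] :=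
    ⟨Matrix.GeneralLinearGroup.mkOfDetNeZero (Matrix.diagonal ![δ, 1, 1]) (by
      rw [Matrix.det_diagonal, Fin.prod_univ_three]; simpa using hδ0), rfl⟩
  have hCU : C ∈ GU 3 F p := mem_GU_of_diagonal hC fun i => by
    fin_cases i
    · show δ * δ ^ p = 1
      rw [hδ, div_pow, div_mul_div_comm, det_norm_of_mem hP, det_norm_of_mem hU, div_one]
    · simp
    · simp
  have hCW : C * W = W * C := Units.ext (by
    rw [Units.val_mul, Units.val_mul, hC, hW, Matrix.diagonal_mul_diagonal, Matrix.diagonal_mul_diagonal]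
    congr 1; funext i; exact mul_comm _ _)
  refine ⟨U * C * P⁻¹, Subgroup.mem_inf.2 ⟨mul_mem (mul_mem hU hCU) (inv_mem hP), ?_⟩, ?_⟩
  · show Matrix.GeneralLinearGroup.det (U * C * P⁻¹) = 1
    rw [map_mul, map_mul, map_inv, mul_inv_eq_one]
    refine Units.ext ?_
    rw [Units.val_mul, Matrix.GeneralLinearGroup.val_det_apply, Matrix.GeneralLinearGroup.val_det_apply,
      Matrix.GeneralLinearGroup.val_det_apply, hC, Matrix.det_diagonal, Fin.prod_univ_three]
    simp [hδ, mul_div_cancel₀ _ hUd]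
  · calc (U * C * P⁻¹)⁻¹ * x * (U * C * P⁻¹) = P * C⁻¹ * U⁻¹ * (x * U) * C * P⁻¹ := by group
      _ = P * C⁻¹ * (W * C) * P⁻¹ := by rw [hxU']; group
      _ = P * W * P⁻¹ := by rw [← hCW]; group

/-- the frame of the group of order twenty-seven can be taken unitary -/
theorem exists_gu_frame (hF : Fintype.card F = p ^ 2) (R : Subgroup (GL (Fin 3) F)) (hRU : R ≤ GU 3 F p)
    {μ : F} (hμ3 : μ * μ * μ = 1) (hμ1 : μ ≠ 1) (hμp : μ * μ ^ p = 1) {P D S : GL (Fin 3) F}
    (hD : (D : Matrix (Fin 3) (Fin 3) F) = Matrix.diagonal ![1, μ, μ * μ])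
    (hS : (S : Matrix (Fin 3) (Fin 3) F) = !![0, 0, 1; 1, 0, 0; 0, 1, 0])
    (hPD : P * D * P⁻¹ ∈ R) (hPS : P * S * P⁻¹ ∈ R) :
    ∃ P' ∈ GU 3 F p, P' * D * P'⁻¹ = P * D * P⁻¹ ∧ P' * S * P'⁻¹ = P * S * P⁻¹ := by
  classical
  obtain ⟨M, hM⟩ : ∃ M, M = (P : Matrix (Fin 3) (Fin 3) F)ᵀ * (P : Matrix (Fin 3) (Fin 3) F).map (frobenius F p) := ⟨_, rfl⟩
  have hinv : ∀ w : GL (Fin 3) F, P * w * P⁻¹ ∈ R →
      (w : Matrix (Fin 3) (Fin 3) F)ᵀ * M * (w : Matrix (Fin 3) (Fin 3) F).map (frobenius F p) = M := fun w hw => by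
    have h := mem_GU_three.1 (hRU hw)
    have e : ((P * w * P⁻¹ : GL (Fin 3) F) : Matrix (Fin 3) (Fin 3) F) * (P : Matrix (Fin 3) (Fin 3) F) =
        (P : Matrix (Fin 3) (Fin 3) F) * (w : Matrix (Fin 3) (Fin 3) F) := by
      rw [← Units.val_mul, ← Units.val_mul, inv_mul_cancel_right]
    have e' := congrArg (fun A : Matrix (Fin 3) (Fin 3) F => Aᵀ * A.map (frobenius F p)) e
    simp only [Matrix.transpose_mul, Matrix.map_mul] at e'
    rw [show ∀ A B C D : Matrix (Fin 3) (Fin 3) F, (A * B) * (C * D) = A * (B * C) * D from fun A B C D => by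
      simp only [Matrix.mul_assoc], h, Matrix.mul_one] at e'
    rw [hM]
    simp only [Matrix.mul_assoc] at e' ⊢
    exact e'.symm
  have hμ0 : μ ≠ 0 := fun h => by simp [h] at hμ3
  have hoff : ∀ i j, i ≠ j → M i j = 0 := fun i j hij => by
    have h := congrFun (congrFun (hinv D hPD) i) j
    rw [hD, Matrix.diagonal_transpose, Matrix.diagonal_map (map_zero _), Matrix.mul_diagonal, Matrix.diagonal_mul] at h
    have hμi : μ ^ p = μ * μ := mul_left_cancel₀ hμ0 (by rw [hμp, ← mul_assoc, hμ3])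
    have h12 : μ ≠ μ * μ := fun h => hμ1 (mul_left_cancel₀ hμ0 (by rw [mul_one]; exact h.symm))
    have h02 : μ * μ ≠ 1 := fun h => hμ1 (by linear_combination hμ3 - μ * h)
    have hne : ![1, μ, μ * μ] i * frobenius F p (![1, μ, μ * μ] j) ≠ 1 := by
      rw [frobenius_def]
      fin_cases i <;> fin_cases j <;> simp at hij ⊢ <;> (try simp only [mul_pow, hμi])
      · exact h02
      · intro h'; exact hμ1 (by linear_combination h' - μ * hμ3)
      · exact hμ1
      · intro h'; exact h02 (by linear_combination h' - μ * μ * hμ3)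
      · exact h02
      · intro h'; exact hμ1 (by linear_combination h' - μ * hμ3)
    exact (mul_eq_zero.1 (show (![1, μ, μ * μ] i * frobenius F p (![1, μ, μ * μ] j) - 1) * M i j = 0 by
      linear_combination h)).resolve_left (sub_ne_zero.2 hne)
  have hdiag : ∀ i, M i i = M 0 0 := by
    have h0 := congrFun (congrFun (hinv S hPS) 0) 0
    have h1 := congrFun (congrFun (hinv S hPS) 1) 1
    rw [hS] at h0 h1
    simp [Matrix.mul_apply, Fin.sum_univ_three] at h0 h1
    intro i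
    fin_cases i
    · rfl
    · exact h0
    · exact h1.trans h0
  have hs0 : M 0 0 ≠ 0 := fun h0 => by
    have hMz : M = 0 := by
      ext i j
      by_cases hij : i = j
      · subst hij; rw [hdiag, h0]; rfl
      · exact hoff i j hij
    have h := congrArg Matrix.det hM
    haveI : Nonempty (Fin 3) := ⟨0⟩
    rw [hMz, Matrix.det_zero, Matrix.det_mul, Matrix.det_transpose, ← RingHom.mapMatrix_apply, ← RingHom.map_det,
      frobenius_def] at h
    exact mul_ne_zero ((Matrix.isUnit_iff_isUnit_det _).1 P.isUnit).ne_zero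
      (pow_ne_zero _ ((Matrix.isUnit_iff_isUnit_det _).1 P.isUnit).ne_zero) h.symm
  have hsp : M 0 0 ^ p = M 0 0 := by
    rw [hM, Matrix.mul_apply, ← frobenius_def, map_sum]
    refine Finset.sum_congr rfl fun k _ => ?_
    simp only [Matrix.transpose_apply, Matrix.map_apply, frobenius_def, mul_pow, ← pow_mul]
    rw [← sq, ← hF, FiniteField.pow_card, mul_comm]
  obtain ⟨c, hc0, hc⟩ := exists_norm_root hF hs0 hsp
  obtain ⟨u, hu⟩ : ∃ u : GL (Fin 3) F, (u : Matrix (Fin 3) (Fin 3) F) = c⁻¹ • 1 :=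
    ⟨Matrix.GeneralLinearGroup.mkOfDetNeZero (c⁻¹ • 1) (by
      rw [Matrix.det_smul, Matrix.det_one, mul_one]; exact pow_ne_zero _ (inv_ne_zero hc0)), rfl⟩
  have hcomm : ∀ w, u * w = w * u := fun w => Units.ext (by rw [Units.val_mul, Units.val_mul, hu]; simp)
  refine ⟨P * u, ?_, ?_, ?_⟩
  · rw [mem_GU_three, Units.val_mul, hu, Matrix.mul_smul, Matrix.mul_one, Matrix.transpose_smul]
    ext i j
    have e : ((c⁻¹ • (P : Matrix (Fin 3) (Fin 3) F)ᵀ) * (c⁻¹ • (P : Matrix (Fin 3) (Fin 3) F)).map (frobenius F p)) i j =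
        (c * c ^ p)⁻¹ * M i j := by
      rw [hM, Matrix.mul_apply, Matrix.mul_apply, Finset.mul_sum]
      refine Finset.sum_congr rfl fun k _ => ?_
      simp only [Matrix.smul_apply, Matrix.map_apply, Matrix.transpose_apply, smul_eq_mul, frobenius_def, mul_pow, inv_pow, mul_inv]
      ring
    rw [e, hc, Matrix.one_apply]
    split
    · next h => subst h; rw [hdiag i, inv_mul_cancel₀ hs0]
    · next h => rw [hoff i j h, mul_zero]
  · rw [mul_assoc P u D, hcomm D]; group
  · rw [mul_assoc P u S, hcomm S]; group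

end CfsgLib.Perm.Elusive
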