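import Mathlib
import Cfsg.Prelude.Def_GeometricClasses
import Cfsg.Agent.Lib.Perm.Elusive.InvariantPairs

/-!
# Decompositions permuted by maps of prime order
-/

set_option autoImplicit false
set_option linter.all false

namespace CfsgLib.Perm.Elusive

open Polynomial Cfsg.Geo

section Basis

variable {F : Type*} [Field F]

/-- a decomposition from a basis whose fibres are permuted -/
theorem decomposition_of_basis {n t a : ℕ} {τ α : Type*} (ht : 2 ≤ t) (ha : 0 < a)
    (b : Module.Basis (τ × α) F (Fin n → F)) (eτ : τ ≃ Fin t) (eα : α ≃ Fin a)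
    (T : (Fin n → F) →ₗ[F] (Fin n → F)) (hTinj : Function.Injective T) (σ : Equiv.Perm τ)
    (h : ∀ j u, T (b (j, u)) ∈ Submodule.span F (b '' {x | x.1 = σ j})) :
    ∃ D : Fin t → Submodule F (Fin n → F), IsMDecomposition a D ∧
      ∃ σ : Equiv.Perm (Fin t), ∀ j, (D j).map T = D (σ j) := by
  classical
  obtain ⟨D, hD⟩ : ∃ D : Fin t → Submodule F (Fin n → F), ∀ j, D j = Submodule.span F (b '' {x | x.1 = eτ.symm j}) :=
    ⟨_, fun j => rfl⟩
  have hf : ∀ j, Module.finrank F (D j) = a := fun j => by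
    rw [hD]
    haveI : Finite (τ × α) := Finite.of_equiv _ (eτ.prodCongr eα).symm
    haveI : Fintype (τ × α) := Fintype.ofFinite _
    rw [finrank_span_set_eq_card ((b.linearIndependent.linearIndepOn _).id_image), Set.toFinset_card,
      ← Nat.card_eq_fintype_card, Nat.card_image_of_injective b.injective]
    have e : ({x : τ × α | x.1 = eτ.symm j} : Set (τ × α)) ≃ α :=
      { toFun := fun x => x.1.2
        invFun := fun u => ⟨(eτ.symm j, u), rfl⟩
        left_inv := fun x => Subtype.ext (Prod.ext x.2.symm rfl)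
        right_inv := fun u => rfl }
    rw [Nat.card_congr e, Nat.card_congr eα, Nat.card_fin]
  refine ⟨D, ⟨ht, ha, hf, ?_, ?_⟩, eτ.symm.trans (σ.trans eτ), fun j => ?_⟩
  · rw [iSupIndep_def]
    intro j
    refine Disjoint.mono (hD j).le ?_
      (b.linearIndependent.disjoint_span_image (disjoint_compl_right (a := {x : τ × α | x.1 = eτ.symm j})))
    refine iSup₂_le fun i hi => (hD i).le.trans (Submodule.span_mono (Set.image_mono ?_))
    intro x hx hx'
    exact hi (eτ.symm.injective (hx.symm.trans hx'))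
  · rw [eq_top_iff, ← b.span_eq, Submodule.span_le]
    rintro _ ⟨⟨i, u⟩, rfl⟩
    exact le_iSup D (eτ i) (hD (eτ i) ▸ Submodule.subset_span ⟨(i, u), (eτ.symm_apply_apply i).symm, rfl⟩)
  · haveI : FiniteDimensional F (Fin n → F) := inferInstance
    refine Submodule.eq_of_le_of_finrank_eq ?_ ?_
    · rw [hD j, Submodule.map_span_le]
      rintro _ ⟨⟨i, u⟩, hi, rfl⟩
      rw [hD]
      simp only [Set.mem_setOf_eq] at hi
      subst hi
      simpa using h (eτ.symm j) u
    · rw [← (Submodule.equivMapOfInjective T hTinj (D j)).finrank_eq, hf, hf]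

end Basis

variable {F : Type*} [Field F] [Fintype F] {p : ℕ} [Fact p.Prime] [CharP F p] {r : ℕ} [Fact r.Prime]

/-- a basis with invariant fibres -/
theorem exists_fixed_basis (hrp : r ≠ p) {z : F} (hz : z ≠ 0) {a : ℕ} (t : ℕ) {V : Type*} [AddCommGroup V] [Module F V]
    [FiniteDimensional F V] (T : V →ₗ[F] V) (hT : T ^ r = z • LinearMap.id) (hV : Module.finrank F V = t * a)
    (hroot : t * (a % orderOf ((Fintype.card F : ℕ) : ZMod r)) < orderOf ((Fintype.card F : ℕ) : ZMod r))
    (hnon : (∀ l : F, l ^ r ≠ z) → r ∣ a) :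
    ∃ b : Module.Basis (Fin t × Fin a) F V, ∀ j u, T (b (j, u)) ∈ Submodule.span F (b '' {x | x.1 = j}) := by
  induction t generalizing V with
  | zero => exact ⟨Module.finBasisOfFinrankEq F V (hV.trans (zero_mul a)) |>.reindex
      (Equiv.equivOfIsEmpty _ _), fun j => j.elim0⟩
  | succ t ih =>
    obtain ⟨U, W, hc, hU, hW, hUf⟩ := exists_inv_pair (p := p) hrp T hz hT (m := a) (by rw [hV]; exact Nat.le_mul_of_pos_left _ t.succ_pos)
      (fun _ => by
        rw [hV, Nat.mul_mod, Nat.mod_mul_mod, Nat.mod_eq_of_lt hroot]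
        exact Nat.le_mul_of_pos_left _ t.succ_pos) hnon
    have hWf : Module.finrank F W = t * a := by
      have h := Submodule.finrank_add_eq_of_isCompl hc
      rw [hUf, hV, Nat.succ_mul] at h
      omega
    obtain ⟨bW, hbW⟩ := ih (T.restrict hW) (LinearMap.ext fun u => Subtype.ext (by
      have h := restrict_aeval_coe T hW (X ^ r) u
      rw [map_pow, map_pow, aeval_X, aeval_X, hT] at h
      exact h)) hWf (lt_of_le_of_lt (Nat.mul_le_mul_right _ t.le_succ) hroot)
    obtain ⟨bU, -⟩ : ∃ b : Module.Basis (Fin a) F U, b = Module.finBasisOfFinrankEq F U hUf := ⟨_, rfl⟩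
    obtain ⟨e, he1, he2⟩ : ∃ e : Fin a ⊕ (Fin t × Fin a) ≃ Fin (t + 1) × Fin a,
        (∀ u, e.symm (0, u) = Sum.inl u) ∧ ∀ i u, e.symm (Fin.succ i, u) = Sum.inr (i, u) :=
      ⟨{ toFun := Sum.elim (fun u => (0, u)) (fun x => (x.1.succ, x.2))
         invFun := fun x => Fin.cases (Sum.inl x.2) (fun i => Sum.inr (i, x.2)) x.1
         left_inv := by rintro (u | ⟨i, u⟩) <;> simp
         right_inv := by
          rintro ⟨i, u⟩
          induction i using Fin.cases <;> simp }, fun u => rfl, fun i u => rfl⟩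
    obtain ⟨b, hb⟩ : ∃ b : Module.Basis (Fin (t + 1) × Fin a) F V,
        b = ((bU.prod bW).map (Submodule.prodEquivOfIsCompl U W hc)).reindex e := ⟨_, rfl⟩
    have hb0 : ∀ u, b (0, u) = (bU u : V) := fun u => by
      rw [hb, Module.Basis.reindex_apply, he1]
      simp
    have hb1 : ∀ i u, b (Fin.succ i, u) = (bW (i, u) : V) := fun i u => by
      rw [hb, Module.Basis.reindex_apply, he2]
      simp
    refine ⟨b, fun j u => ?_⟩
    induction j using Fin.cases with
    | zero =>
      rw [hb0]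
      have hUle : U ≤ Submodule.span F (b '' {x | x.1 = (0 : Fin (t + 1))}) := by
        rw [show U = Submodule.span F (U.subtype '' Set.range bU) by
          rw [Submodule.span_image, bU.span_eq, Submodule.map_top, Submodule.range_subtype]]
        refine Submodule.span_mono ?_
        rintro _ ⟨_, ⟨i, rfl⟩, rfl⟩
        exact ⟨(0, i), rfl, hb0 i⟩
      exact hUle (hU _ (bU u).2)
    | succ i =>
      rw [hb1]
      have h := Submodule.mem_map_of_mem (f := W.subtype) (hbW i u)
      rw [← Submodule.span_image, ← Set.image_comp] at h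
      refine Submodule.span_mono ?_ h
      rintro _ ⟨⟨i', u'⟩, hi, rfl⟩
      exact ⟨(i'.succ, u'), congrArg Fin.succ hi, hb1 i' u'⟩

/-- regular orbits when the nontrivial eigenvalues are conjugate -/
theorem exists_perm_basis (hrp : r ≠ p) (hc : orderOf ((Fintype.card F : ℕ) : ZMod r) = r - 1) {V : Type*}
    [AddCommGroup V] [Module F V] [FiniteDimensional F V] (T : V →ₗ[F] V) (hT : T ^ r = 1)
    (hs : Module.finrank F V ≤ r * Module.finrank F (LinearMap.ker (T - 1))) :
    ∃ (b : Module.Basis (Fin (Module.finrank F V)) F V) (σ : Equiv.Perm (Fin (Module.finrank F V))),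
      ∀ i, T (b i) = b (σ i) := by
  classical
  have hr2 := (Fact.out : r.Prime).two_le
  obtain ⟨m, hm⟩ : ∃ m, r = m + 1 := ⟨r - 1, by omega⟩
  obtain ⟨E, hE⟩ : ∃ E, E = LinearMap.ker (aeval T (X - C 1 : F[X])) := ⟨_, rfl⟩
  obtain ⟨M, hM⟩ : ∃ M, M = LinearMap.ker (aeval T (cyclotomic r F)) := ⟨_, rfl⟩
  have hE' : E = LinearMap.ker (T - 1) := by rw [hE, map_sub, aeval_X, aeval_C, map_one]
  have hco : IsCoprime (X - C 1 : F[X]) (cyclotomic r F) := by
    rw [(irreducible_X_sub_C (1 : F)).coprime_iff_not_dvd, dvd_iff_isRoot, IsRoot, eval_one_cyclotomic_prime]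
    exact natCast_ne_zero_of_ne hrp
  have hsup : E ⊔ M = ⊤ := by
    rw [hE, hM, sup_ker_aeval_eq_ker_aeval_mul_of_coprime T hco, map_one, mul_comm, cyclotomic_prime_mul_X_sub_one,
      map_sub, map_pow, aeval_X, map_one, hT, sub_self, LinearMap.ker_zero]
  have hdis : Disjoint E M := by
    rw [hE, hM]
    exact disjoint_ker_aeval_of_isCoprime T hco
  have hfix : ∀ u ∈ E, T u = u := fun u hu => by
    rw [hE'] at hu
    simpa [sub_eq_zero] using hu
  have hMinv : ∀ u ∈ M, T u ∈ M := fun u hu => by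
    rw [hM, LinearMap.mem_ker] at hu ⊢
    rw [show T u = aeval T (X : F[X]) u by rw [aeval_X], ← Module.End.mul_apply, ← map_mul, mul_comm, map_mul,
      Module.End.mul_apply, hu, map_zero]
  have hsumM : ∀ u ∈ M, ∑ i : Fin r, (T ^ (i : ℕ)) u = 0 := fun u hu => by
    rw [hM, LinearMap.mem_ker, cyclotomic_prime, map_sum, LinearMap.sum_apply] at hu
    rw [Fin.sum_univ_eq_sum_range fun i => (T ^ i) u]
    simpa using hu
  have hP : aeval (T.restrict hMinv) (cyclotomic r F) = 0 := LinearMap.ext fun u => Subtype.ext (by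
    rw [restrict_aeval_coe]
    exact LinearMap.mem_ker.1 (hM.le u.2))
  obtain ⟨k, v, bM, hbM, -⟩ := exists_chains (T.restrict hMinv) hP (cyclotomic_squarefree' hrp)
    (fun g hg hgd => factor_degree (p := p) hrp hg hgd)
  have hMf : Module.finrank F M = k * m := by
    rw [Module.finrank_eq_card_basis bM, Fintype.card_prod, Fintype.card_fin, Fintype.card_fin, hc, hm,
      Nat.add_sub_cancel]
  have hfr : Module.finrank F V = Module.finrank F E + k * m := by
    rw [← hMf, ← Submodule.finrank_sup_add_finrank_inf_eq, hsup, hdis.eq_bot, finrank_top, finrank_bot, add_zero]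
  rw [← hE', hfr, hm, Nat.add_mul, one_mul] at hs
  have hks : k ≤ Module.finrank F E := by
    by_contra h
    have : m * (Module.finrank F E) < m * k := Nat.mul_lt_mul_of_pos_left (by omega) (by omega)
    rw [mul_comm k m] at hs
    omega
  obtain ⟨bE, -⟩ : ∃ b : Module.Basis (Fin (Module.finrank F E)) F E, b = Module.finBasis F E := ⟨_, rfl⟩
  obtain ⟨w, hw⟩ : ∃ w : Fin k → V, ∀ j, w j = (bE (Fin.castLE hks j) : V) + (v j : V) := ⟨_, fun j => rfl⟩
  obtain ⟨f, hf1, hf2⟩ : ∃ f : (Fin k × Fin r) ⊕ Fin (Module.finrank F E - k) → V,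
      (∀ j i, f (Sum.inl (j, i)) = (T ^ (i : ℕ)) (w j)) ∧
      ∀ u, f (Sum.inr u) = (bE ⟨k + u, by omega⟩ : V) :=
    ⟨Sum.elim (fun x => (T ^ (x.2 : ℕ)) (w x.1)) (fun u => (bE ⟨k + u, by omega⟩ : V)), fun j i => rfl, fun u => rfl⟩
  have hpowfix : ∀ (i : ℕ), ∀ u ∈ E, (T ^ i) u = u := fun i => by
    induction i with
    | zero => intro u _; simp
    | succ i ih => intro u hu; rw [pow_succ', Module.End.mul_apply, ih u hu, hfix u hu]
  have hpowM : ∀ (i : ℕ) (u : M), (((T.restrict hMinv) ^ i) u : V) = (T ^ i) (u : V) := fun i u => by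
    have h := restrict_aeval_coe T hMinv (X ^ i) u
    rwa [map_pow, map_pow, aeval_X, aeval_X] at h
  have hwi : ∀ j (i : Fin r), f (Sum.inl (j, i)) = (bE (Fin.castLE hks j) : V) + (T ^ (i : ℕ)) (v j : V) := fun j i => by
    rw [hf1, hw, map_add, hpowfix _ _ (bE _).2]
  obtain ⟨S, hS⟩ : ∃ S, S = Submodule.span F (Set.range f) := ⟨_, rfl⟩
  have hfS : ∀ x, f x ∈ S := fun x => hS ▸ Submodule.subset_span ⟨x, rfl⟩
  have heS : ∀ j, (bE (Fin.castLE hks j) : V) ∈ S := fun j => by
    have h : ∑ i : Fin r, f (Sum.inl (j, i)) = (r : F) • (bE (Fin.castLE hks j) : V) := by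
      rw [Finset.sum_congr rfl (fun i _ => hwi j i), Finset.sum_add_distrib, hsumM _ (v j).2, add_zero,
        Finset.sum_const, Finset.card_univ, Fintype.card_fin, Nat.cast_smul_eq_nsmul]
    have h2 := S.smul_mem (r : F)⁻¹ (S.sum_mem fun i _ => hfS (Sum.inl (j, i)) : ∑ i : Fin r, f (Sum.inl (j, i)) ∈ S)
    rwa [h, inv_smul_smul₀ (natCast_ne_zero_of_ne (F := F) hrp)] at h2
  have hspan : ⊤ ≤ Submodule.span F (Set.range f) := by
    rw [← hS, ← hsup]
    refine sup_le ?_ ?_
    · rw [show E = Submodule.span F (E.subtype '' Set.range bE) by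
        rw [Submodule.span_image, bE.span_eq, Submodule.map_top, Submodule.range_subtype], Submodule.span_le]
      rintro _ ⟨_, ⟨i, rfl⟩, rfl⟩
      by_cases hi : (i : ℕ) < k
      · exact heS ⟨i, hi⟩
      · have h := hfS (Sum.inr ⟨(i : ℕ) - k, by omega⟩)
        rw [hf2, show (⟨k + ((⟨(i : ℕ) - k, by omega⟩ : Fin (Module.finrank F E - k)) : ℕ), by dsimp only; omega⟩ :
          Fin (Module.finrank F E)) = i from Fin.ext (by dsimp only; omega)] at h
        exact h
    · rw [show M = Submodule.span F (M.subtype '' Set.range bM) by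
        rw [Submodule.span_image, bM.span_eq, Submodule.map_top, Submodule.range_subtype], Submodule.span_le]
      rintro _ ⟨_, ⟨⟨j, i⟩, rfl⟩, rfl⟩
      have hi : (i : ℕ) < r := by have := i.2; omega
      have h := S.sub_mem (hfS (Sum.inl (j, ⟨i, hi⟩))) (heS j)
      rw [hwi, add_sub_cancel_left] at h
      rw [Submodule.subtype_apply, hbM, hpowM]
      exact h
  have hcard : Fintype.card ((Fin k × Fin r) ⊕ Fin (Module.finrank F E - k)) = Module.finrank F V := by
    rw [Fintype.card_sum, Fintype.card_prod, Fintype.card_fin, Fintype.card_fin, Fintype.card_fin, hfr, hm, Nat.mul_add,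
      mul_one]
    omega
  obtain ⟨b, hb⟩ : ∃ b : Module.Basis _ F V, b = basisOfTopLeSpanOfCardEqFinrank f hspan hcard := ⟨_, rfl⟩
  have hbf : ∀ x, b x = f x := fun x => by rw [hb, coe_basisOfTopLeSpanOfCardEqFinrank]
  haveI : NeZero r := ⟨(Fact.out : r.Prime).ne_zero⟩
  obtain ⟨π, hπ⟩ : ∃ π : Equiv.Perm ((Fin k × Fin r) ⊕ Fin (Module.finrank F E - k)),
      π = Equiv.sumCongr (Equiv.prodCongrRight fun _ : Fin k => Equiv.addRight (1 : Fin r)) (Equiv.refl _) := ⟨_, rfl⟩
  obtain ⟨e, -⟩ : ∃ e, e = Fintype.equivFinOfCardEq hcard := ⟨_, rfl⟩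
  refine ⟨b.reindex e, e.symm.trans (π.trans e), fun i => ?_⟩
  simp only [Module.Basis.reindex_apply, Equiv.trans_apply, Equiv.symm_apply_apply, hbf]
  rcases e.symm i with ⟨j, s⟩ | u
  · rw [hπ, Equiv.sumCongr_apply, Sum.map_inl, Equiv.prodCongrRight_apply, Equiv.coe_addRight, hf1, hf1,
      ← Module.End.mul_apply, ← pow_succ', Fin.val_add, Fin.val_one', Nat.add_mod_mod, ← pow_eq_pow_mod _ hT]
  · rw [hπ, Equiv.sumCongr_apply, Sum.map_inr, Equiv.refl_apply, hf2]
    exact hfix _ (bE _).2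

/-- no nontrivial `r`-th roots of unity -/
theorem eq_one_of_pow_eq_one (hrp : r ≠ p) (hi1 : orderOf ((Fintype.card F : ℕ) : ZMod r) ≠ 1) {l : F} (hl : l ^ r = 1) :
    l = 1 := by
  classical
  have hl0 : l ≠ 0 := fun h => one_ne_zero (α := F) (by rw [← hl, h, zero_pow (Fact.out : r.Prime).ne_zero])
  have h1 : orderOf (Units.mk0 l hl0) ∣ r := orderOf_dvd_of_pow_eq_one (Units.ext (by simpa using hl))
  rcases (Nat.dvd_prime (Fact.out : r.Prime)).1 h1 with h | h
  · exact congrArg Units.val (orderOf_eq_one_iff.1 h)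
  · refine absurd ((order_one_iff hrp).2 ?_) hi1
    rw [← h, ← Nat.card_eq_fintype_card, ← Nat.card_units]
    exact orderOf_dvd_natCard _

section Permuted

variable {V : Type*} [AddCommGroup V] [Module F V] [FiniteDimensional F V] {t : ℕ} {D : Fin t → Submodule F V}

omit [Fintype F] [FiniteDimensional F V] in
theorem eq_zero_of_sum_mem (hind : iSupIndep D) {κ : Type*} [Fintype κ] {g : κ → Fin t} (hg : Function.Injective g)
    {x : κ → V} (hx : ∀ k, x k ∈ D (g k)) (hsum : ∑ k, x k = 0) : ∀ k, x k = 0 := by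
  classical
  intro k
  refine Submodule.disjoint_def.1 (hind (g k)) _ (hx k) ?_
  rw [← Finset.add_sum_erase _ _ (Finset.mem_univ k)] at hsum
  rw [eq_neg_of_add_eq_zero_left hsum]
  refine Submodule.neg_mem _ (Submodule.sum_mem _ fun i hi => ?_)
  exact le_iSup₂ (f := fun j (_ : j ≠ g k) => D j) (g i) (fun h => (Finset.ne_of_mem_erase hi) (hg h)) (hx i)

omit [Fintype F] [FiniteDimensional F V] in
theorem map_pow_of_permuted (T : V →ₗ[F] V) (σ : Equiv.Perm (Fin t)) (hσ : ∀ j, (D j).map T = D (σ j)) (i : ℕ) :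
    ∀ j, (D j).map (T ^ i) = D ((σ ^ i) j) := by
  induction i with
  | zero => intro j; simp [Module.End.one_eq_id]
  | succ i ih =>
    intro j
    rw [pow_succ', Module.End.mul_eq_comp, Submodule.map_comp, ih, hσ, pow_succ', Equiv.Perm.mul_apply]

omit [Fintype F] [FiniteDimensional F V] in
theorem perm_pow_eq_one (T : V →ₗ[F] V) (hT : T ^ r = 1) (hind : iSupIndep D) (hne : ∀ j, D j ≠ ⊥)
    (σ : Equiv.Perm (Fin t)) (hσ : ∀ j, (D j).map T = D (σ j)) : σ ^ r = 1 := by
  refine Equiv.ext fun j => ?_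
  have h := map_pow_of_permuted T σ hσ r j
  rw [hT, Module.End.one_eq_id, Submodule.map_id] at h
  exact (hind.injective hne h).symm

omit [Fintype F] [FiniteDimensional F V] [Fact p.Prime] [CharP F p] in
theorem orbit_injective (σ : Equiv.Perm (Fin t)) (hσr : σ ^ r = 1) {j : Fin t} (hj : σ j ≠ j) :
    Function.Injective fun i : Fin r => (σ ^ (i : ℕ)) j := by
  have hper : Function.minimalPeriod σ j = r := by
    have h1 : Function.IsPeriodicPt σ r j := by
      show σ^[r] j = j
      rw [← Equiv.Perm.coe_pow, hσr]; rfl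
    rcases (Nat.dvd_prime (Fact.out : r.Prime)).1 h1.minimalPeriod_dvd with h | h
    · exact absurd (Function.minimalPeriod_eq_one_iff_isFixedPt.1 h) hj
    · exact h
  intro a b hab
  simp only [Equiv.Perm.coe_pow] at hab
  exact Fin.ext (Function.iterate_injOn_Iio_minimalPeriod (by rw [hper]; exact a.2) (by rw [hper]; exact b.2) hab)

/-- a moved block forces large fixed and moved parts -/
theorem cycle_bounds (T : V →ₗ[F] V) (hT : T ^ r = 1) (hind : iSupIndep D) {a : ℕ} (ha : 0 < a)
    (hf : ∀ j, Module.finrank F (D j) = a) (σ : Equiv.Perm (Fin t)) (hσ : ∀ j, (D j).map T = D (σ j))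
    {j : Fin t} (hj : σ j ≠ j) :
    a ≤ Module.finrank F (LinearMap.ker (T - 1)) ∧
      a * (r - 1) + Module.finrank F (LinearMap.ker (T - 1)) ≤ Module.finrank F V := by
  classical
  have hne : ∀ j, D j ≠ ⊥ := fun j h => by
    have := hf j
    rw [h, finrank_bot] at this
    omega
  have hσr := perm_pow_eq_one T hT hind hne σ hσ
  have hinj := orbit_injective (r := r) σ hσr hj
  obtain ⟨m, rfl⟩ : ∃ m, r = m + 1 := ⟨r - 1, by have := (Fact.out : r.Prime).two_le; omega⟩
  have hmem : ∀ (i : ℕ) (u : V), u ∈ D j → (T ^ i) u ∈ D ((σ ^ i) j) := fun i u hu =>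
    map_pow_of_permuted T σ hσ i j ▸ ⟨u, hu, rfl⟩
  have hTinj : ∀ (i : ℕ), Function.Injective (T ^ i) := fun i => by
    have h : Function.Injective (T ^ (m + 1)) := by rw [hT]; exact fun _ _ h => h
    have h1 : Function.Injective T := by
      rw [pow_succ, Module.End.coe_mul] at h
      exact h.of_comp
    rw [Module.End.coe_pow]
    exact h1.iterate i
  constructor
  · obtain ⟨P, hP⟩ : ∃ P : V →ₗ[F] V, P = ∑ i : Fin (m + 1), T ^ (i : ℕ) := ⟨_, rfl⟩
    rw [← hf j]
    refine LinearMap.finrank_le_finrank_of_injective (f := LinearMap.codRestrict _ (P.comp (D j).subtype) fun u => ?_) ?_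
    · rw [LinearMap.mem_ker, LinearMap.comp_apply, ← Module.End.mul_apply, hP, Fin.sum_univ_eq_sum_range fun i => T ^ i,
        mul_geom_sum, hT, sub_self]
      rfl
    · rw [← LinearMap.ker_eq_bot, LinearMap.ker_codRestrict]
      rw [Submodule.eq_bot_iff]
      intro u hu
      rw [LinearMap.mem_ker, LinearMap.comp_apply, hP, LinearMap.sum_apply] at hu
      have h := eq_zero_of_sum_mem hind hinj (fun i : Fin (m + 1) => hmem i _ u.2) hu 0
      simpa using h
  · obtain ⟨Ψ, hΨ⟩ : ∃ Ψ : (Fin m → D j) →ₗ[F] V, ∀ g, Ψ g = ∑ i : Fin m, (T ^ (i : ℕ)) (g i : V) :=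
      ⟨∑ i : Fin m, ((T ^ (i : ℕ)).comp (D j).subtype).comp (LinearMap.proj i), fun g => by
        simp [LinearMap.sum_apply]⟩
    obtain ⟨x, hx⟩ : ∃ x : (Fin m → D j) → Fin (m + 1) → V, ∀ g (i : Fin (m + 1)), x g i = (T ^ (i : ℕ)) ((Fin.snoc g 0 : Fin (m + 1) → D j) i : V) :=
      ⟨_, fun g i => rfl⟩
    have hxs : ∀ g, ∑ i, x g i = Ψ g := fun g => by
      rw [hΨ, Fin.sum_univ_castSucc]
      simp [hx]
    have hxm : ∀ g (i : Fin (m + 1)), x g i ∈ D ((σ ^ (i : ℕ)) j) := fun g i => hx g i ▸ hmem _ _ (Subtype.mem _)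
    have hinjΨ : Function.Injective Ψ := by
      rw [← LinearMap.ker_eq_bot, Submodule.eq_bot_iff]
      intro g hg
      funext i
      have h := eq_zero_of_sum_mem hind hinj (hxm g) (by rw [hxs]; exact hg) i.castSucc
      rw [hx, Fin.snoc_castSucc] at h
      exact Subtype.ext ((hTinj _) (by rw [h]; simp))
    have hdisj : Disjoint (LinearMap.range Ψ) (LinearMap.ker (T - 1)) := by
      rw [Submodule.disjoint_def]
      rintro _ ⟨g, rfl⟩ hg
      have hT' : T (Ψ g) = Ψ g := by simpa [sub_eq_zero] using hg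
      have hval : ∀ i : Fin (m + 1), ((σ ^ (i : ℕ)) j) = σ ((σ ^ ((i - 1 : Fin (m + 1)) : ℕ)) j) := fun i => by
        rw [← Equiv.Perm.mul_apply, ← pow_succ', pow_eq_pow_mod _ hσr, pow_eq_pow_mod (_ + 1) hσr]
        congr 2
        have : i = (i - 1) + 1 := (sub_add_cancel i 1).symm
        conv_lhs => rw [this]
        rw [Fin.val_add, Fin.val_one', Nat.add_mod_mod, Nat.mod_mod]
      have hmem2 : ∀ i : Fin (m + 1), T (x g (i - 1)) - x g i ∈ D ((σ ^ (i : ℕ)) j) := fun i =>
        Submodule.sub_mem _ (by rw [hval i]; exact hσ _ ▸ ⟨_, hxm g (i - 1), rfl⟩) (hxm g i)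
      have hz := eq_zero_of_sum_mem hind hinj hmem2 (by
        rw [Finset.sum_sub_distrib, Fintype.sum_equiv (Equiv.subRight (1 : Fin (m + 1))) (fun i => T (x g (i - 1))) (fun i => T (x g i)) (fun i => rfl), ← map_sum,
          hxs, hT', sub_self])
      have hall : ∀ i : Fin (m + 1), x g i = 0 := fun i => by
        induction i using Fin.induction with
        | zero =>
          have h := hz 0
          rw [sub_eq_zero] at h
          rw [← h, show (0 - 1 : Fin (m + 1)) = Fin.last m by rw [zero_sub, eq_comm, eq_neg_iff_add_eq_zero, Fin.last_add_one],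
            hx, Fin.snoc_last]
          simp
        | succ i ih =>
          have h := hz i.succ
          rw [sub_eq_zero] at h
          rw [← h, show (i.succ - 1 : Fin (m + 1)) = i.castSucc by rw [sub_eq_iff_eq_add, Fin.coeSucc_eq_succ], ih, map_zero]
      rw [← hxs]
      exact Finset.sum_eq_zero fun i _ => hall i
    have h := Submodule.finrank_sup_add_finrank_inf_eq (LinearMap.range Ψ) (LinearMap.ker (T - 1))
    rw [hdisj.eq_bot, finrank_bot, add_zero, LinearMap.finrank_range_of_inj hinjΨ, Module.finrank_pi_fintype,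
      Finset.sum_const, Finset.card_univ, Fintype.card_fin, hf j, smul_eq_mul] at h
    have h2 := Submodule.finrank_le (LinearMap.range Ψ ⊔ LinearMap.ker (T - 1))
    rw [Nat.add_sub_cancel, mul_comm]
    omega

/-- invariant blocks each contain fixed vectors -/
theorem fixed_bound (hrp : r ≠ p) (T : V →ₗ[F] V) (hT : T ^ r = 1) (hind : iSupIndep D) {a : ℕ}
    (hf : ∀ j, Module.finrank F (D j) = a) (hinv : ∀ j, (D j).map T = D j) :
    t * (a % orderOf ((Fintype.card F : ℕ) : ZMod r)) ≤ Module.finrank F (LinearMap.ker (T - 1)) := by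
  classical
  have hW : ∀ j, ∀ u ∈ D j, T u ∈ D j := fun j u hu => by
    have h : T u ∈ (D j).map T := ⟨u, hu, rfl⟩
    rwa [hinv] at h
  obtain ⟨E, hE⟩ : ∃ E : Fin t → Submodule F V, ∀ j, E j = D j ⊓ LinearMap.ker (T - 1) := ⟨_, fun j => rfl⟩
  have hEf : ∀ j, a % orderOf ((Fintype.card F : ℕ) : ZMod r) ≤ Module.finrank F (E j) := fun j => by
    obtain ⟨k, hk, -⟩ := exists_split (p := p) hrp (T.restrict (hW j)) (LinearMap.ext fun u => Subtype.ext (by
      have h := restrict_aeval_coe T (hW j) (X ^ r) u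
      rw [map_pow, map_pow, aeval_X, aeval_X, hT] at h
      exact h))
    rw [hf] at hk
    refine le_trans ?_ (le_of_eq_of_le (Submodule.finrank_map_subtype_eq (D j) _).symm (Submodule.finrank_mono
      (s := (LinearMap.ker (T.restrict (hW j) - 1)).map (D j).subtype) ?_))
    · conv_lhs => rw [hk, Nat.add_mul_mod_self_right]
      exact Nat.mod_le _ _
    · rintro _ ⟨u, hu, rfl⟩
      rw [SetLike.mem_coe, LinearMap.mem_ker] at hu
      rw [hE, Submodule.mem_inf, LinearMap.mem_ker]
      have h := congrArg Subtype.val hu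
      exact ⟨u.2, by simpa using h⟩
  obtain ⟨Φ, hΦ⟩ : ∃ Φ : (∀ j, E j) →ₗ[F] V, ∀ g, Φ g = ∑ j, (g j : V) :=
    ⟨∑ j, (E j).subtype.comp (LinearMap.proj j), fun g => by simp [LinearMap.sum_apply]⟩
  have hinj : Function.Injective (Φ.codRestrict (LinearMap.ker (T - 1)) fun g => hΦ g ▸ Submodule.sum_mem _ fun j _ =>
      (show E j ≤ LinearMap.ker (T - 1) from hE j ▸ inf_le_right) (g j).2) := by
    rw [← LinearMap.ker_eq_bot, LinearMap.ker_codRestrict, Submodule.eq_bot_iff]
    intro g hg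
    funext j
    exact Subtype.ext (eq_zero_of_sum_mem hind (g := id) Function.injective_id
      (fun k => (show E k ≤ D k from hE k ▸ inf_le_left) (g k).2) ((hΦ g).symm.trans hg) j)
  refine le_trans ?_ (LinearMap.finrank_le_finrank_of_injective hinj)
  rw [Module.finrank_pi_fintype]
  refine le_trans (le_of_eq ?_) (Finset.sum_le_sum fun j _ => hEf j)
  rw [Finset.sum_const, Finset.card_univ, Fintype.card_fin, smul_eq_mul]

/-- permuted lines: the fixed space meets every orbit -/
theorem line_bound (hrp : r ≠ p) (hi1 : orderOf ((Fintype.card F : ℕ) : ZMod r) ≠ 1) (T : V →ₗ[F] V) (hT : T ^ r = 1) (hind : iSupIndep D)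
    (hf : ∀ j, Module.finrank F (D j) = 1) (σ : Equiv.Perm (Fin t)) (hσ : ∀ j, (D j).map T = D (σ j)) :
    t ≤ r * Module.finrank F (LinearMap.ker (T - 1)) := by
  classical
  have hne : ∀ j, D j ≠ ⊥ := fun j h => by
    have := hf j
    rw [h, finrank_bot] at this
    omega
  have hσr := perm_pow_eq_one T hT hind hne σ hσ
  choose v hvD hv0 using fun j => Submodule.exists_mem_ne_zero_of_ne_bot (hne j)
  obtain ⟨R, hR⟩ : ∃ R : Finset (Fin t), R = Finset.univ.filter fun j => ∀ i : Fin r, j ≤ (σ ^ (i : ℕ)) j := ⟨_, rfl⟩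
  haveI : NeZero r := ⟨(Fact.out : r.Prime).ne_zero⟩
  have hcover : ∀ j, ∃ x : {x // x ∈ R} × Fin r, (σ ^ (x.2 : ℕ)) x.1.1 = j := by
    intro j
    obtain ⟨i₀, -, hi₀⟩ := Finset.exists_min_image (Finset.univ : Finset (Fin r)) (fun i => (σ ^ (i : ℕ)) j) ⟨0, Finset.mem_univ _⟩
    refine ⟨⟨⟨(σ ^ (i₀ : ℕ)) j, ?_⟩, -i₀⟩, ?_⟩
    · rw [hR, Finset.mem_filter]
      refine ⟨Finset.mem_univ _, fun i => ?_⟩
      have h := hi₀ (i + i₀) (Finset.mem_univ _)
      rw [Fin.val_add, ← pow_eq_pow_mod _ hσr, pow_add, Equiv.Perm.mul_apply] at h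
      exact h
    · rw [← Equiv.Perm.mul_apply, ← pow_add, pow_eq_pow_mod _ hσr, ← Fin.val_add, neg_add_cancel, Fin.val_zero, pow_zero]
      rfl
  choose φ hφ using hcover
  have hcard := Fintype.card_le_of_injective φ (fun a b h => by rw [← hφ a, ← hφ b, h])
  rw [Fintype.card_prod, Fintype.card_fin, Fintype.card_fin, Fintype.card_coe, mul_comm] at hcard
  refine hcard.trans (Nat.mul_le_mul_left r ?_)
  obtain ⟨w, hw⟩ : ∃ w : {x // x ∈ R} → V, ∀ x, w x = ∑ i : Fin r, (T ^ (i : ℕ)) (v x.1) := ⟨_, fun x => rfl⟩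
  have hwker : ∀ x, w x ∈ LinearMap.ker (T - 1) := fun x => by
    rw [LinearMap.mem_ker, hw, ← LinearMap.sum_apply, ← Module.End.mul_apply, Fin.sum_univ_eq_sum_range fun i => T ^ i,
      mul_geom_sum, hT, sub_self]
    rfl
  have hcol : ∀ x : {x // x ∈ R}, ∀ (i : Fin r) (y : {x // x ∈ R}), (σ ^ (i : ℕ)) x.1 = y.1 → x = y := by
    intro x i y h
    have hR' : ∀ j ∈ R, ∀ i : Fin r, j ≤ (σ ^ (i : ℕ)) j := fun j hj => by
      rw [hR, Finset.mem_filter] at hj
      exact hj.2
    refine Subtype.ext (le_antisymm (h ▸ hR' _ x.2 i) ?_)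
    have h2 := hR' _ y.2 (-i)
    rw [← h, ← Equiv.Perm.mul_apply, ← pow_add, pow_eq_pow_mod (_ + _) hσr, ← Fin.val_add, neg_add_cancel, Fin.val_zero,
      pow_zero, Equiv.Perm.one_apply, h] at h2
    exact h2
  have hli : LinearIndependent F fun x => (⟨w x, hwker x⟩ : LinearMap.ker (T - 1)) := by
    refine LinearIndependent.of_comp (LinearMap.ker (T - 1)).subtype ?_
    rw [Fintype.linearIndependent_iff]
    intro g hg x
    simp only [Function.comp_apply, Submodule.subtype_apply] at hg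
    -- the component of the sum in the block of `x`
    have hmem : ∀ (y : {x // x ∈ R}) (i : Fin r), g y • (T ^ (i : ℕ)) (v y.1) ∈ D ((σ ^ (i : ℕ)) y.1) := fun y i =>
      Submodule.smul_mem _ _ (map_pow_of_permuted T σ hσ i y.1 ▸ ⟨_, hvD _, rfl⟩)
    obtain ⟨c, hc⟩ : ∃ c : Fin t → V, ∀ j, c j = ∑ y ∈ (Finset.univ : Finset ({x // x ∈ R} × Fin r)).filter
        (fun y => (σ ^ (y.2 : ℕ)) y.1.1 = j), g y.1 • (T ^ (y.2 : ℕ)) (v y.1.1) := ⟨_, fun j => rfl⟩
    have hc0 := eq_zero_of_sum_mem hind (g := id) Function.injective_id (x := c)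
      (fun j => hc j ▸ Submodule.sum_mem _ fun y hy => by
        rw [Finset.mem_filter] at hy
        exact (show (σ ^ (y.2 : ℕ)) y.1.1 = id j from hy.2) ▸ hmem y.1 y.2) (by
        rw [Finset.sum_congr rfl (fun j _ => hc j), Finset.sum_fiberwise, Fintype.sum_prod_type]
        rw [← hg]
        refine Finset.sum_congr rfl fun y _ => ?_
        rw [hw, Finset.smul_sum]) x.1
    rw [hc] at hc0
    by_cases hfx : σ x.1 = x.1
    · have hfi : ∀ i : ℕ, (σ ^ i) x.1 = x.1 := fun i => by
        rw [Equiv.Perm.coe_pow]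
        exact Function.IsFixedPt.iterate hfx i
      have hTv : ∀ i : ℕ, (T ^ i) (v x.1) = v x.1 := by
        have hTm : T (v x.1) ∈ D x.1 := by
          have h : T (v x.1) ∈ (D x.1).map T := ⟨_, hvD _, rfl⟩
          rwa [hσ, hfx] at h
        obtain ⟨l, hl⟩ := (finrank_eq_one_iff_of_nonzero' (⟨v x.1, hvD _⟩ : D x.1) (fun h => hv0 _ (congrArg Subtype.val h))).1
          (hf _) ⟨T (v x.1), hTm⟩
        have hl' : T (v x.1) = l • v x.1 := (congrArg Subtype.val hl).symm
        have hpow : ∀ i : ℕ, (T ^ i) (v x.1) = l ^ i • v x.1 := fun i => by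
          induction i with
          | zero => simp
          | succ i ih => rw [pow_succ', Module.End.mul_apply, ih, map_smul, hl', smul_smul, pow_succ]
        have hlr : l ^ r = 1 := by
          have h := hpow r
          rw [hT, Module.End.one_apply] at h
          exact smul_left_injective F (hv0 x.1) (by simp only; rw [← h, one_smul])
        intro i
        rw [hpow, eq_one_of_pow_eq_one hrp hi1 hlr, one_pow, one_smul]
      rw [Finset.sum_filter, Fintype.sum_prod_type, Finset.sum_eq_single x] at hc0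
      · simp only [hfi, if_true] at hc0
        rw [Finset.sum_congr rfl (fun (i : Fin r) _ => by rw [hTv]), Finset.sum_const, Finset.card_univ, Fintype.card_fin,
          ← Nat.cast_smul_eq_nsmul F, smul_smul] at hc0
        rcases smul_eq_zero.1 hc0 with h | h
        · exact (mul_eq_zero.1 h).resolve_left (natCast_ne_zero_of_ne hrp)
        · exact absurd h (hv0 _)
      · intro y _ hy
        refine Finset.sum_eq_zero fun i _ => if_neg fun h => hy (hcol y i x h)
      · intro h; exact absurd (Finset.mem_univ x) h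
    · have hinjx := orbit_injective (r := r) σ hσr hfx
      rw [Finset.sum_eq_single (x, (0 : Fin r))] at hc0
      · simpa [hv0] using hc0
      · rintro ⟨y, i⟩ hy hne'
        rw [Finset.mem_filter] at hy
        obtain rfl := hcol y i x hy.2
        exact absurd (Prod.ext rfl (hinjx (show (σ ^ (i : ℕ)) y.1 = (σ ^ ((0 : Fin r) : ℕ)) y.1 by simpa using hy.2)) : (y, i) = (y, (0 : Fin r))) hne'
      · intro h; simp at h
  simpa using hli.fintype_card_le_finrank

end Permuted

end CfsgLib.Perm.Elusive
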