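import Mathlib
import Cfsg.Prelude.Def_GeometricClasses
import Cfsg.Agent.Lib.Perm.Elusive.ImprimitiveSemisimple

/-!
# Counting decompositions
-/

set_option autoImplicit false
set_option linter.all false

namespace CfsgLib.Perm.Elusive

open Cfsg.Geo

variable {F : Type*} [Field F] [Fintype F] {p : ℕ} [Fact p.Prime] [CharP F p] {r : ℕ} [Fact r.Prime]

omit [Fintype F] in
theorem decomposition_transitive {n t a : ℕ} {D D' : Fin t → Submodule F (Fin n → F)} (hD : IsMDecomposition a D)
    (hD' : IsMDecomposition a D') : ∃ g : (Fin n → F) ≃ₗ[F] (Fin n → F), ∀ j, (D j).map g.toLinearMap = D' j := by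
  classical
  obtain ⟨b, hb⟩ : ∃ b : Module.Basis (Σ _ : Fin t, Fin a) F (Fin n → F), ∀ x, b x ∈ D x.1 := by
    have hint := DirectSum.isInternal_submodule_of_iSupIndep_of_iSup_eq_top hD.indep hD.iSup_eq_top
    exact ⟨hint.collectedBasis fun j => Module.finBasisOfFinrankEq F (D j) (hD.finrank_eq j), fun x =>
      hint.collectedBasis_mem _ x⟩
  obtain ⟨b', hb'⟩ : ∃ b : Module.Basis (Σ _ : Fin t, Fin a) F (Fin n → F), ∀ x, b x ∈ D' x.1 := by
    have hint := DirectSum.isInternal_submodule_of_iSupIndep_of_iSup_eq_top hD'.indep hD'.iSup_eq_top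
    exact ⟨hint.collectedBasis fun j => Module.finBasisOfFinrankEq F (D' j) (hD'.finrank_eq j), fun x =>
      hint.collectedBasis_mem _ x⟩
  refine ⟨b.equiv b' (Equiv.refl _), fun j => Submodule.eq_of_le_of_finrank_eq ?_ ?_⟩
  · have hle : D j ≤ Submodule.span F (b '' {x | x.1 = j}) := by
      refine le_of_eq (Submodule.eq_of_le_of_finrank_eq ?_ ?_).symm
      · rw [Submodule.span_le]
        rintro _ ⟨x, hx, rfl⟩
        exact hx ▸ hb x
      · rw [finrank_span_set_eq_card ((b.linearIndependent.linearIndepOn _).id_image), Set.toFinset_card,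
          ← Nat.card_eq_fintype_card, Nat.card_image_of_injective b.injective, hD.finrank_eq]
        have e : ({x : Σ _ : Fin t, Fin a | x.1 = j} : Set _) ≃ Fin a :=
          { toFun := fun x => x.1.2
            invFun := fun u => ⟨⟨j, u⟩, rfl⟩
            left_inv := by rintro ⟨⟨i, u⟩, rfl⟩; rfl
            right_inv := fun u => rfl }
        rw [Nat.card_congr e, Nat.card_fin]
    refine (Submodule.map_mono hle).trans ?_
    rw [Submodule.map_span_le]
    rintro _ ⟨x, hx, rfl⟩
    rw [LinearEquiv.coe_coe, Module.Basis.equiv_apply, Equiv.refl_apply]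
    exact hx ▸ hb' x
  · rw [LinearEquiv.finrank_map_eq, hD.finrank_eq, hD'.finrank_eq]

/-- a divisor of the number of decompositions divides some `q ^ j - 1` -/
theorem order_le_of_dvd_decompositions (hrp : r ≠ p) {n t a : ℕ} (hn : n = a * t) (ha : 1 ≤ a) (ht : 2 ≤ t)
    (hΩ : r ∣ Nat.card {D : Fin t → Submodule F (Fin n → F) // IsMDecomposition a D} / Nat.factorial t) :
    orderOf ((Fintype.card F : ℕ) : ZMod r) ≤ n := by
  classical
  obtain ⟨D₀, hD₀, -⟩ := decomposition_of_basis (F := F) (n := n) (τ := Fin t) (α := Fin a) ht ha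
    ((Pi.basisFun F (Fin n)).reindex ((finCongr (hn.trans (mul_comm a t))).trans finProdFinEquiv.symm)) (Equiv.refl _)
    (Equiv.refl _) LinearMap.id Function.injective_id (Equiv.refl _)
    (fun j u => Submodule.subset_span ⟨(j, u), rfl, rfl⟩)
  letI : MulAction (Equiv.Perm (Fin t)) {D : Fin t → Submodule F (Fin n → F) // IsMDecomposition a D} :=
    { smul := fun σ D => ⟨fun j => D.1 (σ.symm j), ⟨D.2.two_le, D.2.pos, fun j => D.2.finrank_eq _,
        D.2.indep.comp σ.symm.injective, (σ.symm.iSup_comp (g := D.1)).trans D.2.iSup_eq_top⟩⟩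
      one_smul := fun D => rfl
      mul_smul := fun σ τ D => rfl }
  have hfree : ∀ D : {D : Fin t → Submodule F (Fin n → F) // IsMDecomposition a D},
      MulAction.stabilizer (Equiv.Perm (Fin t)) D = ⊥ := fun D => by
    rw [Subgroup.eq_bot_iff_forall]
    intro σ hσ
    refine Equiv.ext fun j => ?_
    have hinj : Function.Injective D.1 := D.2.indep.injective fun i h => by
      have := D.2.finrank_eq i
      rw [h, finrank_bot] at this
      omega
    have h := congrFun (congrArg Subtype.val (MulAction.mem_stabilizer_iff.1 hσ)) (σ j)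
    have h2 : D.1 (σ.symm (σ j)) = D.1 (σ j) := h
    rw [Equiv.symm_apply_apply] at h2
    exact (hinj h2).symm
  have hdvd : Nat.factorial t ∣ Nat.card {D : Fin t → Submodule F (Fin n → F) // IsMDecomposition a D} := by
    rw [Nat.card_congr (MulAction.selfEquivOrbitsQuotientProd hfree), Nat.card_prod,
      Nat.card_eq_fintype_card (α := Equiv.Perm (Fin t)), Fintype.card_perm, Fintype.card_fin]
    exact dvd_mul_left _ _
  have hr1 : r ∣ Nat.card {D : Fin t → Submodule F (Fin n → F) // IsMDecomposition a D} :=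
    hΩ.trans (Nat.div_dvd_of_dvd hdvd)
  have hr2 : r ∣ Nat.card (GL (Fin n) F) := by
    obtain ⟨sm, hsm⟩ : ∃ sm : GL (Fin n) F → {D : Fin t → Submodule F (Fin n → F) // IsMDecomposition a D} →
        {D : Fin t → Submodule F (Fin n → F) // IsMDecomposition a D},
        ∀ g D j, (sm g D).1 j = (D.1 j).map (Matrix.toLin' (g : Matrix (Fin n) (Fin n) F)) := by
      refine ⟨fun g D => ⟨fun j => (D.1 j).map (Matrix.toLin' (g : Matrix (Fin n) (Fin n) F)), ?_⟩, fun g D j => rfl⟩
      have hinj : Function.Injective (Matrix.toLin' (g : Matrix (Fin n) (Fin n) F)) := by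
        intro u v huv
        have h := congrArg (Matrix.toLin' ((g⁻¹ : GL (Fin n) F) : Matrix (Fin n) (Fin n) F)) huv
        rwa [← LinearMap.comp_apply, ← LinearMap.comp_apply, ← Matrix.toLin'_mul, ← Units.val_mul, inv_mul_cancel,
          Units.val_one, Matrix.toLin'_one, LinearMap.id_apply, LinearMap.id_apply] at h
      obtain ⟨e, he⟩ : ∃ e : (Fin n → F) ≃ₗ[F] (Fin n → F), e.toLinearMap = Matrix.toLin' (g : Matrix (Fin n) (Fin n) F) :=
        ⟨LinearEquiv.ofInjectiveEndo _ hinj, LinearMap.ext fun u => rfl⟩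
      refine ⟨D.2.two_le, D.2.pos, fun j => ?_, ?_, ?_⟩
      · rw [← he, LinearEquiv.finrank_map_eq, D.2.finrank_eq]
      · rw [← he]
        exact D.2.indep.map_orderIso (Submodule.orderIsoMapComap e)
      · rw [← Submodule.map_iSup, D.2.iSup_eq_top, ← he, Submodule.map_top]
        exact LinearEquiv.range e
    letI : MulAction (GL (Fin n) F) {D : Fin t → Submodule F (Fin n → F) // IsMDecomposition a D} :=
      { smul := sm
        one_smul := fun D => Subtype.ext (funext fun j => by
          show (sm 1 D).1 j = D.1 j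
          rw [hsm, Units.val_one, Matrix.toLin'_one, Submodule.map_id])
        mul_smul := fun g h D => Subtype.ext (funext fun j => by
          show (sm (g * h) D).1 j = (sm g (sm h D)).1 j
          rw [hsm, hsm, hsm, Units.val_mul, Matrix.toLin'_mul, Submodule.map_comp]) }
    have horb : MulAction.orbit (GL (Fin n) F) (⟨D₀, hD₀⟩ : {D : Fin t → Submodule F (Fin n → F) // IsMDecomposition a D}) = Set.univ := by
      refine Set.eq_univ_of_forall fun D => ?_
      obtain ⟨g, hg⟩ := decomposition_transitive hD₀ D.2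
      refine ⟨Matrix.GeneralLinearGroup.mkOfDetNeZero (LinearMap.toMatrix' g.toLinearMap) (by
        rw [LinearMap.det_toMatrix']; exact g.isUnit_det'.ne_zero), Subtype.ext (funext fun j => ?_)⟩
      show (sm _ _).1 j = D.1 j
      rw [hsm]
      simp only [Matrix.GeneralLinearGroup.val_mkOfDetNeZero, Matrix.toLin'_toMatrix']
      exact hg j
    refine hr1.trans ?_
    rw [← Nat.card_congr (Equiv.Set.univ {D : Fin t → Submodule F (Fin n → F) // IsMDecomposition a D}), ← horb,
      Nat.card_congr (MulAction.orbitEquivQuotientStabilizer _ _)]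
    exact Subgroup.card_quotient_dvd_card _
  rw [Matrix.card_GL_field] at hr2
  obtain ⟨i, -, hi⟩ := ((Fact.out : r.Prime).prime.dvd_finsetProd_iff _).1 hr2
  have hz := card_ne_zero_zmod (F := F) hrp
  rw [← (ZMod.natCast_eq_zero_iff _ r), Nat.cast_sub (Nat.pow_le_pow_right Fintype.card_pos i.2.le), sub_eq_zero,
    Nat.cast_pow, Nat.cast_pow] at hi
  have h1 : orderOf ((Fintype.card F : ℕ) : ZMod r) ∣ n - i :=
    orderOf_dvd_of_pow_eq_one (mul_right_cancel₀ (pow_ne_zero (i : ℕ) hz)
      (by rw [← pow_add, Nat.sub_add_cancel i.2.le, one_mul, hi]))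
  have := Nat.le_of_dvd (by omega) h1
  omega

end CfsgLib.Perm.Elusive
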