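import Mathlib
import Cfsg.Prelude.Def_GeometricClasses

/-!
# Quadratic field subalgebras: pair bases, conjugacy, normalisers
-/

set_option autoImplicit false
set_option linter.all false

namespace CfsgLib.Perm.Elusive

open Matrix Cfsg.Geo

variable {F : Type*} [Field F] {n : ℕ}

/-- a root-free quadratic relation gives a basis of pairs -/
theorem exists_quad_pair_basis {V : Type*} [AddCommGroup V] [Module F V] [FiniteDimensional F V] (T : V →ₗ[F] V)
    {t d : F} (hT : ∀ v, T (T v) = t • T v - d • v) (hirr : ∀ μ : F, μ * μ - t * μ + d ≠ 0) :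
    ∃ (m : ℕ) (b : Module.Basis (Fin 2 × Fin m) F V),
      (∀ i, T (b (0, i)) = b (1, i)) ∧ ∀ i, T (b (1, i)) = t • b (1, i) - d • b (0, i) := by
  classical
  have key : ∀ (r m : ℕ) (v : Fin 2 × Fin m → V), LinearIndependent F v →
      (∀ i, T (v (0, i)) = v (1, i)) → Module.finrank F V ≤ 2 * m + r →
      ∃ (m : ℕ) (v : Fin 2 × Fin m → V), LinearIndependent F v ∧ (∀ i, T (v (0, i)) = v (1, i)) ∧
        Submodule.span F (Set.range v) = ⊤ := by
    intro r
    induction r with
    | zero =>
      intro m v hli hv hle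
      exact ⟨m, v, hli, hv, Submodule.eq_top_of_finrank_eq (le_antisymm (Submodule.finrank_le _)
        (hle.trans (by rw [finrank_span_eq_card hli, Fintype.card_prod, Fintype.card_fin, Fintype.card_fin]; omega)))⟩
    | succ r ih =>
      intro m v hli hv hle
      by_cases htop : Submodule.span F (Set.range v) = ⊤
      · exact ⟨m, v, hli, hv, htop⟩
      obtain ⟨w, -, hw⟩ := SetLike.exists_of_lt (lt_top_iff_ne_top.2 htop)
      have hinv : ∀ y ∈ Submodule.span F (Set.range v), T y ∈ Submodule.span F (Set.range v) := by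
        intro y hy
        induction hy using Submodule.span_induction with
        | mem z hz =>
          obtain ⟨⟨a, i⟩, rfl⟩ := hz
          fin_cases a
          · show T (v (0, i)) ∈ _
            rw [hv]; exact Submodule.subset_span ⟨(1, i), rfl⟩
          · show T (v (1, i)) ∈ _
            rw [← hv, hT, hv]
            exact sub_mem (Submodule.smul_mem _ _ (Submodule.subset_span ⟨(1, i), rfl⟩))
              (Submodule.smul_mem _ _ (Submodule.subset_span ⟨(0, i), rfl⟩))
        | zero => rw [map_zero]; exact zero_mem _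
        | add _ _ _ _ e1 e2 => rw [map_add]; exact add_mem e1 e2
        | smul c _ _ e1 => rw [map_smul]; exact Submodule.smul_mem _ c e1
      obtain ⟨v', hv'⟩ : ∃ v' : Fin 2 × Fin (m + 1) → V,
          v' = fun p => Fin.snoc (α := fun _ => V) (fun i => v (p.1, i)) (if p.1 = 0 then w else T w) p.2 := ⟨_, rfl⟩
      refine ih (m + 1) v' ?_ (fun i => ?_) (by omega)
      · rw [Fintype.linearIndependent_iff]
        intro g hg
        have hsplit : ∑ p, g p • v' p = (∑ p : Fin 2 × Fin m, g (p.1, p.2.castSucc) • v p) +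
            (g (0, Fin.last m) • w + g (1, Fin.last m) • T w) := by
          simp only [Fintype.sum_prod_type, Fin.sum_univ_two]
          simp only [Fin.sum_univ_castSucc, hv', Fin.snoc_castSucc, Fin.snoc_last, one_ne_zero, if_true, if_false]
          abel
        rw [hsplit] at hg
        have hmem : g (0, Fin.last m) • w + g (1, Fin.last m) • T w ∈ Submodule.span F (Set.range v) := by
          rw [eq_neg_of_add_eq_zero_right hg]
          exact neg_mem (Submodule.sum_mem _ fun p _ => Submodule.smul_mem _ _ (Submodule.subset_span ⟨p, rfl⟩))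
        obtain ⟨α, hα⟩ : ∃ α, α = g (0, Fin.last m) := ⟨_, rfl⟩
        obtain ⟨β, hβ⟩ : ∃ β, β = g (1, Fin.last m) := ⟨_, rfl⟩
        rw [← hα, ← hβ] at hmem hg
        have hT' := hinv _ hmem
        rw [map_add, map_smul, map_smul, hT] at hT'
        have hcomb := sub_mem (Submodule.smul_mem _ (α + t * β) hmem) (Submodule.smul_mem _ β hT')
        have e : (α + t * β) • (α • w + β • T w) - β • (α • T w + β • (t • T w - d • w)) =
            (α * α + t * α * β + d * β * β) • w := by module
        rw [e] at hcomb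
        have h0 : α = 0 ∧ β = 0 := by
          rcases eq_or_ne β 0 with hb | hb
          · refine ⟨?_, hb⟩
            by_contra ha
            refine hw ?_
            rw [hb] at hcomb
            simpa [ha] using (Submodule.smul_mem_iff _ (show α * α + t * α * 0 + d * 0 * 0 ≠ 0 by simp [ha])).1 hcomb
          · exfalso
            refine hw ((Submodule.smul_mem_iff _ ?_).1 hcomb)
            intro hq
            refine hirr (-α / β) ?_
            field_simp
            linear_combination hq
        rw [h0.1, h0.2, zero_smul, zero_smul, add_zero, add_zero] at hg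
        have hg' := Fintype.linearIndependent_iff.1 hli _ hg
        rintro ⟨a, i⟩
        induction i using Fin.lastCases with
        | last => fin_cases a <;> [exact hα ▸ h0.1; exact hβ ▸ h0.2]
        | cast i => exact hg' (a, i)
      · rw [hv']
        induction i using Fin.lastCases with
        | last => simp
        | cast i => simp [hv]
  obtain ⟨m, v, hli, hv, hspan⟩ := key (Module.finrank F V) 0 (fun p => p.2.elim0) (linearIndependent_empty_type)
    (fun i => i.elim0) (by omega)
  refine ⟨m, Module.Basis.mk hli hspan.ge, fun i => ?_, fun i => ?_⟩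
  · rw [Module.Basis.mk_apply, Module.Basis.mk_apply, hv]
  · rw [Module.Basis.mk_apply, Module.Basis.mk_apply, ← hv, hT, hv]

/-- an irreducible binary form represents everything -/
theorem exists_norm_eq [Fintype F] {t d : F} (hirr : ∀ μ : F, μ * μ - t * μ + d ≠ 0) (e : F) :
    ∃ a b : F, a * a + t * a * b + d * b * b = e := by
  classical
  by_cases h2 : ringChar F = 2
  · obtain ⟨x, hx⟩ := FiniteField.isSquare_of_char_two h2 e
    exact ⟨x, 0, by rw [hx]; ring⟩
  · have h2' : (2 : F) ≠ 0 := Ring.two_ne_zero h2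
    have hc : d - t * t / 4 ≠ 0 := fun h => hirr (t / 2) (by
      have h4 : (4 : F) = 2 * 2 := by norm_num
      rw [h4] at h
      field_simp at h ⊢
      linear_combination h)
    open Polynomial in
    obtain ⟨a, b, hab⟩ := FiniteField.exists_root_sum_quadratic
      (f := (X ^ 2 : Polynomial F)) (g := C (d - t * t / 4) * X ^ 2 - C e)
      (by simp) (by
        rw [Polynomial.degree_sub_C (by rw [Polynomial.degree_C_mul_X_pow _ hc]; norm_num),
          Polynomial.degree_C_mul_X_pow _ hc]; rfl)
      (FiniteField.odd_card_of_char_ne_two h2)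
    simp at hab
    refine ⟨a - t * b / 2, b, ?_⟩
    have h4 : (4 : F) = 2 * 2 := by norm_num
    rw [h4] at hab
    field_simp at hab ⊢
    linear_combination hab

/-- the companion block matrix -/
def pairMat (t d : F) (m : ℕ) : Matrix (Fin 2 × Fin m) (Fin 2 × Fin m) F :=
  Matrix.blockDiagonal fun _ : Fin m => !![0, -d; 1, t]

theorem toMatrix_pair {m : ℕ} (k : Matrix (Fin n) (Fin n) F) (b : Module.Basis (Fin 2 × Fin m) F (Fin n → F)) {t d : F}
    (h0 : ∀ i, k *ᵥ b (0, i) = b (1, i)) (h1 : ∀ i, k *ᵥ b (1, i) = t • b (1, i) - d • b (0, i)) :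
    LinearMap.toMatrix b b (Matrix.toLin' k) = pairMat t d m := by
  ext ⟨a, i⟩ ⟨c, j⟩
  rw [LinearMap.toMatrix_apply, Matrix.toLin'_apply, pairMat, Matrix.blockDiagonal_apply]
  fin_cases a <;> fin_cases c <;> simp [h0, h1, Finsupp.single_apply, eq_comm] <;> split_ifs <;> simp_all

/-- quadratic field elements with one minimal polynomial are conjugate under `SL` -/
theorem exists_sl_conj_quad [Fintype F] (hn : 0 < n) {k k' : Matrix (Fin n) (Fin n) F} {t d : F}
    (hirr : ∀ μ : F, μ * μ - t * μ + d ≠ 0) (hk : k * k = t • k - d • 1) (hk' : k' * k' = t • k' - d • 1) :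
    ∃ P : Matrix.SpecialLinearGroup (Fin n) F, k' * P.1 = P.1 * k := by
  classical
  have hquad : ∀ g : Matrix (Fin n) (Fin n) F, g * g = t • g - d • 1 → ∃ (m : ℕ) (B : Matrix (Fin n) (Fin 2 × Fin m) F)
      (B' : Matrix (Fin 2 × Fin m) (Fin n) F), B * B' = 1 ∧ B' * B = 1 ∧ g * B = B * pairMat t d m ∧ n = 2 * m := by
    intro g hg
    obtain ⟨m, b, hb0, hb1⟩ := exists_quad_pair_basis (Matrix.toLin' g) (t := t) (d := d) (fun v => by
      rw [Matrix.toLin'_apply, Matrix.toLin'_apply, mulVec_mulVec, hg, sub_mulVec, smul_mulVec, smul_mulVec,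
        one_mulVec]) hirr
    refine ⟨m, (Pi.basisFun F (Fin n)).toMatrix b, b.toMatrix (Pi.basisFun F (Fin n)), Module.Basis.toMatrix_mul_toMatrix_flip _ _,
      Module.Basis.toMatrix_mul_toMatrix_flip _ _, ?_, ?_⟩
    · rw [← toMatrix_pair g b (fun i => by rw [← Matrix.toLin'_apply]; exact hb0 i)
        (fun i => by rw [← Matrix.toLin'_apply]; exact hb1 i),
        basis_toMatrix_mul_linearMap_toMatrix b (Pi.basisFun F (Fin n)) b, ← linearMap_toMatrix_mul_basis_toMatrix
          b (Pi.basisFun F (Fin n)) (Pi.basisFun F (Fin n)), LinearMap.toMatrix_eq_toMatrix', LinearMap.toMatrix'_toLin']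
    · have := Module.finrank_eq_card_basis b
      rw [Module.finrank_fin_fun, Fintype.card_prod, Fintype.card_fin, Fintype.card_fin] at this
      exact this
  obtain ⟨m, B, B', hBB', hB'B, hB, hnm⟩ := hquad k hk
  obtain ⟨m', D, D', hDD', hD'D, hD, hnm'⟩ := hquad k' hk'
  obtain rfl : m' = m := by omega
  have hdet0 : (D * B').det ≠ 0 := by
    intro h
    have e : (D * B') * (B * D') = 1 := by
      rw [Matrix.mul_assoc, ← Matrix.mul_assoc B' B, hB'B, Matrix.one_mul, hDD']
    have := congrArg Matrix.det e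
    rw [Matrix.det_mul, h, zero_mul, Matrix.det_one] at this
    exact zero_ne_one this
  obtain ⟨a, b, hab⟩ := exists_norm_eq hirr (D * B').det⁻¹
  obtain ⟨C, hC⟩ : ∃ C, C = Matrix.blockDiagonal fun i : Fin m' =>
      if (i : ℕ) = 0 then a • (1 : Matrix (Fin 2) (Fin 2) F) + b • !![0, -d; 1, t] else 1 := ⟨_, rfl⟩
  have hCd : C.det = (D * B').det⁻¹ := by
    rw [hC, Matrix.det_blockDiagonal, Finset.prod_eq_single (⟨0, by omega⟩ : Fin m')
      (fun i _ hi => by rw [if_neg fun h => hi (Fin.ext h), Matrix.det_one]) (fun h => absurd (Finset.mem_univ _) h),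
      if_pos rfl, ← hab, Matrix.det_fin_two]
    simp
    ring
  have hCR : pairMat t d m' * C = C * pairMat t d m' := by
    rw [hC, pairMat, ← Matrix.blockDiagonal_mul, ← Matrix.blockDiagonal_mul]
    congr 1
    funext i
    split_ifs
    · simp [Matrix.mul_add, Matrix.add_mul]
      refine ⟨⟨?_, ?_⟩, ?_, ?_⟩ <;> ring
    · simp
  have hdet : (D * C * B').det = 1 := by
    have e : D * C * B' = (D * B') * (B * C * B') := by
      rw [Matrix.mul_assoc D B', ← Matrix.mul_assoc B', ← Matrix.mul_assoc B', hB'B, Matrix.one_mul, Matrix.mul_assoc]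
    rw [e, Matrix.det_mul, Matrix.det_conj_of_mul_eq_one hBB' hB'B, hCd, mul_inv_cancel₀ hdet0]
  refine ⟨⟨D * C * B', hdet⟩, ?_⟩
  show k' * (D * C * B') = D * C * B' * k
  have hB'k : B' * k = pairMat t d m' * B' := by
    calc B' * k = B' * k * (B * B') := by rw [hBB', Matrix.mul_one]
      _ = B' * (k * B) * B' := by simp only [Matrix.mul_assoc]
      _ = _ := by rw [hB, ← Matrix.mul_assoc, hB'B, Matrix.one_mul]
  rw [Matrix.mul_assoc (D * C), hB'k, ← Matrix.mul_assoc k', ← Matrix.mul_assoc k', hD, Matrix.mul_assoc D, hCR]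
  simp only [Matrix.mul_assoc]

/-- the data of a quadratic field subalgebra -/
theorem exists_generator [Fintype F] (hn : 0 < n) {K : Subalgebra F (Matrix (Fin n) (Fin n) F)}
    (hK : IsFieldSubalgebra 2 K) : ∃ (k : Matrix (Fin n) (Fin n) F) (t d : F), k ∈ K ∧ k * k = t • k - d • 1 ∧
      (∀ μ : F, μ * μ - t * μ + d ≠ 0) ∧ ∀ m ∈ K, ∃ a b : F, m = a • 1 + b • k := by
  classical
  haveI : Nonempty (Fin n) := ⟨⟨0, hn⟩⟩
  obtain ⟨k, hkK, hkns⟩ : ∃ k ∈ K, ∀ c : F, k ≠ c • (1 : Matrix (Fin n) (Fin n) F) := by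
    by_contra hcon
    push Not at hcon
    have hle : Subalgebra.toSubmodule K ≤ Submodule.span F {(1 : Matrix (Fin n) (Fin n) F)} := fun x hx => by
      obtain ⟨c, rfl⟩ := hcon x hx
      exact Submodule.smul_mem _ _ (Submodule.mem_span_singleton_self _)
    have := Submodule.finrank_mono hle
    rw [finrank_span_singleton one_ne_zero] at this
    have h2 := hK.finrank_eq
    change Module.finrank F (Subalgebra.toSubmodule K) = 2 at h2
    omega
  have hspan : ∀ m ∈ K, ∃ a b : F, m = a • 1 + b • k := by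
    intro m hm
    have hli : LinearIndependent F ![(1 : Matrix (Fin n) (Fin n) F), k] := by
      rw [LinearIndependent.pair_iff]
      intro s s' h
      rcases eq_or_ne s' 0 with h0 | h0
      · rw [h0, zero_smul, add_zero] at h
        exact ⟨(smul_eq_zero.1 h).resolve_right one_ne_zero, h0⟩
      · refine absurd ?_ (hkns (-s / s'))
        rw [div_eq_inv_mul, ← smul_smul, neg_smul, ← eq_neg_of_add_eq_zero_right h, inv_smul_smul₀ h0]
    have heq : Submodule.span F (Set.range ![(1 : Matrix (Fin n) (Fin n) F), k]) = Subalgebra.toSubmodule K := by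
      refine Submodule.eq_of_le_of_finrank_le (Submodule.span_le.2 ?_) (le_of_eq ?_)
      · rintro _ ⟨i, rfl⟩
        fin_cases i
        exacts [K.one_mem, hkK]
      · rw [finrank_span_eq_card hli, Fintype.card_fin]
        exact hK.finrank_eq
    have hm' : m ∈ Submodule.span F (Set.range ![(1 : Matrix (Fin n) (Fin n) F), k]) := heq ▸ hm
    obtain ⟨c, hc⟩ := (Submodule.mem_span_range_iff_exists_fun F).1 hm'
    exact ⟨c 0, c 1, by rw [← hc, Fin.sum_univ_two]; rfl⟩
  obtain ⟨a, b, hab⟩ := hspan _ (K.mul_mem hkK hkK)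
  refine ⟨k, b, -a, hkK, by rw [hab, neg_smul, sub_neg_eq_add, add_comm], fun μ hμ => ?_, hspan⟩
  have e : (k - μ • 1) * (k - (b - μ) • 1) = 0 := by
    simp only [Matrix.sub_mul, Matrix.mul_sub, Matrix.smul_mul, Matrix.mul_smul, Matrix.one_mul, Matrix.mul_one, hab,
      smul_sub, smul_smul]
    have ha : a = μ * μ - b * μ := by linear_combination -hμ
    rw [ha]
    module
  obtain ⟨y, -, hy⟩ := hK.inv _ (K.sub_mem hkK (K.smul_mem K.one_mem (b - μ))) (sub_ne_zero.2 (hkns _))
  have h0 : k - μ • 1 = 0 := by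
    have h := congrArg (fun Z => Z * y) e
    simp only [Matrix.zero_mul] at h
    rwa [Matrix.mul_assoc, hy, Matrix.mul_one] at h
  exact hkns μ (sub_eq_zero.1 h0)

/-- the two images of the generator -/
theorem normalizer_cases [Fintype F] {K : Subalgebra F (Matrix (Fin n) (Fin n) F)} (hK : IsFieldSubalgebra 2 K)
    {k : Matrix (Fin n) (Fin n) F} {t d : F} (hk : k ∈ K) (hkk : k * k = t • k - d • 1) {g : GL (Fin n) F}
    (hg : g ∈ subalgebraNormalizer K) :
    g.1 * k = k * g.1 ∨ g.1 * k = (t • 1 - k) * g.1 := by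
  obtain ⟨u, hu⟩ : ∃ u, u = g.1 * k * (g⁻¹).1 := ⟨_, rfl⟩
  have huK : u ∈ K := hu ▸ (hg k).1 hk
  have huu : u * u = t • u - d • 1 := by
    have e : u * u = g.1 * (k * k) * (g⁻¹).1 := by
      rw [hu]
      calc g.1 * k * (g⁻¹).1 * (g.1 * k * (g⁻¹).1) = g.1 * k * ((g⁻¹).1 * g.1) * k * (g⁻¹).1 := by
            simp only [Matrix.mul_assoc]
        _ = _ := by rw [← Units.val_mul, inv_mul_cancel, Units.val_one, Matrix.mul_one]; simp only [Matrix.mul_assoc]
    rw [e, hkk, hu]
    simp only [Matrix.mul_sub, Matrix.sub_mul, Matrix.mul_smul, Matrix.smul_mul, Matrix.mul_one, ← Units.val_mul,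
      mul_inv_cancel, Units.val_one]
  have hz : (u - k) * (u - (t • 1 - k)) = 0 := by
    have hc := hK.comm k hk u huK
    simp only [Matrix.sub_mul, Matrix.mul_sub, Matrix.smul_mul, Matrix.mul_smul, Matrix.mul_one, huu, hc, hkk]
    module
  have hback : ∀ v, u = v → g.1 * k = v * g.1 := fun v hv => by
    rw [← hv, hu, Matrix.mul_assoc, ← Units.val_mul, inv_mul_cancel, Units.val_one, Matrix.mul_one]
  by_cases h : u - (t • 1 - k) = 0
  · exact Or.inr (hback _ (sub_eq_zero.1 h))
  · obtain ⟨y, -, hy⟩ := hK.inv _ (K.sub_mem huK (K.sub_mem (K.smul_mem K.one_mem t) hk)) h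
    refine Or.inl (hback _ (sub_eq_zero.1 ?_))
    have h' := congrArg (fun Z => Z * y) hz
    simp only [Matrix.zero_mul] at h'
    rwa [Matrix.mul_assoc, hy, Matrix.mul_one] at h'

/-- membership in the normaliser -/
theorem mem_normalizer_of_conj {K : Subalgebra F (Matrix (Fin n) (Fin n) F)} {k : Matrix (Fin n) (Fin n) F} {t : F}
    (hk : k ∈ K) (hspan : ∀ m ∈ K, ∃ a b : F, m = a • 1 + b • k) {g : GL (Fin n) F}
    (h : g.1 * k = k * g.1 ∨ g.1 * k = (t • 1 - k) * g.1) : g ∈ subalgebraNormalizer K := by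
  obtain ⟨v, hvK, hv, hv'⟩ : ∃ v ∈ K, g.1 * k = v * g.1 ∧ k * g.1 = g.1 * v := by
    rcases h with h | h
    · exact ⟨k, hk, h, h.symm⟩
    · refine ⟨_, K.sub_mem (K.smul_mem K.one_mem t) hk, h, ?_⟩
      rw [Matrix.mul_sub, h, Matrix.sub_mul, Matrix.smul_mul, Matrix.mul_smul, Matrix.one_mul, Matrix.mul_one,
        sub_sub_cancel]
  intro m
  constructor
  · intro hm
    obtain ⟨a, b, rfl⟩ := hspan m hm
    have : g.1 * (a • 1 + b • k) * (g⁻¹).1 = a • 1 + b • v := by
      simp only [Matrix.mul_add, Matrix.add_mul, Matrix.mul_smul, Matrix.smul_mul, Matrix.mul_one, hv]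
      rw [Matrix.mul_assoc v, ← Units.val_mul, mul_inv_cancel, Units.val_one, Matrix.mul_one]
    rw [this]
    exact K.add_mem (K.smul_mem K.one_mem a) (K.smul_mem hvK b)
  · intro hm
    obtain ⟨a, b, hab⟩ := hspan _ hm
    have : m = a • 1 + b • v := by
      calc m = (g⁻¹).1 * (g.1 * m * (g⁻¹).1) * g.1 := by
            simp only [← Matrix.mul_assoc, ← Units.val_mul, inv_mul_cancel, Units.val_one, Matrix.one_mul]
            rw [Matrix.mul_assoc, ← Units.val_mul, inv_mul_cancel, Units.val_one, Matrix.mul_one]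
        _ = _ := by
            rw [hab]
            simp only [Matrix.mul_add, Matrix.add_mul, Matrix.mul_smul, Matrix.smul_mul, Matrix.mul_one, ← Units.val_mul,
              inv_mul_cancel, Units.val_one]
            rw [Matrix.mul_assoc, hv', ← Matrix.mul_assoc, ← Units.val_mul, inv_mul_cancel, Units.val_one,
              Matrix.one_mul]
    rw [this]
    exact K.add_mem (K.smul_mem K.one_mem a) (K.smul_mem hvK b)

theorem fromBlocks_sub_fromBlocks {a b c e : Type*} (A A' : Matrix a c F) (B B' : Matrix a e F) (C C' : Matrix b c F)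
    (D D' : Matrix b e F) : Matrix.fromBlocks A B C D - Matrix.fromBlocks A' B' C' D' =
      Matrix.fromBlocks (A - A') (B - B') (C - C') (D - D') := by
  ext (i | i) (j | j) <;> rfl

end CfsgLib.Perm.Elusive
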