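import Mathlib
import Cfsg.Agent.Lib.Classical.HermFrames
import Cfsg.Agent.Lib.Classical.HermOrder
import Cfsg.Agent.Lib.FormClass.PSUDets
import Cfsg.Agent.Lib.Perm.Elusive.Semisimple

/-!
# Pairs of complementary totally singular subspaces of a hermitian space
-/

set_option autoImplicit false
set_option linter.all false

namespace CfsgLib.Perm.Elusive.HermPair

open Matrix CfsgLib.SU CfsgLib.Classical CfsgLib.Classical.HermFrames

variable {F : Type*} [Field F] [Fintype F] {q : ℕ} (C : UCtx F q) {n m : ℕ}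

/-- two complementary totally singular halves -/
structure IsPair (n m : ℕ) (D : Fin 2 → Submodule F (Fin n → F)) : Prop where
  pos : 0 < m
  dim : n = 2 * m
  finrank : ∀ i, Module.finrank F (D i) = m
  disj : Disjoint (D 0) (D 1)
  sing : ∀ i, ∀ u ∈ D i, ∀ v ∈ D i, C.form u v = 0

theorem fin_two_eq (i : Fin 2) : i = 0 ∨ i = 1 := by revert i; decide

variable {C}

theorem IsPair.sup {D : Fin 2 → Submodule F (Fin n → F)} (h : IsPair C n m D) : D 0 ⊔ D 1 = ⊤ := by
  refine Submodule.eq_top_of_finrank_eq ?_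
  have h1 := Submodule.finrank_sup_add_finrank_inf_eq (D 0) (D 1)
  rw [h.disj.eq_bot, finrank_bot, h.finrank, h.finrank, add_zero] at h1
  rw [h1, Module.finrank_fin_fun, h.dim, two_mul]

theorem IsPair.split {D : Fin 2 → Submodule F (Fin n → F)} (h : IsPair C n m D) (v : Fin n → F) :
    ∃ a ∈ D 0, ∃ b ∈ D 1, v = a + b := by
  obtain ⟨a, ha, b, hb, hab⟩ := Submodule.mem_sup.1 (h.sup.symm ▸ Submodule.mem_top : v ∈ D 0 ⊔ D 1)
  exact ⟨a, ha, b, hb, hab.symm⟩

theorem IsPair.symm {D : Fin 2 → Submodule F (Fin n → F)} (h : IsPair C n m D) : IsPair C n m ![D 1, D 0] := by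
  refine ⟨h.pos, h.dim, fun i => ?_, h.disj.symm, fun i => ?_⟩
  · rcases fin_two_eq i with rfl | rfl
    · exact h.finrank 1
    · exact h.finrank 0
  · rcases fin_two_eq i with rfl | rfl
    · exact h.sing 1
    · exact h.sing 0

variable (C)

theorem isPair_of_decomp {D : Fin 2 → Submodule F (Fin n → F)} (he : Even n) (hD : Cfsg.Geo.IsMDecomposition (n / 2) D)
    (hDs : ∀ i, Cfsg.Geo.IsTotallySingularFor (Cfsg.hermForm n F q) (D i)) : IsPair C n (n / 2) D := by
  refine ⟨hD.pos, by obtain ⟨k, hk⟩ := he; omega, hD.finrank_eq, hD.indep.pairwiseDisjoint (by decide : (0 : Fin 2) ≠ 1),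
    fun i u hu v hv => ?_⟩
  rw [← C.hermForm_eq]
  exact hDs i u hu v hv

variable {C}

theorem form_gl {g : GL (Fin n) F} (hg : g ∈ Cfsg.GU n F q) (u v : Fin n → F) :
    C.form (g.1 *ᵥ u) (g.1 *ᵥ v) = C.form u v := (gu_mem_iff C).1 hg u v

theorem mulVec_injective (g : GL (Fin n) F) : Function.Injective (Matrix.toLin' g.1) := fun u v h => by
  rw [Matrix.toLin'_apply, Matrix.toLin'_apply] at h
  have h1 := congrArg (g⁻¹.1 *ᵥ ·) h
  simpa using h1

theorem IsPair.image {D : Fin 2 → Submodule F (Fin n → F)} (h : IsPair C n m D) {g : GL (Fin n) F}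
    (hg : g ∈ Cfsg.GU n F q) : IsPair C n m (fun i => (D i).map (Matrix.toLin' g.1)) := by
  refine ⟨h.pos, h.dim, fun i => ?_, ?_, fun i u hu v hv => ?_⟩
  · rw [← (Submodule.equivMapOfInjective _ (mulVec_injective g) (D i)).finrank_eq, h.finrank]
  · show Disjoint ((D 0).map _) ((D 1).map _)
    rw [disjoint_iff, ← Submodule.map_inf _ (mulVec_injective g), h.disj.eq_bot, Submodule.map_bot]
  · obtain ⟨u, hu', rfl⟩ := hu
    obtain ⟨v, hv', rfl⟩ := hv
    rw [Matrix.toLin'_apply, Matrix.toLin'_apply, form_gl hg]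
    exact h.sing i u hu' v hv'

/-- frames pairing two families -/
theorem li_of_pairing {κ : Type*} [Fintype κ] [DecidableEq κ] {e f : κ → Fin n → F} {τ : F} (hτ : τ ≠ 0)
    (hee : ∀ i j, C.form (e i) (e j) = 0) (hff : ∀ i j, C.form (f i) (f j) = 0)
    (hef : ∀ i j, C.form (e i) (f j) = if i = j then τ else 0) : LinearIndependent F (Sum.elim e f) := by
  rw [Fintype.linearIndependent_iff]
  intro g hg x
  have hfe : ∀ i j, C.form (f i) (e j) = if i = j then C.bar τ else 0 := fun i j => by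
    rw [← C.bar_form, hef, apply_ite C.bar, map_zero]; simp [eq_comm]
  rcases x with i | i
  · have h := congrArg (C.form · (f i)) hg
    simp only [Fintype.sum_sum_type, Sum.elim_inl, Sum.elim_inr, C.form_add_left, C.form_sum_left, C.form_smul_left,
      hef, hff, C.form_zero_left] at h
    simpa [hτ] using h
  · have h := congrArg (C.form · (e i)) hg
    simp only [Fintype.sum_sum_type, Sum.elim_inl, Sum.elim_inr, C.form_add_left, C.form_sum_left, C.form_smul_left,
      hee, hfe, C.form_zero_left] at h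
    simpa [hτ] using h

theorem form_span_zero {S : Set (Fin n → F)} (h : ∀ u ∈ S, ∀ v ∈ S, C.form u v = 0) {u v : Fin n → F}
    (hu : u ∈ Submodule.span F S) (hv : v ∈ Submodule.span F S) : C.form u v = 0 := by
  induction hu using Submodule.span_induction with
  | zero => exact C.form_zero_left _
  | add x y _ _ hx hy => rw [C.form_add_left, hx, hy, add_zero]
  | smul c x _ hx => rw [C.form_smul_left, hx, mul_zero]
  | mem x hx =>
    induction hv using Submodule.span_induction with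
    | zero => exact C.form_zero_right _
    | add y z _ _ hy hz => rw [C.form_add_right, hy, hz, add_zero]
    | smul c y _ hy => rw [C.form_smul_right, hy, mul_zero]
    | mem y hy => exact h x hx y hy

theorem isPair_of_pairing {κ : Type*} [Fintype κ] [DecidableEq κ] {e f : κ → Fin n → F} {τ : F} (hτ : τ ≠ 0)
    (hm : 0 < m) (hn : n = 2 * m) (hκ : Fintype.card κ = m)
    (hee : ∀ i j, C.form (e i) (e j) = 0) (hff : ∀ i j, C.form (f i) (f j) = 0)
    (hef : ∀ i j, C.form (e i) (f j) = if i = j then τ else 0) :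
    IsPair C n m ![Submodule.span F (Set.range e), Submodule.span F (Set.range f)] := by
  have hli := li_of_pairing hτ hee hff hef
  obtain ⟨h1, h2, h3⟩ := linearIndependent_sum.1 hli
  refine ⟨hm, hn, fun i => ?_, h3, fun i u hu v hv => ?_⟩
  · rcases fin_two_eq i with rfl | rfl
    · exact (finrank_span_eq_card h1).trans hκ
    · exact (finrank_span_eq_card h2).trans hκ
  · rcases fin_two_eq i with rfl | rfl
    · exact form_span_zero (by rintro _ ⟨a, rfl⟩ _ ⟨b, rfl⟩; exact hee a b) hu hv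
    · exact form_span_zero (by rintro _ ⟨a, rfl⟩ _ ⟨b, rfl⟩; exact hff a b) hu hv

/-- pairs from orthonormal families -/
theorem isPair_of_orth {κ : Type*} [Fintype κ] [DecidableEq κ] {w : κ ⊕ κ → Fin n → F} (h2 : (2 : F) ≠ 0) {c : F}
    (hc : c * C.bar c = -1) (hm : 0 < m) (hn : n = 2 * m) (hκ : Fintype.card κ = m)
    (hw : ∀ a b, C.form (w a) (w b) = if a = b then 1 else 0) :
    IsPair C n m ![Submodule.span F (Set.range fun j => w (.inl j) + c • w (.inr j)),
      Submodule.span F (Set.range fun j => w (.inl j) - c • w (.inr j))] := by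
  refine isPair_of_pairing (τ := 2) h2 hm hn hκ (fun i j => ?_) (fun i j => ?_) (fun i j => ?_)
  · simp only [C.form_add_left, C.form_add_right, C.form_smul_left, C.form_smul_right, hw, Sum.inl.injEq,
      Sum.inr.injEq, reduceCtorEq, if_false]
    split_ifs
    · linear_combination hc
    · ring
  · simp only [C.form_sub_left, C.form_sub_right, C.form_smul_left, C.form_smul_right, hw, Sum.inl.injEq,
      Sum.inr.injEq, reduceCtorEq, if_false]
    split_ifs
    · linear_combination hc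
    · ring
  · simp only [C.form_add_left, C.form_sub_right, C.form_smul_left, C.form_smul_right, hw, Sum.inl.injEq,
      Sum.inr.injEq, reduceCtorEq, if_false]
    split_ifs
    · linear_combination -hc
    · ring

/-- dual frames inside a pair -/
theorem IsPair.exists_dual {D : Fin 2 → Submodule F (Fin n → F)} (h : IsPair C n m D) {e : Fin m → Fin n → F}
    (he : LinearIndependent F e) (heD : ∀ i, e i ∈ D 0) :
    ∃ f : Fin m → Fin n → F, (∀ i, f i ∈ D 1) ∧ ∀ i j, C.form (e i) (f j) = if i = j then 1 else 0 := by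
  classical
  have hspan : Submodule.span F (Set.range e) = D 0 :=
    Submodule.eq_of_le_of_finrank_le (Submodule.span_le.2 (by rintro _ ⟨i, rfl⟩; exact heD i))
      (by rw [h.finrank, finrank_span_eq_card he, Fintype.card_fin])
  obtain ⟨Ψ, hΨ⟩ : ∃ Ψ : D 1 →ₗ[F] (Fin m → F), ∀ u i, Ψ u i = C.form (u : Fin n → F) (e i) :=
    ⟨{ toFun := fun u i => C.form (u : Fin n → F) (e i)
       map_add' := fun u v => funext fun i => C.form_add_left _ _ _
       map_smul' := fun c u => funext fun i => C.form_smul_left _ _ _ }, fun u i => rfl⟩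
  have hinj : Function.Injective Ψ := by
    refine (injective_iff_map_eq_zero Ψ).2 fun u hu => Subtype.ext (C.eq_zero_of_form fun v => ?_)
    obtain ⟨a, ha, b, hb, rfl⟩ := h.split v
    rw [C.form_add_right, h.sing 1 _ u.2 b hb, add_zero]
    rw [← hspan] at ha
    induction ha using Submodule.span_induction with
    | zero => exact C.form_zero_right _
    | add x y _ _ hx hy => rw [C.form_add_right, hx, hy, add_zero]
    | smul c x _ hx => rw [C.form_smul_right, hx, mul_zero]
    | mem x hx =>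
      obtain ⟨i, rfl⟩ := hx
      rw [← hΨ, hu]; rfl
  have hsurj : Function.Surjective Ψ :=
    (LinearMap.injective_iff_surjective_of_finrank_eq_finrank (by rw [h.finrank, Module.finrank_fin_fun])).1 hinj
  choose u hu using fun j => hsurj (Pi.single j 1)
  refine ⟨fun j => u j, fun j => (u j).2, fun i j => ?_⟩
  rw [← C.bar_form, ← hΨ, hu, Pi.single_apply, apply_ite C.bar, map_one, map_zero]

theorem IsPair.exists_frame {D : Fin 2 → Submodule F (Fin n → F)} (h : IsPair C n m D) :
    ∃ e : Fin m → Fin n → F, LinearIndependent F e ∧ ∀ i, e i ∈ D 0 :=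
  ⟨fun i => (Module.finBasisOfFinrankEq F (D 0) (h.finrank 0) i : Fin n → F),
    (Module.finBasisOfFinrankEq F (D 0) (h.finrank 0)).linearIndependent.map' (D 0).subtype (Submodule.ker_subtype _),
    fun i => Submodule.coe_mem _⟩

/-- a unitary map between two framed pairs -/
theorem IsPair.exists_move {D E : Fin 2 → Submodule F (Fin n → F)} (hD : IsPair C n m D) (hE : IsPair C n m E)
    {e f e' f' : Fin m → Fin n → F} (he : ∀ i, e i ∈ D 0) (hf : ∀ i, f i ∈ D 1) (he' : ∀ i, e' i ∈ E 0)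
    (hf' : ∀ i, f' i ∈ E 1) (hef : ∀ i j, C.form (e i) (f j) = if i = j then 1 else 0)
    (hef' : ∀ i j, C.form (e' i) (f' j) = if i = j then 1 else 0) :
    ∃ g ∈ Cfsg.GU n F q, (∀ i, g.1 *ᵥ e i = e' i) ∧ (∀ i, g.1 *ᵥ f i = f' i) ∧
      ∀ i, (D i).map (Matrix.toLin' g.1) = E i := by
  classical
  have hee : ∀ i j, C.form (e i) (e j) = 0 := fun i j => hD.sing 0 _ (he i) _ (he j)
  have hff : ∀ i j, C.form (f i) (f j) = 0 := fun i j => hD.sing 1 _ (hf i) _ (hf j)
  have hee' : ∀ i j, C.form (e' i) (e' j) = 0 := fun i j => hE.sing 0 _ (he' i) _ (he' j)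
  have hff' : ∀ i j, C.form (f' i) (f' j) = 0 := fun i j => hE.sing 1 _ (hf' i) _ (hf' j)
  have hli := li_of_pairing one_ne_zero hee hff hef
  obtain ⟨A, hA⟩ := exists_move_tuple C hli (li_of_pairing one_ne_zero hee' hff' hef') (fun a b => by
    have hfe : ∀ i j, C.form (f i) (e j) = C.form (f' i) (e' j) := fun i j => by
      rw [← C.bar_form, hef, ← C.bar_form (e' j), hef']
    rcases a with i | i <;> rcases b with j | j
    · show C.form (e i) (e j) = C.form (e' i) (e' j)
      rw [hee, hee']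
    · show C.form (e i) (f j) = C.form (e' i) (f' j)
      rw [hef, hef']
    · exact hfe i j
    · show C.form (f i) (f j) = C.form (f' i) (f' j)
      rw [hff, hff'])
  refine ⟨A.1, A.2, fun i => hA (.inl i), fun i => hA (.inr i), fun i => ?_⟩
  obtain ⟨h1, h2, -⟩ := linearIndependent_sum.1 hli
  have key : ∀ (i : Fin 2) (t t' : Fin m → Fin n → F), LinearIndependent F t → (∀ j, t j ∈ D i) → (∀ j, t' j ∈ E i) →
      (∀ j, A.1.1 *ᵥ t j = t' j) → (D i).map (Matrix.toLin' A.1.1) = E i := by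
    intro i t t' ht htD htE htA
    refine Submodule.eq_of_le_of_finrank_le ?_ ?_
    · have hs : Submodule.span F (Set.range t) = D i :=
        Submodule.eq_of_le_of_finrank_le (Submodule.span_le.2 (by rintro _ ⟨j, rfl⟩; exact htD j))
          (by rw [hD.finrank, finrank_span_eq_card ht, Fintype.card_fin])
      rw [← hs, Submodule.map_span, Submodule.span_le]
      rintro _ ⟨_, ⟨j, rfl⟩, rfl⟩
      rw [Matrix.toLin'_apply, htA]
      exact htE j
    · rw [← (Submodule.equivMapOfInjective _ (mulVec_injective A.1) (D i)).finrank_eq, hD.finrank, hE.finrank]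
  rcases fin_two_eq i with rfl | rfl
  · exact key 0 e e' h1 he he' fun j => hA (.inl j)
  · exact key 1 f f' h2 hf hf' fun j => hA (.inr j)

/-- `SU` is transitive on pairs -/
theorem IsPair.exists_su_move {D E : Fin 2 → Submodule F (Fin n → F)} (hD : IsPair C n m D) (hE : IsPair C n m E) :
    ∃ g ∈ Cfsg.GU n F q ⊓ Cfsg.Geo.specialLinear (Fin n) F, ∀ i, (D i).map (Matrix.toLin' g.1) = E i := by
  classical
  obtain ⟨e, heli, he⟩ := hD.exists_frame
  obtain ⟨f, hf, hef⟩ := hD.exists_dual heli he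
  obtain ⟨e', heli', he'⟩ := hE.exists_frame
  obtain ⟨f', hf', hef'⟩ := hE.exists_dual heli' he'
  obtain ⟨g, hg, -, -, hgD⟩ := hD.exists_move hE he hf he' hf' hef hef'
  obtain ⟨r, hr0, hr⟩ := CfsgLib.FormCl.unit_norm_quot (C := C) (u := (C.detHom ⟨g, hg⟩)⁻¹)
  have hbr : C.bar r ≠ 0 := by simpa using hr0
  have hr' : r / C.bar r * g.1.det = 1 := by
    rw [hr, Subgroup.coe_inv, Units.val_inv_eq_inv_val, C.detHom_val]
    exact inv_mul_cancel₀ ((g.1.isUnit_iff_isUnit_det.1 g.isUnit).ne_zero)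
  obtain ⟨z, hz⟩ : ∃ z : Fin m, z = ⟨0, hD.pos⟩ := ⟨_, rfl⟩
  obtain ⟨a, ha⟩ : ∃ a : Fin m ⊕ Fin m → F,
      a = Sum.elim (fun i => if i = z then r else 1) (fun i => if i = z then (C.bar r)⁻¹ else 1) := ⟨_, rfl⟩
  obtain ⟨h, hh, hhe, hhf, hhE⟩ := hE.exists_move hE he' hf'
    (e' := fun i => a (.inl i) • e' i) (f' := fun i => a (.inr i) • f' i)
    (fun i => Submodule.smul_mem _ _ (he' i)) (fun i => Submodule.smul_mem _ _ (hf' i)) hef' (fun i j => by
      rw [C.form_smul_left, C.form_smul_right, hef', ha]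
      by_cases hij : i = j
      · subst hij
        simp only [Sum.elim_inl, Sum.elim_inr, if_true, mul_one]
        by_cases hi : i = z
        · rw [if_pos hi, if_pos hi, map_inv₀, C.bar_bar, mul_inv_cancel₀ hr0]
        · rw [if_neg hi, if_neg hi, map_one, mul_one]
      · rw [if_neg hij, mul_zero, mul_zero])
  refine ⟨h * g, ⟨mul_mem hh hg, ?_⟩, fun i => ?_⟩
  · have hli := li_of_pairing (C := C) one_ne_zero (fun i j => hE.sing 0 _ (he' i) _ (he' j))
      (fun i j => hE.sing 1 _ (hf' i) _ (hf' j)) hef'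
    haveI : Nonempty (Fin m ⊕ Fin m) := ⟨.inl z⟩
    obtain ⟨b, hb⟩ : ∃ b : Module.Basis (Fin m ⊕ Fin m) F (Fin n → F), ∀ x, b x = Sum.elim e' f' x :=
      ⟨basisOfLinearIndependentOfCardEqFinrank hli (by
        rw [Fintype.card_sum, Fintype.card_fin, Module.finrank_fin_fun, hE.dim, two_mul]), fun x => by simp⟩
    have hdet : h.1.det = r / C.bar r := by
      rw [← LinearMap.det_toLin', CfsgLib.Perm.Elusive.det_of_monomial b _ (Equiv.refl _) a ?_]
      · rw [Equiv.Perm.sign_refl, ha, Fintype.prod_sum_type]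
        simp [div_eq_mul_inv]
      · intro x
        rw [Matrix.toLin'_apply, Equiv.refl_apply, hb]
        rcases x with i | i
        · exact hhe i
        · exact hhf i
    refine Units.ext ?_
    rw [Matrix.GeneralLinearGroup.val_det_apply, Units.val_mul, Matrix.det_mul, hdet, hr', Units.val_one]
  · rw [Units.val_mul, Matrix.toLin'_mul, Submodule.map_comp, hgD, hhE]

/-- the pairs fixed by conjugates -/
theorem exists_conj_iff {D : Fin 2 → Submodule F (Fin n → F)} (hD : IsPair C n m D) (x : GL (Fin n) F) :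
    (∃ g ∈ Cfsg.GU n F q ⊓ Cfsg.Geo.specialLinear (Fin n) F, g⁻¹ * x * g ∈ Cfsg.Geo.decompositionStabilizer D) ↔
      ∃ E, IsPair C n m E ∧ x ∈ Cfsg.Geo.decompositionStabilizer E := by
  constructor
  · rintro ⟨g, hg, σ, hσ⟩
    refine ⟨_, hD.image hg.1, σ, fun i => ?_⟩
    show ((D i).map (Matrix.toLin' g.1)).map (Matrix.toLin' x.1) = (D (σ i)).map (Matrix.toLin' g.1)
    rw [← hσ i, ← Submodule.map_comp, ← Submodule.map_comp, ← Matrix.toLin'_mul, ← Matrix.toLin'_mul, ← Units.val_mul,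
      ← Units.val_mul]
    congr 3
    group
  · rintro ⟨E, hE, σ, hσ⟩
    obtain ⟨g, hg, hgD⟩ := hD.exists_su_move hE
    refine ⟨g, hg, σ, fun i => ?_⟩
    refine Submodule.map_injective_of_injective (mulVec_injective g) ?_
    rw [hgD, ← hσ i, ← hgD i, ← Submodule.map_comp, ← Submodule.map_comp, ← Matrix.toLin'_mul, ← Matrix.toLin'_mul,
      ← Units.val_mul, ← Units.val_mul]
    congr 3
    group

/-- the fixed-point kernel of a scaled element -/
def eigK (g : GL (Fin n) F) (ζ : F) : Submodule F (Fin n → F) :=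
  LinearMap.ker (Matrix.toLin' g.1 - ζ • LinearMap.id)

theorem mem_eigK {g : GL (Fin n) F} {ζ : F} {v : Fin n → F} : v ∈ eigK g ζ ↔ g.1 *ᵥ v = ζ • v := by
  rw [eigK, LinearMap.mem_ker, LinearMap.sub_apply, LinearMap.smul_apply, LinearMap.id_apply, Matrix.toLin'_apply,
    sub_eq_zero]

theorem eig_le {E : Fin 2 → Submodule F (Fin n → F)} (hE : IsPair C n m E) {g : GL (Fin n) F}
    (hg : g ∈ Cfsg.GU n F q) {ζ : F} (hζ : ζ * C.bar ζ = 1) (hgE : ∀ i, (E i).map (Matrix.toLin' g.1) = E i) :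
    Module.finrank F ↥(eigK g ζ ⊓ E 0) ≤ Module.finrank F ↥(eigK g ζ ⊓ E 1) := by
  classical
  obtain ⟨S, hS⟩ : ∃ S, S = Matrix.toLin' g.1 - ζ • LinearMap.id := ⟨_, rfl⟩
  have hrn := (S.domRestrict (E 0)).finrank_range_add_finrank_ker
  rw [hE.finrank] at hrn
  have hk : Module.finrank F (LinearMap.ker (S.domRestrict (E 0))) = Module.finrank F ↥(eigK g ζ ⊓ E 0) := by
    rw [LinearMap.ker_domRestrict, ← (Submodule.equivMapOfInjective _ (E 0).subtype_injective _).symm.finrank_eq,
      Submodule.map_comap_subtype, inf_comm, hS]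
    rfl
  obtain ⟨b, hb⟩ : ∃ b, b = Module.finBasis F (LinearMap.range (S.domRestrict (E 0))) := ⟨_, rfl⟩
  obtain ⟨Ψ, hΨ⟩ : ∃ Ψ : E 1 →ₗ[F] (Fin (Module.finrank F (LinearMap.range (S.domRestrict (E 0)))) → F),
      ∀ u i, Ψ u i = C.form (u : Fin n → F) (b i : Fin n → F) :=
    ⟨{ toFun := fun u i => C.form (u : Fin n → F) (b i : Fin n → F)
       map_add' := fun u v => funext fun i => C.form_add_left _ _ _
       map_smul' := fun c u => funext fun i => C.form_smul_left _ _ _ }, fun u i => rfl⟩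
  have hrn' := Ψ.finrank_range_add_finrank_ker
  rw [hE.finrank] at hrn'
  have hr' := Submodule.finrank_le (LinearMap.range Ψ)
  rw [Module.finrank_fin_fun] at hr'
  have hker : Module.finrank F (LinearMap.ker Ψ) ≤ Module.finrank F ↥(eigK g ζ ⊓ E 1) := by
    rw [(Submodule.equivMapOfInjective _ (E 1).subtype_injective (LinearMap.ker Ψ)).finrank_eq]
    refine Submodule.finrank_mono ?_
    rintro _ ⟨u, hu, rfl⟩
    refine ⟨?_, u.2⟩
    obtain ⟨u', hu', huu'⟩ : (u : Fin n → F) ∈ (E 1).map (Matrix.toLin' g.1) := by rw [hgE 1]; exact u.2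
    rw [Matrix.toLin'_apply] at huu'
    have hann : ∀ a ∈ E 0, C.form (u : Fin n → F) (S a) = 0 := fun a ha => by
      obtain ⟨w, hw⟩ : ∃ w : LinearMap.range (S.domRestrict (E 0)), (w : Fin n → F) = S a :=
        ⟨⟨_, ⟨⟨a, ha⟩, rfl⟩⟩, rfl⟩
      rw [← hw, ← b.sum_repr w]
      simp only [Submodule.coe_sum, Submodule.coe_smul]
      rw [← C.bar_form]
      simp only [C.form_sum_left, C.form_smul_left, map_sum, map_mul, C.bar_form]
      refine Finset.sum_eq_zero fun i _ => ?_
      rw [← hΨ, LinearMap.mem_ker.1 hu]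
      simp
    have hu0 : u' = C.bar ζ • (u : Fin n → F) := by
      rw [← sub_eq_zero]
      refine C.eq_zero_of_form fun v => ?_
      obtain ⟨a, ha, c, hc, rfl⟩ := hE.split v
      rw [C.form_add_right, hE.sing 1 _ (Submodule.sub_mem _ hu' (Submodule.smul_mem _ _ u.2)) c hc, add_zero,
        C.form_sub_left, C.form_smul_left]
      have h1 := hann a ha
      rw [hS, LinearMap.sub_apply, LinearMap.smul_apply, LinearMap.id_apply, Matrix.toLin'_apply, C.form_sub_right,
        C.form_smul_right] at h1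
      rw [← huu', form_gl hg] at h1
      rw [← huu']
      exact h1
    show (u : Fin n → F) ∈ eigK g ζ
    rw [hu0, Matrix.mulVec_smul] at huu'
    rw [mem_eigK]
    conv_rhs => rw [← huu', smul_smul, hζ, one_smul]
  omega

theorem eig_even {E : Fin 2 → Submodule F (Fin n → F)} (hE : IsPair C n m E) {g : GL (Fin n) F}
    (hg : g ∈ Cfsg.GU n F q) {ζ : F} (hζ : ζ * C.bar ζ = 1) (hgE : ∀ i, (E i).map (Matrix.toLin' g.1) = E i) :
    Even (Module.finrank F (eigK g ζ)) := by
  have h1 := eig_le hE hg hζ hgE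
  have h2 : Module.finrank F ↥(eigK g ζ ⊓ E 1) ≤ Module.finrank F ↥(eigK g ζ ⊓ E 0) := eig_le hE.symm hg hζ (fun i => by
    rcases fin_two_eq i with rfl | rfl
    · exact hgE 1
    · exact hgE 0)
  have hsum : eigK g ζ ⊓ E 0 ⊔ eigK g ζ ⊓ E 1 = eigK g ζ := by
    refine le_antisymm (sup_le inf_le_left inf_le_left) fun v hv => ?_
    obtain ⟨a, ha, b, hb, rfl⟩ := hE.split v
    rw [mem_eigK, Matrix.mulVec_add, smul_add] at hv
    have hga : g.1 *ᵥ a ∈ E 0 := hgE 0 ▸ ⟨a, ha, Matrix.toLin'_apply _ _⟩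
    have hgb : g.1 *ᵥ b ∈ E 1 := hgE 1 ▸ ⟨b, hb, Matrix.toLin'_apply _ _⟩
    have hzero : g.1 *ᵥ a - ζ • a = 0 := by
      refine Submodule.disjoint_def.1 hE.disj _ (Submodule.sub_mem _ hga (Submodule.smul_mem _ _ ha)) ?_
      rw [show g.1 *ᵥ a - ζ • a = -(g.1 *ᵥ b - ζ • b) by linear_combination (norm := module) hv]
      exact Submodule.neg_mem _ (Submodule.sub_mem _ hgb (Submodule.smul_mem _ _ hb))
    refine Submodule.add_mem_sup ⟨mem_eigK.2 (sub_eq_zero.1 hzero), ha⟩ ⟨mem_eigK.2 ?_, hb⟩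
    rw [sub_eq_zero] at hzero
    rwa [hzero, add_right_inj] at hv
  have h3 := Submodule.finrank_sup_add_finrank_inf_eq (eigK g ζ ⊓ E 0) (eigK g ζ ⊓ E 1)
  rw [hsum, (hE.disj.mono inf_le_right inf_le_right).eq_bot, finrank_bot] at h3
  exact ⟨Module.finrank F ↥(eigK g ζ ⊓ E 0), by omega⟩

/-- eigenspaces of elements permuting a pair -/
theorem eig_cases {E : Fin 2 → Submodule F (Fin n → F)} (hE : IsPair C n m E) {g : GL (Fin n) F}
    (hg : g ∈ Cfsg.GU n F q) (hgE : g ∈ Cfsg.Geo.decompositionStabilizer E) {ζ : F} (hζ : ζ * C.bar ζ = 1) :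
    (∀ i, (E i).map (Matrix.toLin' g.1) = E i) ∧ Even (Module.finrank F (eigK g ζ)) ∨
      (E 0).map (Matrix.toLin' g.1) = E 1 ∧ (E 1).map (Matrix.toLin' g.1) = E 0 ∧
        Module.finrank F (eigK g ζ) ≤ m := by
  obtain ⟨σ, hσ⟩ := hgE
  have hne : σ 0 ≠ σ 1 := σ.injective.ne (by decide)
  rcases fin_two_eq (σ 0) with h0 | h0
  · have h1 : σ 1 = 1 := (fin_two_eq (σ 1)).resolve_left fun h => hne (h0.trans h.symm)
    have hfix : ∀ i, (E i).map (Matrix.toLin' g.1) = E i := fun i => by
      rcases fin_two_eq i with rfl | rfl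
      · exact (hσ 0).trans (congrArg E h0)
      · exact (hσ 1).trans (congrArg E h1)
    exact .inl ⟨hfix, eig_even hE hg hζ hfix⟩
  · have h1 : σ 1 = 0 := (fin_two_eq (σ 1)).resolve_right fun h => hne (h0.trans h.symm)
    refine .inr ⟨(hσ 0).trans (congrArg E h0), (hσ 1).trans (congrArg E h1), ?_⟩
    have hdis : eigK g ζ ⊓ E 0 = ⊥ := by
      rw [Submodule.eq_bot_iff]
      rintro v ⟨hv, hv0⟩
      have hv1 : g.1 *ᵥ v ∈ E 1 := (congrArg E h0) ▸ (hσ 0) ▸ ⟨v, hv0, Matrix.toLin'_apply _ _⟩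
      rw [mem_eigK.1 hv] at hv1
      have hz : ζ • v = 0 := Submodule.disjoint_def.1 hE.disj _ (Submodule.smul_mem _ _ hv0) hv1
      exact (smul_eq_zero.1 hz).resolve_left fun h => by rw [h, zero_mul] at hζ; exact zero_ne_one hζ
    have h2 := Submodule.finrank_sup_add_finrank_inf_eq (eigK g ζ) (E 0)
    rw [hdis, finrank_bot, hE.finrank] at h2
    have h3 := Submodule.finrank_le (eigK g ζ ⊔ E 0)
    rw [Module.finrank_fin_fun] at h3
    have h4 := hE.dim
    omega

/-- the derangement criterion -/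
theorem not_fixes_pair {x : GL (Fin n) F} (hx : x ∈ Cfsg.GU n F q) {ζ : F} (hζ : ζ * C.bar ζ = 1)
    (hodd : Odd (Module.finrank F (eigK x ζ)))
    (hsw : m < Module.finrank F (eigK x ζ) ∨ ∃ (r : ℕ) (z : F), Odd r ∧ (x ^ r).1 = z • (1 : Matrix (Fin n) (Fin n) F))
    {E : Fin 2 → Submodule F (Fin n → F)} (hE : IsPair C n m E) : x ∉ Cfsg.Geo.decompositionStabilizer E := by
  intro hxE
  rcases eig_cases hE hx hxE hζ with ⟨-, h⟩ | ⟨h0, h1, hm⟩
  · exact Nat.not_even_iff_odd.2 hodd h
  · rcases hsw with h | ⟨r, z, ⟨k, rfl⟩, hz⟩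
    · omega
    have hpow : ∀ j : ℕ, (E 0).map (Matrix.toLin' (x ^ (2 * j + 1)).1) = E 1 := by
      intro j
      induction j with
      | zero => simpa using h0
      | succ j ih =>
        rw [show 2 * (j + 1) + 1 = 1 + (1 + (2 * j + 1)) by ring, pow_add, pow_one, Units.val_mul, pow_add, pow_one,
          Units.val_mul, Matrix.toLin'_mul, Matrix.toLin'_mul, Submodule.map_comp, Submodule.map_comp, ih, h1, h0]
    have h2 := hpow k
    have hle : E 1 ≤ E 0 := by
      rw [← h2, hz]
      rintro _ ⟨v, hv, rfl⟩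
      rw [Matrix.toLin'_apply, Matrix.smul_mulVec, Matrix.one_mulVec]
      exact Submodule.smul_mem _ _ hv
    have hbot := hE.disj.mono_left hle
    rw [disjoint_self] at hbot
    have h4 := hE.finrank 1
    rw [hbot, finrank_bot] at h4
    exact hE.pos.ne h4

end CfsgLib.Perm.Elusive.HermPair
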