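import Mathlib
import Cfsg.Agent.Lib.Perm.Elusive.HermPairs
import Cfsg.Agent.Lib.Classical.HermTori

/-!
# Special unitary elements with eigenspaces of odd dimension, and the index of a pair stabiliser
-/

set_option autoImplicit false
set_option linter.all false

namespace CfsgLib.Perm.Elusive.HermPair

open Matrix CfsgLib.SU CfsgLib.Classical CfsgLib.Classical.HermFrames CfsgLib.Classical.HermStab

variable {F : Type*} [Field F] [Fintype F] {q : ℕ} {C : UCtx F q} {n m : ℕ}

theorem eigK_scalar {x : GL (Fin n) F} {z ζ : F} (hx : x.1 = z • (1 : Matrix (Fin n) (Fin n) F)) :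
    Module.finrank F (eigK x ζ) = n ∨ Module.finrank F (eigK x ζ) = 0 := by
  by_cases h : z = ζ
  · left
    rw [show eigK x ζ = ⊤ from Submodule.eq_top_iff'.2 fun v => mem_eigK.2 (by
      rw [hx, Matrix.smul_mulVec, Matrix.one_mulVec, h]), finrank_top, Module.finrank_fin_fun]
  · right
    rw [show eigK x ζ = ⊥ from (Submodule.eq_bot_iff _).2 fun v hv => by
      have h1 := mem_eigK.1 hv
      rw [hx, Matrix.smul_mulVec, Matrix.one_mulVec, ← sub_eq_zero, ← sub_smul] at h1
      exact (smul_eq_zero.1 h1).resolve_left (sub_ne_zero.2 h), finrank_bot]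

/-- an element of `SU` from a matrix of `SU` -/
theorem toGL_mem (A : ↥(Cfsg.SU n F q)) :
    ∃ x ∈ Cfsg.GU n F q ⊓ Cfsg.Geo.specialLinear (Fin n) F, x.1 = A.1.1 :=
  ⟨Matrix.SpecialLinearGroup.toGL A.1, ⟨A.2, Units.ext A.1.2⟩, rfl⟩

theorem exists_diag {d : Fin n → F} (hd : ∀ i, d i * C.bar (d i) = 1) (hp : ∏ i, d i = 1) :
    ∃ x ∈ Cfsg.GU n F q ⊓ Cfsg.Geo.specialLinear (Fin n) F, x.1 = Matrix.diagonal d :=
  toGL_mem (C.mkSU (Matrix.diagonal d) (by rw [Matrix.det_diagonal, hp]) fun u v => by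
    simp only [UCtx.form, Matrix.mulVec_diagonal, map_mul]
    exact Finset.sum_congr rfl fun i _ => by rw [mul_mul_mul_comm, hd, one_mul])

theorem finrank_eigK_diag [DecidableEq F] {x : GL (Fin n) F} {d : Fin n → F} (hx : x.1 = Matrix.diagonal d) (ζ : F) :
    Module.finrank F (eigK x ζ) = (Finset.univ.filter fun i => d i = ζ).card := by
  obtain ⟨ψ, hψ⟩ : ∃ ψ : eigK x ζ →ₗ[F] ({i // d i = ζ} → F), ∀ v i, ψ v i = (v : Fin n → F) i.1 :=
    ⟨(LinearMap.funLeft F F Subtype.val).comp (eigK x ζ).subtype, fun v i => rfl⟩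
  have hbij : Function.Bijective ψ := by
    refine ⟨(injective_iff_map_eq_zero ψ).2 fun v hv => Subtype.ext (funext fun i => ?_), fun g => ?_⟩
    · show (v : Fin n → F) i = 0
      by_cases hi : d i = ζ
      · exact (hψ v ⟨i, hi⟩).symm.trans (by rw [hv]; rfl)
      · have h := congrFun (mem_eigK.1 v.2) i
        rw [hx, Matrix.mulVec_diagonal, Pi.smul_apply, smul_eq_mul, ← sub_eq_zero, ← sub_mul] at h
        exact (mul_eq_zero.1 h).resolve_left (sub_ne_zero.2 hi)
    · refine ⟨⟨fun i => if h : d i = ζ then g ⟨i, h⟩ else 0, mem_eigK.2 (funext fun i => ?_)⟩, funext fun i => ?_⟩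
      · rw [hx, Matrix.mulVec_diagonal, Pi.smul_apply, smul_eq_mul]
        by_cases hi : d i = ζ
        · simp only [dif_pos hi]
          exact congrArg (· * g ⟨i, hi⟩) hi
        · simp only [dif_neg hi, mul_zero]
      · rw [hψ]
        exact dif_pos i.2
  rw [(LinearEquiv.ofBijective ψ hbij).finrank_eq, Module.finrank_fintype_fun_eq_card, Fintype.card_subtype]

/-- a map of prime order without fixed points -/
theorem no_fixed_of_order {V : Type*} [AddCommGroup V] [Module F V] [Finite V] {r : ℕ} [Fact r.Prime] (hrF : (r : F) ≠ 0)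
    {T : V →ₗ[F] V} (hT : T ^ r = 1) (hT1 : T ≠ 1)
    (hord : ∀ j, 0 < j → j < Module.finrank F V → ¬ Fintype.card F ^ j ≡ 1 [MOD r]) {v : V} (hv : T v = v) : v = 0 := by
  classical
  haveI : FiniteDimensional F V := Module.Finite.of_finite
  obtain ⟨W, hW⟩ : ∃ W, W = LinearMap.range (T - 1) := ⟨_, rfl⟩
  have hfix : ∀ w ∈ W, T w = w → w = 0 := by
    intro w hw hTw
    rw [hW] at hw
    obtain ⟨u, rfl⟩ := hw
    have hiter : ∀ j : ℕ, (T ^ j) u = u + (j : F) • ((T - 1 : V →ₗ[F] V) u) := by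
      intro j
      induction j with
      | zero => simp
      | succ j ih =>
        rw [pow_succ', Module.End.mul_apply, ih, map_add, map_smul, hTw, Nat.cast_succ, add_smul, one_smul]
        simp only [LinearMap.sub_apply, Module.End.one_apply]
        abel
    have h := hiter r
    rw [hT, Module.End.one_apply, left_eq_add] at h
    exact (smul_eq_zero.1 h).resolve_left hrF
  have hmap : ∀ w ∈ W, T w ∈ W := by
    rw [hW]
    rintro _ ⟨u, rfl⟩
    exact ⟨T u, by simp⟩
  letI : Fintype W := Fintype.ofFinite W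
  obtain ⟨f, hf⟩ : ∃ f : Function.End W, ∀ w : W, ((f w : W) : V) = T w :=
    ⟨fun w => ⟨T w, hmap w w.2⟩, fun w => rfl⟩
  have hiter : ∀ (j : ℕ) (w : W), (((f ^ j : Function.End W) w : W) : V) = (T ^ j) w := by
    intro j
    induction j with
    | zero => exact fun w => rfl
    | succ j ih =>
      intro w
      rw [pow_succ', pow_succ', Module.End.mul_apply, ← ih]
      exact hf _
  have hfr : f ^ r ^ 1 = 1 := funext fun w => Subtype.ext (by rw [pow_one, hiter, hT]; rfl)
  have hc := Equiv.Perm.card_fixedPoints_modEq hfr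
  have h1 : Fintype.card f.fixedPoints = 1 := by
    rw [Fintype.card_eq_one_iff]
    refine ⟨⟨0, Subtype.ext (by rw [hf]; simp)⟩, fun w => ?_⟩
    refine Subtype.ext (Subtype.ext ?_)
    exact hfix _ w.1.2 (by rw [← hf, show f w.1 = w.1 from w.2])
  rw [Fintype.card_eq_nat_card (α := f.fixedPoints)] at h1 hc
  rw [h1, Module.card_eq_pow_finrank (K := F)] at hc
  have hWpos : 0 < Module.finrank F W := by
    rw [Nat.pos_iff_ne_zero, Ne, Submodule.finrank_eq_zero, hW, LinearMap.range_eq_bot, sub_eq_zero]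
    exact hT1
  have htop : W = ⊤ := Submodule.eq_top_of_finrank_eq (le_antisymm (Submodule.finrank_le W)
    (not_lt.1 fun h => hord _ hWpos h hc))
  exact hfix v (htop ▸ Submodule.mem_top) hv

/-- an element with an odd eigenspace of codimension `b` -/
theorem exists_torus_elem {p a r b : ℕ} [Fact p.Prime] [CharP F p] [Fact r.Prime] (C : UCtx F q) (hq : q = p ^ a)
    (hF : Fintype.card F = q ^ 2) (hrF : (r : F) ≠ 0) (hb : Odd b) (hbn : b ≤ n) (hne : Even n) (hr : r ∣ q ^ b + 1)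
    (hq1 : ¬ r ∣ q + 1) (hmin : ∀ j, 0 < j → j < b → ¬ (q ^ 2) ^ j ≡ 1 [MOD r]) :
    ∃ x ∈ Cfsg.GU n F q ⊓ Cfsg.Geo.specialLinear (Fin n) F,
      (x ^ r).1 = (1 : F) • (1 : Matrix (Fin n) (Fin n) F) ∧ Odd (Module.finrank F (eigK x (1 : F))) := by
  obtain ⟨k, rfl⟩ : ∃ k, n = b + k := ⟨n - b, by omega⟩
  obtain ⟨w, hw⟩ : ∃ w, q = w + 1 := ⟨q - 1, by have := two_le_q hF; omega⟩
  obtain ⟨c, hc⟩ := hb
  have hK : r ∣ HermTori.K q b := by
    have h1 : r ∣ HermTori.K q b * (w + 2) := by rw [hc, hw, HermTori.K_odd_mul, ← hw, ← hc]; exact hr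
    exact ((Fact.out : r.Prime).dvd_mul.1 h1).resolve_right (by rwa [show w + 2 = q + 1 by omega])
  obtain ⟨y, hy⟩ := HermTori.exists_torus C hq hF (m := b) (by omega) hK
  have hyr : y.1.1 ^ r = 1 := by
    have h := pow_orderOf_eq_one y
    rw [hy] at h
    have h2 := congrArg (fun z : ↥(Cfsg.SU b F q) => (Cfsg.slToMat b F) z.1) h
    simp only [SubmonoidClass.coe_pow, map_pow, OneMemClass.coe_one, map_one] at h2
    exact h2
  have hy1 : Matrix.toLin' y.1.1 ≠ 1 := fun h => by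
    have h1 : y = 1 := Subtype.ext (Subtype.ext (Matrix.toLin'.injective (h.trans Matrix.toLin'_one.symm)))
    rw [h1, orderOf_one] at hy
    exact (Fact.out : r.Prime).ne_one hy.symm
  obtain ⟨x, hx, hxv⟩ := toGL_mem (HermTori.blockSU C (k := b) (m := k) (y, 1))
  have hx' : x.1 = blockMat y.1.1 1 := hxv
  refine ⟨x, hx, ?_, ?_⟩
  · rw [one_smul, Units.val_pow_eq_pow_val, hx', blockMat, ← map_pow]
    have : ∀ j : ℕ, (Matrix.fromBlocks y.1.1 0 0 (1 : Matrix (Fin k) (Fin k) F)) ^ j =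
        Matrix.fromBlocks (y.1.1 ^ j) 0 0 1 := fun j => by
      induction j with
      | zero => rw [pow_zero, pow_zero, Matrix.fromBlocks_one]
      | succ j ih => rw [pow_succ, ih, Matrix.fromBlocks_multiply, pow_succ]; simp
    rw [this, hyr, Matrix.fromBlocks_one, map_one]
  · obtain ⟨ψ, hψ⟩ : ∃ ψ : eigK x (1 : F) →ₗ[F] (Fin k → F), ∀ v, ψ v = rc (v : Fin (b + k) → F) :=
      ⟨(LinearMap.funLeft F F (Fin.natAdd b)).comp (eigK x (1 : F)).subtype, fun v => rfl⟩
    have hlc : ∀ v ∈ eigK x (1 : F), lc v = 0 := fun v hv => by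
      have h := congrArg lc (mem_eigK.1 hv)
      rw [one_smul, hx', (blockMat_mulVec _ _ v).1] at h
      refine no_fixed_of_order hrF (T := Matrix.toLin' y.1.1) ?_ hy1 (fun j hj hjb => ?_) (by rw [Matrix.toLin'_apply, h])
      · rw [← Matrix.toLin'_pow, hyr, Matrix.toLin'_one]; rfl
      · rw [Module.finrank_fin_fun] at hjb
        rw [hF]
        exact hmin j hj hjb
    have hbij : Function.Bijective ψ := by
      refine ⟨(injective_iff_map_eq_zero ψ).2 fun v hv => Subtype.ext ?_, fun g => ?_⟩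
      · funext i
        induction i using Fin.addCases with
        | left i => exact congrFun (hlc v v.2) i
        | right i => exact congrFun ((hψ v).symm.trans hv) i
      · refine ⟨⟨Fin.append 0 g, mem_eigK.2 ?_⟩, ?_⟩
        · rw [one_smul, hx']
          funext i
          induction i using Fin.addCases with
          | left i =>
            refine (congrFun (blockMat_mulVec y.1.1 1 (Fin.append 0 g)).1 i).trans ?_
            rw [lc_append, Matrix.mulVec_zero, Fin.append_left]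
          | right i =>
            refine (congrFun (blockMat_mulVec y.1.1 1 (Fin.append 0 g)).2 i).trans ?_
            rw [rc_append, Matrix.one_mulVec, Fin.append_right]
        · rw [hψ, rc_append]
    rw [(LinearEquiv.ofBijective ψ hbij).finrank_eq, Module.finrank_fin_fun]
    rcases Nat.even_or_odd k with hk | hk
    · exact absurd hne (Nat.not_even_iff_odd.2 (Odd.add_even ⟨c, hc⟩ hk))
    · exact hk

/-- transvections -/
theorem exists_transvection_elem {p : ℕ} [Fact p.Prime] [CharP F p] (C : UCtx F q) (hn : 2 ≤ n) :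
    ∃ x ∈ Cfsg.GU n F q ⊓ Cfsg.Geo.specialLinear (Fin n) F,
      (x ^ p).1 = (1 : F) • (1 : Matrix (Fin n) (Fin n) F) ∧ Module.finrank F (eigK x (1 : F)) + 1 = n := by
  haveI : NeZero n := ⟨by omega⟩
  obtain ⟨v, hv0, hv⟩ := C.exists_isotropic (n := n) hn
  obtain ⟨t, ht0, ht⟩ := C.exists_trace_zero
  obtain ⟨x, hx, hxv⟩ := toGL_mem (C.tv v hv t ht)
  have happ : ∀ u, x.1 *ᵥ u = u + (t * C.form u v) • v := fun u => by rw [hxv]; exact C.tv_mulVec v hv t ht u
  refine ⟨x, hx, ?_, ?_⟩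
  · have hN : (x.1 - 1) * (x.1 - 1) = 0 := by
      refine Matrix.toLin'.injective (LinearMap.ext fun u => ?_)
      rw [Matrix.toLin'_apply, map_zero, LinearMap.zero_apply, ← Matrix.mulVec_mulVec, Matrix.sub_mulVec,
        Matrix.sub_mulVec, Matrix.one_mulVec, Matrix.one_mulVec, Matrix.mulVec_sub, happ, happ]
      simp only [C.form_add_left, C.form_smul_left, hv]
      module
    have h : (x.1 - 1) ^ p = x.1 ^ p - 1 := by rw [sub_pow_char_of_commute (p := p) (Commute.one_right x.1), one_pow]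
    have h0 : (x.1 - 1) ^ p = 0 := by
      obtain ⟨j, hj⟩ : ∃ j, p = j + 2 := ⟨p - 2, by have := (Fact.out : p.Prime).two_le; omega⟩
      rw [hj, pow_add, pow_two, hN, mul_zero]
    rw [one_smul, Units.val_pow_eq_pow_val]
    exact sub_eq_zero.1 (h.symm.trans h0)
  · obtain ⟨φ, hφ⟩ : ∃ φ : (Fin n → F) →ₗ[F] F, ∀ u, φ u = C.form u v :=
      ⟨{ toFun := fun u => C.form u v
         map_add' := fun a b => C.form_add_left a b v
         map_smul' := fun c a => C.form_smul_left c a v }, fun u => rfl⟩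
    have hker : eigK x (1 : F) = LinearMap.ker φ := Submodule.ext fun u => by
      rw [mem_eigK, happ, one_smul, add_eq_left, smul_eq_zero, LinearMap.mem_ker, hφ]
      simp [ht0, hv0]
    have hφ0 : φ ≠ 0 := fun h => hv0 (C.eq_zero_of_form' fun u => by rw [← hφ, h]; rfl)
    rw [hker, Module.Dual.finrank_ker_add_one_of_ne_zero hφ0, Module.finrank_fin_fun]

/-- the products in the order formula -/
theorem prod_split (q m : ℕ) :
    ∏ i ∈ Finset.range (2 * m), (if Even i then q ^ (i + 1) + 1 else q ^ (i + 1) - 1) =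
      (∏ k ∈ Finset.range m, (q ^ (2 * k + 1) + 1)) * ∏ k ∈ Finset.range m, ((q ^ 2) ^ (k + 1) - 1) := by
  induction m with
  | zero => simp
  | succ m ih =>
    rw [Nat.mul_succ, Finset.prod_range_succ, Finset.prod_range_succ, ih, Finset.prod_range_succ, Finset.prod_range_succ,
      if_pos (even_two_mul m), if_neg (Nat.not_even_iff_odd.2 ⟨m, rfl⟩), ← pow_mul,
      show 2 * m + 1 + 1 = 2 * (m + 1) by ring]
    ring

open scoped Classical in
/-- a prime in the index divides some `q ^ j + 1` -/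
theorem exists_odd_dvd (C : UCtx F q) (hF : Fintype.card F = q ^ 2) {D : Fin 2 → Submodule F (Fin n → F)}
    (hD : IsPair C n m D) {r : ℕ} [Fact r.Prime] (hrq : ¬ r ∣ q)
    (hΩ : r ∣ (Cfsg.Geo.decompositionStabilizer D).relIndex (Cfsg.GU n F q ⊓ Cfsg.Geo.specialLinear (Fin n) F)) :
    ∃ j, Odd j ∧ j < n ∧ r ∣ q ^ j + 1 := by
  by_contra hno
  push Not at hno
  have hr : r.Prime := Fact.out
  have hm := hD.pos
  have hdim := hD.dim
  have hq1 : ¬ r ∣ q + 1 := by have := hno 1 odd_one (by omega); rwa [pow_one] at this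
  obtain ⟨K, hK⟩ : ∃ K, K = Cfsg.GU n F q ⊓ (Cfsg.Geo.decompositionStabilizer (fun _ : Fin 1 => D 0) ⊓
      Cfsg.Geo.decompositionStabilizer (fun _ : Fin 1 => D 1)) := ⟨_, rfl⟩
  have hmemK : ∀ g, g ∈ K ↔ g ∈ Cfsg.GU n F q ∧ ∀ i, (D i).map (Matrix.toLin' g.1) = D i := by
    intro g
    rw [hK]
    constructor
    · rintro ⟨hg, ⟨σ, h0⟩, ⟨τ, h1⟩⟩
      refine ⟨hg, fun i => ?_⟩
      rcases fin_two_eq i with rfl | rfl
      · exact h0 0
      · exact h1 0
    · rintro ⟨hg, h⟩
      exact ⟨hg, ⟨1, fun _ => h 0⟩, ⟨1, fun _ => h 1⟩⟩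
  obtain ⟨e, heli, he⟩ := hD.exists_frame
  obtain ⟨f, hf, hef⟩ := hD.exists_dual heli he
  letI : MulAction K (Fin m → Fin n → F) :=
    { smul := fun g t i => g.1.1 *ᵥ t i
      one_smul := fun t => funext fun i => Matrix.one_mulVec _
      mul_smul := fun g h t => funext fun i => (Matrix.mulVec_mulVec _ _ _).symm }
  have horb : MulAction.orbit K e = {t | LinearIndependent F t ∧ ∀ i, t i ∈ D 0} := by
    ext t
    constructor
    · rintro ⟨g, rfl⟩
      refine ⟨heli.map' (Matrix.toLin' g.1.1) (LinearMap.ker_eq_bot.2 (mulVec_injective g.1)), fun i => ?_⟩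
      exact ((hmemK g.1).1 g.2).2 0 ▸ ⟨e i, he i, Matrix.toLin'_apply _ _⟩
    · rintro ⟨ht, htD⟩
      obtain ⟨f', hf', hef'⟩ := hD.exists_dual ht htD
      obtain ⟨g, hg, hge, -, hgD⟩ := hD.exists_move hD he hf htD hf' hef hef'
      exact ⟨⟨g, (hmemK g).2 ⟨hg, hgD⟩⟩, funext hge⟩
  obtain ⟨P, hP⟩ : ∃ P, P = ∏ k ∈ Finset.range m, ((q ^ 2) ^ (k + 1) - 1) := ⟨_, rfl⟩
  have hP0 : P ≠ 0 := by
    rw [hP, Finset.prod_ne_zero_iff]
    intro k _
    have h2 : 1 < (q ^ 2) ^ (k + 1) := Nat.one_lt_pow (by omega) (by rw [← hF]; exact Fintype.one_lt_card)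
    omega
  have hPK : P ∣ Nat.card K := by
    refine dvd_trans ?_ ((MulAction.stabilizer K e).index_dvd_card)
    rw [MulAction.index_stabilizer, horb, ← Nat.card_coe_set_eq,
      Nat.card_congr (β := {s : Fin m → D 0 // LinearIndependent F s})
        { toFun := fun t => ⟨fun i => ⟨t.1 i, t.2.2 i⟩, LinearIndependent.of_comp (D 0).subtype t.2.1⟩
          invFun := fun s => ⟨fun i => (s.1 i : Fin n → F),
            s.2.map' (D 0).subtype (Submodule.ker_subtype _), fun i => (s.1 i).2⟩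
          left_inv := fun t => rfl
          right_inv := fun s => rfl },
      card_linearIndependent (K := F) (V := D 0) (hD.finrank 0).ge, hD.finrank, hF, hP,
      Fin.prod_univ_eq_prod_range (fun i => (q ^ 2) ^ m - (q ^ 2) ^ i) m,
      ← Finset.prod_range_reflect (fun k => (q ^ 2) ^ (k + 1) - 1) m]
    refine Finset.prod_dvd_prod_of_dvd _ _ fun i hi => ?_
    rw [Finset.mem_range] at hi
    refine Dvd.intro_left ((q ^ 2) ^ i) ?_
    rw [Nat.mul_sub, mul_one, ← pow_add, show i + (m - 1 - i + 1) = m by omega]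
  obtain ⟨S, hS⟩ : ∃ S, S = Cfsg.GU n F q ⊓ Cfsg.Geo.specialLinear (Fin n) F := ⟨_, rfl⟩
  rw [← hS] at hΩ
  obtain ⟨H, hH⟩ : ∃ H, H = Cfsg.Geo.decompositionStabilizer D ⊓ S := ⟨_, rfl⟩
  have hpart : ∀ e, r ^ e ∣ Nat.card K → r ^ e ∣ Nat.card H := by
    intro e he'
    obtain ⟨P', hP'⟩ := Sylow.exists_subgroup_card_pow_prime r he'
    rw [← hP']
    refine (Nat.card_congr (Subgroup.equivMapOfInjective P' K.subtype K.subtype_injective).toEquiv).dvd.trans
      (Subgroup.card_dvd_of_le ?_)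
    rintro _ ⟨g, hg, rfl⟩
    have hgK := (hmemK g.1).1 g.2
    refine hH ▸ ⟨⟨1, hgK.2⟩, hS ▸ ⟨hgK.1, ?_⟩⟩
    have h1 : g ^ r ^ e = 1 := by
      have := pow_card_eq_one' (x := (⟨g, hg⟩ : P'))
      rw [hP'] at this
      exact congrArg Subtype.val this
    obtain ⟨u, hu⟩ : ∃ u, u = C.detHom ⟨g.1, hgK.1⟩ := ⟨_, rfl⟩
    have hu1 : u ^ r ^ e = 1 := by
      rw [hu, ← map_pow, ← map_one C.detHom]
      exact congrArg _ (Subtype.ext (congrArg Subtype.val h1 :))
    have hu2 : u ^ (q + 1) = 1 := by rw [← C.card_unitOne hF]; exact pow_card_eq_one'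
    have hu3 : u = 1 := by
      have := pow_gcd_eq_one.2 ⟨hu1, hu2⟩
      rwa [Nat.Coprime.pow_left e ((hr.coprime_iff_not_dvd).2 hq1), pow_one] at this
    refine Units.ext ?_
    have h4 := congrArg (fun z : C.unitOne => ((z : Fˣ) : F)) (hu.symm.trans hu3)
    exact h4
  have hcard : r * Nat.card H ∣ Nat.card (Cfsg.GU n F q) := by
    refine dvd_trans ?_ (Subgroup.card_dvd_of_le (inf_le_left : S ⊓ ⊤ ≤ S) |>.trans
      (Subgroup.card_dvd_of_le (hS ▸ inf_le_left : S ≤ Cfsg.GU n F q)))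
    rw [inf_top_eq]
    have h1 := Subgroup.relIndex_mul_relIndex (⊥ : Subgroup (GL (Fin n) F)) H S bot_le (hH ▸ inf_le_right)
    rw [Subgroup.relIndex_bot_left, Subgroup.relIndex_bot_left, hH, Subgroup.inf_relIndex_right, ← hH] at h1
    rw [← h1, mul_comm]
    exact mul_dvd_mul_left _ hΩ
  have hform : Nat.card (Cfsg.GU n F q) =
      q ^ (n * (n - 1) / 2) * ((∏ k ∈ Finset.range m, (q ^ (2 * k + 1) + 1)) * P) := by
    rw [card_gu_formula C hF, hP, ← prod_split, ← hdim]
  have h1 : r ^ (padicValNat r P + 1) ∣ Nat.card (Cfsg.GU n F q) := by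
    rw [pow_succ']
    exact (mul_dvd_mul_left r (hpart _ (pow_padicValNat_dvd.trans hPK))).trans hcard
  rw [hform] at h1
  refine pow_succ_padicValNat_not_dvd hP0 (Nat.Coprime.dvd_of_dvd_mul_left ?_
    (Nat.Coprime.dvd_of_dvd_mul_left ?_ h1))
  · refine Nat.Coprime.pow_left _ ((hr.coprime_iff_not_dvd).2 fun h => ?_)
    obtain ⟨k, hk, hk'⟩ := (hr.prime.dvd_finset_prod_iff _).1 h
    rw [Finset.mem_range] at hk
    exact hno (2 * k + 1) ⟨k, rfl⟩ (by omega) hk'
  · exact Nat.Coprime.pow _ _ ((hr.coprime_iff_not_dvd).2 hrq)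

end CfsgLib.Perm.Elusive.HermPair
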