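import Mathlib

/-!
# Roots of minus one in finite fields
-/

set_option autoImplicit false
set_option linter.all false

namespace CfsgLib.Perm.Elusive

variable {F : Type*} [Field F] [Fintype F]

theorem neg_one_not_pow {n : ℕ} (h2 : (2 : F) ≠ 0) (hn : n ≠ 0)
    (hv : padicValNat 2 (Fintype.card F - 1) ≤ padicValNat 2 n) (ρ : F) : ρ ^ n ≠ -1 := by
  intro hρ
  have hρ0 : ρ ≠ 0 := fun h => by
    rw [h, zero_pow hn] at hρ
    exact one_ne_zero (neg_eq_zero.1 hρ.symm)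
  haveI : Fact (Nat.Prime 2) := ⟨Nat.prime_two⟩
  obtain ⟨m, hm, hm2⟩ : ∃ m, n = 2 ^ padicValNat 2 n * m ∧ ¬ 2 ∣ m := by
    obtain ⟨m, hm⟩ := pow_padicValNat_dvd (p := 2) (n := n)
    refine ⟨m, hm, fun h => pow_succ_padicValNat_not_dvd (p := 2) hn ?_⟩
    obtain ⟨m', rfl⟩ := h
    exact ⟨m', by rw [pow_succ, mul_assoc]; exact hm⟩
  obtain ⟨y, hy⟩ : ∃ y, y = ρ ^ m := ⟨_, rfl⟩
  have hy1 : y ^ 2 ^ padicValNat 2 n = -1 := by rw [hy, ← pow_mul, mul_comm, ← hm, hρ]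
  have hne : ¬ y ^ 2 ^ padicValNat 2 n = 1 := fun h => h2 (by linear_combination h.symm.trans hy1)
  have hord := orderOf_eq_prime_pow hne (by rw [pow_succ, pow_mul, hy1, neg_one_sq])
  have hdvd : orderOf y ∣ Fintype.card F - 1 :=
    orderOf_dvd_of_pow_eq_one (FiniteField.pow_card_sub_one_eq_one y (hy ▸ pow_ne_zero _ hρ0))
  rw [hord] at hdvd
  have hq := Fintype.one_lt_card (α := F)
  have := (padicValNat_dvd_iff_le (p := 2) (by omega)).1 hdvd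
  omega

theorem exists_pow_neg_one {n : ℕ} (h2 : (2 : F) ≠ 0) (hn : n ≠ 0)
    (hv : padicValNat 2 n < padicValNat 2 (Fintype.card F - 1)) : ∃ ρ : F, ρ ^ n = -1 := by
  haveI : Fact (Nat.Prime 2) := ⟨Nat.prime_two⟩
  obtain ⟨m, hm, hm2⟩ : ∃ m, n = 2 ^ padicValNat 2 n * m ∧ ¬ 2 ∣ m := by
    obtain ⟨m, hm⟩ := pow_padicValNat_dvd (p := 2) (n := n)
    refine ⟨m, hm, fun h => pow_succ_padicValNat_not_dvd (p := 2) hn ?_⟩
    obtain ⟨m', rfl⟩ := h
    exact ⟨m', by rw [pow_succ, mul_assoc]; exact hm⟩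
  obtain ⟨g, hg⟩ := IsCyclic.exists_generator (α := Fˣ)
  have hord : orderOf g = Fintype.card F - 1 := by
    rw [orderOf_eq_card_of_forall_mem_zpowers hg, Nat.card_units, Nat.card_eq_fintype_card]
  obtain ⟨c, hc⟩ : 2 ^ (padicValNat 2 n + 1) ∣ Fintype.card F - 1 :=
    (Nat.pow_dvd_pow 2 hv).trans pow_padicValNat_dvd
  have hq := Fintype.one_lt_card (α := F)
  have hc0 : 0 < c := Nat.pos_of_ne_zero fun h => by rw [h, mul_zero] at hc; omega
  obtain ⟨y, hy⟩ : ∃ y : F, y = (g : F) ^ (c * 2 ^ padicValNat 2 n) := ⟨_, rfl⟩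
  have hy2 : y * y = 1 := by
    rw [hy, ← pow_add, ← Units.val_pow_eq_pow_val, ← Units.val_one]
    congr 1
    refine orderOf_dvd_iff_pow_eq_one.1 ?_
    rw [hord, hc, pow_succ]
    exact ⟨1, by ring⟩
  have hyne : y ≠ 1 := by
    intro h
    rw [hy, ← Units.val_pow_eq_pow_val, Units.val_eq_one, ← orderOf_dvd_iff_pow_eq_one, hord, hc] at h
    have h1 := Nat.le_of_dvd (Nat.mul_pos hc0 (pow_pos (by norm_num) _)) h
    rw [pow_succ] at h1
    have : c * 2 ^ padicValNat 2 n ≥ 1 := Nat.mul_pos hc0 (pow_pos (by norm_num) _)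
    nlinarith
  have hym : y = -1 := (mul_self_eq_one_iff.1 hy2).resolve_left hyne
  refine ⟨(g : F) ^ c, ?_⟩
  rw [hm, ← pow_mul, ← mul_assoc, pow_mul, ← hy, hym, Odd.neg_one_pow (Nat.not_even_iff_odd.1 fun h => hm2 h.two_dvd)]

end CfsgLib.Perm.Elusive
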