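import Mathlib
import Cfsg.Agent.Lib.Perm.Elusive.HermPairsElements
import Cfsg.Agent.Lib.Perm.Elusive.TwoPart

/-!
# Square roots of scalars in special unitary groups and pairs of totally singular subspaces
-/

set_option autoImplicit false
set_option linter.all false

namespace CfsgLib.Perm.Elusive.HermPair

open Matrix CfsgLib.SU CfsgLib.Classical CfsgLib.Classical.HermFrames CfsgLib.Classical.HermWitt

variable {F : Type*} [Field F] [Fintype F] {q : ℕ} {C : UCtx F q} {n m : ℕ}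

theorem exists_orth_basis {W : Submodule F (Fin n → F)} (hW : ∀ u ∈ W, (∀ v ∈ W, C.form u v = 0) → u = 0) :
    ∃ t : Fin (Module.finrank F W) → Fin n → F, (∀ i, t i ∈ W) ∧
      ∀ i j, C.form (t i) (t j) = if i = j then 1 else 0 := by
  let BW : W →ₛₗ[(C.bar : F →+* F)] W →ₗ[F] F :=
    LinearMap.mk₂'ₛₗ (C.bar : F →+* F) (RingHom.id F) (fun u v => C.form (v : Fin n → F) (u : Fin n → F))
      (fun a b c => C.form_add_right _ _ _) (fun r a b => C.form_smul_right r _ _)
      (fun a b c => C.form_add_left _ _ _) (fun r a b => C.form_smul_left r _ _)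
  have hBW : BW.Nondegenerate :=
    ⟨fun u h => Subtype.ext (hW u u.2 fun v hv => C.form_swap_zero (h ⟨v, hv⟩)),
      fun v h => Subtype.ext (hW v v.2 fun u hu => h ⟨u, hu⟩)⟩
  obtain ⟨v, hv⟩ := exists_orth (B := BW) (bar_ne_id C) C.bar_bar ⟨fun a b => C.bar_form _ _⟩ hBW _ le_rfl
  exact ⟨fun i => v i, fun i => (v i).2, fun i j => (hv j i).trans (by simp [eq_comm])⟩

/-- dimensions of a totally singular subspace and a complement -/
theorem sing_le {A B : Submodule F (Fin n → F)} (hs : A ⊔ B = ⊤) (hA : ∀ u ∈ A, ∀ v ∈ A, C.form u v = 0) :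
    Module.finrank F A ≤ Module.finrank F B := by
  obtain ⟨b, hb⟩ : ∃ b, b = Module.finBasis F B := ⟨_, rfl⟩
  obtain ⟨Ψ, hΨ⟩ : ∃ Ψ : A →ₗ[F] (Fin (Module.finrank F B) → F),
      ∀ u i, Ψ u i = C.form (u : Fin n → F) (b i : Fin n → F) :=
    ⟨{ toFun := fun u i => C.form (u : Fin n → F) (b i : Fin n → F)
       map_add' := fun u v => funext fun i => C.form_add_left _ _ _
       map_smul' := fun c u => funext fun i => C.form_smul_left _ _ _ }, fun u i => rfl⟩
  have hinj : Function.Injective Ψ := by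
    refine (injective_iff_map_eq_zero Ψ).2 fun u hu => Subtype.ext (C.eq_zero_of_form fun v => ?_)
    obtain ⟨a, ha, c, hc, rfl⟩ := Submodule.mem_sup.1 (hs.symm ▸ Submodule.mem_top : v ∈ A ⊔ B)
    rw [C.form_add_right, hA _ u.2 _ ha, zero_add]
    obtain ⟨c', rfl⟩ : ∃ c' : B, (c' : Fin n → F) = c := ⟨⟨c, hc⟩, rfl⟩
    rw [← b.sum_repr c', ← C.bar_form]
    simp only [Submodule.coe_sum, Submodule.coe_smul, C.form_sum_left, C.form_smul_left, map_sum, map_mul, C.bar_form]
    refine Finset.sum_eq_zero fun i _ => ?_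
    rw [← hΨ, hu]
    simp
  simpa using LinearMap.finrank_le_finrank_of_injective hinj

theorem stab_of_eigen {x : GL (Fin n) F} {E : Fin 2 → Submodule F (Fin n → F)}
    (h : ∀ i, ∀ v ∈ E i, x.1 *ᵥ v ∈ E i) : x ∈ Cfsg.Geo.decompositionStabilizer E := by
  refine ⟨1, fun i => Submodule.eq_of_le_of_finrank_le ?_ ?_⟩
  · rintro _ ⟨v, hv, rfl⟩
    rw [Matrix.toLin'_apply]
    exact h i v hv
  · rw [← (Submodule.equivMapOfInjective _ (mulVec_injective x) (E i)).finrank_eq]
    exact le_rfl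

theorem span_eigen {x : GL (Fin n) F} {κ : Type*} {w : κ → Fin n → F} {s : κ → F}
    (h : ∀ j, x.1 *ᵥ w j = s j • w j) {v : Fin n → F} (hv : v ∈ Submodule.span F (Set.range w)) :
    x.1 *ᵥ v ∈ Submodule.span F (Set.range w) := by
  induction hv using Submodule.span_induction with
  | zero => rw [Matrix.mulVec_zero]; exact zero_mem _
  | add a b _ _ ha hb => rw [Matrix.mulVec_add]; exact add_mem ha hb
  | smul c a _ ha => rw [Matrix.mulVec_smul]; exact Submodule.smul_mem _ _ ha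
  | mem a ha =>
    obtain ⟨j, rfl⟩ := ha
    rw [h]
    exact Submodule.smul_mem _ _ (Submodule.subset_span ⟨j, rfl⟩)

/-- a square root of a scalar fixes a pair, unless a norm one `n`-th root of `-1` exists -/
theorem invol_fixes_pair (hodd : Odd q) (hF : Fintype.card F = q ^ 2) (h2 : (2 : F) ≠ 0) (hm : 0 < m) (hn : n = 2 * m)
    (hno : ∀ s : F, s * C.bar s = 1 → s ^ n ≠ -1) {x : GL (Fin n) F} (hx : x ∈ Cfsg.GU n F q) (hdet : x.1.det = 1)
    {z : F} (hz : (x ^ 2).1 = z • (1 : Matrix (Fin n) (Fin n) F)) :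
    ∃ E, IsPair C n m E ∧ x ∈ Cfsg.Geo.decompositionStabilizer E := by
  classical
  have happ2 : ∀ v, x.1 *ᵥ (x.1 *ᵥ v) = z • v := fun v => by
    rw [Matrix.mulVec_mulVec, ← pow_two, ← Units.val_pow_eq_pow_val, hz, Matrix.smul_mulVec, Matrix.one_mulVec]
  have hzn : z * C.bar z = 1 := by
    obtain ⟨e, he⟩ : ∃ e : Fin n → F, C.form e e = 1 :=
      ⟨Pi.single ⟨0, by omega⟩ 1, by simp [UCtx.form, Pi.single_apply, apply_ite C.bar]⟩
    have h := form_gl (C := C) hx (x.1 *ᵥ e) (x.1 *ᵥ e)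
    rw [happ2, form_gl hx, C.form_smul_left, C.form_smul_right, he, mul_one] at h
    exact h
  have hz0 : z ≠ 0 := fun h => by rw [h, zero_mul] at hzn; exact zero_ne_one hzn
  obtain ⟨k, hk⟩ := hodd
  obtain ⟨s, hs⟩ : IsSquare z := by
    refine (FiniteField.isSquare_iff (fun h => ?_) hz0).2 ?_
    · haveI : CharP F 2 := ringChar.of_eq h
      exact h2 CharTwo.two_eq_zero
    · have hc : Fintype.card F / 2 = (q + 1) * k := by
        have e1 : (2 * k + 1) ^ 2 = 2 * ((2 * k + 2) * k) + 1 := by ring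
        rw [hF, hk, e1]
        have e2 : 2 * k + 1 + 1 = 2 * k + 2 := by ring
        rw [e2]; omega
      rw [hc, pow_mul, pow_succ, ← C.bar_eq, mul_comm, hzn, one_pow]
  have hs0 : s ≠ 0 := fun h => hz0 (by rw [hs, h, mul_zero])
  obtain ⟨A, hA⟩ : ∃ A, A = eigK x s := ⟨_, rfl⟩
  obtain ⟨B, hB⟩ : ∃ B, B = eigK x (-s) := ⟨_, rfl⟩
  have hsup : A ⊔ B = ⊤ := by
    refine Submodule.eq_top_iff'.2 fun v => ?_
    refine Submodule.mem_sup.2 ⟨(2 : F)⁻¹ • (v + s⁻¹ • (x.1 *ᵥ v)), hA ▸ mem_eigK.2 ?_,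
      (2 : F)⁻¹ • (v - s⁻¹ • (x.1 *ᵥ v)), hB ▸ mem_eigK.2 ?_, ?_⟩
    · rw [Matrix.mulVec_smul, Matrix.mulVec_add, Matrix.mulVec_smul, happ2, hs]
      match_scalars <;> field_simp
    · rw [Matrix.mulVec_smul, Matrix.mulVec_sub, Matrix.mulVec_smul, happ2, hs]
      match_scalars <;> field_simp
    · match_scalars <;> field_simp <;> ring
  have hdis : Disjoint A B := by
    rw [Submodule.disjoint_def]
    intro v hvA hvB
    rw [hA, mem_eigK] at hvA
    rw [hB, mem_eigK, hvA, neg_smul, eq_neg_iff_add_eq_zero, ← add_smul, ← two_mul] at hvB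
    exact (smul_eq_zero.1 hvB).resolve_left (mul_ne_zero h2 hs0)
  have hab : Module.finrank F A + Module.finrank F B = n := by
    have h := Submodule.finrank_sup_add_finrank_inf_eq A B
    rw [hsup, hdis.eq_bot, finrank_top, finrank_bot, Module.finrank_fin_fun] at h
    omega
  have hss : (s * C.bar s) * (s * C.bar s) = 1 := by rw [mul_mul_mul_comm, ← map_mul, ← hs, hzn]
  rcases mul_self_eq_one_iff.1 hss with hsn | hsn
  · -- orthogonal eigenspaces
    have horth : ∀ u ∈ A, ∀ v ∈ B, C.form u v = 0 := fun u hu v hv => by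
      rw [hA, mem_eigK] at hu
      rw [hB, mem_eigK] at hv
      have h := form_gl (C := C) hx u v
      rw [hu, hv, C.form_smul_left, C.form_smul_right, map_neg] at h
      exact (mul_eq_zero.1 (show (2 : F) * C.form u v = 0 by linear_combination (-1 : F) * h - C.form u v * hsn)).resolve_left h2
    have hndA : ∀ u ∈ A, (∀ v ∈ A, C.form u v = 0) → u = 0 := fun u hu h => C.eq_zero_of_form fun v => by
      obtain ⟨a, ha, b, hb, rfl⟩ := Submodule.mem_sup.1 (hsup.symm ▸ Submodule.mem_top : v ∈ A ⊔ B)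
      rw [C.form_add_right, h a ha, horth u hu b hb, add_zero]
    have hndB : ∀ u ∈ B, (∀ v ∈ B, C.form u v = 0) → u = 0 := fun u hu h => C.eq_zero_of_form fun v => by
      obtain ⟨a, ha, b, hb, rfl⟩ := Submodule.mem_sup.1 (hsup.symm ▸ Submodule.mem_top : v ∈ A ⊔ B)
      rw [C.form_add_right, h b hb, C.form_swap_zero (horth a ha u hu), add_zero]
    obtain ⟨u, hu, huu⟩ := exists_orth_basis hndA
    obtain ⟨v, hv, hvv⟩ := exists_orth_basis hndB
    generalize hga : Module.finrank F A = a at u hu huu hab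
    generalize hgb : Module.finrank F B = b at v hv hvv hab
    have hxu : ∀ i, x.1 *ᵥ u i = s • u i := fun i => mem_eigK.1 (hA ▸ hu i)
    have hxv : ∀ i, x.1 *ᵥ v i = -s • v i := fun i => mem_eigK.1 (hB ▸ hv i)
    obtain ⟨w, hw⟩ : ∃ w : Fin a ⊕ Fin b → Fin n → F, w = Sum.elim u v := ⟨_, rfl⟩
    obtain ⟨t, ht⟩ : ∃ t : Fin a ⊕ Fin b → F, t = Sum.elim (fun _ => s) (fun _ => -s) := ⟨_, rfl⟩
    have hww : ∀ i j, C.form (w i) (w j) = if i = j then 1 else 0 := by
      rintro (i | i) (j | j)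
      · simp [hw, huu]
      · simp [hw, horth _ (hu i) _ (hv j)]
      · simp [hw, C.form_swap_zero (horth _ (hu j) _ (hv i))]
      · simp [hw, hvv]
    have hxw : ∀ i, x.1 *ᵥ w i = t i • w i := by
      rintro (i | i)
      · simp [hw, ht, hxu]
      · simp [hw, ht, hxv]
    have hswap : ∀ i j, CfsgLib.Classical.HermFrames.hB C n (w i) (w j) = if i = j then 1 else 0 := fun i j =>
      (hww j i).trans (by simp [eq_comm])
    have hli := linearIndependent_of_orth hswap
    haveI : Nonempty (Fin a ⊕ Fin b) := Fintype.card_pos_iff.1 (by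
      rw [Fintype.card_sum, Fintype.card_fin, Fintype.card_fin]; omega)
    have hdet' : x.1.det = (-1) ^ b * s ^ n := by
      rw [← LinearMap.det_toLin', CfsgLib.Perm.Elusive.det_of_monomial
        (basisOfLinearIndependentOfCardEqFinrank hli (by
          rw [Fintype.card_sum, Fintype.card_fin, Fintype.card_fin, Module.finrank_fin_fun, hab])) _ (Equiv.refl _) t
        (fun i => by rw [Matrix.toLin'_apply, Equiv.refl_apply, coe_basisOfLinearIndependentOfCardEqFinrank, hxw]),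
        Equiv.Perm.sign_refl, ht, Fintype.prod_sum_type, ← hab, pow_add]
      simp [neg_pow s b]
      ring
    rw [hdet] at hdet'
    rcases Nat.even_or_odd' b with ⟨b', rfl | rfl⟩
    swap
    · rw [Odd.neg_one_pow ⟨b', rfl⟩] at hdet'
      exact absurd (by linear_combination hdet') (hno s hsn)
    obtain ⟨a', rfl⟩ : ∃ a', a = 2 * a' := ⟨m - b', by omega⟩
    obtain ⟨c, hc⟩ := C.exists_norm (c := (-1 : F)) (by rw [map_neg, map_one])
    obtain ⟨g, hg⟩ : ∃ g : (Fin a' ⊕ Fin b') ⊕ (Fin a' ⊕ Fin b') → Fin (2 * a') ⊕ Fin (2 * b'),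
        g = Sum.elim (Sum.elim (fun i => .inl ⟨2 * i.1, by omega⟩) (fun i => .inr ⟨2 * i.1, by omega⟩))
          (Sum.elim (fun i => .inl ⟨2 * i.1 + 1, by omega⟩) (fun i => .inr ⟨2 * i.1 + 1, by omega⟩)) := ⟨_, rfl⟩
    have hginj : Function.Injective g := by
      rintro ((i | i) | (i | i)) ((j | j) | (j | j)) h <;>
        simp [hg, Fin.ext_iff] at h ⊢ <;> omega
    refine ⟨_, isPair_of_orth (w := fun j => w (g j)) h2 hc hm hn
      (by rw [Fintype.card_sum, Fintype.card_fin, Fintype.card_fin]; omega)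
      (fun i j => by rw [hww]; exact if_congr hginj.eq_iff rfl rfl), stab_of_eigen fun i => ?_⟩
    obtain ⟨τ, hτ⟩ : ∃ τ : Fin a' ⊕ Fin b' → F, τ = Sum.elim (fun _ => s) (fun _ => -s) := ⟨_, rfl⟩
    have hxl : ∀ j, x.1 *ᵥ w (g (.inl j)) = τ j • w (g (.inl j)) := by
      rintro (j | j) <;> rw [hxw] <;> simp [hg, ht, hτ]
    have hxr : ∀ j, x.1 *ᵥ w (g (.inr j)) = τ j • w (g (.inr j)) := by
      rintro (j | j) <;> rw [hxw] <;> simp [hg, ht, hτ]
    rcases fin_two_eq i with rfl | rfl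
    · exact fun v hv => span_eigen (s := τ) (fun j => by
        rw [Matrix.mulVec_add, Matrix.mulVec_smul, hxl, hxr, smul_add, smul_comm c]) hv
    · exact fun v hv => span_eigen (s := τ) (fun j => by
        rw [Matrix.mulVec_sub, Matrix.mulVec_smul, hxl, hxr, smul_sub, smul_comm c]) hv
  · -- totally singular eigenspaces
    have hsing : ∀ t : F, t * C.bar t = -1 → ∀ u ∈ eigK x t, ∀ v ∈ eigK x t, C.form u v = 0 := fun t ht u hu v hv => by
      rw [mem_eigK] at hu hv
      have h := form_gl (C := C) hx u v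
      rw [hu, hv, C.form_smul_left, C.form_smul_right] at h
      exact (mul_eq_zero.1 (show (2 : F) * C.form u v = 0 by linear_combination (-1 : F) * h + C.form u v * ht)).resolve_left h2
    have hsA := hA ▸ hsing s hsn
    have hsB := hB ▸ hsing (-s) (by rw [map_neg, neg_mul_neg, hsn])
    have h1 := sing_le hsup hsA
    have h3 := sing_le (sup_comm A B ▸ hsup) hsB
    refine ⟨![A, B], ⟨hm, hn, fun i => ?_, hdis, fun i => ?_⟩, stab_of_eigen fun i v hv => ?_⟩
    · rcases fin_two_eq i with rfl | rfl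
      · show Module.finrank F A = m
        omega
      · show Module.finrank F B = m
        omega
    · rcases fin_two_eq i with rfl | rfl
      · exact hsA
      · exact hsB
    · rcases fin_two_eq i with rfl | rfl
      · change v ∈ A at hv
        show x.1 *ᵥ v ∈ A
        rw [mem_eigK.1 (hA ▸ hv)]
        exact A.smul_mem _ hv
      · change v ∈ B at hv
        show x.1 *ᵥ v ∈ B
        rw [mem_eigK.1 (hB ▸ hv)]
        exact B.smul_mem _ hv

/-- norm one roots of `-1` -/
theorem exists_norm_one_pow_iff (hodd : Odd q) (hF : Fintype.card F = q ^ 2) (h2 : (2 : F) ≠ 0) (hn : n ≠ 0) :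
    (∃ s : F, s * C.bar s = 1 ∧ s ^ n = -1) ↔ padicValNat 2 n < padicValNat 2 (q + 1) := by
  haveI : Fact (Nat.Prime 2) := ⟨Nat.prime_two⟩
  obtain ⟨k, hk⟩ := hodd
  have hq : 2 ≤ q := two_le_q hF
  have hcard : Fintype.card F - 1 = (q - 1) * (q + 1) := by
    rw [hF, hk, show 2 * k + 1 - 1 = 2 * k by omega, show (2 * k + 1) ^ 2 = 2 * k * (2 * k + 1 + 1) + 1 by ring,
      Nat.add_sub_cancel]
  have hv1 : padicValNat 2 (Fintype.card F - 1) = padicValNat 2 (q - 1) + padicValNat 2 (q + 1) := by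
    rw [hcard, padicValNat.mul (by omega) (by omega)]
  have hv2 : padicValNat 2 ((q - 1) * n) = padicValNat 2 (q - 1) + padicValNat 2 n := padicValNat.mul (by omega) hn
  constructor
  · rintro ⟨s, hs, hsn⟩
    by_contra hle
    obtain ⟨r, hr0, hr⟩ := CfsgLib.FormCl.unit_norm_quot (C := C)
      (u := (⟨Units.mk0 s (fun h => by rw [h, zero_mul] at hs; exact zero_ne_one hs), hs⟩ : C.unitOne)⁻¹)
    refine neg_one_not_pow (n := (q - 1) * n) h2 (Nat.mul_ne_zero (by omega) hn) (by rw [hv1, hv2]; omega) r ?_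
    rw [pow_mul, ← hsn]
    congr 1
    rw [Subgroup.coe_inv, Units.val_inv_eq_inv_val, Units.val_mk0, C.bar_eq] at hr
    have h3 : r ^ q = r ^ (q - 1) * r := by rw [← pow_succ, Nat.sub_add_cancel (by omega)]
    have hs0 : s ≠ 0 := fun h => by rw [h, zero_mul] at hs; exact zero_ne_one hs
    rw [h3, ← div_div, div_eq_iff (hr0)] at hr
    field_simp at hr
    exact hr.symm
  · intro hlt
    obtain ⟨ρ, hρ⟩ := exists_pow_neg_one h2 (Nat.mul_ne_zero (by omega) hn) (n := (q - 1) * n)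
      (by rw [hv1, hv2]; omega)
    have hρ0 : ρ ≠ 0 := fun h => by
      rw [h, zero_pow (Nat.mul_ne_zero (by omega) hn)] at hρ
      exact one_ne_zero (neg_eq_zero.1 hρ.symm)
    refine ⟨ρ ^ (q - 1), ?_, by rw [← pow_mul, hρ]⟩
    rw [C.bar_eq, ← pow_succ', ← pow_mul, ← hcard, FiniteField.pow_card_sub_one_eq_one ρ hρ0]

end CfsgLib.Perm.Elusive.HermPair
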