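import Mathlib
import Cfsg.Prelude.Def_GeometricClasses
import Cfsg.Agent.Lib.Perm.Elusive.InvolBasis

/-!
# Monomial maps of involution type preserve decompositions
-/

set_option autoImplicit false
set_option linter.all false

namespace CfsgLib.Perm.Elusive

variable {F : Type*} [Field F]

/-- blocks of a basis -/
theorem isMDecomposition_blocks {ι : Type} [Fintype ι] [DecidableEq ι] {I : Type*} [Fintype I]
    (b : Module.Basis I F (ι → F)) {a t : ℕ} (ha : 0 < a) (ht : 2 ≤ t) (e : I ≃ Fin t × Fin a) :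
    Cfsg.Geo.IsMDecomposition a (fun j => Submodule.span F (Set.range fun i => b (e.symm (j, i)))) := by
  refine ⟨ht, ha, fun j => ?_, fun j => ?_, ?_⟩
  · have hinj : Function.Injective fun i => e.symm (j, i) := fun i i' h => by simpa using h
    rw [finrank_span_eq_card (b := fun i => b (e.symm (j, i))) (b.linearIndependent.comp _ hinj), Fintype.card_fin]
  · refine (b.linearIndependent.disjoint_span_image (s := {x | (e x).1 = j}) (t := {x | (e x).1 ≠ j})
      (Set.disjoint_left.2 fun x h1 h2 => h2 h1)).mono (Submodule.span_le.2 ?_)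
      (iSup₂_le fun j' hj' => Submodule.span_le.2 ?_)
    · rintro _ ⟨i, rfl⟩
      exact Submodule.subset_span ⟨_, by simp, rfl⟩
    · rintro _ ⟨i, rfl⟩
      exact Submodule.subset_span ⟨_, by simpa using hj', rfl⟩
  · refine eq_top_iff.2 (b.span_eq ▸ Submodule.span_le.2 ?_)
    rintro _ ⟨x, rfl⟩
    refine Submodule.mem_iSup_of_mem (e x).1 (Submodule.subset_span ⟨(e x).2, ?_⟩)
    simp

/-- a monomial map of involution type permutes some decomposition -/
theorem exists_decomposition_of_monomial {ι : Type} [Fintype ι] [DecidableEq ι] {I : Type*} [Fintype I]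
    [DecidableEq I] (b : Module.Basis I F (ι → F)) (T : (ι → F) →ₗ[F] (ι → F)) (π : Equiv.Perm I)
    (hπ : ∀ x, π (π x) = x) (c : I → F) (hc : ∀ x, c x ≠ 0) (hT : ∀ x, T (b x) = c x • b (π x)) {a t k : ℕ}
    (ha : 0 < a) (ht : 2 ≤ t) (hcard : Fintype.card I = a * t) (hk : movedCount π = 2 * k) :
    ∃ D : Fin t → Submodule F (ι → F), Cfsg.Geo.IsMDecomposition a D ∧
      ∃ σ : Equiv.Perm (Fin t), ∀ j, (D j).map T = D (σ j) := by
  obtain ⟨e, σ, hσ⟩ := exists_blocks π hπ hcard hk
  refine ⟨_, isMDecomposition_blocks b ha ht e, σ, fun j => ?_⟩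
  have hmem : ∀ x, b x ∈ Submodule.span F (Set.range fun i => b (e.symm ((e x).1, i))) := fun x =>
    Submodule.subset_span ⟨(e x).2, by simp⟩
  refine le_antisymm (Submodule.map_le_iff_le_comap.2 (Submodule.span_le.2 ?_)) (Submodule.span_le.2 ?_)
  · rintro _ ⟨i, rfl⟩
    show T (b (e.symm (j, i))) ∈ Submodule.span F (Set.range fun i => b (e.symm (σ j, i)))
    rw [hT]
    refine Submodule.smul_mem _ _ ?_
    have h := hmem (π (e.symm (j, i)))
    rw [hσ] at h
    simpa using h
  · rintro _ ⟨i, rfl⟩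
    obtain ⟨y, hy⟩ : ∃ y, π y = e.symm (σ j, i) := π.surjective _
    have hj : (e y).1 = j := σ.injective (by rw [← hσ, hy, Equiv.apply_symm_apply])
    refine ⟨(c y)⁻¹ • b y, Submodule.smul_mem _ _ (hj ▸ hmem y), ?_⟩
    rw [map_smul, hT, smul_smul, inv_mul_cancel₀ (hc y), one_smul, hy]

end CfsgLib.Perm.Elusive
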