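import Mathlib
import Cfsg.Agent.Lib.Perm.Trans.Symp
import Cfsg.Agent.Lib.Perm.Elusive.InvolBlocks

/-!
# Symplectic isometries with scalar square: hyperbolic bases adapted to them
-/

set_option autoImplicit false
set_option linter.all false

namespace CfsgLib.Perm.Elusive

open scoped Matrix
open Matrix Cfsg.Geo CfsgLib.Perm.Trans CfsgLib.Perm.Trans.Symp

variable {F : Type*} [Field F] [Fintype F] {ι : Type} [Fintype ι] [DecidableEq ι]
variable {f : (ι → F) → (ι → F) → F} (hf : IsSymplecticForm f)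

/-- standard pairings of a family of pairs -/
structure HypFam (f : (ι → F) → (ι → F) → F) {I : Type} [DecidableEq I] (u v : I → (ι → F)) : Prop where
  uu : ∀ i j, f (u i) (u j) = 0
  vv : ∀ i j, f (v i) (v j) = 0
  uv : ∀ i j, f (u i) (v j) = if i = j then 1 else 0

/-- a hyperbolic family spanning `W` whose planes are related by `R` along an involution -/
def HasFam (f : (ι → F) → (ι → F) → F) (R : (ι → F) → (ι → F) → (ι → F) → (ι → F) → Prop)
    (W : Submodule F (ι → F)) : Prop :=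
  ∃ (I : Type) (_ : Fintype I) (_ : DecidableEq I) (u v : I → (ι → F)) (π : Equiv.Perm I),
    (∀ i, π (π i) = i) ∧ (∀ i, u i ∈ W ∧ v i ∈ W) ∧ HypFam f u v ∧
      W ≤ Submodule.span F (Set.range u ∪ Set.range v) ∧ ∀ i, R (u i) (v i) (u (π i)) (v (π i))

include hf

/-- coordinates in the span of a hyperbolic family -/
theorem HypFam.repr {I : Type} [Fintype I] [DecidableEq I] {u v : I → (ι → F)} (h : HypFam f u v) {y : ι → F}
    (hy : y ∈ Submodule.span F (Set.range u ∪ Set.range v)) :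
    y = ∑ j, f y (v j) • u j + ∑ j, f (u j) y • v j := by
  induction hy using Submodule.span_induction with
  | mem z hz =>
    rcases hz with ⟨i, rfl⟩ | ⟨i, rfl⟩
    · simp [h.uu, h.uv]
    · simp [h.vv, h.uv]
  | zero => simp [zero_left hf, zero_right hf]
  | add a b _ _ e1 e2 =>
    conv_lhs => rw [e1, e2]
    simp only [hf.bilinear.add_left, hf.bilinear.add_right, add_smul, Finset.sum_add_distrib]
    abel
  | smul c a _ e1 =>
    conv_lhs => rw [e1]
    simp only [hf.bilinear.smul_left, hf.bilinear.smul_right, smul_add, Finset.smul_sum, smul_smul]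

theorem HypFam.nondeg {I : Type} [Fintype I] [DecidableEq I] {u v : I → (ι → F)} (h : HypFam f u v) :
    IsNondegenerateOn f (Submodule.span F (Set.range u ∪ Set.range v)) := by
  intro y hy hy0
  obtain ⟨w, hw, hyw⟩ : ∃ w ∈ Submodule.span F (Set.range u ∪ Set.range v), f y w ≠ 0 := by
    by_contra hcon
    push Not at hcon
    refine hy0 ((h.repr hf hy).trans ?_)
    rw [Finset.sum_eq_zero fun j _ => by rw [hcon _ (Submodule.subset_span (Or.inr ⟨j, rfl⟩)), zero_smul],
      Finset.sum_eq_zero fun j _ => by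
        rw [hf.skew, hcon _ (Submodule.subset_span (Or.inl ⟨j, rfl⟩)), neg_zero, zero_smul], add_zero]
  exact ⟨⟨w, hw, swap_ne hf hyw⟩, ⟨w, hw, hyw⟩⟩

theorem HypFam.linearIndependent {I : Type} [Fintype I] [DecidableEq I] {u v : I → (ι → F)} (h : HypFam f u v) :
    LinearIndependent F (Sum.elim u v) := by
  rw [Fintype.linearIndependent_iff]
  intro g hg
  let L : (ι → F) → ((ι → F) →ₗ[F] F) := fun z =>
    ⟨⟨fun y => f y z, fun a b => hf.bilinear.add_left a b z⟩, fun c a => hf.bilinear.smul_left c a z⟩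
  intro i
  rcases i with i | i
  · have e1 : L (v i) (∑ x, g x • Sum.elim u v x) = 0 := by rw [hg, map_zero]
    rw [map_sum] at e1
    simpa [Fintype.sum_sum_type, L, hf.bilinear.smul_left, h.uv, h.vv] using e1
  · have e1 : L (u i) (∑ x, g x • Sum.elim u v x) = 0 := by rw [hg, map_zero]
    rw [map_sum] at e1
    simpa [Fintype.sum_sum_type, L, hf.bilinear.smul_left, h.uu, fun j => hf.skew (v j) (u i), h.uv] using e1

/-- the induction: a piece can always be split off -/
theorem hasFam_of_step (T : (ι → F) →ₗ[F] (ι → F)) (hT : ∀ a b, f (T a) (T b) = f a b)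
    (R : (ι → F) → (ι → F) → (ι → F) → (ι → F) → Prop)
    (hR : ∀ a b a' b', R a b a' b' → T a ∈ Submodule.span F {a', b'} ∧ T b ∈ Submodule.span F {a', b'})
    (step : ∀ W : Submodule F (ι → F), W ≠ ⊥ → IsNondegenerateOn f W → (∀ w ∈ W, T w ∈ W) →
      ∃ (I : Type) (_ : Fintype I) (_ : DecidableEq I) (_ : Nonempty I) (u v : I → (ι → F)) (π : Equiv.Perm I),
        (∀ i, π (π i) = i) ∧ (∀ i, u i ∈ W ∧ v i ∈ W) ∧ HypFam f u v ∧ ∀ i, R (u i) (v i) (u (π i)) (v (π i))) :
    HasFam f R ⊤ := by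
  suffices H : ∀ (N : ℕ) (W : Submodule F (ι → F)), Module.finrank F W = N → IsNondegenerateOn f W →
      (∀ w ∈ W, T w ∈ W) → HasFam f R W from
    H _ ⊤ rfl (Symp.isNondegenerateOn_top hf) fun w _ => Submodule.mem_top
  intro N
  induction N using Nat.strong_induction_on with
  | _ N ih =>
    intro W hN hW hWT
    rcases eq_or_ne W ⊥ with rfl | hW0
    · exact ⟨Empty, inferInstance, inferInstance, Empty.elim, Empty.elim, 1, fun i => i.elim, fun i => i.elim,
        ⟨fun i => i.elim, fun i => i.elim, fun i => i.elim⟩, bot_le, fun i => i.elim⟩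
    obtain ⟨I, _, _, ⟨i₀⟩, u, v, π, hπ, hmem, hfam, hrel⟩ := step W hW0 hW hWT
    obtain ⟨P, hP⟩ : ∃ P, P = Submodule.span F (Set.range u ∪ Set.range v) := ⟨_, rfl⟩
    have hPW : P ≤ W := hP ▸ Submodule.span_le.2 (by rintro _ (⟨i, rfl⟩ | ⟨i, rfl⟩); exacts [(hmem i).1, (hmem i).2])
    have hPnd : IsNondegenerateOn f P := hP ▸ hfam.nondeg hf
    have hsub : ∀ i, Submodule.span F {u i, v i} ≤ P := fun i => hP ▸ Submodule.span_le.2 (by
      rintro _ (rfl | rfl)
      · exact Submodule.subset_span (Or.inl ⟨i, rfl⟩)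
      · exact Submodule.subset_span (Or.inr ⟨i, rfl⟩))
    have hPT : P.map T ≤ P := by
      conv_lhs => rw [hP]
      rw [Submodule.map_span_le]
      rintro _ (⟨i, rfl⟩ | ⟨i, rfl⟩)
      · exact hsub (π i) (hR _ _ _ _ (hrel i)).1
      · exact hsub (π i) (hR _ _ _ _ (hrel i)).2
    have hinj : Function.Injective T := (injective_iff_map_eq_zero T).2 fun a ha => by
      by_contra hne
      obtain ⟨b, hb⟩ := (hf.nondegenerate a hne).2
      exact hb (by rw [← hT, ha, zero_left hf])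
    have hPeq : P.map T = P :=
      Submodule.eq_of_le_of_finrank_le hPT (le_of_eq (Submodule.equivMapOfInjective _ hinj P).finrank_eq)
    obtain ⟨W', hW'⟩ : ∃ W', W' = W ⊓ perp hf P := ⟨_, rfl⟩
    have hW'T : ∀ w ∈ W', T w ∈ W' := fun w hw => by
      rw [hW'] at hw ⊢
      refine ⟨hWT w hw.1, fun p hp => ?_⟩
      rw [← hPeq] at hp
      obtain ⟨p', hp', rfl⟩ := hp
      rw [hT]
      exact hw.2 p' hp'
    have hdec : ∀ z ∈ W, ∃ p ∈ P, z - p ∈ W' := fun z hz => by
      obtain ⟨p, hp, hzp⟩ := exists_decomp hf hPnd z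
      exact ⟨p, hp, hW' ▸ ⟨W.sub_mem hz (hPW hp), hzp⟩⟩
    have hW'nd : IsNondegenerateOn f W' := by
      intro a ha ha0
      have ha' : a ∈ W ∧ a ∈ perp hf P := by rw [hW'] at ha; exact ha
      obtain ⟨w, hw, haw⟩ := (hW a ha'.1 ha0).2
      obtain ⟨p, hp, hwp⟩ := hdec w hw
      have hne : f a (w - p) ≠ 0 := by rwa [Symp.sub_right hf, ha'.2 p hp, sub_zero]
      exact ⟨⟨_, hwp, swap_ne hf hne⟩, ⟨_, hwp, hne⟩⟩
    have hlt : Module.finrank F W' < N := by
      rw [← hN]
      refine Submodule.finrank_lt_finrank_of_lt (lt_of_le_of_ne (hW' ▸ inf_le_left) fun heq => ?_)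
      have h1 : u i₀ ∈ W' := heq ▸ (hmem i₀).1
      rw [hW'] at h1
      have := h1.2 (v i₀) (hP ▸ Submodule.subset_span (Or.inr ⟨i₀, rfl⟩))
      rw [hfam.uv, if_pos rfl] at this
      exact one_ne_zero this
    obtain ⟨J, _, _, u', v', π', hπ', hmem', hfam', hspan', hrel'⟩ := ih _ hlt W' rfl hW'nd hW'T
    have hcross : ∀ j, ∀ a ∈ P, f (u' j) a = 0 ∧ f (v' j) a = 0 := fun j a ha => by
      have h1 := (hmem' j).1
      have h2 := (hmem' j).2
      rw [hW'] at h1 h2
      exact ⟨h1.2 a ha, h2.2 a ha⟩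
    have huP : ∀ i, u i ∈ P := fun i => hP ▸ Submodule.subset_span (Or.inl ⟨i, rfl⟩)
    have hvP : ∀ i, v i ∈ P := fun i => hP ▸ Submodule.subset_span (Or.inr ⟨i, rfl⟩)
    refine ⟨I ⊕ J, inferInstance, inferInstance, Sum.elim u u', Sum.elim v v', Equiv.sumCongr π π',
      fun i => by rcases i with i | i <;> simp [hπ, hπ'],
      fun i => by
        rcases i with i | i
        · exact hmem i
        · exact ⟨(hW'.le (hmem' i).1).1, (hW'.le (hmem' i).2).1⟩,
      ⟨fun i j => ?_, fun i j => ?_, fun i j => ?_⟩, ?_, fun i => by rcases i with i | i <;> [exact hrel i; exact hrel' i]⟩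
    · rcases i with i | i <;> rcases j with j | j <;> simp only [Sum.elim_inl, Sum.elim_inr]
      · exact hfam.uu i j
      · exact swap_zero hf (hcross j _ (huP i)).1
      · exact (hcross i _ (huP j)).1
      · exact hfam'.uu i j
    · rcases i with i | i <;> rcases j with j | j <;> simp only [Sum.elim_inl, Sum.elim_inr]
      · exact hfam.vv i j
      · exact swap_zero hf (hcross j _ (hvP i)).2
      · exact (hcross i _ (hvP j)).2
      · exact hfam'.vv i j
    · rcases i with i | i <;> rcases j with j | j <;> simp only [Sum.elim_inl, Sum.elim_inr]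
      · simpa using hfam.uv i j
      · rw [if_neg (by simp)]; exact swap_zero hf (hcross j _ (huP i)).2
      · rw [if_neg (by simp)]; exact (hcross i _ (hvP j)).1
      · simpa using hfam'.uv i j
    · intro z hz
      obtain ⟨p, hp, hzp⟩ := hdec z hz
      rw [← add_sub_cancel p z]
      refine Submodule.add_mem _ (Submodule.span_mono ?_ (hP ▸ hp)) (Submodule.span_mono ?_ (hspan' hzp))
      · rintro _ (⟨i, rfl⟩ | ⟨i, rfl⟩)
        exacts [Or.inl ⟨Sum.inl i, rfl⟩, Or.inr ⟨Sum.inl i, rfl⟩]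
      · rintro _ (⟨i, rfl⟩ | ⟨i, rfl⟩)
        exacts [Or.inl ⟨Sum.inr i, rfl⟩, Or.inr ⟨Sum.inr i, rfl⟩]

/-- a piece consisting of one plane -/
theorem one_plane {R : (ι → F) → (ι → F) → (ι → F) → (ι → F) → Prop} {W : Submodule F (ι → F)} {a b : ι → F}
    (ha : a ∈ W) (hb : b ∈ W) (hab : f a b = 1) (hr : R a b a b) :
    ∃ (I : Type) (_ : Fintype I) (_ : DecidableEq I) (_ : Nonempty I) (u v : I → (ι → F)) (π : Equiv.Perm I),
      (∀ i, π (π i) = i) ∧ (∀ i, u i ∈ W ∧ v i ∈ W) ∧ HypFam f u v ∧ ∀ i, R (u i) (v i) (u (π i)) (v (π i)) :=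
  ⟨Unit, inferInstance, inferInstance, inferInstance, fun _ => a, fun _ => b, 1, fun _ => rfl, fun _ => ⟨ha, hb⟩,
    ⟨fun _ _ => hf.alternating a, fun _ _ => hf.alternating b, fun _ _ => by rw [if_pos rfl, hab]⟩, fun _ => hr⟩

/-- odd characteristic: one invariant plane -/
theorem exists_invariant_pair (h2 : (2 : F) ≠ 0) (T : (ι → F) →ₗ[F] (ι → F)) (hT : ∀ a b, f (T a) (T b) = f a b)
    {z : F} (hT2 : ∀ a, T (T a) = z • a) {W : Submodule F (ι → F)} (hW0 : W ≠ ⊥) (hW : IsNondegenerateOn f W)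
    (hWT : ∀ w ∈ W, T w ∈ W) :
    (z = 1 ∧ ∃ a ∈ W, ∃ b ∈ W, f a b = 1 ∧ ∃ s : F, T a = s • a ∧ T b = s • b) ∨
      (z = -1 ∧ ∃ a ∈ W, ∃ b ∈ W, f a b = 1 ∧ ∃ c d : F, T a = c • b ∧ T b = d • a) := by
  obtain ⟨a₀, ha₀, ha₀0⟩ := Submodule.exists_mem_ne_zero_of_ne_bot hW0
  obtain ⟨b₀, hb₀, hab₀⟩ := (hW a₀ ha₀ ha₀0).2
  have hz : z = 1 ∨ z = -1 := by
    have e1 : f (T (T a₀)) (T (T b₀)) = f a₀ b₀ := by rw [hT, hT]
    rw [hT2, hT2, hf.bilinear.smul_left, hf.bilinear.smul_right, ← mul_assoc] at e1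
    exact mul_self_eq_one_iff.1 (mul_right_cancel₀ hab₀ (e1.trans (one_mul _).symm))
  rcases hz with rfl | rfl
  · left
    obtain ⟨a, haW, ha, s, hs, hsa⟩ : ∃ a ∈ W, a ≠ 0 ∧ ∃ s : F, s * s = 1 ∧ T a = s • a := by
      by_cases h : a₀ + T a₀ = 0
      · exact ⟨a₀, ha₀, ha₀0, -1, by ring, by rw [neg_one_smul]; exact eq_neg_of_add_eq_zero_right h⟩
      · exact ⟨_, W.add_mem ha₀ (hWT _ ha₀), h, 1, one_mul 1, by rw [map_add, hT2, one_smul, one_smul, add_comm]⟩
    obtain ⟨y, hy, hay⟩ := (hW a haW ha).2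
    obtain ⟨y', hy'⟩ : ∃ y', y' = y + s • T y := ⟨_, rfl⟩
    have hTy : T y' = s • y' := by
      rw [hy', map_add, map_smul, hT2, one_smul, smul_add, smul_smul, hs, one_smul, add_comm]
    have hay' : f a y' ≠ 0 := by
      have e1 : f a (T y) = s * f a y := by
        have e2 := hT a y
        rw [hsa, hf.bilinear.smul_left] at e2
        linear_combination (-(f a (T y))) * hs + s * e2
      rw [hy', hf.bilinear.add_right, hf.bilinear.smul_right, e1, ← mul_assoc, hs, one_mul, ← two_mul]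
      exact mul_ne_zero h2 hay
    refine ⟨rfl, a, haW, (f a y')⁻¹ • y', W.smul_mem _ (hy' ▸ W.add_mem hy (W.smul_mem s (hWT y hy))), ?_, s, hsa, ?_⟩
    · rw [hf.bilinear.smul_right, inv_mul_cancel₀ hay']
    · rw [map_smul, hTy, smul_comm]
  · right
    obtain ⟨a, haW, haT⟩ : ∃ a ∈ W, f a (T a) ≠ 0 := by
      by_contra hcon
      push Not at hcon
      have hsym : ∀ a ∈ W, ∀ b ∈ W, f a (T b) = 0 := fun a ha b hb => by
        have e1 := hcon (a + b) (W.add_mem ha hb)
        rw [map_add, hf.bilinear.add_left, hf.bilinear.add_right, hf.bilinear.add_right, hcon a ha, hcon b hb] at e1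
        have e2 := hT b (T a)
        rw [hT2, hf.bilinear.smul_right] at e2
        have e3 := hf.skew a (T b)
        exact (mul_eq_zero.1 (show (2 : F) * f a (T b) = 0 by linear_combination e1 + e2 + e3)).resolve_left h2
      have e1 := hsym a₀ ha₀ (T b₀) (hWT b₀ hb₀)
      rw [hT2, hf.bilinear.smul_right, neg_one_mul, neg_eq_zero] at e1
      exact hab₀ e1
    refine ⟨rfl, a, haW, (f a (T a))⁻¹ • T a, W.smul_mem _ (hWT a haW), ?_, f a (T a), -(f a (T a))⁻¹, ?_, ?_⟩
    · rw [hf.bilinear.smul_right, inv_mul_cancel₀ haT]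
    · rw [smul_inv_smul₀ haT]
    · rw [map_smul, hT2, smul_smul, mul_neg_one]

end CfsgLib.Perm.Elusive
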