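import Mathlib
import Cfsg.Agent.Lib.Perm.Elusive.InvolSymp
import Cfsg.Agent.Lib.Perm.Elusive.InvolDecomp

/-!
# Symplectic involutions permute an orthogonal decomposition into nondegenerate pieces
-/

set_option autoImplicit false
set_option linter.all false

namespace CfsgLib.Perm.Elusive

open scoped Matrix
open Matrix Cfsg.Geo CfsgLib.Perm.Trans CfsgLib.Perm.Trans.Symp

variable {F : Type*} [Field F] [Fintype F] {ι : Type} [Fintype ι] [DecidableEq ι]
variable {f : (ι → F) → (ι → F) → F} (hf : IsSymplecticForm f)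

include hf

/-- characteristic two: an invariant plane or two interchanged planes -/
theorem exists_char_two_piece (h2 : (2 : F) = 0) (T : (ι → F) →ₗ[F] (ι → F)) (hT : ∀ a b, f (T a) (T b) = f a b)
    (hT2 : ∀ a, T (T a) = a) {W : Submodule F (ι → F)} (hW0 : W ≠ ⊥) (hW : IsNondegenerateOn f W)
    (hWT : ∀ w ∈ W, T w ∈ W) :
    ∃ (I : Type) (_ : Fintype I) (_ : DecidableEq I) (_ : Nonempty I) (u v : I → (ι → F)) (π : Equiv.Perm I),
      (∀ i, π (π i) = i) ∧ (∀ i, u i ∈ W ∧ v i ∈ W) ∧ HypFam f u v ∧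
        ∀ i, T (u i) ∈ Submodule.span F {u (π i), v (π i)} ∧ T (v i) ∈ Submodule.span F {u (π i), v (π i)} := by
  by_cases hA : ∃ a ∈ W, f a (T a) ≠ 0
  · obtain ⟨a, ha, hne⟩ := hA
    refine one_plane hf (R := fun a b a' b' => T a ∈ Submodule.span F {a', b'} ∧ T b ∈ Submodule.span F {a', b'})
      ha (W.smul_mem (f a (T a))⁻¹ (hWT a ha)) (by rw [hf.bilinear.smul_right, inv_mul_cancel₀ hne]) ⟨?_, ?_⟩
    · exact Submodule.mem_span_pair.2 ⟨0, f a (T a), by rw [zero_smul, zero_add, smul_inv_smul₀ hne]⟩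
    · exact Submodule.mem_span_pair.2 ⟨(f a (T a))⁻¹, 0, by rw [zero_smul, add_zero, map_smul, hT2]⟩
  push Not at hA
  by_cases hB : ∀ a ∈ W, T a = a
  · obtain ⟨a, ha, ha0⟩ := Submodule.exists_mem_ne_zero_of_ne_bot hW0
    obtain ⟨b, hb, hab⟩ := (hW a ha ha0).2
    refine one_plane hf (R := fun a b a' b' => T a ∈ Submodule.span F {a', b'} ∧ T b ∈ Submodule.span F {a', b'})
      ha (W.smul_mem (f a b)⁻¹ hb) (by rw [hf.bilinear.smul_right, inv_mul_cancel₀ hab]) ⟨?_, ?_⟩
    · rw [hB a ha]; exact Submodule.subset_span (by simp)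
    · rw [hB _ (W.smul_mem _ hb)]; exact Submodule.subset_span (by simp)
  push Not at hB
  obtain ⟨a, ha, hne⟩ := hB
  have hTa : T a ∈ W := hWT a ha
  have ha0 : a ≠ 0 := fun h => hne (by rw [h, map_zero])
  obtain ⟨y₀, hy₀, hy₀'⟩ := (hW a ha ha0).2
  obtain ⟨y, hy, hay⟩ : ∃ y ∈ W, f a y = 1 :=
    ⟨_, W.smul_mem (f a y₀)⁻¹ hy₀, by rw [hf.bilinear.smul_right, inv_mul_cancel₀ hy₀']⟩
  have hu0 : T a - f (T a) y • a ≠ 0 := fun h => by
    rw [sub_eq_zero] at h
    obtain ⟨c, hc⟩ : ∃ c, c = f (T a) y := ⟨_, rfl⟩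
    rw [← hc] at h
    have e1 : a = (c * c) • a := by
      conv_lhs => rw [← hT2 a, h, map_smul, h, smul_smul]
    have e3 : c * c = 1 := by
      have e2 : (1 - c * c) • a = 0 := by rw [sub_smul, one_smul, ← e1, sub_self]
      exact (sub_eq_zero.1 ((smul_eq_zero.1 e2).resolve_right ha0)).symm
    have e4 : c = 1 := by
      rcases mul_self_eq_one_iff.1 e3 with h | h
      · exact h
      · linear_combination h - h2
    exact hne (by rw [h, e4, one_smul])
  obtain ⟨z₀, hz₀, hz₀'⟩ := (hW _ (W.sub_mem hTa (W.smul_mem _ ha)) hu0).2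
  obtain ⟨z, hz, hz1⟩ : ∃ z ∈ W, f (T a - f (T a) y • a) z = 1 :=
    ⟨_, W.smul_mem (f (T a - f (T a) y • a) z₀)⁻¹ hz₀, by rw [hf.bilinear.smul_right, inv_mul_cancel₀ hz₀']⟩
  rw [Symp.sub_left hf, hf.bilinear.smul_left] at hz1
  obtain ⟨b, hb⟩ : ∃ b, b = y - f (T a) y • (z - f a z • y) := ⟨_, rfl⟩
  have hbW : b ∈ W := hb ▸ W.sub_mem hy (W.smul_mem _ (W.sub_mem hz (W.smul_mem _ hy)))
  have hab : f a b = 1 := by
    simp only [hb, Symp.sub_right hf, hf.bilinear.smul_right, hay]
    ring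
  have hTab : f (T a) b = 0 := by
    simp only [hb, Symp.sub_right hf, hf.bilinear.smul_right]
    linear_combination (-(f (T a) y)) * hz1
  have e1 : f a (T b) = 0 := by rw [← hT, hT2, hTab]
  have e2 : f (T b) a = 0 := swap_zero hf e1
  have e3 : f b (T a) = 0 := swap_zero hf hTab
  have e4 : f b (T b) = 0 := hA b hbW
  have e5 : f a (T a) = 0 := hA a ha
  refine ⟨Bool, inferInstance, inferInstance, inferInstance, fun i => bif i then T a else a,
    fun i => bif i then T b else b, Function.Involutive.toPerm (fun i => !i) Bool.not_not, Bool.not_not,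
    fun i => by cases i <;> simp [ha, hbW, hTa, hWT b hbW], ⟨fun i j => ?_, fun i j => ?_, fun i j => ?_⟩, fun i => ?_⟩
  · cases i <;> cases j <;> simp [hf.alternating, e5, swap_zero hf e5]
  · cases i <;> cases j <;> simp [hf.alternating, e4, swap_zero hf e4]
  · cases i <;> cases j <;> simp [hab, hT, e1, hTab]
  · cases i
    · show T a ∈ Submodule.span F {T a, T b} ∧ T b ∈ Submodule.span F {T a, T b}
      exact ⟨Submodule.subset_span (by simp), Submodule.subset_span (by simp)⟩
    · show T (T a) ∈ Submodule.span F {a, b} ∧ T (T b) ∈ Submodule.span F {a, b}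
      rw [hT2, hT2]
      exact ⟨Submodule.subset_span (by simp), Submodule.subset_span (by simp)⟩

/-- an orthogonal decomposition permuted by an isometry with scalar square -/
theorem exists_symp_decomposition (T : (ι → F) →ₗ[F] (ι → F)) (hT : ∀ a b, f (T a) (T b) = f a b) {z : F}
    (hT2 : ∀ a, T (T a) = z • a) {a t : ℕ} (ha : 0 < a) (ht : 2 ≤ t) (hdim : Module.finrank F (ι → F) = (a + a) * t) :
    ∃ D : Fin t → Submodule F (ι → F), (IsMDecomposition (a + a) D ∧ (∀ j, ∀ u ∈ D j, u ≠ 0 → ∃ v ∈ D j, f u v ≠ 0) ∧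
      (∀ j j', j ≠ j' → ∀ u ∈ D j, ∀ v ∈ D j', f u v = 0)) ∧
        ∃ σ : Equiv.Perm (Fin t), ∀ j, (D j).map T = D (σ j) := by
  classical
  have hinj : Function.Injective T := (injective_iff_map_eq_zero T).2 fun w hw => by
    by_contra hne
    obtain ⟨b, hb⟩ := (hf.nondegenerate w hne).2
    exact hb (by rw [← hT, hw, zero_left hf])
  obtain ⟨I, _, _, u, v, π, hπ, -, hfam, hspan, hrel⟩ := hasFam_of_step hf T hT
    (fun a b a' b' => T a ∈ Submodule.span F {a', b'} ∧ T b ∈ Submodule.span F {a', b'}) (fun _ _ _ _ h => h)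
    (fun W hW0 hW hWT => by
      by_cases h2 : (2 : F) = 0
      · obtain ⟨w, hw, hw0⟩ := Submodule.exists_mem_ne_zero_of_ne_bot hW0
        obtain ⟨w', hw', hww⟩ := (hW w hw hw0).2
        have e1 : f (T (T w)) (T (T w')) = f w w' := by rw [hT, hT]
        rw [hT2, hT2, hf.bilinear.smul_left, hf.bilinear.smul_right, ← mul_assoc] at e1
        have hz : z = 1 := by
          rcases mul_self_eq_one_iff.1 (mul_right_cancel₀ hww (e1.trans (one_mul _).symm)) with h | h
          · exact h
          · linear_combination h - h2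
        exact exists_char_two_piece hf h2 T hT (fun a => by rw [hT2, hz, one_smul]) hW0 hW hWT
      · rcases exists_invariant_pair hf h2 T hT hT2 hW0 hW hWT with
          ⟨-, a, ha, b, hb, hab, s, hsa, hsb⟩ | ⟨-, a, ha, b, hb, hab, c, e, hca, heb⟩
        · exact one_plane hf (R := fun a b a' b' => T a ∈ Submodule.span F {a', b'} ∧ T b ∈ Submodule.span F {a', b'})
            ha hb hab ⟨hsa ▸ Submodule.smul_mem _ _ (Submodule.subset_span (by simp)),
            hsb ▸ Submodule.smul_mem _ _ (Submodule.subset_span (by simp))⟩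
        · exact one_plane hf (R := fun a b a' b' => T a ∈ Submodule.span F {a', b'} ∧ T b ∈ Submodule.span F {a', b'})
            ha hb hab ⟨hca ▸ Submodule.smul_mem _ _ (Submodule.subset_span (by simp)),
            heb ▸ Submodule.smul_mem _ _ (Submodule.subset_span (by simp))⟩)
  obtain ⟨B, hB⟩ : ∃ B : Module.Basis (I ⊕ I) F (ι → F), ∀ x, B x = Sum.elim u v x :=
    ⟨Module.Basis.mk (hfam.linearIndependent hf) (by rw [Set.Sum.elim_range]; exact hspan),
      fun x => Module.Basis.mk_apply _ _ x⟩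
  have hcard : Fintype.card I = a * t := by
    have h1 := Module.finrank_eq_card_basis B
    rw [hdim, Fintype.card_sum, add_mul] at h1
    omega
  obtain ⟨k, hk⟩ : ∃ k, movedCount π = 2 * k := by
    rw [movedCount_eq_support]
    exact Equiv.Perm.two_dvd_card_support (Equiv.ext fun i => by rw [sq, Equiv.Perm.mul_apply, hπ]; rfl)
  obtain ⟨e, σ, hσ⟩ := exists_blocks π hπ hcard hk
  obtain ⟨idx, hidx⟩ : ∃ idx : I ⊕ I → I, idx = Sum.elim id id := ⟨_, rfl⟩
  obtain ⟨E, hE⟩ : ∃ E : I ⊕ I ≃ Fin t × Fin (a + a), ∀ x, (E x).1 = (e (idx x)).1 :=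
    ⟨((e.sumCongr e).trans (Equiv.prodSumDistrib _ _ _).symm).trans (Equiv.prodCongr (Equiv.refl _) finSumFinEquiv),
      fun x => by rw [hidx]; rcases x with i | i <;> simp [Equiv.prodSumDistrib]⟩
  obtain ⟨D, hDdef⟩ : ∃ D : Fin t → Submodule F (ι → F),
      D = fun j => Submodule.span F (Set.range fun i => B (E.symm (j, i))) := ⟨_, rfl⟩
  have hmd : IsMDecomposition (a + a) D := hDdef ▸ isMDecomposition_blocks B (by omega) ht E
  have hmem : ∀ x, B x ∈ D (e (idx x)).1 := fun x => by
    rw [hDdef, ← hE x]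
    exact Submodule.subset_span ⟨(E x).2, by simp⟩
  have hle : ∀ j (P : Submodule F (ι → F)), (∀ x, (e (idx x)).1 = j → B x ∈ P) → D j ≤ P := fun j P h => by
    rw [hDdef, Submodule.span_le]
    rintro _ ⟨i, rfl⟩
    exact h _ (by rw [← hE, Equiv.apply_symm_apply])
  have hsep : ∀ x x', idx x ≠ idx x' → f (B x) (B x') = 0 := fun x x' h => by
    rw [hidx] at h
    rw [hB, hB]
    rcases x with i | i <;> rcases x' with i' | i' <;> simp only [Sum.elim_inl, Sum.elim_inr, id] at h ⊢
    · exact hfam.uu i i'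
    · rw [hfam.uv, if_neg h]
    · exact swap_zero hf (by rw [hfam.uv, if_neg (Ne.symm h)])
    · exact hfam.vv i i'
  have horth : ∀ j j', j ≠ j' → ∀ w ∈ D j, ∀ w' ∈ D j', f w w' = 0 := fun j j' hjj w hw w' hw' => by
    let K : (ι → F) → Submodule F (ι → F) := fun y =>
      { carrier := {w | f w y = 0}
        add_mem' := fun {p q} (hp : f p y = 0) (hq : f q y = 0) => show f (p + q) y = 0 by
          rw [hf.bilinear.add_left, hp, hq, add_zero]
        zero_mem' := zero_left hf y
        smul_mem' := fun c p (hp : f p y = 0) => show f (c • p) y = 0 by rw [hf.bilinear.smul_left, hp, mul_zero] }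
    have h1 : ∀ x, (e (idx x)).1 = j' → f w (B x) = 0 := fun x hx =>
      hle j (K (B x)) (fun x' hx' => hsep x' x (fun h => hjj (by rw [← hx', h, hx]))) hw
    exact swap_zero hf (hle j' (K w) (fun x hx => swap_zero hf (h1 x hx)) hw')
  refine ⟨D, ⟨hmd, fun j w hw hw0 => ?_, horth⟩, σ, fun j => ?_⟩
  · by_contra hcon
    push Not at hcon
    obtain ⟨y, hy⟩ := (hf.nondegenerate w hw0).2
    refine hy ?_
    clear hy
    have hy' : y ∈ Submodule.span F (Set.range B) := B.span_eq ▸ Submodule.mem_top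
    induction hy' using Submodule.span_induction with
    | mem y hy'' =>
      obtain ⟨x, rfl⟩ := hy''
      by_cases hx : (e (idx x)).1 = j
      · exact hcon _ (hx ▸ hmem x)
      · exact horth j _ (Ne.symm hx) w hw _ (hmem x)
    | zero => exact zero_right hf w
    | add _ _ _ _ e1 e2 => rw [hf.bilinear.add_right, e1, e2, add_zero]
    | smul c _ _ e1 => rw [hf.bilinear.smul_right, e1, mul_zero]
  · refine Submodule.eq_of_le_of_finrank_le (Submodule.map_le_iff_le_comap.2 (hle j _ fun x hx => ?_)) (le_of_eq ?_)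
    · have hp : ∀ i, Submodule.span F {u (π i), v (π i)} ≤ D (σ (e i).1) := fun i => by
        rw [Submodule.span_le, ← hσ i]
        have h1 := hmem (Sum.inl (π i))
        have h2 := hmem (Sum.inr (π i))
        rw [hB, hidx] at h1 h2
        rintro _ (rfl | rfl)
        exacts [h1, h2]
      rw [Submodule.mem_comap, hB, ← hx, hidx]
      rcases x with i | i
      · exact hp i (hrel i).1
      · exact hp i (hrel i).2
    · rw [hmd.finrank_eq, ← (Submodule.equivMapOfInjective _ hinj (D j)).finrank_eq, hmd.finrank_eq]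

end CfsgLib.Perm.Elusive
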