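import Mathlib
import Cfsg.Prelude.Def_Classical
import Cfsg.Prelude.Def_GeometricClasses
import Cfsg.Agent.Lib.Perm.Elusive.JordanModel

/-!
# Unipotent elements of orthogonal groups with given Jordan type
-/

set_option autoImplicit false
set_option linter.all false

open scoped commutatorElement

namespace CfsgLib.Perm.Elusive

variable {F : Type*} [Field F]

section Hyperbolic

variable {V : Type*} [AddCommGroup V] [Module F V] [FiniteDimensional F V] {B : LinearMap.BilinForm F V}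

/-- dual isotropic bases -/
theorem exists_hyperbolic_pairs (hsym : ∀ u v, B u v = B v u) (hN : B.Nondegenerate) (h2 : (2 : F) ≠ 0) (k : F) {d : ℕ}
    {U : Submodule F V} (hU : ∀ u ∈ U, ∀ v ∈ U, B u v = 0) (hd : d ≤ Module.finrank F U) :
    ∃ u w : Fin d → V, (∀ i j, B (u i) (u j) = 0) ∧ (∀ i j, B (w i) (w j) = 0) ∧
      ∀ i j, B (u i) (w j) = if i = j then k else 0 := by
  classical
  obtain ⟨f, hf⟩ := exists_linearIndependent_of_le_finrank hd
  obtain ⟨u, hu⟩ : ∃ u : Fin d → V, ∀ i, u i = (f i : V) := ⟨_, fun i => rfl⟩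
  have huli : LinearIndependent F u := by
    rw [show u = fun i => (f i : V) from funext hu]
    exact hf.map' U.subtype U.ker_subtype
  obtain ⟨Φ, hΦ⟩ : ∃ Φ : V →ₗ[F] (Fin d → F), ∀ v i, Φ v i = B (u i) v :=
    ⟨LinearMap.pi fun i => B (u i), fun v i => rfl⟩
  have hsur : Function.Surjective Φ := by
    rw [← LinearMap.range_eq_top]
    by_contra hne
    obtain ⟨g, hg0, hg⟩ := (LinearMap.range Φ).exists_le_ker_of_lt_top (lt_top_iff_ne_top.2 hne)
    obtain ⟨a, ha⟩ : ∃ a : Fin d → F, ∀ y, g y = ∑ i, y i * a i := ⟨fun i => g (Pi.single i 1), fun y => by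
      conv_lhs => rw [pi_eq_sum_univ' y]
      simp [map_sum, smul_eq_mul]⟩
    have h0 : ∑ i, a i • u i = 0 := hN.1 _ fun v => by
      have h := hg ⟨v, rfl⟩
      rw [LinearMap.mem_ker, ha] at h
      simp only [hΦ] at h
      rw [map_sum, LinearMap.sum_apply]
      simp only [map_smul, LinearMap.smul_apply, smul_eq_mul]
      rw [← h]
      exact Finset.sum_congr rfl fun i _ => mul_comm _ _
    have ha0 := Fintype.linearIndependent_iff.1 huli a h0
    exact hg0 (LinearMap.ext fun y => by simp [ha, ha0])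
  choose w₀ hw₀ using fun j : Fin d => hsur (Pi.single j k)
  have huw : ∀ i j, B (u i) (w₀ j) = if i = j then k else 0 := fun i j => by
    rw [← hΦ, hw₀, Pi.single_apply]
  have huu : ∀ i j, B (u i) (u j) = 0 := fun i j => by rw [hu, hu]; exact hU _ (f i).2 _ (f j).2
  by_cases hk : k = 0
  · exact ⟨u, fun _ => 0, huu, fun i j => by simp, fun i j => by simp [hk]⟩
  refine ⟨u, fun j => w₀ j - (2 * k)⁻¹ • ∑ l, B (w₀ j) (w₀ l) • u l, huu, fun i j => ?_, fun i j => ?_⟩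
  · have h1 : ∀ i j, B (∑ l, B (w₀ i) (w₀ l) • u l) (w₀ j) = k * B (w₀ i) (w₀ j) := fun i j => by
      rw [map_sum, LinearMap.sum_apply, Finset.sum_eq_single j]
      · rw [map_smul, LinearMap.smul_apply, huw, if_pos rfl, smul_eq_mul, mul_comm]
      · intro l _ hl
        rw [map_smul, LinearMap.smul_apply, huw, if_neg hl, smul_zero]
      · intro h; exact absurd (Finset.mem_univ _) h
    have h2' : B (∑ l, B (w₀ i) (w₀ l) • u l) (∑ l, B (w₀ j) (w₀ l) • u l) = 0 := by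
      simp [map_sum, LinearMap.sum_apply, map_smul, huu]
    have h3 : B (w₀ i) (∑ l, B (w₀ j) (w₀ l) • u l) = k * B (w₀ i) (w₀ j) := by
      rw [hsym, h1, hsym]
    have h4 : (2 * k)⁻¹ * (2 * k) = 1 := inv_mul_cancel₀ (mul_ne_zero h2 hk)
    simp only [map_sub, LinearMap.sub_apply, map_smul, LinearMap.smul_apply, h1, h2', h3, smul_eq_mul]
    linear_combination -(B (w₀ i) (w₀ j)) * h4
  · rw [map_sub, map_smul, map_sum]
    simp [map_smul, huu, huw]

/-- split forms are equivalent to the standard plus form -/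
theorem exists_plus_equiv (hsym : ∀ u v, B u v = B v u) (hN : B.Nondegenerate) (h2 : (2 : F) ≠ 0) {d : ℕ}
    (hV : Module.finrank F V = 2 * d) {U : Submodule F V} (hU : ∀ u ∈ U, ∀ v ∈ U, B u v = 0) (hd : d ≤ Module.finrank F U) :
    ∃ φ : V ≃ₗ[F] (Fin d ⊕ Fin d → F), ∀ v, Cfsg.quadFormPlus d F (φ v) = B v v := by
  classical
  obtain ⟨u, w, huu, hww, huw⟩ := exists_hyperbolic_pairs hsym hN h2 (2 : F)⁻¹ hU hd
  obtain ⟨Φ, hΦ⟩ : ∃ Φ : (Fin d ⊕ Fin d → F) →ₗ[F] V, ∀ x, Φ x = (∑ i, x (.inl i) • u i) + ∑ i, x (.inr i) • w i :=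
    ⟨{ toFun := fun x => (∑ i, x (.inl i) • u i) + ∑ i, x (.inr i) • w i
       map_add' := fun a b => by
         simp only [Pi.add_apply, add_smul, Finset.sum_add_distrib]; abel
       map_smul' := fun s a => by
         simp only [Pi.smul_apply, smul_eq_mul, mul_smul, ← Finset.smul_sum, RingHom.id_apply, smul_add] },
      fun x => rfl⟩
  have hwu : ∀ i j, B (w i) (u j) = if j = i then (2 : F)⁻¹ else 0 := fun i j => by rw [hsym, huw]
  have hl : ∀ x j, B (u j) (Φ x) = x (.inr j) * (2 : F)⁻¹ := fun x j => by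
    simp [hΦ, map_sum, map_smul, huu, huw]
  have hr : ∀ x j, B (w j) (Φ x) = x (.inl j) * (2 : F)⁻¹ := fun x j => by
    simp [hΦ, map_sum, map_smul, hww, hwu]
  have hinj : Function.Injective Φ := (injective_iff_map_eq_zero Φ).2 fun x hx => funext fun i => by
    rcases i with i | i
    · have h := hr x i
      rw [hx, map_zero, eq_comm, mul_eq_zero] at h
      exact h.resolve_right (inv_ne_zero h2)
    · have h := hl x i
      rw [hx, map_zero, eq_comm, mul_eq_zero] at h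
      exact h.resolve_right (inv_ne_zero h2)
  have hdim : Module.finrank F (Fin d ⊕ Fin d → F) = Module.finrank F V := by
    rw [Module.finrank_fintype_fun_eq_card, hV, Fintype.card_sum, Fintype.card_fin]; omega
  refine ⟨(LinearEquiv.ofBijective Φ ⟨hinj, (LinearMap.injective_iff_surjective_of_finrank_eq_finrank hdim).1 hinj⟩).symm,
    fun v => ?_⟩
  obtain ⟨x, rfl⟩ := (LinearEquiv.ofBijective Φ ⟨hinj,
    (LinearMap.injective_iff_surjective_of_finrank_eq_finrank hdim).1 hinj⟩).surjective v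
  rw [LinearEquiv.symm_apply_apply]
  change _ = B (Φ x) (Φ x)
  nth_rewrite 1 [hΦ]
  rw [map_add, map_sum, map_sum, LinearMap.add_apply, LinearMap.sum_apply, LinearMap.sum_apply]
  simp only [map_smul, LinearMap.smul_apply, hl, hr, smul_eq_mul]
  rw [← Finset.sum_add_distrib, Cfsg.quadFormPlus]
  refine Finset.sum_congr rfl fun i _ => ?_
  field_simp
  ring

/-- forms in odd dimension with a large isotropic subspace are similar to the standard one -/
theorem exists_odd_similar (hsym : ∀ u v, B u v = B v u) (hN : B.Nondegenerate) (h2 : (2 : F) ≠ 0) {d : ℕ}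
    (hV : Module.finrank F V = 2 * d + 1) {U : Submodule F V} (hU : ∀ u ∈ U, ∀ v ∈ U, B u v = 0)
    (hd : d ≤ Module.finrank F U) :
    ∃ (φ : V ≃ₗ[F] (Unit ⊕ (Fin d ⊕ Fin d) → F)) (l : F), l ≠ 0 ∧ ∀ v, Cfsg.quadFormOdd d F (φ v) = l * B v v := by
  classical
  obtain ⟨u₁, w₁, huu₁, hww₁, huw₁⟩ := exists_hyperbolic_pairs hsym hN h2 1 hU hd
  obtain ⟨z, hz0, hzu, hzw⟩ : ∃ z, z ≠ 0 ∧ (∀ i, B (u₁ i) z = 0) ∧ ∀ i, B (w₁ i) z = 0 := by
    obtain ⟨Ψ, hΨ⟩ : ∃ Ψ : V →ₗ[F] (Fin d ⊕ Fin d → F), ∀ v i, Ψ v i = B (Sum.elim u₁ w₁ i) v :=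
      ⟨LinearMap.pi fun i => B (Sum.elim u₁ w₁ i), fun v i => rfl⟩
    have hne : LinearMap.ker Ψ ≠ ⊥ := fun hbot => by
      have h := LinearMap.finrank_le_finrank_of_injective (LinearMap.ker_eq_bot.1 hbot)
      rw [Module.finrank_fintype_fun_eq_card, hV, Fintype.card_sum, Fintype.card_fin] at h
      omega
    obtain ⟨z, hz, hz0⟩ := Submodule.exists_mem_ne_zero_of_ne_bot hne
    exact ⟨z, hz0, fun i => (hΨ z (.inl i)).symm.trans (congrFun (LinearMap.mem_ker.1 hz) _),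
      fun i => (hΨ z (.inr i)).symm.trans (congrFun (LinearMap.mem_ker.1 hz) _)⟩
  obtain ⟨γ, hγ⟩ : ∃ γ, γ = B z z := ⟨_, rfl⟩
  obtain ⟨Φ, hΦ⟩ : ∃ Φ : (Unit ⊕ (Fin d ⊕ Fin d) → F) →ₗ[F] V, ∀ x, Φ x =
      x (.inl ()) • z + ((∑ i, x (.inr (.inl i)) • u₁ i) + ∑ i, x (.inr (.inr i)) • ((γ / 2) • w₁ i)) :=
    ⟨{ toFun := fun x => x (.inl ()) • z + ((∑ i, x (.inr (.inl i)) • u₁ i) + ∑ i, x (.inr (.inr i)) • ((γ / 2) • w₁ i))
       map_add' := fun a b => by
         simp only [Pi.add_apply, add_smul, Finset.sum_add_distrib]; abel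
       map_smul' := fun s a => by
         simp only [Pi.smul_apply, smul_eq_mul, mul_smul, ← Finset.smul_sum, RingHom.id_apply, smul_add] },
      fun x => rfl⟩
  have hwu : ∀ i j, B (w₁ i) (u₁ j) = if j = i then 1 else 0 := fun i j => by rw [hsym, huw₁]
  have hzu' : ∀ i, B z (u₁ i) = 0 := fun i => by rw [hsym, hzu]
  have hzw' : ∀ i, B z (w₁ i) = 0 := fun i => by rw [hsym, hzw]
  have hl : ∀ x j, B (u₁ j) (Φ x) = x (.inr (.inr j)) * (γ / 2) := fun x j => by
    simp [hΦ, map_sum, map_smul, huu₁, huw₁, hzu]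
  have hr : ∀ x j, B (w₁ j) (Φ x) = x (.inr (.inl j)) := fun x j => by
    simp [hΦ, map_sum, map_smul, hww₁, hwu, hzw]
  have hz : ∀ x, B z (Φ x) = x (.inl ()) * γ := fun x => by
    simp [hΦ, map_sum, map_smul, hzu', hzw', hγ]
  have hγ0 : γ ≠ 0 := by
    intro h0
    obtain ⟨Ψ, hΨ⟩ : ∃ Ψ : (Unit ⊕ (Fin d ⊕ Fin d) → F) →ₗ[F] V, ∀ x, Ψ x =
        x (.inl ()) • z + ((∑ i, x (.inr (.inl i)) • u₁ i) + ∑ i, x (.inr (.inr i)) • w₁ i) :=
      ⟨{ toFun := fun x => x (.inl ()) • z + ((∑ i, x (.inr (.inl i)) • u₁ i) + ∑ i, x (.inr (.inr i)) • w₁ i)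
         map_add' := fun a b => by
           simp only [Pi.add_apply, add_smul, Finset.sum_add_distrib]; abel
         map_smul' := fun s a => by
           simp only [Pi.smul_apply, smul_eq_mul, mul_smul, ← Finset.smul_sum, RingHom.id_apply, smul_add] },
        fun x => rfl⟩
    have hinjΨ : Function.Injective Ψ := (injective_iff_map_eq_zero Ψ).2 fun x hx => by
      have ha : ∀ i, x (.inr (.inr i)) = 0 := fun i => by
        have h := congrArg (B (u₁ i)) hx
        simpa [hΨ, map_sum, map_smul, huu₁, huw₁, hzu] using h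
      have hb : ∀ i, x (.inr (.inl i)) = 0 := fun i => by
        have h := congrArg (B (w₁ i)) hx
        simpa [hΨ, map_sum, map_smul, hww₁, hwu, hzw] using h
      have hc : x (.inl ()) = 0 := by
        rw [hΨ] at hx
        simp only [ha, hb, zero_smul, Finset.sum_const_zero, add_zero, smul_eq_zero] at hx
        exact hx.resolve_right hz0
      funext i
      rcases i with ⟨⟩ | i | i
      exacts [hc, hb i, ha i]
    have hdimΨ : Module.finrank F (Unit ⊕ (Fin d ⊕ Fin d) → F) = Module.finrank F V := by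
      rw [Module.finrank_fintype_fun_eq_card, hV, Fintype.card_sum, Fintype.card_sum, Fintype.card_fin,
        Fintype.card_unit]
      omega
    refine hz0 (hN.1 z fun v => ?_)
    obtain ⟨x, rfl⟩ := (LinearMap.injective_iff_surjective_of_finrank_eq_finrank hdimΨ).1 hinjΨ v
    simp [hΨ, map_sum, map_smul, hzu', hzw', ← hγ, h0]
  have hinj : Function.Injective Φ := (injective_iff_map_eq_zero Φ).2 fun x hx => funext fun i => by
    rcases i with ⟨⟩ | i | i
    · have h := hz x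
      rw [hx, map_zero, eq_comm, mul_eq_zero] at h
      exact h.resolve_right hγ0
    · have h := hr x i
      rw [hx, map_zero] at h
      exact h.symm
    · have h := hl x i
      rw [hx, map_zero, eq_comm, mul_eq_zero] at h
      exact h.resolve_right (div_ne_zero hγ0 h2)
  have hdim : Module.finrank F (Unit ⊕ (Fin d ⊕ Fin d) → F) = Module.finrank F V := by
    rw [Module.finrank_fintype_fun_eq_card, hV, Fintype.card_sum, Fintype.card_sum, Fintype.card_fin, Fintype.card_unit]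
    omega
  refine ⟨(LinearEquiv.ofBijective Φ ⟨hinj, (LinearMap.injective_iff_surjective_of_finrank_eq_finrank hdim).1 hinj⟩).symm,
    γ⁻¹, inv_ne_zero hγ0, fun v => ?_⟩
  obtain ⟨x, rfl⟩ := (LinearEquiv.ofBijective Φ ⟨hinj,
    (LinearMap.injective_iff_surjective_of_finrank_eq_finrank hdim).1 hinj⟩).surjective v
  rw [LinearEquiv.symm_apply_apply]
  change _ = γ⁻¹ * B (Φ x) (Φ x)
  nth_rewrite 1 [hΦ]
  rw [map_add, map_add, map_sum, map_sum, LinearMap.add_apply, LinearMap.add_apply, LinearMap.sum_apply, LinearMap.sum_apply]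
  simp only [map_smul, LinearMap.smul_apply, hl, hr, hz, smul_eq_mul]
  rw [← Finset.sum_add_distrib, Cfsg.quadFormOdd, mul_add, Finset.mul_sum]
  congr 1
  · field_simp
  · refine Finset.sum_congr rfl fun i _ => ?_
    field_simp
    ring

end Hyperbolic

/-- pairs and singles -/
theorem split_multiset (μ : Multiset ℕ) : ∃ P S : Multiset ℕ, μ = P + P + S ∧ ∀ x ∈ S, Odd (μ.count x) := by
  classical
  obtain ⟨P, hP⟩ : ∃ P : Multiset ℕ, P = ∑ x ∈ μ.toFinset, Multiset.replicate (μ.count x / 2) x := ⟨_, rfl⟩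
  obtain ⟨S, hS⟩ : ∃ S : Multiset ℕ, S = (μ.toFinset.filter fun x => Odd (μ.count x)).val := ⟨_, rfl⟩
  refine ⟨P, S, Multiset.ext.2 fun x => ?_, fun x hx => ?_⟩
  · have hPc : P.count x = μ.count x / 2 := by
      rw [hP, Multiset.count_sum']
      simp only [Multiset.count_replicate]
      rw [Finset.sum_ite_eq' μ.toFinset x]
      split_ifs with h
      · rfl
      · rw [Multiset.count_eq_zero.2 (fun h' => h (Multiset.mem_toFinset.2 h')), Nat.zero_div]
    have hSc : S.count x = μ.count x % 2 := by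
      rw [hS, Multiset.count_eq_of_nodup (Finset.nodup _)]
      simp only [Finset.mem_val, Finset.mem_filter, Multiset.mem_toFinset]
      split_ifs with h
      · exact (Nat.odd_iff.1 h.2).symm
      · rcases Nat.mod_two_eq_zero_or_one (μ.count x) with h' | h'
        · exact h'.symm
        · exact absurd ⟨Multiset.count_pos.1 (by omega), Nat.odd_iff.2 h'⟩ h
    rw [Multiset.count_add, Multiset.count_add, hPc, hSc]
    omega
  · rw [hS, Finset.mem_val, Finset.mem_filter] at hx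
    exact hx.2

/-- a symmetric form with an isometry of given Jordan type, the middle of the last single block twisted by `γ` -/
theorem exists_orth_split {p : ℕ} [Fact p.Prime] [CharP F p] (h2 : (2 : F) ≠ 0) (P S₀ : Multiset ℕ)
    (hμ : ∀ x ∈ P + P + S₀, 0 < x ∧ x ≤ p) (hodd : ∀ x ∈ S₀, Odd x) {γ : F} (hγ : γ ≠ 0) :
    ∃ (ι' : Type) (_ : Fintype ι') (B : LinearMap.BilinForm F (ι' → F)) (T S : Module.End F (ι' → F)),
      Fintype.card ι' = (P + P + S₀).sum ∧ (∀ u v, B u v = B v u) ∧ B.Nondegenerate ∧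
      (∀ u v, B (T u) (T v) = B u v) ∧ (∀ u v, B (S u) (S v) = B u v) ∧ T ^ p = 1 ∧
      (∃ Ti, T * Ti = 1 ∧ S * T = Ti * S) ∧ (∀ k, (∀ x ∈ P + P + S₀, x ≤ k) → (T - 1) ^ k = 0) ∧
      (∀ e, 1 ≤ e → (P + P + S₀).count e = blockMult (T - 1) ⊤ (e - 1)) ∧
      (γ = 1 → ∃ U : Submodule F (ι' → F), (∀ u ∈ U, ∀ v ∈ U, B u v = 0) ∧
        (P + P + S₀).sum / 2 ≤ Module.finrank F U) ∧
      (2 ≤ S₀.card → Even S₀.card → ∃ (z₁ z₂ : ι' → F) (U : Submodule F (ι' → F)), B z₁ z₁ = 1 ∧ B z₂ z₂ = -γ ∧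
        B z₁ z₂ = 0 ∧ (∀ u ∈ U, B z₁ u = 0 ∧ B z₂ u = 0) ∧ (∀ u ∈ U, ∀ v ∈ U, B u v = 0) ∧
        (P + P + S₀).sum / 2 ≤ Module.finrank F U + 1) := by
  classical
  obtain ⟨a, hP'⟩ : ∃ a : List ℕ, (a : Multiset ℕ) = P := ⟨P.toList, P.coe_toList⟩
  obtain ⟨b, hS'⟩ : ∃ b : List ℕ, (b : Multiset ℕ) = S₀ := ⟨S₀.toList, S₀.coe_toList⟩
  obtain ⟨eP, heP⟩ : ∃ eP : Fin a.length → ℕ, eP = a.get := ⟨_, rfl⟩
  obtain ⟨eS, heS⟩ : ∃ eS : Fin b.length → ℕ, eS = b.get := ⟨_, rfl⟩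
  have hPsum : ∀ f : ℕ → ℕ, ∑ j, f (eP j) = (P.map f).sum := fun f => by
    rw [← hP', heP, ← List.sum_ofFn, Multiset.map_coe, Multiset.sum_coe]
    conv_rhs => rw [← List.ofFn_get a, List.map_ofFn]
    rfl
  have hSsum : ∀ f : ℕ → ℕ, ∑ j, f (eS j) = (S₀.map f).sum := fun f => by
    rw [← hS', heS, ← List.sum_ofFn, Multiset.map_coe, Multiset.sum_coe]
    conv_rhs => rw [← List.ofFn_get b, List.map_ofFn]
    rfl
  have hPmem : ∀ j, eP j ∈ P + P + S₀ := fun j => by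
    rw [← hP', heP]
    exact Multiset.mem_add.2 (Or.inl (Multiset.mem_add.2 (Or.inl (Multiset.mem_coe.2 (a.get_mem j)))))
  have hSmem : ∀ j, eS j ∈ S₀ := fun j => by
    rw [← hS', heS]
    exact Multiset.mem_coe.2 (b.get_mem j)
  have hSodd : ∀ j, Odd (eS j) := fun j => hodd _ (hSmem j)
  have hSpos : ∀ j, eS j ∈ P + P + S₀ := fun j => Multiset.mem_add.2 (Or.inr (hSmem j))
  obtain ⟨e, he₁, he₂, he₃⟩ : ∃ e : (Fin a.length ⊕ Fin a.length) ⊕ Fin b.length → ℕ,
      (∀ j, e (.inl (.inl j)) = eP j) ∧ (∀ j, e (.inl (.inr j)) = eP j) ∧ ∀ j, e (.inr j) = eS j :=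
    ⟨Sum.elim (Sum.elim eP eP) eS, fun _ => rfl, fun _ => rfl, fun _ => rfl⟩
  obtain ⟨π, hπ₁, hπ₂, hπ₃⟩ : ∃ π : (Fin a.length ⊕ Fin a.length) ⊕ Fin b.length → (Fin a.length ⊕ Fin a.length) ⊕ Fin b.length,
      (∀ j, π (.inl (.inl j)) = .inl (.inr j)) ∧ (∀ j, π (.inl (.inr j)) = .inl (.inl j)) ∧ ∀ j, π (.inr j) = .inr j :=
    ⟨Sum.elim (Sum.elim (fun j => .inl (.inr j)) fun j => .inl (.inl j)) .inr, fun _ => rfl, fun _ => rfl, fun _ => rfl⟩
  obtain ⟨h, hh⟩ : ∃ h : Fin b.length → ℕ, ∀ j, eS j = 2 * h j + 1 := ⟨fun j => eS j / 2, fun j => by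
    show eS j = 2 * (eS j / 2) + 1
    have := Nat.odd_iff.1 (hSodd j); omega⟩
  obtain ⟨c, hc₁, hc₂, hc₃⟩ : ∃ c : (Fin a.length ⊕ Fin a.length) ⊕ Fin b.length → F,
      (∀ j, c (.inl (.inl j)) = 1) ∧ (∀ j, c (.inl (.inr j)) = (-1) ^ (eP j - 1)) ∧
        ∀ j : Fin b.length, c (.inr j) = (-1) ^ (h j + (j : ℕ)) * if (j : ℕ) + 1 = b.length then γ else 1 :=
    ⟨Sum.elim (Sum.elim (fun _ => 1) fun j => (-1) ^ (eP j - 1))
      fun j => (-1) ^ (h j + (j : ℕ)) * if (j : ℕ) + 1 = b.length then γ else 1,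
      fun _ => rfl, fun _ => rfl, fun _ => rfl⟩
  obtain ⟨δ, hδ₁, hδ₂, hδ₃⟩ : ∃ δ : (Fin a.length ⊕ Fin a.length) ⊕ Fin b.length → F,
      (∀ j, δ (.inl (.inl j)) = 1) ∧ (∀ j, δ (.inl (.inr j)) = (-1) ^ (eP j - 1)) ∧ ∀ j, δ (.inr j) = 1 :=
    ⟨Sum.elim (Sum.elim (fun _ => 1) fun j => (-1) ^ (eP j - 1)) fun _ => 1, fun _ => rfl, fun _ => rfl, fun _ => rfl⟩
  have hπ : ∀ x, π (π x) = x := by
    rintro ((j | j) | j)
    · rw [hπ₁, hπ₂]
    · rw [hπ₂, hπ₁]
    · rw [hπ₃, hπ₃]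
  have he : ∀ x, e (π x) = e x := by
    rintro ((j | j) | j)
    · rw [hπ₁, he₁, he₂]
    · rw [hπ₂, he₁, he₂]
    · rw [hπ₃]
  have hpm : ∀ k : ℕ, ((-1 : F) ^ k) * (-1) ^ k = 1 := fun k => by rw [← mul_pow, neg_one_mul, neg_neg, one_pow]
  have heven : ∀ j, (-1 : F) ^ (eS j - 1) = 1 := fun j => by
    rw [hh, Nat.add_sub_cancel, pow_mul, neg_one_sq, one_pow]
  have hcsym : ∀ x, c (π x) * (-1) ^ (e x - 1) = 1 * c x := by
    rintro ((j | j) | j)
    · rw [hπ₁, hc₂, he₁, hc₁, hpm, one_mul]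
    · rw [hπ₂, hc₁, he₂, hc₂]
    · rw [hπ₃, he₃, heven, mul_one, one_mul]
  have hδ : ∀ x, δ x * δ (π x) * (-1) ^ (e x - 1) = 1 := by
    rintro ((j | j) | j)
    · rw [hπ₁, hδ₁, hδ₂, he₁, one_mul, hpm]
    · rw [hπ₂, hδ₁, hδ₂, he₂, mul_one, hpm]
    · rw [hπ₃, hδ₃, he₃, heven, mul_one, mul_one]
  have hep : ∀ x, e x ≤ p := by
    rintro ((j | j) | j)
    · rw [he₁]; exact (hμ _ (hPmem j)).2
    · rw [he₂]; exact (hμ _ (hPmem j)).2
    · rw [he₃]; exact (hμ _ (hSpos j)).2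
  have hc0 : ∀ x, c x ≠ 0 := by
    rintro ((j | j) | j)
    · rw [hc₁]; exact one_ne_zero
    · rw [hc₂]; exact pow_ne_zero _ (neg_ne_zero.2 one_ne_zero)
    · rw [hc₃]
      refine mul_ne_zero (pow_ne_zero _ (neg_ne_zero.2 one_ne_zero)) ?_
      split_ifs
      exacts [hγ, one_ne_zero]
  obtain ⟨T, S, hT, hS, hTp, hrev, hnil, hrk⟩ := exists_block_isometry e π c he hπ (p := p) hep h2 hδ
  have hsum : ∑ x, e x = (P + P + S₀).sum := by
    simp only [Fintype.sum_sum_type, he₁, he₂, he₃]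
    rw [hPsum fun x => x, hSsum fun x => x, Multiset.sum_add, Multiset.sum_add]
    simp
  -- the equations of a totally isotropic subspace
  obtain ⟨K, hK⟩ : ∃ K : ℕ, K = (b.length + 1) / 2 := ⟨_, rfl⟩
  obtain ⟨g₁, hg₁⟩ : ∃ g : (BlockIdx e → F) →ₗ[F] ((j : Fin a.length) × Fin (eP j) → F),
      ∀ v y, g v y = v ⟨.inl (.inr y.1), ⟨y.2, by rw [he₂]; exact y.2.2⟩⟩ :=
    ⟨LinearMap.pi fun y => LinearMap.proj (⟨.inl (.inr y.1), ⟨y.2, by rw [he₂]; exact y.2.2⟩⟩ : BlockIdx e), fun v y => rfl⟩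
  obtain ⟨g₂, hg₂⟩ : ∃ g : (BlockIdx e → F) →ₗ[F] ((j : Fin b.length) × Fin (h j) → F),
      ∀ v y, g v y = v ⟨.inr y.1, ⟨h y.1 + 1 + y.2, by rw [he₃, hh]; have := y.2.2; omega⟩⟩ :=
    ⟨LinearMap.pi fun y => LinearMap.proj (⟨.inr y.1, ⟨h y.1 + 1 + y.2, by rw [he₃, hh]; have := y.2.2; omega⟩⟩ : BlockIdx e),
      fun v y => rfl⟩
  obtain ⟨mid, hmid⟩ : ∃ mid : Fin b.length → BlockIdx e, ∀ j, mid j = ⟨.inr j, ⟨h j, by rw [he₃, hh]; omega⟩⟩ :=
    ⟨_, fun j => rfl⟩
  obtain ⟨g₃, hg₃⟩ : ∃ g : (BlockIdx e → F) →ₗ[F] (Fin K → F), ∀ v (l : Fin K), g v l =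
      v (mid ⟨2 * (l : ℕ), by have := l.2; omega⟩) -
        if h' : 2 * (l : ℕ) + 1 < b.length then v (mid ⟨2 * (l : ℕ) + 1, h'⟩) else 0 :=
    ⟨{ toFun := fun v (l : Fin K) => v (mid ⟨2 * (l : ℕ), by have := l.2; omega⟩) -
          if h' : 2 * (l : ℕ) + 1 < b.length then v (mid ⟨2 * (l : ℕ) + 1, h'⟩) else 0
       map_add' := fun u v => by funext l; simp only [Pi.add_apply]; split_ifs <;> ring
       map_smul' := fun s v => by funext l; simp only [Pi.smul_apply, RingHom.id_apply, smul_eq_mul]; split_ifs <;> ring },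
      fun v l => rfl⟩
  obtain ⟨U, hU⟩ : ∃ U, U = LinearMap.ker (g₁.prod (g₂.prod g₃)) := ⟨_, rfl⟩
  have hiso : ∀ u ∈ U, ∀ v ∈ U, (∀ j : Fin b.length, (j : ℕ) + 1 = b.length → γ = 1 ∨ (u (mid j) = 0 ∧ v (mid j) = 0)) →
      blockForm e π c he u v = 0 := by
    intro u hu v hv hcond
    have hker : ∀ w ∈ U, g₁ w = 0 ∧ g₂ w = 0 ∧ g₃ w = 0 := fun w hw => by
      rw [hU, LinearMap.mem_ker, LinearMap.prod_apply, Prod.ext_iff] at hw
      exact ⟨hw.1, (Prod.ext_iff.1 hw.2).1, (Prod.ext_iff.1 hw.2).2⟩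
    obtain ⟨hu1, hu2, hu3⟩ := hker u hu
    obtain ⟨hv1, hv2, hv3⟩ := hker v hv
    have hP0 : ∀ w, g₁ w = 0 → ∀ j (i : Fin (e (.inl (.inr j)))), w ⟨.inl (.inr j), i⟩ = 0 := fun w hw j i => by
      have h := congrFun hw ⟨j, ⟨i, by rw [← he₂]; exact i.2⟩⟩
      rw [hg₁] at h
      exact h
    have hS0 : ∀ w, g₂ w = 0 → ∀ j (i : Fin (e (.inr j))), h j < (i : ℕ) → w ⟨.inr j, i⟩ = 0 := fun w hw j i hi => by
      have hib : (i : ℕ) < 2 * h j + 1 := by rw [← hh, ← he₃]; exact i.2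
      have h' := congrFun hw ⟨j, ⟨(i : ℕ) - (h j + 1), by omega⟩⟩
      rw [hg₂] at h'
      rw [show i = ⟨h j + 1 + ((i : ℕ) - (h j + 1)), by have := i.2; omega⟩ from
        Fin.ext (show (i : ℕ) = h j + 1 + ((i : ℕ) - (h j + 1)) by omega)]
      exact h'
    rw [blockForm_apply, Fintype.sum_sigma, Fintype.sum_sum_type, Fintype.sum_sum_type]
    have hz1 : ∀ j, ∑ i : Fin (e (.inl (.inl j))), blockCoef e c (⟨.inl (.inl j), i⟩ : BlockIdx e) *
        (u ⟨.inl (.inl j), i⟩ * v (blockMate e π he ⟨.inl (.inl j), i⟩)) = 0 := fun j => Finset.sum_eq_zero fun i _ => by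
      have h' := hP0 v hv1 j ⟨e (.inl (.inl j)) - 1 - i, by rw [he₂, ← he₁]; have := i.2; omega⟩
      rw [show blockMate e π he ⟨.inl (.inl j), i⟩ = ⟨.inl (.inr j), ⟨e (.inl (.inl j)) - 1 - i, by
        rw [he₂, ← he₁]; have := i.2; omega⟩⟩ from idx_ext e (hπ₁ j) rfl, h', mul_zero, mul_zero]
    have hz2 : ∀ j, ∑ i : Fin (e (.inl (.inr j))), blockCoef e c (⟨.inl (.inr j), i⟩ : BlockIdx e) *
        (u ⟨.inl (.inr j), i⟩ * v (blockMate e π he ⟨.inl (.inr j), i⟩)) = 0 := fun j => Finset.sum_eq_zero fun i _ => by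
      rw [hP0 u hu1 j i, zero_mul, mul_zero]
    have hz3 : ∀ j, ∑ i : Fin (e (.inr j)), blockCoef e c (⟨.inr j, i⟩ : BlockIdx e) *
        (u ⟨.inr j, i⟩ * v (blockMate e π he ⟨.inr j, i⟩)) = ((-1) ^ (j : ℕ) * if (j : ℕ) + 1 = b.length then γ else 1) * (u (mid j) * v (mid j)) := fun j => by
      have hej : e (.inr j) = 2 * h j + 1 := by rw [he₃, hh]
      rw [Finset.sum_eq_single (⟨h j, by omega⟩ : Fin (e (.inr j)))]
      · rw [show blockMate e π he ⟨.inr j, ⟨h j, by omega⟩⟩ = mid j from by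
          rw [hmid]; exact idx_ext e (hπ₃ j) (show e (.inr j) - 1 - h j = h j by omega), ← hmid]
        show c (mid j).1 * (-1) ^ ((mid j).2 : ℕ) * _ = _
        obtain ⟨X, hX⟩ : ∃ X, X = u (mid j) * v (mid j) := ⟨_, rfl⟩
        rw [← hX]
        rw [show ((mid j).2 : ℕ) = h j from congrArg (fun z : BlockIdx e => (z.2 : ℕ)) (hmid j),
          show c (mid j).1 = _ from (congrArg c (congrArg Sigma.fst (hmid j))).trans (hc₃ j), pow_add]
        linear_combination (((-1 : F) ^ (j : ℕ) * if (j : ℕ) + 1 = b.length then γ else 1) * X) * hpm (h j)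
      · intro i _ hi
        rcases lt_or_gt_of_ne (fun hh' => hi (Fin.ext hh') : (i : ℕ) ≠ h j) with hlt | hgt
        · rw [show blockMate e π he ⟨.inr j, i⟩ = ⟨.inr j, ⟨e (.inr j) - 1 - i, by omega⟩⟩ from idx_ext e (hπ₃ j) rfl,
            hS0 v hv2 j _ (show h j < e (.inr j) - 1 - (i : ℕ) by omega), mul_zero, mul_zero]
        · rw [hS0 u hu2 j i hgt, zero_mul, mul_zero]
      · intro h'; exact absurd (Finset.mem_univ _) h'
    rw [Finset.sum_congr rfl fun j _ => hz1 j, Finset.sum_congr rfl fun j _ => hz2 j, Finset.sum_const_zero, add_zero,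
      Finset.sum_congr rfl fun j _ => hz3 j, zero_add]
    -- the middles cancel in pairs
    obtain ⟨f, hf⟩ : ∃ f : ℕ → F, ∀ j, f j = if hj : j < b.length then ((-1) ^ j * if j + 1 = b.length then γ else 1) * (u (mid ⟨j, hj⟩) * v (mid ⟨j, hj⟩)) else 0 :=
      ⟨_, fun j => rfl⟩
    have h1 : ∑ j : Fin b.length, ((-1 : F) ^ (j : ℕ) * if (j : ℕ) + 1 = b.length then γ else 1) * (u (mid j) * v (mid j)) = ∑ j ∈ Finset.range b.length, f j := by
      rw [← Fin.sum_univ_eq_sum_range]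
      exact Finset.sum_congr rfl fun j _ => by rw [hf, dif_pos j.2]
    have h2' : ∀ L, ∑ j ∈ Finset.range (2 * L), f j = ∑ l ∈ Finset.range L, (f (2 * l) + f (2 * l + 1)) := fun L => by
      induction L with
      | zero => simp
      | succ L ih => rw [Nat.mul_succ, Finset.sum_range_succ, Finset.sum_range_succ, ih, Finset.sum_range_succ]; ring
    have h3 : ∑ j ∈ Finset.range b.length, f j = ∑ j ∈ Finset.range (2 * K), f j :=
      Finset.sum_subset (Finset.range_subset_range.2 (by omega)) fun j _ hj => by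
        rw [hf, dif_neg (fun h' => hj (Finset.mem_range.2 h'))]
    rw [h1, h3, h2']
    refine Finset.sum_eq_zero fun l hl => ?_
    have hlK := Finset.mem_range.1 hl
    have hlt : 2 * l < b.length := by omega
    have hu' := congrFun hu3 ⟨l, hlK⟩
    have hv' := congrFun hv3 ⟨l, hlK⟩
    rw [hg₃, Pi.zero_apply, sub_eq_zero] at hu' hv'
    rw [hf, hf, dif_pos hlt, pow_succ, pow_mul, neg_one_sq, one_pow, hu', hv']
    by_cases h' : 2 * l + 1 < b.length
    · rw [dif_pos h', dif_pos h', dif_pos h', if_neg (by omega : ¬ (2 * l + 1 = b.length))]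
      by_cases hlast : 2 * l + 1 + 1 = b.length
      · rw [if_pos hlast]
        rcases hcond ⟨2 * l + 1, h'⟩ hlast with hg | ⟨hu0, hv0⟩
        · rw [hg]; ring
        · rw [hu0, hv0]; ring
      · rw [if_neg hlast]; ring
    · rw [dif_neg h', dif_neg h', dif_neg h']; ring
  have hUdim : (P + P + S₀).sum / 2 ≤ Module.finrank F U := by
    have h1 := LinearMap.finrank_range_add_finrank_ker (g₁.prod (g₂.prod g₃))
    have h2' := Submodule.finrank_le (LinearMap.range (g₁.prod (g₂.prod g₃)))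
    rw [← hU] at h1
    rw [Module.finrank_fintype_fun_eq_card, Fintype.card_sigma] at h1
    simp only [Module.finrank_prod, Module.finrank_fintype_fun_eq_card, Fintype.card_sigma, Fintype.card_fin] at h2'
    simp only [Fintype.card_fin] at h1
    have h3 : ∑ x, e x = (∑ j, eP j + ∑ j, eP j) + ∑ j, eS j := by simp only [Fintype.sum_sum_type, he₁, he₂, he₃]
    have h4 : ∑ j, eS j = 2 * ∑ j, h j + b.length := by
      simp only [hh, Finset.sum_add_distrib, Finset.mul_sum, Finset.sum_const, Finset.card_univ, Fintype.card_fin,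
        smul_eq_mul, mul_one]
    rw [← hsum]
    omega
  refine ⟨BlockIdx e, inferInstance, blockForm e π c he, T, S, ?_, fun u v => ?_, blockForm_nondeg e π c he hπ hc0, hT,
    hS, hTp, hrev, fun k hk => hnil k ?_, fun x hx => ?_, fun hg1 => ⟨U, fun u hu v hv => hiso u hu v hv fun j _ => Or.inl hg1,
      hUdim⟩, fun hb2 hbe => ?_⟩
  · rw [Fintype.card_sigma]
    simpa using hsum
  · have := blockForm_symm e π c he hπ hcsym u v
    rwa [one_mul] at this
  · rintro ((j | j) | j)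
    · rw [he₁]; exact hk _ (hPmem j)
    · rw [he₂]; exact hk _ (hPmem j)
    · rw [he₃]; exact hk _ (hSpos j)
  · rw [hrk, Nat.sub_add_cancel hx]
    simp only [Fintype.sum_sum_type, he₁, he₂, he₃]
    rw [hPsum fun y => if y = x then 1 else 0, hSsum fun y => if y = x then 1 else 0, Multiset.count_add,
      Multiset.count_add]
    have hcnt : ∀ M : Multiset ℕ, (M.map fun y => if y = x then 1 else 0).sum = M.count x := fun M => by
      induction M using Multiset.induction_on with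
      | empty => simp
      | cons y M ih =>
        rw [Multiset.map_cons, Multiset.sum_cons, ih, Multiset.count_cons]
        by_cases hyx : y = x
        · subst hyx; simp; omega
        · simp [hyx, Ne.symm hyx]
    rw [hcnt, hcnt]
  · have hlen : S₀.card = b.length := by rw [← hS', Multiset.coe_card]
    rw [hlen] at hb2 hbe
    obtain ⟨lst, hlst⟩ : ∃ lst : Fin b.length, (lst : ℕ) + 1 = b.length := ⟨⟨b.length - 1, by omega⟩, by simp only; omega⟩
    obtain ⟨prv, hprv⟩ : ∃ prv : Fin b.length, (prv : ℕ) + 2 = b.length := ⟨⟨b.length - 2, by omega⟩, by simp only; omega⟩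
    have hmm : ∀ j, blockMate e π he (mid j) = mid j := fun j => by
      rw [hmid]
      refine idx_ext e (hπ₃ j) ?_
      show e (.inr j) - 1 - h j = h j
      rw [he₃, hh]; omega
    have hcm : ∀ j : Fin b.length, blockCoef e c (mid j) = (-1) ^ (j : ℕ) * if (j : ℕ) + 1 = b.length then γ else 1 := fun j => by
      show c (mid j).1 * (-1) ^ ((mid j).2 : ℕ) = _
      rw [show ((mid j).2 : ℕ) = h j from congrArg (fun z : BlockIdx e => (z.2 : ℕ)) (hmid j),
        show c (mid j).1 = _ from (congrArg c (congrArg Sigma.fst (hmid j))).trans (hc₃ j), pow_add]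
      linear_combination ((-1 : F) ^ (j : ℕ) * if (j : ℕ) + 1 = b.length then γ else 1) * hpm (h j)
    have hsgn : (-1 : F) ^ (prv : ℕ) = 1 ∧ (-1 : F) ^ (lst : ℕ) = -1 := by
      obtain ⟨w, hw⟩ := hbe
      exact ⟨Even.neg_one_pow ⟨w - 1, by omega⟩, Odd.neg_one_pow ⟨w - 1, by omega⟩⟩
    obtain ⟨U', hU'⟩ : ∃ U' : Submodule F (BlockIdx e → F),
        U' = U ⊓ LinearMap.ker (LinearMap.proj (R := F) (φ := fun _ : BlockIdx e => F) (mid lst)) := ⟨_, rfl⟩
    have hU'mem : ∀ u ∈ U', u ∈ U ∧ u (mid lst) = 0 ∧ u (mid prv) = 0 := fun u hu => by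
      rw [hU', Submodule.mem_inf, LinearMap.mem_ker, LinearMap.proj_apply] at hu
      refine ⟨hu.1, hu.2, ?_⟩
      have hu1 := hu.1
      rw [hU, LinearMap.mem_ker, LinearMap.prod_apply, Prod.ext_iff] at hu1
      obtain ⟨w, hw⟩ := hbe
      have hg3u : g₃ u = 0 := (Prod.ext_iff.1 hu1.2).2
      have h := congrFun hg3u ⟨w - 1, by omega⟩
      rw [hg₃, dif_pos (show 2 * (w - 1) + 1 < b.length by omega), Pi.zero_apply, sub_eq_zero] at h
      rw [show prv = ⟨2 * (w - 1), by omega⟩ from Fin.ext (show (prv : ℕ) = 2 * (w - 1) by omega)]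
      exact h.trans ((congrArg u (congrArg mid (Fin.ext (show 2 * (w - 1) + 1 = (lst : ℕ) by omega)))).trans hu.2)
    have hne : mid prv ≠ mid lst := fun hh' => by
      rw [hmid, hmid] at hh'
      have := congrArg Fin.val (Sum.inr_injective (congrArg Sigma.fst hh'))
      omega
    refine ⟨Pi.single (mid prv) 1, Pi.single (mid lst) 1, U', ?_, ?_, ?_, fun u hu => ⟨?_, ?_⟩, fun u hu v hv => ?_, ?_⟩
    · rw [blockForm_single e π c he hπ, hmm, if_pos rfl, hcm, if_neg (by omega), hsgn.1, one_mul]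
    · rw [blockForm_single e π c he hπ, hmm, if_pos rfl, hcm, if_pos hlst, hsgn.2, neg_one_mul]
    · rw [blockForm_single e π c he hπ, hmm, if_neg hne.symm]
    · rw [blockForm_apply, Finset.sum_eq_single (mid prv) (fun x _ hx => by simp [Pi.single_eq_of_ne hx])
        (fun hh' => absurd (Finset.mem_univ _) hh'), hmm, (hU'mem u hu).2.2, mul_zero, mul_zero]
    · rw [blockForm_apply, Finset.sum_eq_single (mid lst) (fun x _ hx => by simp [Pi.single_eq_of_ne hx])
        (fun hh' => absurd (Finset.mem_univ _) hh'), hmm, (hU'mem u hu).2.1, mul_zero, mul_zero]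
    · refine hiso u (hU'mem u hu).1 v (hU'mem v hv).1 fun j hj => Or.inr ?_
      rw [show j = lst from Fin.ext (by omega)]
      exact ⟨(hU'mem u hu).2.1, (hU'mem v hv).2.1⟩
    · have h1 := Submodule.finrank_sup_add_finrank_inf_eq U
        (LinearMap.ker (LinearMap.proj (R := F) (φ := fun _ : BlockIdx e => F) (mid lst)))
      rw [← hU'] at h1
      have h2' := Submodule.finrank_le (U ⊔ LinearMap.ker (LinearMap.proj (R := F) (φ := fun _ : BlockIdx e => F) (mid lst)))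
      have h3 := LinearMap.finrank_range_add_finrank_ker (LinearMap.proj (R := F) (φ := fun _ : BlockIdx e => F) (mid lst))
      have h4 := Submodule.finrank_le (LinearMap.range (LinearMap.proj (R := F) (φ := fun _ : BlockIdx e => F) (mid lst)))
      rw [Module.finrank_self] at h4
      omega

/-- a symmetric form with an isometry of given Jordan type -/
theorem exists_orth_model {p : ℕ} [Fact p.Prime] [CharP F p] (h2 : (2 : F) ≠ 0) {μ : Multiset ℕ}
    (hμ : ∀ x ∈ μ, 0 < x ∧ x ≤ p) (hev : ∀ x, Even x → Even (μ.count x)) :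
    ∃ (ι' : Type) (_ : Fintype ι') (B : LinearMap.BilinForm F (ι' → F)) (T S : Module.End F (ι' → F))
      (U : Submodule F (ι' → F)), Fintype.card ι' = μ.sum ∧ (∀ u v, B u v = B v u) ∧ B.Nondegenerate ∧
      (∀ u v, B (T u) (T v) = B u v) ∧ (∀ u v, B (S u) (S v) = B u v) ∧ T ^ p = 1 ∧
      (∃ Ti, T * Ti = 1 ∧ S * T = Ti * S) ∧ (T - 1) ^ p = 0 ∧
      (∀ e, 1 ≤ e → μ.count e = blockMult (T - 1) ⊤ (e - 1)) ∧
      (∀ u ∈ U, ∀ v ∈ U, B u v = 0) ∧ μ.sum / 2 ≤ Module.finrank F U := by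
  obtain ⟨P, S₀, rfl, hS₀⟩ := split_multiset μ
  obtain ⟨ι', inst, B, T, S, h1, h3, h4, h5, h6, h7, h8, h9, h10, h11, -⟩ := exists_orth_split (p := p) h2 P S₀ hμ
    (fun x hx => Nat.not_even_iff_odd.1 fun h => Nat.not_even_iff_odd.2 (hS₀ x hx) (hev x h)) one_ne_zero
  obtain ⟨U, hU, hUd⟩ := h11 rfl
  exact ⟨ι', inst, B, T, S, U, h1, h3, h4, h5, h6, h7, h8, h9 p fun x hx => (hμ x hx).2, h10, hU, hUd⟩

/-- an isometry with a reversing isometry gives an element of `Ω` -/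
theorem exists_omega_elem {ι ι' : Type} [Fintype ι] [DecidableEq ι] [Fintype ι'] {p : ℕ} [Fact p.Prime] [CharP F p]
    (h2 : (2 : F) ≠ 0) (Q : (ι → F) → F) {B : LinearMap.BilinForm F (ι' → F)} (hsym : ∀ u v, B u v = B v u)
    (hN : B.Nondegenerate) {T S : Module.End F (ι' → F)} (hT : ∀ u v, B (T u) (T v) = B u v)
    (hS : ∀ u v, B (S u) (S v) = B u v) (hTp : T ^ p = 1) (hrev : ∃ Ti, T * Ti = 1 ∧ S * T = Ti * S) (hT1ne : T ≠ 1)
    (φ : (ι' → F) ≃ₗ[F] (ι → F)) {l : F} (hQ : ∀ v, Q (φ v) = l * B v v) :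
    ∃ g : GL ι F, g ∈ Cfsg.Geo.omegaGL Q ∧ orderOf g = p ∧ (∀ u, (g : Matrix ι ι F).mulVec (φ u) = φ (T u)) ∧
      ∀ u v, QuadraticMap.polar Q (φ u) (φ v) = 2 * l * B u v := by
  classical
  obtain ⟨Ti, hTi, hST⟩ := hrev
  have hp1 : 1 ≤ p := (Fact.out : p.Prime).one_le
  have hBinj : ∀ R : Module.End F (ι' → F), (∀ u v, B (R u) (R v) = B u v) → Function.Injective R := fun R hR u v h =>
    sub_eq_zero.1 (hN.1 _ fun w => by rw [← hR, map_sub, h, sub_self, map_zero, LinearMap.zero_apply])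
  -- matrices
  have hmat : ∀ R : Module.End F (ι' → F), (∀ u v, B (R u) (R v) = B u v) →
      ∃ x : GL ι F, x ∈ Cfsg.isometryGroup F Q ∧ ∀ u, (x : Matrix ι ι F).mulVec (φ u) = φ (R u) := by
    intro R hR
    obtain ⟨L, hL⟩ : ∃ L : (ι → F) →ₗ[F] (ι → F), L = φ.conj R := ⟨_, rfl⟩
    have hLinj : Function.Injective L := by
      intro u v h
      rw [hL, LinearEquiv.conj_apply_apply, LinearEquiv.conj_apply_apply] at h
      exact φ.symm.injective (hBinj R hR (φ.injective h))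
    refine ⟨((Matrix.mulVec_injective_iff_isUnit (A := LinearMap.toMatrix' L)).1 fun v w h => hLinj (by
      simpa only [LinearMap.toMatrix'_mulVec] using h)).unit, fun (x : ι → F) _ => ?_, fun u => ?_⟩
    · show Q (Matrix.mulVec _ x) = Q x
      obtain ⟨u, rfl⟩ := φ.surjective x
      rw [Units.coeHom_apply, IsUnit.unit_spec, LinearMap.toMatrix'_mulVec, hL, LinearEquiv.conj_apply_apply,
        φ.symm_apply_apply, hQ, hQ, hR]
    · rw [IsUnit.unit_spec, LinearMap.toMatrix'_mulVec, hL, LinearEquiv.conj_apply_apply, φ.symm_apply_apply]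
  obtain ⟨g, hg, hgφ⟩ := hmat T hT
  obtain ⟨s, hs, hsφ⟩ := hmat S hS
  have hext : ∀ x y : GL ι F, (∀ u, (x : Matrix ι ι F).mulVec (φ u) = (y : Matrix ι ι F).mulVec (φ u)) → x = y :=
    fun x y h => Units.ext (Matrix.toLin'.injective (LinearMap.ext fun v => by
      obtain ⟨u, rfl⟩ := φ.surjective v
      rw [Matrix.toLin'_apply, Matrix.toLin'_apply, h]))
  have hgpow : ∀ (j : ℕ) u, ((g ^ j : GL ι F) : Matrix ι ι F).mulVec (φ u) = φ ((T ^ j) u) := fun j => by
    induction j with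
    | zero => intro u; simp
    | succ j ih => intro u; rw [pow_succ, Units.val_mul, ← Matrix.mulVec_mulVec, hgφ, ih, pow_succ, Module.End.mul_apply]
  have hgp : g ^ p = 1 := hext _ _ fun u => by rw [hgpow, hTp]; simp
  have hrel : g * s * g = s := hext _ _ fun u => by
    rw [Units.val_mul, Units.val_mul, ← Matrix.mulVec_mulVec, ← Matrix.mulVec_mulVec, hgφ, hsφ, hgφ, hsφ,
      ← Module.End.mul_apply, ← Module.End.mul_apply, mul_assoc, hST, ← mul_assoc, hTi, one_mul]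
  have hgΩ : g ∈ Cfsg.Geo.omegaGL Q := by
    have hc : s * g * s⁻¹ * g⁻¹ ∈ Cfsg.Geo.omegaGL Q :=
      Subgroup.mem_map.2 ⟨⁅(⟨s, hs⟩ : Cfsg.isometryGroup F Q), ⟨g, hg⟩⁆,
        Subgroup.commutator_mem_commutator (Subgroup.mem_top _) (Subgroup.mem_top _), rfl⟩
    have e1 : s * g = g⁻¹ * s := eq_inv_mul_of_mul_eq (by rw [← mul_assoc, hrel])
    rw [e1, mul_inv_cancel_right, ← mul_inv_rev] at hc
    have hgg : g * g ∈ Cfsg.Geo.omegaGL Q := inv_mem_iff.1 hc
    obtain ⟨k, hk⟩ := (Fact.out : p.Prime).odd_of_ne_two (fun hp2 => h2 (by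
      have := CharP.cast_eq_zero F p
      rw [hp2] at this
      simpa using this))
    have e2 : g = (g * g) ^ (k + 1) := by
      rw [← sq, ← pow_mul, show 2 * (k + 1) = p + 1 by omega, pow_succ, hgp, one_mul]
    rw [e2]
    exact Subgroup.pow_mem _ hgg _
  have hgo : orderOf g = p := orderOf_eq_prime hgp fun h1 => hT1ne (LinearMap.ext fun u => φ.injective (by
    rw [← hgφ, h1]; simp))
  refine ⟨g, hgΩ, hgo, hgφ, fun u v => ?_⟩
  rw [QuadraticMap.polar, ← map_add, hQ, hQ, hQ, map_add, map_add, LinearMap.add_apply, LinearMap.add_apply, hsym v u]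
  ring

/-- fixed subspaces of the model give sub-partitions -/
theorem orth_sub_partition {ι : Type} [Fintype ι] [DecidableEq ι] {p : ℕ} [Fact p.Prime] [CharP F p] (h2 : (2 : F) ≠ 0)
    (Q : (ι → F) → F) {m : ℕ} (hm : m ≤ Fintype.card ι)
    (hreal : ∀ (ι' : Type) (_ : Fintype ι') (B : LinearMap.BilinForm F (ι' → F)) (U : Submodule F (ι' → F)),
      Fintype.card ι' = Fintype.card ι → (∀ u v, B u v = B v u) → B.Nondegenerate → (∀ u ∈ U, ∀ v ∈ U, B u v = 0) →
      Fintype.card ι / 2 ≤ Module.finrank F U →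
      ∃ (φ : (ι' → F) ≃ₗ[F] (ι → F)) (l : F), l ≠ 0 ∧ ∀ v, Q (φ v) = l * B v v)
    (hfix : ∀ x : GL ι F, x ∈ Cfsg.Geo.omegaGL Q → orderOf x = p →
      ∃ W : Submodule F (ι → F), Module.finrank F W = m ∧ Cfsg.Geo.IsNondegenerateOn (QuadraticMap.polar Q) W ∧
        W.map (Matrix.toLin' (x : Matrix ι ι F)) ≤ W)
    (μ : Multiset ℕ) (hμ : ∀ e ∈ μ, 0 < e ∧ e ≤ p) (hev : ∀ e, Even e → Even (μ.count e)) (hsum : μ.sum = Fintype.card ι) :
    ∃ ν : Multiset ℕ, ν ≤ μ ∧ ν.sum = m ∧ ∀ e, Even e → Even (ν.count e) := by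
  classical
  by_cases hone : ∀ e ∈ μ, e = 1
  · have hμ' : μ = Multiset.replicate μ.card 1 := Multiset.eq_replicate.2 ⟨rfl, hone⟩
    refine ⟨Multiset.replicate m 1, ?_, by simp, fun e he => ?_⟩
    · rw [hμ']
      refine (Multiset.replicate_le_replicate 1).2 ?_
      rw [hμ', Multiset.sum_replicate, smul_eq_mul, mul_one] at hsum
      omega
    · rw [Multiset.count_replicate, if_neg fun h1 => by rw [← h1] at he; exact Nat.not_even_one he]
      exact ⟨0, rfl⟩
  obtain ⟨ι', inst, B, T, S, U, hcard, hsym, hN, hT, hS, hTp, ⟨Ti, hTi, hST⟩, hnil, hcnt, hU, hUd⟩ :=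
    exists_orth_model (p := p) h2 hμ hev
  obtain ⟨φ, l, hl, hQ⟩ := hreal ι' inst B U (hcard.trans hsum) hsym hN hU (hsum ▸ hUd)
  have hT1ne : T ≠ 1 := fun hT1 => hone fun e he => by
    by_contra hne
    have hc := hcnt e (hμ e he).1
    have hpos := Multiset.count_pos.2 he
    have h0 : ∀ k, 1 ≤ k → powRank (T - 1) ⊤ k = 0 := fun k hk => by
      rw [powRank, hT1, sub_self, zero_pow (by omega), Submodule.map_zero, finrank_bot]
    have := (hμ e he).1
    rw [blockMult, h0 (e - 1) (by omega), h0 (e - 1 + 2) (by omega)] at hc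
    omega
  obtain ⟨g, hgΩ, hgo, hgφ, hpol⟩ := exists_omega_elem (p := p) h2 Q hsym hN hT hS hTp ⟨Ti, hTi, hST⟩ hT1ne φ hQ
  obtain ⟨W, hWd, hWn, hWi⟩ := hfix g hgΩ hgo
  obtain ⟨W', hW'⟩ : ∃ W', W' = W.comap φ.toLinearMap := ⟨_, rfl⟩
  have hmem : ∀ u, u ∈ W' ↔ φ u ∈ W := fun u => by rw [hW']; rfl
  obtain ⟨ν, hν1, hν2, hν3⟩ := exists_sub_partition (B := B) (ε := 1) (fun u v => by rw [one_mul, hsym]) h2 hN T hT hnil
    (bad := fun e => Even e) (fun e he h1 => by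
      rw [one_mul]
      obtain ⟨k, hk⟩ := he
      exact Odd.neg_one_pow ⟨k - 1, by omega⟩)
    (μ := μ) (fun e h1 _ => hcnt e h1) (W := W') (fun u hu => by
      rw [hmem, ← hgφ, ← Matrix.toLin'_apply]
      exact hWi ⟨φ u, (hmem u).1 hu, rfl⟩)
    (fun u hu hu0 => by
      obtain ⟨-, y, hy, hne⟩ := hWn (φ u) ((hmem u).1 hu) (fun h => hu0 (φ.map_eq_zero_iff.1 h))
      obtain ⟨v, rfl⟩ := φ.surjective y
      refine ⟨v, (hmem v).2 hy, fun h => hne ?_⟩
      rw [hpol, h, mul_zero])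
  refine ⟨ν, hν1, ?_, hν3⟩
  rw [hν2, ← hWd, ← LinearEquiv.finrank_map_eq φ W', hW', Submodule.map_comap_eq_of_surjective φ.surjective]

end CfsgLib.Perm.Elusive
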