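import Mathlib
import Cfsg.Agent.Lib.Perm.Elusive.JordanOrth
import Cfsg.Agent.Lib.Orth.Aut.MinusEquiv

/-!
# Unipotent elements of orthogonal groups of minus type
-/

set_option autoImplicit false
set_option linter.all false

namespace CfsgLib.Perm.Elusive

variable {F : Type*} [Field F] [Fintype F] {V : Type*} [AddCommGroup V] [Module F V] [FiniteDimensional F V]
variable {B : LinearMap.BilinForm F V}

/-- forms with an anisotropic plane orthogonal to a large isotropic subspace -/
theorem exists_minus_equiv (hsym : ∀ u v, B u v = B v u) (hN : B.Nondegenerate) (h2 : (2 : F) ≠ 0) {n : ℕ}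
    (hV : Module.finrank F V = 2 * n + 2) {z₁ z₂ : V} {γ : F} (hγ : ∀ s : F, s * s ≠ γ) (h11 : B z₁ z₁ = 1)
    (h22 : B z₂ z₂ = -γ) (h12 : B z₁ z₂ = 0) {U : Submodule F V} (hUz : ∀ u ∈ U, B z₁ u = 0 ∧ B z₂ u = 0)
    (hU : ∀ u ∈ U, ∀ v ∈ U, B u v = 0) (hd : n ≤ Module.finrank F U) {a b : F}
    (hab : ∀ x y : F, x ^ 2 + a * x * y + b * y ^ 2 = 0 → x = 0 ∧ y = 0) :
    ∃ φ : V ≃ₗ[F] ((Fin n ⊕ Fin n) ⊕ Fin 2 → F), ∀ v, Cfsg.quadFormMinus n F a b (φ v) = B v v := by
  classical
  have hγ0 : γ ≠ 0 := fun h => hγ 0 (by rw [h, mul_zero])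
  have h21 : B z₂ z₁ = 0 := by rw [hsym, h12]
  obtain ⟨Ψ, hΨ⟩ : ∃ Ψ : V →ₗ[F] (Fin 2 → F), ∀ v, Ψ v = ![B z₁ v, B z₂ v] :=
    ⟨{ toFun := fun v => ![B z₁ v, B z₂ v]
       map_add' := fun u v => by ext i; fin_cases i <;> simp
       map_smul' := fun s v => by ext i; fin_cases i <;> simp }, fun v => rfl⟩
  obtain ⟨M, hM⟩ : ∃ M, M = LinearMap.ker Ψ := ⟨_, rfl⟩
  have hmemM : ∀ v, v ∈ M ↔ B z₁ v = 0 ∧ B z₂ v = 0 := fun v => by
    rw [hM, LinearMap.mem_ker, hΨ, funext_iff]
    constructor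
    · intro h; exact ⟨h 0, h 1⟩
    · intro h i; fin_cases i
      exacts [h.1, h.2]
  obtain ⟨π, hπ⟩ : ∃ π : V →ₗ[F] V, ∀ v, π v = v - B z₁ v • z₁ + (B z₂ v / γ) • z₂ :=
    ⟨LinearMap.id - (B z₁).smulRight z₁ + γ⁻¹ • (B z₂).smulRight z₂, fun v => by
      simp [smul_smul, div_eq_inv_mul]⟩
  have hπM : ∀ v, π v ∈ M := fun v => by
    rw [hmemM, hπ]
    constructor
    · simp [h11, h12]
    · simp only [map_add, map_sub, map_smul, h21, h22, smul_eq_mul, mul_zero, sub_zero]
      field_simp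
      ring
  have hBM : (B.restrict M).Nondegenerate := by
    have hl : ∀ u : M, (∀ v : M, B (u : V) v = 0) → u = 0 := fun u hu => by
      refine Subtype.ext (hN.1 _ fun v => ?_)
      obtain ⟨h1, h2'⟩ := (hmemM u).1 u.2
      have h := hu ⟨π v, hπM v⟩
      simp only [hπ, map_add, map_sub, map_smul, hsym (u : V) z₁, hsym (u : V) z₂, h1, h2', smul_zero, sub_zero, add_zero] at h
      exact h
    exact ⟨fun u hu => hl u hu, fun u hu => hl u fun v => by rw [hsym]; exact hu v⟩
  have hsurΨ : Function.Surjective Ψ := fun y => ⟨y 0 • z₁ + (-(y 1) / γ) • z₂, by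
    rw [hΨ]
    ext i
    fin_cases i
    · simp [h11, h12]
    · simp [h21, h22]
      field_simp⟩
  have hMd : Module.finrank F M = 2 * n := by
    have h := LinearMap.finrank_range_add_finrank_ker Ψ
    rw [LinearMap.range_eq_top.2 hsurΨ, finrank_top, Module.finrank_fintype_fun_eq_card, Fintype.card_fin, hV, ← hM] at h
    omega
  have hUM : U ≤ M := fun u hu => (hmemM u).2 (hUz u hu)
  obtain ⟨φM, hφM⟩ := exists_plus_equiv (B := B.restrict M) (fun u v => hsym u v) hBM h2 hMd
    (U := U.comap M.subtype) (fun u hu v hv => hU _ hu _ hv) (by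
      rw [(Submodule.comapSubtypeEquivOfLe hUM).finrank_eq]; exact hd)
  obtain ⟨g, hg⟩ := CfsgLib.Orth.exists_minus_map (m := n) (a' := 0) (b' := -γ) hab (fun x y h => by
    by_cases hy : y = 0
    · subst hy
      exact ⟨by simpa using h, rfl⟩
    · refine absurd ?_ (hγ (x / y))
      field_simp
      linear_combination h)
  obtain ⟨L, hL⟩ : ∃ L : V →ₗ[F] ((Fin n ⊕ Fin n) ⊕ Fin 2 → F),
      ∀ v, L v = Sum.elim (φM (π.codRestrict M hπM v)) ![B z₁ v, B z₂ v / -γ] :=
    ⟨{ toFun := fun v => Sum.elim (φM (π.codRestrict M hπM v)) ![B z₁ v, B z₂ v / -γ]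
       map_add' := fun u v => by
         funext i; rcases i with i | i
         · simp
         · fin_cases i
           · simp
           · simp [add_div]
       map_smul' := fun s v => by
         funext i; rcases i with i | i
         · simp
         · fin_cases i
           · simp
           · simp [mul_div_assoc] }, fun v => rfl⟩
  have hinj : Function.Injective L := (injective_iff_map_eq_zero L).2 fun v hv => by
    have h0 := congrFun hv
    have e1 : B z₁ v = 0 := by simpa [hL] using h0 (.inr 0)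
    have e2 : B z₂ v = 0 := by simpa [hL, hγ0] using h0 (.inr 1)
    have e3 : φM (π.codRestrict M hπM v) = 0 := funext fun i => by simpa [hL] using h0 (.inl i)
    rw [LinearEquiv.map_eq_zero_iff] at e3
    have e4 := congrArg Subtype.val e3
    simpa [hπ, e1, e2] using e4
  obtain ⟨L', hL'⟩ : ∃ L' : V →ₗ[F] ((Fin n ⊕ Fin n) ⊕ Fin 2 → F), L' = (Matrix.toLin' (g : Matrix _ _ F)).comp L := ⟨_, rfl⟩
  have hinj' : Function.Injective L' := by
    intro u v h
    rw [hL', LinearMap.comp_apply, LinearMap.comp_apply, Matrix.toLin'_apply, Matrix.toLin'_apply] at h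
    exact hinj (Matrix.mulVec_injective_iff_isUnit.2 g.isUnit h)
  have hdim : Module.finrank F V = Module.finrank F ((Fin n ⊕ Fin n) ⊕ Fin 2 → F) := by
    rw [Module.finrank_fintype_fun_eq_card, hV, Fintype.card_sum, Fintype.card_sum, Fintype.card_fin, Fintype.card_fin]
    omega
  refine ⟨LinearEquiv.ofBijective L' ⟨hinj', (LinearMap.injective_iff_surjective_of_finrank_eq_finrank hdim).1 hinj'⟩,
    fun v => ?_⟩
  change Cfsg.quadFormMinus n F a b (L' v) = B v v
  rw [hL', LinearMap.comp_apply, Matrix.toLin'_apply, hg, hL]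
  have h := hφM (π.codRestrict M hπM v)
  rw [Cfsg.quadFormPlus] at h
  change _ = B (π v) (π v) at h
  simp only [hπ, map_add, map_sub, map_smul, LinearMap.add_apply, LinearMap.sub_apply, LinearMap.smul_apply, smul_eq_mul,
    h11, h12, h21, h22, hsym v z₁, hsym v z₂] at h
  simp only [Cfsg.quadFormMinus, Sum.elim_inl, Sum.elim_inr, Matrix.cons_val_zero, Matrix.cons_val_one]
  rw [h]
  field_simp
  ring

end CfsgLib.Perm.Elusive
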