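import Mathlib
import Cfsg.Agent.Lib.Perm.Elusive.JordanType

/-!
# Nilpotent maps with prescribed block sizes and their invariant complementary pairs
-/

set_option autoImplicit false
set_option linter.all false

namespace CfsgLib.Perm.Elusive

/-- a nilpotent map with prescribed block sizes -/
theorem exists_nilpotent_of_parts {F : Type*} [Field F] {n p : ℕ} {l : ℕ} (b : Fin l → ℕ) (hbp : ∀ i, 0 < b i ∧ b i ≤ p)
    (hsum' : ∑ i, b i = n) :
    ∃ N : Module.End F (Fin n → F), N ^ p = 0 ∧ ∀ j, powRank N ⊤ j = ∑ i, (b i - j) := by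
  classical
  obtain ⟨e⟩ : Nonempty ((Σ i : Fin l, Fin (b i)) ≃ Fin n) :=
    ⟨Fintype.equivFinOfCardEq (by rw [Fintype.card_sigma, ← hsum']; simp)⟩
  obtain ⟨Sh, hSh⟩ : ∃ Sh : ℕ → Module.End F (Fin n → F), ∀ (j : ℕ) (g : Fin n → F) (x : Σ i : Fin l, Fin (b i)),
      Sh j g (e x) = if j ≤ (x.2 : ℕ) then g (e ⟨x.1, ⟨x.2 - j, by omega⟩⟩) else 0 := by
    let G : ℕ → (Fin n → F) → (Σ i : Fin l, Fin (b i)) → F := fun j g x =>
      if j ≤ (x.2 : ℕ) then g (e ⟨x.1, ⟨x.2 - j, by omega⟩⟩) else 0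
    refine ⟨fun j => LinearMap.pi fun m =>
      ⟨⟨fun g => G j g (e.symm m), fun g g' => ?_⟩, fun c g => ?_⟩, fun j g x => ?_⟩
    · simp only [G]; split_ifs <;> simp
    · simp only [G]; split_ifs <;> simp
    · show G j g (e.symm (e x)) = G j g x
      rw [Equiv.symm_apply_apply]
  obtain ⟨N, hN⟩ : ∃ N, N = Sh 1 := ⟨_, rfl⟩
  have hext : ∀ g g' : Fin n → F, (∀ x, g (e x) = g' (e x)) → g = g' := fun g g' hg =>
    funext fun m => by simpa using hg (e.symm m)
  have hpow : ∀ j, N ^ j = Sh j := fun j => by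
    induction j with
    | zero => exact LinearMap.ext fun g => hext _ _ fun x => by simp [hSh]
    | succ j ih =>
      refine LinearMap.ext fun g => hext _ _ fun x => ?_
      rw [pow_succ, ih, hN, Module.End.mul_apply, hSh, hSh]
      by_cases hj : j ≤ (x.2 : ℕ)
      · rw [if_pos hj, hSh]
        by_cases hj' : j + 1 ≤ (x.2 : ℕ)
        · rw [if_pos hj', if_pos (show 1 ≤ (x.2 : ℕ) - j by omega)]
          refine congrArg g (congrArg e (Sigma.ext rfl (heq_of_eq ?_)))
          exact Fin.ext (show (x.2 : ℕ) - j - 1 = (x.2 : ℕ) - (j + 1) by omega)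
        · rw [if_neg hj', if_neg (show ¬ 1 ≤ (x.2 : ℕ) - j by omega)]
      · rw [if_neg hj, hSh, if_neg (by omega)]
  have hrank : ∀ j, CfsgLib.Perm.Elusive.powRank N ⊤ j = ∑ i, (b i - j) := fun j => by
    obtain ⟨E, hE⟩ : ∃ E : ((Σ i : Fin l, {k : Fin (b i) // j ≤ (k : ℕ)}) → F) →ₗ[F] (Fin n → F), ∀ g x,
        E g (e x) = if h : j ≤ (x.2 : ℕ) then g ⟨x.1, x.2, h⟩ else 0 := by
      let G : ((Σ i : Fin l, {k : Fin (b i) // j ≤ (k : ℕ)}) → F) → (Σ i : Fin l, Fin (b i)) → F := fun g x =>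
        if h : j ≤ (x.2 : ℕ) then g ⟨x.1, x.2, h⟩ else 0
      refine ⟨LinearMap.pi fun m => ⟨⟨fun g => G g (e.symm m), fun g g' => ?_⟩, fun c g => ?_⟩, fun g x => ?_⟩
      · simp only [G]; split_ifs <;> simp
      · simp only [G]; split_ifs <;> simp
      · show G g (e.symm (e x)) = G g x
        rw [Equiv.symm_apply_apply]
    have hEinj : Function.Injective E := fun g g' hg => funext fun y => by
      have := congrFun hg (e ⟨y.1, y.2.1⟩)
      rwa [hE, hE, dif_pos y.2.2, dif_pos y.2.2] at this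
    have hr : (⊤ : Submodule F (Fin n → F)).map (N ^ j) = LinearMap.range E := by
      rw [Submodule.map_top, hpow]
      refine le_antisymm ?_ ?_
      · rintro _ ⟨g, rfl⟩
        exact ⟨fun y => Sh j g (e ⟨y.1, y.2.1⟩), hext _ _ fun x => by
          rw [hE]
          split_ifs with hx
          · rfl
          · rw [hSh, if_neg hx]⟩
      · rintro _ ⟨g, rfl⟩
        refine ⟨fun m => if h : ((e.symm m).2 : ℕ) + j < b (e.symm m).1 then
            E g (e ⟨(e.symm m).1, ⟨((e.symm m).2 : ℕ) + j, h⟩⟩) else 0, hext _ _ fun x => ?_⟩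
        rw [hSh, hE]
        by_cases hx : j ≤ (x.2 : ℕ)
        · rw [if_pos hx, dif_pos hx]
          show (fun z : Σ i : Fin l, Fin (b i) => if h : (z.2 : ℕ) + j < b z.1 then
            E g (e ⟨z.1, ⟨(z.2 : ℕ) + j, h⟩⟩) else 0) (e.symm (e ⟨x.1, ⟨x.2 - j, by omega⟩⟩)) = g ⟨x.1, x.2, hx⟩
          rw [Equiv.symm_apply_apply]
          show (if h : (x.2 : ℕ) - j + j < b x.1 then E g (e ⟨x.1, ⟨(x.2 : ℕ) - j + j, h⟩⟩) else 0) = _
          rw [dif_pos (by omega), show (⟨(x.2 : ℕ) - j + j, by omega⟩ : Fin (b x.1)) = x.2 from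
            Fin.ext (Nat.sub_add_cancel hx), hE, dif_pos hx]
        · rw [if_neg hx, dif_neg hx]
    rw [CfsgLib.Perm.Elusive.powRank, hr, LinearMap.finrank_range_of_inj hEinj, Module.finrank_fintype_fun_eq_card,
      Fintype.card_sigma]
    refine Finset.sum_congr rfl fun i _ => ?_
    rw [Fintype.card_subtype]
    rw [show (Finset.univ.filter fun k : Fin (b i) => j ≤ (k : ℕ)).card =
      ((Finset.Ico j (b i)).card) from Finset.card_bij (fun k _ => (k : ℕ))
        (fun k hk => by simp at hk ⊢; omega) (fun k _ k' _ hkk => Fin.ext hkk)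
        (fun m hm => by simp at hm; exact ⟨⟨m, by omega⟩, by simp; omega, rfl⟩), Nat.card_Ico]
  have hNp : N ^ p = 0 := by
    have h0 : (⊤ : Submodule F (Fin n → F)).map (N ^ p) = ⊥ := Submodule.finrank_eq_zero.1 (by
      have h2 := hrank p
      rw [CfsgLib.Perm.Elusive.powRank] at h2
      rw [h2]
      exact Finset.sum_eq_zero fun i _ => Nat.sub_eq_zero_of_le (hbp i).2)
    rw [Submodule.map_top] at h0
    exact LinearMap.range_eq_bot.1 h0
  exact ⟨N, hNp, hrank⟩

/-- invariant summands of a nilpotent map have sub-partitions as block sizes -/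
theorem exists_sub_parts {F : Type*} [Field F] {n p : ℕ} {l : ℕ} (b : Fin l → ℕ)
    (N : Module.End F (Fin n → F)) (hNp : N ^ p = 0) (hrank : ∀ j, powRank N ⊤ j = ∑ i, (b i - j))
    {D₀ B : Submodule F (Fin n → F)} (hinv : D₀.map N ≤ D₀) (hBinv : B.map N ≤ B) (hc : IsCompl D₀ B) :
    ∃ ν : Multiset ℕ, ν ≤ (Finset.univ : Finset (Fin l)).val.map b ∧ ν.sum = Module.finrank F D₀ := by
  classical
  obtain ⟨R, hR⟩ : ∃ R, R = CfsgLib.Perm.Elusive.powRank N D₀ := ⟨_, rfl⟩
  refine ⟨∑ i ∈ Finset.range p, Multiset.replicate (R i + R (i + 2) - 2 * R (i + 1)) (i + 1),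
    Multiset.le_iff_count.2 fun v => ?_, ?_⟩
  · rw [Multiset.count_sum']
    simp only [Multiset.count_replicate]
    rcases Nat.eq_zero_or_pos v with rfl | hv
    · simp
    obtain ⟨i, rfl⟩ : ∃ i, v = i + 1 := ⟨v - 1, by omega⟩
    rw [Finset.sum_eq_single i (fun m _ hm => if_neg (by omega)) (fun hi => by
      rw [if_pos rfl, hR]
      have hz : ∀ m, p ≤ m → CfsgLib.Perm.Elusive.powRank N D₀ m = 0 := fun m hm => by
        rw [CfsgLib.Perm.Elusive.powRank, pow_eq_zero_of_le hm hNp, Submodule.map_zero, finrank_bot]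
      rw [Finset.mem_range] at hi
      rw [hz i (by omega), hz (i + 2) (by omega)]
      simp), if_pos rfl, hR]
    have e1 := CfsgLib.Perm.Elusive.powRank_top_add N hinv hBinv hc i
    have e2 := CfsgLib.Perm.Elusive.powRank_top_add N hinv hBinv hc (i + 1)
    have e3 := CfsgLib.Perm.Elusive.powRank_top_add N hinv hBinv hc (i + 2)
    have e4 := CfsgLib.Perm.Elusive.powRank_convex N hBinv i
    have hcnt : (∑ m, (b m - i)) + (∑ m, (b m - (i + 2))) =
        2 * (∑ m, (b m - (i + 1))) + ((Finset.univ : Finset (Fin l)).val.map b).count (i + 1) := by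
      rw [Multiset.count_map, ← Finset.filter_val, ← Finset.card_def, Finset.card_filter, Finset.mul_sum,
        ← Finset.sum_add_distrib, ← Finset.sum_add_distrib]
      refine Finset.sum_congr rfl fun m _ => ?_
      split_ifs <;> omega
    rw [← hrank, ← hrank, ← hrank] at hcnt
    omega
  · rw [Multiset.sum_sum]
    simp only [Multiset.sum_replicate, smul_eq_mul]
    have h4 := CfsgLib.Perm.Elusive.sum_weighted R (hR ▸ CfsgLib.Perm.Elusive.powRank_convex N hinv) p
    have hz : ∀ m, p ≤ m → R m = 0 := fun m hm => by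
      rw [hR, CfsgLib.Perm.Elusive.powRank, pow_eq_zero_of_le hm hNp, Submodule.map_zero, finrank_bot]
    rw [hz p le_rfl, hz (p + 1) (by omega), mul_zero, mul_zero, add_zero, add_zero, hR,
      CfsgLib.Perm.Elusive.powRank_zero, ← hR] at h4
    rw [← h4]
    exact Finset.sum_congr rfl fun i _ => mul_comm _ _

/-- block sizes of a nilpotent map with invariant pairs for every sub-partition -/
theorem exists_parts_pairs {F : Type*} [Field F] {p : ℕ} (d : ℕ) :
    ∀ {V : Type*} [AddCommGroup V] [Module F V] [FiniteDimensional F V] (N : Module.End F V), N ^ p = 0 →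
      Module.finrank F V ≤ d →
      ∃ μ : Multiset ℕ, (∀ a ∈ μ, 0 < a ∧ a ≤ p) ∧ μ.sum = Module.finrank F V ∧ ∀ ν ≤ μ, ∃ U W : Submodule F V,
        IsCompl U W ∧ U.map N ≤ U ∧ W.map N ≤ W ∧ Module.finrank F U = ν.sum := by
  classical
  induction d with
  | zero =>
    intro V _ _ _ N hN hd
    refine ⟨0, by simp, by simp; omega, fun ν hν => ⟨⊥, ⊤, isCompl_bot_top, by simp, le_top, ?_⟩⟩
    rw [Multiset.le_zero.1 hν, finrank_bot, Multiset.sum_zero]
  | succ d ih =>
    intro V _ _ _ N hN hd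
    by_cases hV : Subsingleton V
    · refine ⟨0, by simp, ?_, fun ν hν => ⟨⊥, ⊤, isCompl_bot_top, by simp, le_top, ?_⟩⟩
      · simp [Module.finrank_zero_of_subsingleton]
      · rw [Multiset.le_zero.1 hν, finrank_bot, Multiset.sum_zero]
    rw [not_subsingleton_iff_nontrivial] at hV
    have hex : ∃ k, N ^ k = 0 := ⟨p, hN⟩
    obtain ⟨k, hk, hkm, hkp⟩ : ∃ k, N ^ k = 0 ∧ (∀ j < k, N ^ j ≠ 0) ∧ k ≤ p :=
      ⟨Nat.find hex, Nat.find_spec hex, fun j hj => Nat.find_min hex hj, Nat.find_le hN⟩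
    obtain ⟨m, rfl⟩ : ∃ m, k = m + 1 := ⟨k - 1, by
      rcases Nat.eq_zero_or_pos k with rfl | h
      · rw [pow_zero] at hk
        obtain ⟨v, hv⟩ := exists_ne (0 : V)
        exact absurd (LinearMap.congr_fun hk v) hv
      · omega⟩
    obtain ⟨v, hv⟩ : ∃ v, (N ^ m) v ≠ 0 := by
      by_contra h
      push Not at h
      exact hkm m (Nat.lt_succ_self m) (LinearMap.ext h)
    obtain ⟨φ, hφ⟩ := Module.Projective.exists_dual_ne_zero F hv
    obtain ⟨L, hL⟩ : ∃ L : V →ₗ[F] (Fin (m + 1) → F), ∀ x i, L x i = φ ((N ^ (i : ℕ)) x) :=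
      ⟨LinearMap.pi fun i => φ.comp (N ^ (i : ℕ)), fun x i => rfl⟩
    obtain ⟨f, hf⟩ : ∃ f : (Fin (m + 1) → F) →ₗ[F] V, ∀ c, f c = ∑ s, c s • (N ^ (s : ℕ)) v :=
      ⟨Fintype.linearCombination F (fun s : Fin (m + 1) => (N ^ (s : ℕ)) v), fun c => rfl⟩
    have hfz : ∀ c, L (f c) = 0 → c = 0 := fun c h0 => by
      by_contra hc0
      obtain ⟨s₀, hs₀, hmin⟩ : ∃ s₀ : Fin (m + 1), c s₀ ≠ 0 ∧ ∀ s < s₀, c s = 0 := by
        have hne : (Finset.univ.filter fun s => c s ≠ 0).Nonempty := by
          by_contra hemp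
          rw [Finset.not_nonempty_iff_eq_empty, Finset.filter_eq_empty_iff] at hemp
          exact hc0 (funext fun s => by_contra fun h => hemp (Finset.mem_univ s) h)
        refine ⟨Finset.min' _ hne, (Finset.mem_filter.1 (Finset.min'_mem _ hne)).2, fun s hs => by_contra fun h => ?_⟩
        exact absurd (Finset.min'_le _ s (Finset.mem_filter.2 ⟨Finset.mem_univ s, h⟩)) (not_le.2 hs)
      have h := congrFun h0 (⟨m - s₀, by omega⟩ : Fin (m + 1))
      rw [hL, hf, map_sum, map_sum, Finset.sum_eq_single s₀ (fun s _ hs => ?_) (fun h => absurd (Finset.mem_univ _) h)] at h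
      · rw [map_smul, map_smul, ← Module.End.mul_apply, ← pow_add, smul_eq_mul, Pi.zero_apply] at h
        rw [show ((⟨m - s₀, by omega⟩ : Fin (m + 1)) : ℕ) + (s₀ : ℕ) = m by simp; omega] at h
        exact hs₀ ((mul_eq_zero.1 h).resolve_right hφ)
      · rcases lt_or_gt_of_ne hs with hlt | hgt
        · rw [hmin s hlt, zero_smul, map_zero, map_zero]
        · rw [map_smul, map_smul, ← Module.End.mul_apply, ← pow_add,
            pow_eq_zero_of_le (show m + 1 ≤ ((⟨m - s₀, by omega⟩ : Fin (m + 1)) : ℕ) + (s : ℕ) by simp; omega) hk,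
            LinearMap.zero_apply, map_zero, smul_zero]
    have hfi : Function.Injective f := (injective_iff_map_eq_zero f).2 fun c hc => hfz c (by rw [hc, map_zero])
    have hC : Module.finrank F (LinearMap.range f) = m + 1 := by
      rw [LinearMap.finrank_range_of_inj hfi, Module.finrank_fin_fun]
    have hdis : Disjoint (LinearMap.range f) (LinearMap.ker L) := by
      rw [Submodule.disjoint_def]
      rintro x ⟨c, rfl⟩ hx
      rw [hfz c hx, map_zero]
    have hcompl : IsCompl (LinearMap.range f) (LinearMap.ker L) := by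
      refine ⟨hdis, codisjoint_iff.2 (Submodule.eq_top_of_finrank_eq ?_)⟩
      have h1 := Submodule.finrank_sup_add_finrank_inf_eq (LinearMap.range f) (LinearMap.ker L)
      rw [hdis.eq_bot, finrank_bot, add_zero, hC] at h1
      have h2 := LinearMap.finrank_range_add_finrank_ker L
      have h3 := Submodule.finrank_le (LinearMap.range L)
      rw [Module.finrank_fin_fun] at h3
      have h4 := Submodule.finrank_le (LinearMap.range f ⊔ LinearMap.ker L)
      omega
    have hsum := Submodule.finrank_add_eq_of_isCompl hcompl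
    have hCN : (LinearMap.range f).map N ≤ LinearMap.range f := by
      rintro _ ⟨_, ⟨c, rfl⟩, rfl⟩
      rw [hf, map_sum]
      refine Submodule.sum_mem _ fun s _ => ?_
      rw [map_smul, ← Module.End.mul_apply, ← pow_succ']
      refine Submodule.smul_mem _ _ ?_
      by_cases hs : (s : ℕ) + 1 < m + 1
      · exact ⟨Pi.single ⟨(s : ℕ) + 1, hs⟩ 1, by
          rw [hf, Finset.sum_eq_single (⟨(s : ℕ) + 1, hs⟩ : Fin (m + 1)) (fun t _ ht => by
            rw [Pi.single_eq_of_ne ht, zero_smul]) (fun h => absurd (Finset.mem_univ _) h)]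
          simp⟩
      · rw [show (s : ℕ) + 1 = m + 1 by omega, hk, LinearMap.zero_apply]
        exact zero_mem _
    have hKN : (LinearMap.ker L).map N ≤ LinearMap.ker L := by
      rintro _ ⟨x, hx, rfl⟩
      rw [LinearMap.mem_ker]
      funext i
      rw [hL, ← Module.End.mul_apply, ← pow_succ, Pi.zero_apply]
      by_cases hi : (i : ℕ) + 1 < m + 1
      · have h := congrFun (LinearMap.mem_ker.1 hx) (⟨(i : ℕ) + 1, hi⟩ : Fin (m + 1))
        rwa [hL] at h
      · rw [show (i : ℕ) + 1 = m + 1 by omega, hk, LinearMap.zero_apply, map_zero]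
    have hKi : ∀ x ∈ LinearMap.ker L, N x ∈ LinearMap.ker L := fun x hx => hKN ⟨x, hx, rfl⟩
    have hNK : (N.restrict hKi) ^ p = 0 := by
      rw [Module.End.pow_restrict p hKi]
      exact LinearMap.ext fun x => Subtype.ext (LinearMap.congr_fun hN (x : V))
    obtain ⟨μ, hμ, hμs, hpairs⟩ := ih (N.restrict hKi) hNK (by omega)
    refine ⟨(m + 1) ::ₘ μ, ?_, ?_, fun ν hν => ?_⟩
    · intro a ha
      rcases Multiset.mem_cons.1 ha with rfl | ha
      · omega
      · exact hμ a ha
    · rw [Multiset.sum_cons, hμs]; omega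
    have hlift : ∀ S : Submodule F (LinearMap.ker L), S.map (N.restrict hKi) ≤ S →
        (S.map (LinearMap.ker L).subtype).map N ≤ S.map (LinearMap.ker L).subtype := by
      rintro S hS _ ⟨_, ⟨x, hx, rfl⟩, rfl⟩
      exact ⟨_, hS ⟨x, hx, rfl⟩, rfl⟩
    have hjoin : ∀ S T : Submodule F (LinearMap.ker L), IsCompl S T →
        IsCompl (S.map (LinearMap.ker L).subtype) (T.map (LinearMap.ker L).subtype ⊔ LinearMap.range f) := by
      intro S T hST
      refine ⟨?_, ?_⟩
      · rw [Submodule.disjoint_def]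
        rintro _ ⟨s, hs, rfl⟩ h2
        obtain ⟨_, ⟨t, ht, rfl⟩, c, hc, e⟩ := Submodule.mem_sup.1 h2
        simp only [Submodule.subtype_apply] at e ⊢
        have h0 : c = 0 := Submodule.disjoint_def.1 hdis c hc (by
          rw [show c = (s : V) - t by rw [← e]; abel]
          exact sub_mem s.2 t.2)
        rw [h0, add_zero] at e
        rw [Submodule.disjoint_def.1 hST.disjoint s hs (Subtype.ext e ▸ ht)]
        rfl
      · rw [codisjoint_iff, ← sup_assoc, ← Submodule.map_sup, hST.sup_eq_top, Submodule.map_top, Submodule.range_subtype,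
          sup_comm]
        exact hcompl.sup_eq_top
    by_cases hmem : ν ≤ μ
    · obtain ⟨U, W, hUW, hU, hW, hUf⟩ := hpairs ν hmem
      refine ⟨_, _, hjoin U W hUW, hlift U hU, ?_, by rw [Submodule.finrank_map_subtype_eq, hUf]⟩
      rw [Submodule.map_sup]
      exact sup_le_sup (hlift W hW) hCN
    · have hin : m + 1 ∈ ν := by_contra fun h => hmem ((Multiset.le_cons_of_notMem h).1 hν)
      obtain ⟨ν', rfl⟩ := Multiset.exists_cons_of_mem hin
      obtain ⟨U, W, hUW, hU, hW, hUf⟩ := hpairs ν' ((Multiset.cons_le_cons_iff _).1 hν)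
      refine ⟨_, _, (hjoin W U hUW.symm).symm, ?_, hlift W hW, ?_⟩
      · rw [Submodule.map_sup]
        exact sup_le_sup (hlift U hU) hCN
      · have h := Submodule.finrank_sup_add_finrank_inf_eq (U.map (LinearMap.ker L).subtype) (LinearMap.range f)
        rw [(hdis.symm.mono_left (Submodule.map_subtype_le _ _)).eq_bot, finrank_bot, add_zero,
          Submodule.finrank_map_subtype_eq, hC, hUf] at h
        rw [h, Multiset.sum_cons, add_comm]

/-- counting complementary pairs -/
theorem card_complements {F : Type*} [Field F] [Fintype F] {V : Type*} [AddCommGroup V] [Module F V]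
    [FiniteDimensional F V] (U : Submodule F V) :
    Nat.card {W : Submodule F V // IsCompl U W} =
      Fintype.card F ^ ((Module.finrank F V - Module.finrank F U) * Module.finrank F U) := by
  obtain ⟨C, hC⟩ := Submodule.exists_isCompl U
  rw [Nat.card_congr U.isComplEquivProj, Nat.card_congr
    ({ toFun := fun f => f.1.comp C.subtype
       invFun := fun g => ⟨LinearMap.ofIsCompl hC LinearMap.id g, fun x => by simp⟩
       left_inv := fun f => Subtype.ext (LinearMap.ofIsCompl_eq hC (fun u => (f.2 u).symm) (fun u => rfl))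
       right_inv := fun g => LinearMap.ext fun x => by simp } : {f : V →ₗ[F] U // ∀ x : U, f x = x} ≃ (C →ₗ[F] U))]
  have h := Submodule.finrank_add_eq_of_isCompl hC
  rw [Module.natCard_eq_pow_finrank (K := F), Module.finrank_linearMap, Nat.card_eq_fintype_card,
    show Module.finrank F C = Module.finrank F V - Module.finrank F U by omega]

end CfsgLib.Perm.Elusive
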