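import Mathlib

/-!
# Normal form of maps with vanishing cube, and a square class for maps with vanishing square
-/

set_option autoImplicit false
set_option linter.all false

namespace CfsgLib.Perm.Elusive

open Matrix

variable {F V : Type*} [Field F] [AddCommGroup V] [Module F V] [FiniteDimensional F V]

/-- the sum map of the chains -/
def chainMap (N : V →ₗ[F] V) (A B C : Submodule F V) : ((A × A × A) × (B × B) × C) →ₗ[F] V :=
  LinearMap.coprod
    (LinearMap.coprod A.subtype (LinearMap.coprod (N.comp A.subtype) (N.comp (N.comp A.subtype))))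
    (LinearMap.coprod (LinearMap.coprod B.subtype (N.comp B.subtype)) C.subtype)

theorem chainMap_apply (N : V →ₗ[F] V) (A B C : Submodule F V) (a₀ a₁ a₂ : A) (b₀ b₁ : B) (c : C) :
    chainMap N A B C ((a₀, a₁, a₂), (b₀, b₁), c) =
      ((a₀ : V) + (N a₁ + N (N a₂))) + (((b₀ : V) + N b₁) + c) := rfl

/-- chains of lengths three, two and one -/
theorem exists_cube_zero_basis (N : V →ₗ[F] V) (hN : ∀ v, N (N (N v)) = 0) :
    ∃ (a b c : ℕ) (B : Module.Basis ((Fin a ⊕ Fin a ⊕ Fin a) ⊕ (Fin b ⊕ Fin b) ⊕ Fin c) F V),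
      (∀ i, N (B (Sum.inl (Sum.inl i))) = B (Sum.inl (Sum.inr (Sum.inl i)))) ∧
      (∀ i, N (B (Sum.inl (Sum.inr (Sum.inl i)))) = B (Sum.inl (Sum.inr (Sum.inr i)))) ∧
      (∀ i, N (B (Sum.inl (Sum.inr (Sum.inr i)))) = 0) ∧
      (∀ i, N (B (Sum.inr (Sum.inl (Sum.inl i)))) = B (Sum.inr (Sum.inl (Sum.inr i)))) ∧
      (∀ i, N (B (Sum.inr (Sum.inl (Sum.inr i)))) = 0) ∧
      (∀ i, N (B (Sum.inr (Sum.inr i))) = 0) := by
  classical
  obtain ⟨K₁, hK₁⟩ : ∃ K : Submodule F V, ∀ v, v ∈ K ↔ N v = 0 := ⟨LinearMap.ker N, fun v => Iff.rfl⟩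
  obtain ⟨K₂, hK₂⟩ : ∃ K : Submodule F V, ∀ v, v ∈ K ↔ N (N v) = 0 := ⟨LinearMap.ker (N.comp N), fun v => Iff.rfl⟩
  obtain ⟨A, hA⟩ := Submodule.exists_isCompl K₂
  obtain ⟨B', hB'⟩ := Submodule.exists_isCompl (K₁ ⊔ A.map N)
  obtain ⟨B, hBd⟩ : ∃ B, B = B' ⊓ K₂ := ⟨_, rfl⟩
  obtain ⟨C', hC'⟩ := Submodule.exists_isCompl ((A.map N).map N ⊔ B.map N)
  obtain ⟨C, hCd⟩ : ∃ C, C = C' ⊓ K₁ := ⟨_, rfl⟩
  have hB2 : ∀ x ∈ B, N (N x) = 0 := fun x hx => by rw [hBd] at hx; exact (hK₂ x).1 hx.2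
  have hC1 : ∀ x ∈ C, N x = 0 := fun x hx => by rw [hCd] at hx; exact (hK₁ x).1 hx.2
  have hA0 : ∀ x ∈ A, N (N x) = 0 → x = 0 := fun x hx h => Submodule.disjoint_def.1 hA.disjoint x ((hK₂ x).2 h) hx
  have hB0 : ∀ x ∈ B, ∀ a ∈ A, N (x + N a) = 0 → x = 0 ∧ a = 0 := fun x hx a ha h => by
    have hx0 : x = 0 := by
      refine Submodule.disjoint_def.1 hB'.disjoint x ?_ (by rw [hBd] at hx; exact hx.1)
      exact Submodule.mem_sup.2 ⟨x + N a, (hK₁ _).2 h, -N a, neg_mem (Submodule.mem_map_of_mem ha), by abel⟩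
    rw [hx0, zero_add] at h
    exact ⟨hx0, hA0 a ha h⟩
  have hbij : Function.Bijective (chainMap N A B C) := by
    constructor
    · rw [injective_iff_map_eq_zero]
      rintro ⟨⟨a₀, a₁, a₂⟩, ⟨b₀, b₁⟩, c⟩ h
      rw [chainMap_apply] at h
      have e0 : (a₀ : V) = 0 := by
        refine hA0 _ a₀.2 ?_
        have := congrArg (fun v => N (N v)) h
        simpa [hN, hB2 _ b₀.2, hB2 _ b₁.2, hC1 _ c.2] using this
      obtain ⟨e1, e2⟩ := hB0 _ b₀.2 _ a₁.2 (by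
        have := congrArg N h
        simp [e0, hN, hB2 _ b₁.2, hC1 _ c.2] at this
        rw [map_add]
        linear_combination (norm := abel) this)
      rw [e0, e1, e2, map_zero, zero_add, zero_add, zero_add] at h
      have e3 : (c : V) = 0 := by
        refine Submodule.disjoint_def.1 hC'.disjoint _ ?_ (hCd.le c.2).1
        rw [show (c : V) = -(N (N a₂) + N b₁) by linear_combination (norm := abel) h]
        exact neg_mem (Submodule.add_mem_sup (Submodule.mem_map_of_mem (Submodule.mem_map_of_mem a₂.2))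
          (Submodule.mem_map_of_mem b₁.2))
      rw [e3, add_zero] at h
      obtain ⟨e4, e5⟩ := hB0 _ b₁.2 _ a₂.2 (by rw [map_add]; linear_combination (norm := abel) h)
      simp only [Prod.ext_iff, Prod.fst_zero, Prod.snd_zero]
      exact ⟨⟨Subtype.ext e0, Subtype.ext e2, Subtype.ext e5⟩, ⟨Subtype.ext e1, Subtype.ext e4⟩, Subtype.ext e3⟩
    · intro v
      obtain ⟨k, hk, a₀, ha₀, rfl⟩ := Submodule.mem_sup.1 (hA.sup_eq_top.ge (Submodule.mem_top (x := v)))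
      obtain ⟨s, hs, b₀, hb₀, rfl⟩ := Submodule.mem_sup.1 (hB'.sup_eq_top.ge (Submodule.mem_top (x := k)))
      obtain ⟨k₁, hk₁, _, ⟨a₁, ha₁, rfl⟩, rfl⟩ := Submodule.mem_sup.1 hs
      have hb₀' : b₀ ∈ B := by
        rw [hBd]
        refine ⟨hb₀, (hK₂ _).2 ?_⟩
        have := (hK₂ _).1 hk
        simpa [hN, (hK₁ _).1 hk₁] using this
      obtain ⟨s', hs', c, hc, rfl⟩ := Submodule.mem_sup.1 (hC'.sup_eq_top.ge (Submodule.mem_top (x := k₁)))
      obtain ⟨_, ⟨_, ⟨a₂, ha₂, rfl⟩, rfl⟩, _, ⟨b₁, hb₁, rfl⟩, rfl⟩ := Submodule.mem_sup.1 hs'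
      have hc' : c ∈ C := by
        rw [hCd]
        refine ⟨hc, (hK₁ _).2 ?_⟩
        have := (hK₁ _).1 hk₁
        simpa [hN, hB2 _ hb₁] using this
      refine ⟨((⟨a₀, ha₀⟩, ⟨a₁, ha₁⟩, ⟨a₂, ha₂⟩), (⟨b₀, hb₀'⟩, ⟨b₁, hb₁⟩), ⟨c, hc'⟩), ?_⟩
      rw [chainMap_apply]
      abel
  obtain ⟨bA, hbA⟩ : ∃ bA, bA = Module.finBasis F A := ⟨_, rfl⟩
  obtain ⟨bB, hbB⟩ : ∃ bB, bB = Module.finBasis F B := ⟨_, rfl⟩
  obtain ⟨bC, hbC⟩ : ∃ bC, bC = Module.finBasis F C := ⟨_, rfl⟩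
  obtain ⟨Bs, hBs⟩ : ∃ Bs, Bs = ((bA.prod (bA.prod bA)).prod ((bB.prod bB).prod bC)).map
      (LinearEquiv.ofBijective (chainMap N A B C) hbij) := ⟨_, rfl⟩
  refine ⟨_, _, _, Bs, fun i => ?_, fun i => ?_, fun i => ?_, fun i => ?_, fun i => ?_, fun i => ?_⟩ <;>
    simp [hBs, chainMap, Module.Basis.prod_apply, hN]
  · exact hB2 _ (bB i).2
  · exact hC1 _ (bC i).2

/-- a square class attached to a map with square zero and maximal rank over a subfield -/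
theorem isSquare_det_of_subfield {m : ℕ} (F₀ : Subfield F) (hsq : ∀ u ∈ F₀, IsSquare u)
    (W : Matrix (Fin m) (Fin m) F) (hW : W.det ≠ 0) (P Pi : Matrix (Fin m ⊕ Fin m) (Fin m ⊕ Fin m) F)
    (hPi : Pi * P = 1) (hP : P.det = 1)
    (hent : ∀ i j, (Pi * Matrix.fromBlocks (0 : Matrix (Fin m) (Fin m) F) W (0 : Matrix (Fin m) (Fin m) F) (0 : Matrix (Fin m) (Fin m) F) * P) i j ∈ F₀) : IsSquare W.det := by
  classical
  obtain ⟨B₂, hB₂⟩ : ∃ B, B = Pi * Matrix.fromBlocks W 0 0 1 := ⟨_, rfl⟩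
  have hPid : Pi.det = 1 := by
    have h := congrArg Matrix.det hPi
    rwa [Matrix.det_mul, hP, mul_one, Matrix.det_one] at h
  have hB₂d : B₂.det = W.det := by rw [hB₂, Matrix.det_mul, hPid, one_mul, Matrix.det_fromBlocks_zero₂₁, Matrix.det_one, mul_one]
  obtain ⟨G, hG⟩ : ∃ G, G = B₂⁻¹ := ⟨_, rfl⟩
  have hu : IsUnit B₂.det := by rw [hB₂d]; exact hW.isUnit
  have hBG : B₂ * G = 1 := hG ▸ Matrix.mul_nonsing_inv _ hu
  have hGB : G * B₂ = 1 := hG ▸ Matrix.nonsing_inv_mul _ hu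
  obtain ⟨Nn, hNn⟩ : ∃ Nn, Nn = Pi * Matrix.fromBlocks (0 : Matrix (Fin m) (Fin m) F) W (0 : Matrix (Fin m) (Fin m) F) (0 : Matrix (Fin m) (Fin m) F) * P := ⟨_, rfl⟩
  rw [← hNn] at hent
  have hS : Nn * B₂ = B₂ * Matrix.fromBlocks (0 : Matrix (Fin m) (Fin m) F) 1 (0 : Matrix (Fin m) (Fin m) F) (0 : Matrix (Fin m) (Fin m) F) := by
    rw [hNn, hB₂, ← Matrix.mul_assoc, Matrix.mul_assoc _ P Pi, mul_eq_one_comm.1 hPi, Matrix.mul_one, Matrix.mul_assoc,
      Matrix.mul_assoc, Matrix.fromBlocks_multiply, Matrix.fromBlocks_multiply]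
    simp
  have hGN : G * Nn = Matrix.fromBlocks (0 : Matrix (Fin m) (Fin m) F) 1 (0 : Matrix (Fin m) (Fin m) F) (0 : Matrix (Fin m) (Fin m) F) * G := by
    calc G * Nn = G * Nn * (B₂ * G) := by rw [hBG, Matrix.mul_one]
      _ = G * (Nn * B₂) * G := by simp only [Matrix.mul_assoc]
      _ = _ := by rw [hS, ← Matrix.mul_assoc G, hGB, Matrix.one_mul]
  -- independent columns among the bottom rows
  obtain ⟨v, hv⟩ : ∃ v : (Fin m ⊕ Fin m) → (Fin m → F), v = fun j i => G (Sum.inr i) j := ⟨_, rfl⟩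
  obtain ⟨κ, a, ha, hspan, hli⟩ := exists_linearIndependent' F v
  haveI : Fintype κ := Fintype.ofInjective a ha
  have htop : Submodule.span F (Set.range v) = ⊤ := by
    refine eq_top_iff.2 fun y _ => ?_
    rw [Submodule.mem_span_range_iff_exists_fun]
    refine ⟨B₂ *ᵥ Sum.elim (0 : Fin m → F) y, ?_⟩
    funext i
    have h : (G * B₂) *ᵥ Sum.elim (0 : Fin m → F) y = Sum.elim (0 : Fin m → F) y := by rw [hGB, one_mulVec]
    have h' := congrFun h (Sum.inr i)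
    rw [← mulVec_mulVec, Matrix.mulVec, dotProduct, Sum.elim_inr] at h'
    rw [Finset.sum_apply, ← h']
    exact Finset.sum_congr rfl fun j _ => by simp [hv, mul_comm]
  have hcard : Fintype.card κ = m := by
    have h := finrank_span_eq_card hli
    rw [hspan, htop, finrank_top, Module.finrank_fin_fun] at h
    exact h.symm
  obtain ⟨e⟩ : Nonempty (Fin m ≃ κ) := ⟨(Fintype.equivFinOfCardEq hcard).symm⟩
  obtain ⟨f, hf⟩ : ∃ f : Fin m → Fin m ⊕ Fin m, f = fun i => a (e i) := ⟨_, rfl⟩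
  obtain ⟨A, hA⟩ : ∃ A : Matrix (Fin m) (Fin m) F, A = Matrix.of fun i j => G (Sum.inr i) (f j) := ⟨_, rfl⟩
  have hAu : A.det ≠ 0 := by
    refine ((Matrix.isUnit_iff_isUnit_det A).1 (Matrix.linearIndependent_cols_iff_isUnit.1 ?_)).ne_zero
    have := hli.comp e e.injective
    rw [hA, hf]
    simp only [hv] at this
    exact this
  obtain ⟨B₁, hB₁⟩ : ∃ B : Matrix (Fin m ⊕ Fin m) (Fin m ⊕ Fin m) F,
      B = Matrix.of fun s => Sum.elim (fun i => Nn s (f i)) (fun i => if s = f i then 1 else 0) := ⟨_, rfl⟩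
  have hT : G * B₁ = Matrix.fromBlocks A (Matrix.of fun i j => G (Sum.inl i) (f j)) 0 A := by
    ext s c
    rcases c with c | c
    · have h : (G * B₁) s (Sum.inl c) = (Matrix.fromBlocks (0 : Matrix (Fin m) (Fin m) F) 1 (0 : Matrix (Fin m) (Fin m) F) (0 : Matrix (Fin m) (Fin m) F) * G) s (f c) := by
        rw [← hGN, Matrix.mul_apply, Matrix.mul_apply]
        simp [hB₁]
      rw [h, Matrix.mul_apply]
      rcases s with s | s <;> simp [hA, Fintype.sum_sum_type, Matrix.one_apply]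
    · rw [Matrix.mul_apply]
      rcases s with s | s <;> simp [hA, hB₁]
  have hd : B₁.det = W.det * (A.det * A.det) := by
    rw [show B₁ = B₂ * (G * B₁) by rw [← Matrix.mul_assoc, hBG, Matrix.one_mul], Matrix.det_mul, hB₂d, hT,
      Matrix.det_fromBlocks_zero₂₁]
  have hmem : B₁.det ∈ F₀ := by
    obtain ⟨B₀, hB₀⟩ : ∃ B₀ : Matrix (Fin m ⊕ Fin m) (Fin m ⊕ Fin m) F₀, B₀.map (F₀.subtype : F₀ →+* F) = B₁ := by
      refine ⟨Matrix.of fun s c => ⟨B₁ s c, ?_⟩, by ext s c; rfl⟩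
      rw [hB₁]
      rcases c with c | c
      · exact hent _ _
      · simp only [Matrix.of_apply, Sum.elim_inr]
        split
        · exact one_mem _
        · exact zero_mem _
    rw [← hB₀, ← RingHom.mapMatrix_apply, ← RingHom.map_det]
    exact (B₀.det).2
  obtain ⟨t, ht⟩ := hsq _ hmem
  exact ⟨t / A.det, by rw [div_mul_div_comm, ← ht, hd, mul_div_cancel_right₀ _ (mul_ne_zero hAu hAu)]⟩

end CfsgLib.Perm.Elusive
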