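import Mathlib
import Cfsg.Agent.Lib.Perm.Elusive.OrthTypes
import Cfsg.Agent.Lib.Perm.Trans.QuadWitt

/-!
# A quadratic form with self-adjoint scalars from a quadratic extension
-/

set_option autoImplicit false
set_option linter.all false

namespace CfsgLib.Perm.Elusive.OrthField

open CfsgLib.Perm.Elusive

variable {F : Type*} [Field F] [Fintype F] {K : Type*} [Field K] [Algebra F K]

omit [Fintype F] in
theorem coord_unique {δ : F} {e : K} (hδ : ¬ IsSquare δ) (he : e * e = algebraMap F K δ) {s t : F}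
    (h : algebraMap F K s + algebraMap F K t * e = 0) : s = 0 ∧ t = 0 := by
  have hinj := (algebraMap F K).injective
  by_cases ht : t = 0
  · rw [ht, map_zero, zero_mul, add_zero, map_eq_zero] at h
    exact ⟨h, ht⟩
  · exfalso
    refine hδ ⟨-(s / t), hinj ?_⟩
    have he' : e = algebraMap F K (-(s / t)) := by
      rw [map_neg, map_div₀, ← neg_div, eq_div_iff ((map_ne_zero _).2 ht)]
      linear_combination h
    rw [map_mul, ← he', he]

/-- generators of a quadratic extension -/
theorem exists_sqrt_generator [Finite K] (h2 : (2 : F) ≠ 0) (hd : Module.finrank F K = 2) :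
    ∃ (δ : F) (e : K), ¬ IsSquare δ ∧ δ ≠ 0 ∧ e * e = algebraMap F K δ ∧
      ∀ a : K, ∃ s t : F, a = algebraMap F K s + algebraMap F K t * e := by
  classical
  letI : Fintype K := Fintype.ofFinite K
  obtain ⟨p, hp⟩ := CharP.exists F
  haveI := hp
  haveI : Fact p.Prime := ⟨(CharP.char_is_prime_or_zero F p).resolve_right fun h => by
    subst h
    haveI := CharP.charP_to_charZero F
    exact Finite.false (α := ℕ) (Finite.of_injective (fun n : ℕ => (n : F)) Nat.cast_injective)⟩
  have hrc : ringChar F ≠ 2 := fun h => h2 (by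
    haveI : CharP F 2 := ringChar.of_eq h
    exact CharTwo.two_eq_zero)
  haveI : CharP K p := charP_of_injective_algebraMap (algebraMap F K).injective p
  obtain ⟨δ, hδ⟩ := FiniteField.exists_nonsquare hrc
  have hδ0 : δ ≠ 0 := fun h => hδ (h ▸ IsSquare.zero)
  obtain ⟨e, he⟩ : IsSquare (algebraMap F K δ) := by
    have hKc : Fintype.card K = Fintype.card F ^ 2 := by rw [Module.card_eq_pow_finrank (K := F), hd]
    rw [FiniteField.isSquare_iff (by rw [ringChar.eq K p, ← ringChar.eq F p]; exact hrc) ((map_ne_zero _).2 hδ0), hKc,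
      ← map_pow]
    obtain ⟨t, ht⟩ : Odd (Fintype.card F) := Nat.odd_iff.2 (FiniteField.odd_card_of_char_ne_two hrc)
    rw [show Fintype.card F ^ 2 / 2 = (Fintype.card F - 1) * (t + 1) by
      rw [ht, show 2 * t + 1 - 1 = 2 * t by omega, show (2 * t + 1) ^ 2 = 2 * (2 * t * (t + 1)) + 1 by ring]; omega,
      pow_mul, FiniteField.pow_card_sub_one_eq_one δ hδ0, one_pow, map_one]
  refine ⟨δ, e, hδ, hδ0, he.symm, fun a => ?_⟩
  have hli : LinearIndependent F ![(1 : K), e] := LinearIndependent.pair_iff.2 fun s t h => by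
    refine coord_unique hδ he.symm ?_
    rw [← mul_one (algebraMap F K s), ← Algebra.smul_def, ← Algebra.smul_def, h]
  have htop := hli.span_eq_top_of_card_eq_finrank (by rw [Fintype.card_fin, hd])
  obtain ⟨c, hc⟩ := (Submodule.mem_span_range_iff_exists_fun F).1 (htop.ge (Submodule.mem_top (x := a)))
  refine ⟨c 0, c 1, ?_⟩
  rw [← hc, Fin.sum_univ_two]
  simp [Algebra.smul_def]

variable {V : Type*} [AddCommGroup V] [Module F V] [Module K V] [IsScalarTower F K V]

omit [Fintype F] in
theorem alg_smul (s : F) (v : V) : algebraMap F K s • v = s • v := algebraMap_smul K s v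

omit [Fintype F] in
theorem coord_smul {e : K} (s t : F) (v : V) :
    (algebraMap F K s + algebraMap F K t * e) • v = s • v + t • e • v := by
  rw [add_smul, mul_smul, alg_smul, alg_smul]

omit [Fintype F] in
/-- a bilinear form with self-adjoint scalars is the trace of one over the extension -/
theorem exists_scalar_form {δ : F} {e : K} (hδ : δ ≠ 0) (he : e * e = algebraMap F K δ)
    (hgen : ∀ a : K, ∃ s t : F, a = algebraMap F K s + algebraMap F K t * e) (B : LinearMap.BilinForm F V)
    (hB : ∀ (a : K) (u v : V), B (a • u) v = B u (a • v)) :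
    ∃ bK : LinearMap.BilinForm K V,
      ∀ u v, bK u v = algebraMap F K (B u v) + algebraMap F K (δ⁻¹ * B u (e • v)) * e := by
  obtain ⟨b, hb⟩ : ∃ b : V → V → K,
      ∀ u v, b u v = algebraMap F K (B u v) + algebraMap F K (δ⁻¹ * B u (e • v)) * e := ⟨_, fun u v => rfl⟩
  have hadd : ∀ u v v', b u (v + v') = b u v + b u v' := fun u v v' => by
    simp only [hb, smul_add, map_add, mul_add]; ring
  have hadd' : ∀ u u' v, b (u + u') v = b u v + b u' v := fun u u' v => by
    simp only [hb, map_add, LinearMap.add_apply, mul_add]; ring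
  have hs : ∀ (s : F) u v, b u (s • v) = algebraMap F K s * b u v := fun s u v => by
    simp only [hb, smul_comm e s v, map_smul, smul_eq_mul, map_mul]
    ring
  have he' : ∀ u v, b u (e • v) = e * b u v := fun u v => by
    rw [hb, hb, show e • e • v = δ • v by rw [← mul_smul, he, alg_smul], (B u).map_smul δ v, smul_eq_mul,
      ← mul_assoc, inv_mul_cancel₀ hδ, one_mul, map_mul (algebraMap F K) δ⁻¹]
    have hi : algebraMap F K δ⁻¹ * algebraMap F K δ = 1 := by rw [← map_mul, inv_mul_cancel₀ hδ, map_one]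
    linear_combination -(algebraMap F K δ⁻¹ * algebraMap F K (B u (e • v))) * he - algebraMap F K (B u (e • v)) * hi
  have hr : ∀ (a : K) u v, b u (a • v) = a * b u v := fun a u v => by
    obtain ⟨s, t, rfl⟩ := hgen a
    rw [coord_smul, hadd, hs, hs, he']
    ring
  have hl : ∀ (a : K) u v, b (a • u) v = a * b u v := fun a u v => by
    rw [← hr a u v]
    simp only [hb, hB, ← mul_smul, mul_comm e a]
  exact ⟨LinearMap.mk₂ K b hadd' (fun a u v => hl a u v) hadd (fun a u v => hr a u v), fun u v => hb u v⟩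

variable [FiniteDimensional F V] {Q : QuadraticForm F V} {δ : F} {e : K} {bK : LinearMap.BilinForm K V}

section Form

variable (hδ : ¬ IsSquare δ) (he : e * e = algebraMap F K δ)
  (hbK : ∀ u v, bK u v = algebraMap F K (qB Q u v) + algebraMap F K (δ⁻¹ * qB Q u (e • v)) * e)
include hδ he hbK

theorem bK_eq_zero {u v : V} (h : bK u v = 0) : qB Q u v = 0 ∧ qB Q u (e • v) = 0 := by
  obtain ⟨h1, h2⟩ := coord_unique hδ he ((hbK u v).symm.trans h)
  exact ⟨h1, (mul_eq_zero.1 h2).resolve_left (inv_ne_zero fun h0 => hδ (h0 ▸ IsSquare.zero))⟩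

theorem bK_eq_zero_of {u v : V} (h1 : qB Q u v = 0) (h2 : qB Q u (e • v) = 0) : bK u v = 0 := by
  rw [hbK, h1, h2, map_zero, mul_zero, map_zero, zero_mul, add_zero]

theorem bK_symm (hQ : ∀ (a : K) (u v : V), qB Q (a • u) v = qB Q u (a • v)) (u v : V) : bK u v = bK v u := by
  have hc : ∀ a b, qB Q a b = qB Q b a := fun a b => QuadraticMap.polar_comm Q a b
  rw [hbK, hbK, hc u v, hc u (e • v), hQ]

theorem bK_refl (hQ : ∀ (a : K) (u v : V), qB Q (a • u) v = qB Q u (a • v)) : bK.IsRefl :=
  fun u v h => (bK_symm hδ he hbK hQ v u).trans h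

theorem bK_orth {u v : V} (h : bK u v = 0) (hgen : ∀ a : K, ∃ s t : F, a = algebraMap F K s + algebraMap F K t * e)
    (a : K) : qB Q u (a • v) = 0 := by
  obtain ⟨s, t, rfl⟩ := hgen a
  obtain ⟨h1, h2⟩ := bK_eq_zero hδ he hbK h
  rw [coord_smul, map_add, map_smul, map_smul, h1, h2, smul_zero, smul_zero, add_zero]

omit he in
theorem qB_eq_of_bK (u v : V) {s t : F} (he : e * e = algebraMap F K δ)
    (h : bK u v = algebraMap F K s + algebraMap F K t * e) : qB Q u v = s ∧ qB Q u (e • v) = δ * t := by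
  have hδ0 : δ ≠ 0 := fun h0 => hδ (h0 ▸ IsSquare.zero)
  rw [hbK] at h
  obtain ⟨h1, h2⟩ := coord_unique hδ he (s := qB Q u v - s) (t := δ⁻¹ * qB Q u (e • v) - t) (by
    rw [map_sub, map_sub, sub_mul]; linear_combination h)
  refine ⟨sub_eq_zero.1 h1, ?_⟩
  rw [← sub_eq_zero.1 h2, ← mul_assoc, mul_inv_cancel₀ hδ0, one_mul]

/-- nondegeneracy over the extension is nondegeneracy over the base -/
theorem qnd_restrict_iff [FiniteDimensional K V] (hgen : ∀ a : K, ∃ s t : F, a = algebraMap F K s + algebraMap F K t * e)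
    (hQ : ∀ (a : K) (u v : V), qB Q (a • u) v = qB Q u (a • v)) (S : Submodule K V) :
    QNd Q (S.restrictScalars F) ↔ Disjoint S (bK.orthogonal S) := by
  rw [qnd_iff, disjoint_orth_iff (bK_refl hδ he hbK hQ)]
  refine ⟨fun h u hu hu0 => ?_, fun h u hu hu0 => ?_⟩
  · obtain ⟨v, hv, hne⟩ := h u hu hu0
    exact ⟨v, hv, fun h0 => hne (bK_eq_zero hδ he hbK h0).1⟩
  · obtain ⟨v, hv, hne⟩ := h u hu hu0
    by_contra hno
    push Not at hno
    exact hne (bK_eq_zero_of hδ he hbK (hno v hv) (hno _ (S.smul_mem e hv)))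

/-- two orthogonal vectors of a nondegenerate subspace over the extension represent everything -/
theorem exists_bK_value [Finite K] (h2 : (2 : K) ≠ 0) (hQ : ∀ (a : K) (u v : V), qB Q (a • u) v = qB Q u (a • v))
    [FiniteDimensional K V] {W : Submodule K V} (hW : Disjoint W (bK.orthogonal W)) (hd : 2 ≤ Module.finrank K W)
    (c : K) : ∃ w ∈ W, bK w w = c := by
  classical
  letI : Fintype K := Fintype.ofFinite K
  haveI : Invertible (2 : K) := invertibleOfNonzero h2
  have hs : LinearMap.IsSymm (bK.restrict W) := ⟨fun u v => bK_symm hδ he hbK hQ u v⟩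
  obtain ⟨b, hb⟩ := LinearMap.BilinForm.exists_orthogonal_basis hs
  have hne : ∀ i, bK ((b i : W) : V) ((b i : W) : V) ≠ 0 := fun i hi => by
    obtain ⟨v, hv, hne⟩ := (disjoint_orth_iff (bK_refl hδ he hbK hQ) W).1 hW ((b i : W) : V) (b i).2
      fun h => b.ne_zero i (Subtype.ext h)
    have h0 : (bK.restrict W) (b i) = 0 := b.ext fun j => by
      by_cases hij : i = j
      · subst hij; exact hi
      · exact hb hij
    exact hne (LinearMap.congr_fun h0 ⟨v, hv⟩)
  have h0 := hne ⟨0, by omega⟩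
  have h1 := hne ⟨1, by omega⟩
  have hrc : Fintype.card K % 2 = 1 := FiniteField.odd_card_of_char_ne_two fun h => h2 (by
    haveI : CharP K 2 := ringChar.of_eq h
    exact CharTwo.two_eq_zero)
  obtain ⟨x, y, hxy⟩ := FiniteField.exists_root_sum_quadratic
    (f := Polynomial.C (bK ((b ⟨0, by omega⟩ : W) : V) ((b ⟨0, by omega⟩ : W) : V)) * Polynomial.X ^ 2)
    (g := Polynomial.C (bK ((b ⟨1, by omega⟩ : W) : V) ((b ⟨1, by omega⟩ : W) : V)) * Polynomial.X ^ 2 - Polynomial.C c)
    (by rw [Polynomial.degree_C_mul_X_pow 2 h0]; rfl)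
    (by
      rw [Polynomial.degree_sub_eq_left_of_degree_lt (by
        rw [Polynomial.degree_C_mul_X_pow 2 h1]; exact lt_of_le_of_lt Polynomial.degree_C_le (by norm_num)),
        Polynomial.degree_C_mul_X_pow 2 h1]
      rfl) hrc
  refine ⟨x • ((b ⟨0, by omega⟩ : W) : V) + y • ((b ⟨1, by omega⟩ : W) : V), W.add_mem (W.smul_mem _ (Subtype.coe_prop _))
    (W.smul_mem _ (Subtype.coe_prop _)), ?_⟩
  simp only [Polynomial.eval_mul, Polynomial.eval_sub, Polynomial.eval_C, Polynomial.eval_pow, Polynomial.eval_X] at hxy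
  have e01 : bK ((b ⟨0, by omega⟩ : W) : V) ((b ⟨1, by omega⟩ : W) : V) = 0 := hb (fun h => by simp at h)
  have e10 : bK ((b ⟨1, by omega⟩ : W) : V) ((b ⟨0, by omega⟩ : W) : V) = 0 := bK_refl hδ he hbK hQ _ _ e01
  simp only [map_add, map_smul, LinearMap.add_apply, LinearMap.smul_apply, smul_eq_mul, e01, e10]
  linear_combination hxy

/-- any plane occurs as a line over the extension -/
theorem exists_kplane [Finite K] (h2 : (2 : F) ≠ 0)
    (hQ : ∀ (a : K) (u v : V), qB Q (a • u) v = qB Q u (a • v))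
    [FiniteDimensional K V] {W : Submodule K V} (hW : Disjoint W (bK.orthogonal W)) (hd : 2 ≤ Module.finrank K W)
    {a μ : F} (ha : a ≠ 0) (hμ : μ ≠ 0) :
    ∃ w ∈ W, ∃ k : K, Q w = a ∧ Q (k • w) = μ ∧ qB Q w (k • w) = 0 ∧ bK w w ≠ 0 := by
  classical
  have hδ0 : δ ≠ 0 := fun h => hδ (h ▸ IsSquare.zero)
  have hrc : Fintype.card F % 2 = 1 := FiniteField.odd_card_of_char_ne_two fun h => h2 (by
    haveI : CharP F 2 := ringChar.of_eq h
    exact CharTwo.two_eq_zero)
  obtain ⟨b, t, hbt⟩ := FiniteField.exists_root_sum_quadratic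
    (f := (Polynomial.X ^ 2 : Polynomial F)) (g := Polynomial.C (μ / a) * Polynomial.X ^ 2 - Polynomial.C (δ * (2 * a) ^ 2))
    (by rw [Polynomial.degree_X_pow]; rfl)
    (by
      rw [Polynomial.degree_sub_eq_left_of_degree_lt (by
        rw [Polynomial.degree_C_mul_X_pow 2 (div_ne_zero hμ ha)]
        exact lt_of_le_of_lt Polynomial.degree_C_le (by norm_num)), Polynomial.degree_C_mul_X_pow 2 (div_ne_zero hμ ha)]
      rfl) hrc
  simp only [Polynomial.eval_mul, Polynomial.eval_sub, Polynomial.eval_C, Polynomial.eval_pow, Polynomial.eval_X] at hbt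
  have ht : t ≠ 0 := fun h0 => hδ ⟨b / (2 * a), by
    rw [h0] at hbt
    field_simp
    linear_combination -hbt⟩
  obtain ⟨w, hw, hww⟩ := exists_bK_value hδ he hbK (by
    rw [show (2 : K) = algebraMap F K 2 by rw [map_ofNat]]; exact (map_ne_zero _).2 h2) hQ hW hd
    (algebraMap F K (2 * a) + algebraMap F K (b / δ) * e)
  obtain ⟨e1, e2⟩ := qB_eq_of_bK hδ hbK w w he hww
  rw [mul_div_cancel₀ _ hδ0] at e2
  have hself : ∀ v : V, qB Q v v = 2 * Q v := fun v => by
    rw [qB_apply, QuadraticMap.polar_self, nsmul_eq_mul]; norm_num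
  have e3 : qB Q (e • w) w = b := by rw [hQ]; exact e2
  have e4 : qB Q (e • w) (e • w) = δ * (2 * a) := by
    rw [hQ, ← mul_smul, he, alg_smul, map_smul, e1, smul_eq_mul]
  refine ⟨w, hw, algebraMap F K (-b / t) + algebraMap F K (2 * a / t) * e, ?_, ?_, ?_, ?_⟩
  · have := hself w
    rw [e1] at this
    exact (mul_left_cancel₀ h2 this).symm
  · refine mul_left_cancel₀ h2 ?_
    rw [← hself, coord_smul]
    simp only [map_add, map_smul, LinearMap.add_apply, LinearMap.smul_apply, smul_eq_mul, e1, e2, e3, e4]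
    field_simp
    field_simp at hbt
    linear_combination -hbt
  · rw [coord_smul]
    simp only [map_add, map_smul, smul_eq_mul, e1, e2]
    field_simp
    ring
  · rw [hww]
    intro h
    exact mul_ne_zero h2 ha (coord_unique hδ he h).1

/-- frames of lines over the extension with prescribed planes -/
theorem exists_kframe [Finite K] (h2 : (2 : F) ≠ 0)
    (hQ : ∀ (a : K) (u v : V), qB Q (a • u) v = qB Q u (a • v)) [FiniteDimensional K V] :
    ∀ (m : ℕ) (a c : Fin m → F), (∀ j, a j ≠ 0) → (∀ j, c j ≠ 0) → ∀ W : Submodule K V,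
      Disjoint W (bK.orthogonal W) → m + 1 ≤ Module.finrank K W →
      ∃ (u : Fin m → V) (k : Fin m → K), (∀ j, u j ∈ W) ∧ (∀ j, Q (u j) = a j) ∧ (∀ j, Q (k j • u j) = c j) ∧
        (∀ j, qB Q (u j) (k j • u j) = 0) ∧ (∀ j, bK (u j) (u j) ≠ 0) ∧ ∀ i j, i ≠ j → bK (u i) (u j) = 0 := by
  intro m
  induction m with
  | zero => intro a c _ _ W _ _; exact ⟨Fin.elim0, Fin.elim0, Fin.rec0, Fin.rec0, Fin.rec0, Fin.rec0, Fin.rec0, Fin.rec0⟩
  | succ m ih =>
    intro a c ha hc W hW hd
    have hR := bK_refl hδ he hbK hQ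
    obtain ⟨w, hw, k₀, h1, h2', h3, h4⟩ := exists_kplane hδ he hbK h2 hQ hW (by omega) (ha 0) (hc 0)
    obtain ⟨P, hP⟩ : ∃ P, P = Submodule.span K {w} := ⟨_, rfl⟩
    have hPnd : Disjoint P (bK.orthogonal P) := by
      rw [disjoint_orth_iff hR, hP]
      intro v hv hv0
      obtain ⟨r, rfl⟩ := Submodule.mem_span_singleton.1 hv
      refine ⟨w, Submodule.mem_span_singleton_self w, ?_⟩
      rw [map_smul, LinearMap.smul_apply, smul_eq_mul]
      exact mul_ne_zero (fun h0 => hv0 (by rw [h0, zero_smul])) h4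
    obtain ⟨W', hW'⟩ : ∃ W', W' = W ⊓ bK.orthogonal P := ⟨_, rfl⟩
    have hPW : P ≤ W := hP ▸ (Submodule.span_singleton_le_iff_mem _ _).2 hw
    have hsup : P ⊔ W' = W := by
      rw [hW', inf_comm, ← sup_inf_assoc_of_le _ hPW, (isCompl_orth hR hPnd).sup_eq_top, top_inf_eq]
    have hfr : Module.finrank K W = Module.finrank K P + Module.finrank K W' := by
      rw [← hsup]; exact finrank_sup_orth hPnd (hW' ▸ inf_le_right)
    have hP1 : Module.finrank K P = 1 := hP ▸ finrank_span_singleton (fun h0 => h4 (by rw [h0, map_zero]))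
    have hW'nd : Disjoint W' (bK.orthogonal W') := by
      rw [disjoint_orth_iff hR]
      intro v hv hv0
      rw [hW'] at hv
      obtain ⟨y, hy, hne⟩ := (disjoint_orth_iff hR W).1 hW v hv.1 hv0
      rw [← hsup] at hy
      obtain ⟨y₁, hy₁, y₂, hy₂, rfl⟩ := Submodule.mem_sup.1 hy
      refine ⟨y₂, hy₂, fun h0 => hne ?_⟩
      rw [map_add, h0, add_zero]
      exact hR _ _ (hv.2 y₁ hy₁)
    obtain ⟨u, k, g1, g2, g3, g4, g5, g6⟩ := ih (fun j => a j.succ) (fun j => c j.succ) (fun j => ha _) (fun j => hc _) W'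
      hW'nd (by omega)
    have ho : ∀ j, bK w (u j) = 0 := fun j => by
      have h := g1 j
      rw [hW'] at h
      exact h.2 w (hP ▸ Submodule.mem_span_singleton_self w)
    refine ⟨Fin.cons w u, Fin.cons k₀ k, ?_, ?_, ?_, ?_, ?_, ?_⟩ <;> intro i <;> cases i using Fin.cases
    · simpa using hw
    · rename_i j; simpa using (hW' ▸ g1 j : u j ∈ W ⊓ _).1
    · simpa using h1
    · rename_i j; simpa using g2 j
    · simpa using h2'
    · rename_i j; simpa using g3 j
    · simpa using h3
    · rename_i j; simpa using g4 j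
    · simpa using h4
    · rename_i j; simpa using g5 j
    · intro j hij
      cases j using Fin.cases
      · exact absurd rfl hij
      · rename_i j; simpa using ho j
    · rename_i i
      intro j hij
      cases j using Fin.cases
      · simpa using hR _ _ (ho i)
      · rename_i j; simpa using g6 i j fun h => hij (by rw [h])

end Form

/-- isometries between orthogonal families -/
theorem exists_frame_map (h2 : (2 : F) ≠ 0) (hN : (QuadraticMap.polarBilin Q).Nondegenerate) {κ : Type*} [Fintype κ]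
    {w w' : κ → V} (ho : ∀ i j, i ≠ j → qB Q (w i) (w j) = 0) (ho' : ∀ i j, i ≠ j → qB Q (w' i) (w' j) = 0)
    (hne : ∀ i, Q (w i) ≠ 0) (heq : ∀ i, Q (w' i) = Q (w i)) :
    ∃ g : V ≃ₗ[F] V, (∀ v, Q (g v) = Q v) ∧ ∀ i, g (w i) = w' i := by
  classical
  have hself : ∀ v : V, qB Q v v = 2 * Q v := fun v => by
    rw [qB_apply, QuadraticMap.polar_self, nsmul_eq_mul]; norm_num
  have hli : ∀ {x : κ → V}, (∀ i j, i ≠ j → qB Q (x i) (x j) = 0) → (∀ i, Q (x i) ≠ 0) → LinearIndependent F x := by
    intro x hx hx0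
    exact LinearMap.BilinForm.linearIndependent_of_iIsOrtho (B := qB Q) hx fun i h => hx0 i (by
      have := hself (x i)
      rw [show qB Q (x i) (x i) = 0 from h] at this
      exact (mul_eq_zero.1 this.symm).resolve_left h2)
  obtain ⟨bs, hbs⟩ : ∃ bs : Module.Basis κ F (Submodule.span F (Set.range w)), ∀ i, (bs i : V) = w i :=
    ⟨Module.Basis.span (hli ho hne), fun i => by rw [Module.Basis.span_apply]⟩
  obtain ⟨φ, hφ⟩ : ∃ φ : Submodule.span F (Set.range w) →ₗ[F] V, φ = bs.constr F w' := ⟨_, rfl⟩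
  have hφi : ∀ i, φ (bs i) = w' i := fun i => by rw [hφ, Module.Basis.constr_basis]
  have hinj : Function.Injective φ := by
    have hl := hli ho' fun i => by rw [heq]; exact hne i
    refine (injective_iff_map_eq_zero φ).2 fun x hx => ?_
    rw [← bs.sum_repr x, map_sum] at hx
    simp only [map_smul, hφi] at hx
    have h0 := Fintype.linearIndependent_iff.1 hl (fun i => bs.repr x i) hx
    rw [← bs.sum_repr x]
    simp [h0]
  have hpol : ∀ x y : Submodule.span F (Set.range w), qB Q (φ x) (φ y) = qB Q (x : V) (y : V) := by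
    intro x y
    have h : (qB Q).compl₁₂ φ φ = (qB Q).compl₁₂ (Submodule.span F (Set.range w)).subtype
        (Submodule.span F (Set.range w)).subtype := bs.ext fun i => bs.ext fun j => by
      simp only [LinearMap.compl₁₂_apply, Submodule.subtype_apply, hφi, hbs]
      by_cases hij : i = j
      · subst hij; rw [hself, hself, heq]
      · rw [ho i j hij, ho' i j hij]
    exact LinearMap.congr_fun (LinearMap.congr_fun h x) y
  obtain ⟨g, hg, hgφ⟩ := CfsgLib.Perm.Trans.Witt.witt_extension hN _ φ hinj fun x => by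
    have h := hpol x x
    rw [hself, hself] at h
    exact mul_left_cancel₀ h2 h
  exact ⟨g, hg, fun i => by rw [← hbs i, hgφ, hφi]⟩

/-- square roots of minus one preserving a line over the extension are semilinear on it -/
theorem anticomm_line (hδ : ¬ IsSquare δ) (he : e * e = algebraMap F K δ)
    (hbK : ∀ u v, bK u v = algebraMap F K (qB Q u v) + algebraMap F K (δ⁻¹ * qB Q u (e • v)) * e)
    (hgen : ∀ a : K, ∃ s t : F, a = algebraMap F K s + algebraMap F K t * e)
    (hQ : ∀ (a : K) (u v : V), qB Q (a • u) v = qB Q u (a • v)) {z : V →ₗ[F] V} (hz : ∀ v, Q (z v) = Q v)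
    (hzz : ∀ v, z (z v) = -v) {u : V} (hu : bK u u ≠ 0) (h1 : z u ∈ Submodule.span K {u})
    (h3 : z (e • u) ∈ Submodule.span K {u}) :
    ∀ v ∈ Submodule.span K {u}, z (e • v) = -(e • z v) := by
  have hI : ∀ a b, qB Q (z a) (z b) = qB Q a b := fun a b => by
    simp only [qB_apply, QuadraticMap.polar, ← map_add, hz]
  have hsk : ∀ a b, qB Q (z a) b = -qB Q a (z b) := fun a b => by
    rw [← hI a (z b), hzz, map_neg, neg_neg]
  obtain ⟨D, hD⟩ : ∃ D : V, D = z (e • u) + e • z u := ⟨_, rfl⟩
  have hDm : D ∈ Submodule.span K {u} := hD ▸ add_mem h3 (Submodule.smul_mem _ _ h1)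
  have hc : ∀ a b, qB Q a b = qB Q b a := fun a b => QuadraticMap.polar_comm Q a b
  have hd1 : qB Q D u = 0 := by
    rw [hD, map_add, LinearMap.add_apply, hsk, hQ, hc u (e • z u), hQ, neg_add_cancel]
  have h20 : (2 : F) ≠ 0 := fun h => hδ (CfsgLib.Orth.isSquare_of_two h δ)
  have h0 : ∀ a, qB Q (z a) a = 0 := fun a => by
    have h : qB Q (z a) a = -qB Q (z a) a := (hsk a a).trans (by rw [hc a])
    exact (mul_eq_zero.1 (show (2 : F) * qB Q (z a) a = 0 by linear_combination h)).resolve_left h20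
  have hd2 : qB Q D (e • u) = 0 := by
    rw [hD, map_add, LinearMap.add_apply, hQ e (z u), smul_smul, he, alg_smul, (qB Q (z u)).map_smul δ u, h0, h0,
      smul_zero, add_zero]
  have hD0 : D = 0 := by
    obtain ⟨k, hk⟩ := Submodule.mem_span_singleton.1 hDm
    have h := bK_eq_zero_of hδ he hbK hd1 hd2
    rw [← hk, map_smul, LinearMap.smul_apply, smul_eq_mul] at h
    rw [← hk, (mul_eq_zero.1 h).resolve_right hu, zero_smul]
  intro v hv
  obtain ⟨k, rfl⟩ := Submodule.mem_span_singleton.1 hv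
  obtain ⟨s, t, rfl⟩ := hgen k
  rw [hD] at hD0
  have h0 : z (e • u) = -(e • z u) := eq_neg_of_add_eq_zero_left hD0
  rw [coord_smul, smul_add, smul_comm e s u, smul_comm e t (e • u), ← mul_smul e e, he, alg_smul]
  simp only [map_add, map_smul, h0, smul_add, smul_neg, smul_comm e s, smul_comm e t, ← mul_smul e e, he, alg_smul]
  module

end CfsgLib.Perm.Elusive.OrthField
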