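import Mathlib
import Cfsg.Agent.Lib.Perm.Elusive.OrthEvenCriterion
import Cfsg.Agent.Lib.Perm.Elusive.IsotropicInvariant
import Cfsg.Agent.Lib.Perm.Elusive.SympClassElement

/-!
# Invariant totally singular subspaces of semisimple isometries of quadratic spaces
-/

set_option autoImplicit false
set_option linter.all false

namespace CfsgLib.Perm.Elusive

open Polynomial CfsgLib.Classical

variable {F : Type*} [Field F] [Fintype F] {p : ℕ} [Fact p.Prime] [CharP F p] {r : ℕ} [Fact r.Prime]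

section Alternating

variable {V : Type*} [AddCommGroup V] [Module F V] [FiniteDimensional F V] {B : LinearMap.BilinForm F V}

/-- dimensions of invariant subspaces without fixed vectors -/
theorem fpf_mult (hrp : r ≠ p) {T : V →ₗ[F] V} (hT : T ^ r = 1) {U : Submodule F V} (hU : ∀ u ∈ U, T u ∈ U)
    (hf : ∀ u ∈ U, T u = u → u = 0) {i : ℕ} (hi : i = orderOf ((Fintype.card F : ℕ) : ZMod r)) :
    ∃ j, Module.finrank F U = j * i := by
  obtain ⟨j, hj, -⟩ := exists_split (p := p) hrp (T.restrict hU) (LinearMap.ext fun u => Subtype.ext (by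
    have h := restrict_aeval_coe T hU (X ^ r) u
    rw [map_pow, map_pow, aeval_X, aeval_X, hT] at h
    exact h))
  have hk0 : LinearMap.ker (T.restrict hU - 1) = ⊥ := by
    rw [Submodule.eq_bot_iff]
    intro u hu
    exact Subtype.ext (hf _ u.2 (by simpa [sub_eq_zero] using congrArg Subtype.val (LinearMap.mem_ker.1 hu)))
  rw [hk0, finrank_bot, zero_add, ← hi] at hj
  exact ⟨j, hj⟩

/-- isotropic invariant subspaces of an alternating space without fixed vectors -/
theorem exists_iso_sub (hrp : r ≠ p) (hr2 : r ≠ 2) (hA : B.IsAlt) (hN : B.Nondegenerate) {T : V →ₗ[F] V}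
    (hI : ∀ u v, B (T u) (T v) = B u v) (hT : T ^ r = 1) (hfix : ∀ v, T v = v → v = 0) {i c k j : ℕ}
    (hi : i = orderOf ((Fintype.card F : ℕ) : ZMod r)) (hc : c = if Even i then i else 2 * i)
    (hV : Module.finrank F V = k * c) (hj : j ≤ if Odd i then k else (k + 1 - (r - 1) / i) / 2) :
    ∃ W : Submodule F V, (∀ u ∈ W, T u ∈ W) ∧ (∀ u ∈ W, ∀ v ∈ W, B u v = 0) ∧ Module.finrank F W = j * i := by
  classical
  have hr : r.Prime := Fact.out
  have hipos : 0 < i := hi ▸ order_pos hrp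
  have hir : i ∣ r - 1 := hi ▸ ZMod.orderOf_dvd_card_sub_one (card_ne_zero_zmod hrp)
  obtain ⟨t, ht⟩ : ∃ t, t = (r - 1) / i := ⟨_, rfl⟩
  rw [← ht] at hj
  have hti : t * i = r - 1 := by rw [ht, Nat.div_mul_cancel hir]
  have hinj := injective_of_pow_eq_one (r := r) hT
  have hΦ : ∀ v, aeval T (cyclotomic r F) v = 0 := fun v => by
    rw [aeval_cyclotomic_of_fpf hT hfix]; rfl
  have hss := exists_invariant_complement T (P := X ^ r - C 1)
    (separable_X_pow_sub_C (1 : F) (natCast_ne_zero_of_ne hrp) one_ne_zero).squarefree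
    (by rw [map_sub, map_pow, aeval_X, map_one, map_one, hT, sub_self])
  obtain ⟨mm, hmm⟩ : ∃ mm, mm = (if Even i then i else 0) := ⟨_, rfl⟩
  have hstep : ∀ C ≤ (⊤ : Submodule F V), (∀ u ∈ C, T u ∈ C) → t * mm < Module.finrank F C →
      ∃ W ≤ C, (∀ u ∈ W, T u ∈ W) ∧ (∀ u ∈ W, ∀ v ∈ W, B u v = 0) ∧ Module.finrank F W = i := by
    intro C _ hC hlt
    obtain ⟨g, hg, hgd, hgU⟩ := exists_large_component T (cyclotomic_squarefree' (p := p) hrp) (i := i) (t := t)
      (fun g hg hgd => hi ▸ factor_degree (p := p) hrp hg hgd)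
      (by rw [natDegree_cyclotomic, Nat.totient_prime hr, hti]) hC (fun u hu => hΦ u) hlt hipos
    obtain ⟨U, hUd⟩ : ∃ U, U = C ⊓ LinearMap.ker (aeval T g) := ⟨_, rfl⟩
    rw [← hUd] at hgU
    have hU : ∀ u ∈ U, T u ∈ U := by
      intro u hu
      rw [hUd] at hu ⊢
      refine ⟨hC u hu.1, ?_⟩
      have h := hu.2
      rw [SetLike.mem_coe, LinearMap.mem_ker] at h ⊢
      rw [show T u = aeval T (X : F[X]) u by rw [aeval_X], ← Module.End.mul_apply, ← map_mul, mul_comm, map_mul,
        Module.End.mul_apply, h, map_zero]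
    have hUC : U ≤ C := hUd ▸ inf_le_left
    have hlt2 : 2 * (i / 2) < Module.finrank F U := by
      by_cases hie : Even i
      · rw [hmm, if_pos hie] at hgU; omega
      · obtain ⟨j', hj'⟩ := fpf_mult (p := p) hrp hT hU (fun u _ => hfix u) hi
        rw [hmm, if_neg hie, hj'] at hgU
        have hj0 : 0 < j' := pos_of_mul_pos_left hgU (Nat.zero_le _)
        have := Nat.le_mul_of_pos_left i hj0
        have := Nat.odd_iff.1 (Nat.not_even_iff_odd.1 hie)
        omega
    obtain ⟨W, hWU, hW, hWi, hpos, hle⟩ := exists_iso_cyclic hA T hI hinj (i := i) (d₀ := i / 2)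
      hg.ne_zero (hi ▸ factor_degree (p := p) hrp hg hgd) hipos (by omega) hU
      (fun u hu => LinearMap.mem_ker.1 (hUd.le hu).2) hlt2
    refine ⟨W, hWU.trans hUC, hW, hWi, ?_⟩
    obtain ⟨j', hj'⟩ := fpf_mult (p := p) hrp hT hW (fun u _ => hfix u) hi
    rw [hj'] at hpos hle ⊢
    have hj1 : j' = 1 := le_antisymm (Nat.le_of_mul_le_mul_right (by rwa [one_mul]) hipos)
      (pos_of_mul_pos_left hpos (Nat.zero_le _))
    rw [hj1, one_mul]
  obtain ⟨W, -, h1, h2, h3⟩ := exists_iso_invariant hA.isRefl hN T hI hinj hss (S := ⊤)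
    (fun u _ => Submodule.mem_top) hstep j (by
      rcases Nat.eq_zero_or_pos j with h | h
      · exact Or.inl h
      right
      rw [finrank_top, hV, hmm]
      rcases Nat.even_or_odd i with hie | hio
      · rw [if_neg (Nat.not_odd_iff_even.2 hie)] at hj
        rw [if_pos hie] at hc ⊢
        subst c
        calc 2 * i * (j - 1) + t * i = (2 * (j - 1) + t) * i := by ring
          _ < k * i := (Nat.mul_lt_mul_right hipos).2 (by omega)
      · rw [if_pos hio] at hj
        rw [if_neg (Nat.not_even_iff_odd.2 hio)] at hc ⊢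
        subst c
        calc 2 * i * (j - 1) + t * 0 = (j - 1) * (2 * i) := by ring
          _ < k * (2 * i) := (Nat.mul_lt_mul_right (by omega)).2 (by omega))
  exact ⟨W, h1, h2, h3⟩

end Alternating

section Quadratic

variable {V : Type*} [AddCommGroup V] [Module F V] [FiniteDimensional F V]
variable {Q : QuadraticForm F V} {T : V →ₗ[F] V}

omit [Fact p.Prime] [CharP F p] in
/-- totally singular subspaces have at most half the dimension -/
theorem ts_half_le {E : Submodule F V} (hE : QNd Q E) {U : Submodule F V} (hU : U ≤ E) (h0 : ∀ u ∈ U, Q u = 0) :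
    2 * Module.finrank F U ≤ Module.finrank F E := by
  obtain ⟨R, hR⟩ : ∃ R : LinearMap.BilinForm F E, ∀ a b : E, R a b = QuadraticMap.polar Q (a : V) b :=
    ⟨(qB Q).compl₁₂ E.subtype E.subtype, fun a b => rfl⟩
  have hRn : R.Nondegenerate := by
    have key : ∀ u : E, (∀ v, R u v = 0) → u = 0 := fun u hu => by
      by_contra hne
      obtain ⟨v, hv, h'⟩ := (qnd_iff Q E).1 hE u u.2 fun h => hne (Subtype.ext h)
      exact h' ((hR _ ⟨v, hv⟩).symm.trans (hu _))
    exact ⟨key, fun v hv => key v fun u => by rw [hR, QuadraticMap.polar_comm, ← hR]; exact hv u⟩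
  have hle : U.comap E.subtype ≤ R.orthogonal (U.comap E.subtype) := fun a ha b hb => by
    show R b a = 0
    rw [hR, QuadraticMap.polar, h0 ((b : V) + (a : V)) (U.add_mem hb ha), h0 (b : V) hb, h0 (a : V) ha]
    simp
  have h5 := Submodule.finrank_mono hle
  rw [LinearMap.BilinForm.finrank_orthogonal hRn, LinearEquiv.finrank_eq (Submodule.comapSubtypeEquivOfLe hU)] at h5
  omega

/-- totally singular subspaces of a given dimension -/
theorem ts_sub_iff {E : Submodule F V} (hE : QNd Q E) (a : ℕ) :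
    (∃ U ≤ E, (∀ u ∈ U, Q u = 0) ∧ Module.finrank F U = a) ↔
      2 * a ≤ Module.finrank F E ∧ (2 * a = Module.finrank F E → QPlus Q E) := by
  constructor
  · rintro ⟨U, hU, h0, hd⟩
    exact ⟨hd ▸ ts_half_le hE hU h0, fun h => ⟨U, hU, h0, hd.symm ▸ h⟩⟩
  · rintro ⟨hle, heq⟩
    rcases hle.lt_or_eq with hlt | he
    · rcases Nat.eq_zero_or_pos a with ha | ha
      · exact ⟨⊥, bot_le, fun u hu => by rw [(Submodule.mem_bot F).1 hu, map_zero], by rw [finrank_bot, ha]⟩
      · obtain ⟨W, hW, -, hWd, hWp⟩ := exists_sub_type hE ha hlt True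
        obtain ⟨U, hU, h0, hUd⟩ := hWp.2 trivial
        exact ⟨U, hU.trans hW, h0, by omega⟩
    · obtain ⟨U, hU, h0, hUd⟩ := heq he
      exact ⟨U, hU, h0, by omega⟩

omit [Fintype F] [Fact p.Prime] [CharP F p] [FiniteDimensional F V] in
/-- isotropic and singular agree on invariant subspaces without fixed vectors -/
theorem singular_of_isotropic (hI : ∀ v, Q (T v) = Q v) {W : Submodule F V} [FiniteDimensional F W]
    (hW : ∀ u ∈ W, T u ∈ W) (hf : ∀ u ∈ W, T u = u → u = 0)
    (hB : ∀ u ∈ W, ∀ v ∈ W, QuadraticMap.polar Q u v = 0) : ∀ u ∈ W, Q u = 0 := by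
  intro u hu
  have hinj : Function.Injective ⇑(T.restrict hW - LinearMap.id : W →ₗ[F] W) := (injective_iff_map_eq_zero _).2 fun w hw => by
    have h : T (w : V) = w := sub_eq_zero.1 (congrArg Subtype.val hw)
    exact Subtype.ext (hf _ w.2 h)
  obtain ⟨w, hw⟩ := LinearMap.surjective_of_injective hinj ⟨u, hu⟩
  have hu' : u = T (w : V) - w := (congrArg Subtype.val hw).symm
  rw [hu', sub_eq_add_neg, QuadraticMap.map_add (⇑Q), QuadraticMap.map_neg, hI, QuadraticMap.polar_neg_right,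
    hB _ (hW _ w.2) _ w.2, neg_zero, add_zero]
  have h2 := hB _ w.2 _ w.2
  rw [QuadraticMap.polar_self] at h2
  simpa [two_mul, two_smul] using h2

/-- the moved space -/
theorem moved_space (hrp : r ≠ p) (hN : (QuadraticMap.polarBilin Q).Nondegenerate) (hI : ∀ v, Q (T v) = Q v)
    (hT : T ^ r = 1) {M : Submodule F V} (hM : M = LinearMap.ker (aeval T (cyclotomic r F))) :
    IsCompl (LinearMap.ker (T - 1)) M ∧
      (∀ u ∈ LinearMap.ker (T - 1), ∀ v ∈ M, QuadraticMap.polar Q u v = 0) ∧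
      QNd Q (LinearMap.ker (T - 1)) ∧ QNd Q M ∧ (∀ u ∈ M, T u ∈ M) ∧ (∀ u ∈ M, T u = u → u = 0) := by
  obtain ⟨hcm, ho⟩ := fixed_moved (p := p) hrp (B := qB Q) T (fun u v => polar_map hI u v) hT
  rw [← hM] at hcm ho
  have hsplitnd : ∀ {X Y : Submodule F V}, (∀ u ∈ X, ∀ v ∈ Y, qB Q u v = 0) → X ⊔ Y = ⊤ → QNd Q X := by
    intro X Y hXY htop
    rw [qnd_iff]
    intro u hu hu0
    obtain ⟨v, -, hne⟩ := (qnd_iff Q ⊤).1 (qnd_top hN) u Submodule.mem_top hu0
    obtain ⟨x, hx, y, hy, rfl⟩ := Submodule.mem_sup.1 (htop.ge (Submodule.mem_top (x := v)))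
    refine ⟨x, hx, fun e => hne ?_⟩
    rw [QuadraticMap.polar_add_right, e, zero_add]
    exact hXY u hu y hy
  refine ⟨hcm, ho, hsplitnd ho hcm.sup_eq_top,
    hsplitnd (fun u hu v hv => polar_refl Q _ _ (ho v hv u hu)) (sup_comm _ M ▸ hcm.sup_eq_top), fun u hu => ?_,
    fun u hu h => Submodule.disjoint_def.1 hcm.disjoint u (LinearMap.mem_ker.2 (by simp [h])) hu⟩
  rw [hM, LinearMap.mem_ker] at hu ⊢
  rw [show T u = aeval T (X : F[X]) u by rw [aeval_X],
    ← Module.End.mul_apply, ← map_mul, mul_comm, map_mul, Module.End.mul_apply, hu, map_zero]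

/-- invariant subspaces split along fixed and moved parts -/
theorem inv_split (hrp : r ≠ p) (hI : ∀ v, Q (T v) = Q v) (hT : T ^ r = 1) {M : Submodule F V}
    (hM : M = LinearMap.ker (aeval T (cyclotomic r F))) {W : Submodule F V} (hW : ∀ u ∈ W, T u ∈ W) {i : ℕ}
    (hi : i = orderOf ((Fintype.card F : ℕ) : ZMod r)) :
    ∃ j, Module.finrank F (W ⊓ M : Submodule F V) = j * i ∧
      Module.finrank F W = Module.finrank F (W ⊓ LinearMap.ker (T - 1) : Submodule F V) + j * i := by
  obtain ⟨hcm, -⟩ := fixed_moved (p := p) hrp (B := qB Q) T (fun u v => polar_map hI u v) hT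
  rw [← hM] at hcm
  obtain ⟨hcW, -⟩ := fixed_moved (p := p) hrp (B := (qB Q).restrict W) (T.restrict hW) (fun u v => polar_map hI _ _)
    (LinearMap.ext fun u => Subtype.ext (by
      have h := restrict_aeval_coe T hW (X ^ r) u
      rw [map_pow, map_pow, aeval_X, aeval_X, hT] at h
      exact h))
  have hsup : (W ⊓ LinearMap.ker (T - 1)) ⊔ (W ⊓ M) = W := by
    refine le_antisymm (sup_le inf_le_left inf_le_left) fun u hu => ?_
    obtain ⟨x, hx, y, hy, hxy⟩ := Submodule.mem_sup.1 (hcW.sup_eq_top.ge (Submodule.mem_top (x := (⟨u, hu⟩ : W))))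
    rw [show u = (x : V) + (y : V) from (congrArg Subtype.val hxy).symm]
    refine Submodule.add_mem_sup ⟨x.2, ?_⟩ ⟨y.2, ?_⟩
    · rw [SetLike.mem_coe, LinearMap.mem_ker]
      simpa using congrArg Subtype.val (LinearMap.mem_ker.1 hx)
    · rw [SetLike.mem_coe, hM, LinearMap.mem_ker, ← restrict_aeval_coe T hW, LinearMap.mem_ker.1 hy]
      rfl
  have hMi : ∀ u ∈ M, T u ∈ M := fun u hu => by
    rw [hM, LinearMap.mem_ker] at hu ⊢
    rw [show T u = aeval T (X : F[X]) u by rw [aeval_X],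
      ← Module.End.mul_apply, ← map_mul, mul_comm, map_mul, Module.End.mul_apply, hu, map_zero]
  obtain ⟨j, hj⟩ := fpf_mult (p := p) hrp hT (U := W ⊓ M) (fun u hu => ⟨hW u hu.1, hMi u hu.2⟩)
    (fun u hu h => Submodule.disjoint_def.1 hcm.disjoint u (LinearMap.mem_ker.2 (by simp [h])) hu.2) hi
  refine ⟨j, hj, ?_⟩
  have h := Submodule.finrank_sup_add_finrank_inf_eq (W ⊓ LinearMap.ker (T - 1)) (W ⊓ M)
  rw [hsup, (hcm.disjoint.mono inf_le_right inf_le_right).eq_bot, finrank_bot, add_zero, hj] at h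
  exact h

/-- singular invariant subspaces of the moved part -/
theorem exists_ts_moved (hrp : r ≠ p) (hr2 : r ≠ 2) (hN : (QuadraticMap.polarBilin Q).Nondegenerate)
    (hI : ∀ v, Q (T v) = Q v) (hT : T ^ r = 1) {M : Submodule F V}
    (hM : M = LinearMap.ker (aeval T (cyclotomic r F))) {i c k j : ℕ}
    (hi : i = orderOf ((Fintype.card F : ℕ) : ZMod r)) (hc : c = if Even i then i else 2 * i)
    (hd : Module.finrank F M = k * c) (hj : j ≤ if Odd i then k else (k + 1 - (r - 1) / i) / 2) :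
    ∃ W ≤ M, (∀ u ∈ W, T u ∈ W) ∧ (∀ u ∈ W, Q u = 0) ∧ Module.finrank F W = j * i := by
  obtain ⟨hcm, ho, hEn, hMn, hMi, hMf⟩ := moved_space (p := p) hrp hN hI hT hM
  have hr : r.Prime := Fact.out
  obtain ⟨R, hR⟩ : ∃ R, R = T.restrict hMi := ⟨_, rfl⟩
  have hRv : ∀ u : M, ((R u : M) : V) = T u := fun u => by rw [hR]; rfl
  have hRr : R ^ r = 1 := LinearMap.ext fun u => Subtype.ext (by
    have h := restrict_aeval_coe T hMi (X ^ r) u
    rw [map_pow, map_pow, aeval_X, aeval_X, hT, ← hR] at h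
    exact h)
  obtain ⟨S, hS⟩ : ∃ S : M →ₗ[F] M, S = R - R ^ (r - 1) := ⟨_, rfl⟩
  have hRinv : ∀ u, R ((R ^ (r - 1)) u) = u := fun u => by
    rw [← Module.End.mul_apply, ← pow_succ', Nat.sub_add_cancel hr.one_le, hRr]; rfl
  have hRS : ∀ u, R (S u) = S (R u) := fun u => by
    simp only [hS, LinearMap.sub_apply, map_sub, ← Module.End.mul_apply, ← pow_succ', ← pow_succ]
  obtain ⟨B, hB⟩ : ∃ B : LinearMap.BilinForm F M, ∀ a b : M, B a b = QuadraticMap.polar Q (S a : V) (b : V) :=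
    ⟨(qB Q).compl₁₂ (M.subtype.comp S) M.subtype, fun a b => rfl⟩
  have hA : B.IsAlt := fun a => by
    rw [hB, hS, LinearMap.sub_apply, Submodule.coe_sub, QuadraticMap.polar_sub_left, sub_eq_zero]
    conv_rhs => rw [← polar_map hI, ← hRv, hRinv, ← hRv, QuadraticMap.polar_comm]
  have hSfix : ∀ u, S u = 0 → u = 0 := fun u hu => by
    have h : T (T (u : V)) = u := by
      have h1 : R u = (R ^ (r - 1)) u := by
        rw [hS, LinearMap.sub_apply, sub_eq_zero] at hu
        exact hu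
      rw [← hRv, ← hRv, h1, hRinv]
    exact Subtype.ext (hMf _ u.2 (fixed_of_sq_fixed hr2 hT h))
  have hBn : B.Nondegenerate := by
    have key : ∀ u, (∀ v, B u v = 0) → u = 0 := fun u hu => hSfix u (by
      by_contra hne
      obtain ⟨v, hv, h'⟩ := (qnd_iff Q M).1 hMn _ (S u).2 fun h => hne (Subtype.ext h)
      exact h' ((hB _ ⟨v, hv⟩).symm.trans (hu _)))
    exact ⟨key, fun v hv => key v fun u => hA.isRefl _ _ (hv u)⟩
  obtain ⟨W, hW, hWB, hWd⟩ := exists_iso_sub (p := p) hrp hr2 hA hBn (T := R)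
    (fun a b => by rw [hB, hB, ← hRS, hRv, hRv, polar_map hI])
    hRr (fun v h => Subtype.ext (hMf _ v.2 (by rw [← hRv, h]))) hi hc hd hj
  have hW' : ∀ u ∈ W.map M.subtype, T u ∈ W.map M.subtype := by
    rintro _ ⟨u, hu, rfl⟩
    exact ⟨R u, hW u hu, hRv u⟩
  refine ⟨W.map M.subtype, Submodule.map_subtype_le _ _, hW', ?_, by rw [Submodule.finrank_map_subtype_eq, hWd]⟩
  refine singular_of_isotropic hI hW' (by rintro _ ⟨u, -, rfl⟩; exact hMf _ u.2) ?_
  rintro _ ⟨u, hu, rfl⟩ _ ⟨v, hv, rfl⟩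
  have hSW : ∀ w ∈ W, S w ∈ W := fun w hw => by
    rw [hS, LinearMap.sub_apply]
    have hp : ∀ n, (R ^ n) w ∈ W := fun n => by
      induction n with
      | zero => exact hw
      | succ n ih => rw [pow_succ', Module.End.mul_apply]; exact hW _ ih
    exact W.sub_mem (hW w hw) (hp _)
  have hinj : Function.Injective (S.restrict hSW) := (injective_iff_map_eq_zero _).2 fun w hw =>
    Subtype.ext (hSfix _ (congrArg Subtype.val hw))
  obtain ⟨w, hw⟩ := LinearMap.surjective_of_injective hinj ⟨u, hu⟩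
  have h := hWB _ w.2 v hv
  rw [hB] at h
  rw [show u = S (w : M) from (congrArg Subtype.val hw).symm]
  exact h

end Quadratic

end CfsgLib.Perm.Elusive
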