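import Mathlib
import Cfsg.Agent.Lib.Perm.Elusive.OrthSingular
import Cfsg.Agent.Lib.Perm.Elusive.SympClassElement

/-!
# A single block of a semisimple isometry commuting with an overfield
-/

set_option autoImplicit false
set_option linter.all false

namespace CfsgLib.Perm.Elusive.OverField

open Polynomial

variable {F : Type*} [Field F] [Fintype F] {p : ℕ} [Fact p.Prime] [CharP F p] {r : ℕ} [Fact r.Prime]
variable {V : Type*} [AddCommGroup V] [Module F V] [FiniteDimensional F V]
variable {E : Type*} [Field E] [Algebra F E] [FiniteDimensional F E]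

omit [Fintype F] [FiniteDimensional F V] [FiniteDimensional F E] in
/-- stable subspaces of a space with scalars in a bigger field -/
theorem finrank_dvd (ρ : E →ₐ[F] Module.End F V) {S : Submodule F V} (hS : ∀ a, ∀ v ∈ S, ρ a v ∈ S) :
    Module.finrank F E ∣ Module.finrank F S := by
  letI : Module E S :=
    { smul := fun a v => ⟨ρ a v.1, hS a v.1 v.2⟩
      one_smul := fun v => Subtype.ext (by show ρ 1 v.1 = v.1; rw [map_one]; rfl)
      mul_smul := fun a b v => Subtype.ext (by show ρ (a * b) v.1 = ρ a (ρ b v.1); rw [map_mul]; rfl)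
      smul_zero := fun a => Subtype.ext (map_zero (ρ a))
      smul_add := fun a u v => Subtype.ext (map_add (ρ a) u.1 v.1)
      add_smul := fun a b v => Subtype.ext (by show ρ (a + b) v.1 = ρ a v.1 + ρ b v.1; rw [map_add]; rfl)
      zero_smul := fun v => Subtype.ext (by show ρ 0 v.1 = 0; rw [map_zero]; rfl) }
  haveI : IsScalarTower F E S := ⟨fun c a v => Subtype.ext (by
    show ρ (c • a) v.1 = c • ρ a v.1
    rw [map_smul]; rfl)⟩
  exact Dvd.intro _ (Module.finrank_mul_finrank F E S)

omit [Fintype F] [Fact p.Prime] [CharP F p] in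
/-- irreducible maps of odd order on spaces of odd dimension have no invariant nondegenerate form -/
theorem no_invariant_form (hr2 : r ≠ 2) {T : V →ₗ[F] V} (hT : T ^ r = 1) (hfix : ∀ v, T v = v → v = 0)
    (hirr : ∀ W : Submodule F V, (∀ u ∈ W, T u ∈ W) → W = ⊥ ∨ W = ⊤) (hodd : Odd (Module.finrank F V))
    {β : LinearMap.BilinForm F V} (hβ : ∀ u, (∀ v, β u v = 0) → u = 0) (hI : ∀ u v, β (T u) (T v) = β u v) : False := by
  classical
  have hsurj : ∀ v, ∃ w, T w = v := fun v => ⟨(T ^ (r - 1)) v, by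
    rw [← Module.End.mul_apply, ← pow_succ', Nat.sub_add_cancel (Fact.out : r.Prime).one_le, hT, Module.End.one_apply]⟩
  have halt : ∀ ω : LinearMap.BilinForm F V, ω.IsAlt → (∀ u v, ω (T u) (T v) = ω u v) → ∀ u v, ω u v = 0 := by
    intro ω hA hω u v
    have hinv : ∀ x ∈ LinearMap.ker ω, T x ∈ LinearMap.ker ω := fun x hx => LinearMap.mem_ker.2 (LinearMap.ext fun y => by
      obtain ⟨z, rfl⟩ := hsurj y
      rw [hω, LinearMap.mem_ker.1 hx]; rfl)
    rcases hirr _ hinv with h | h
    · have hnd : Disjoint (⊤ : Submodule F V) (ω.orthogonal ⊤) := by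
        rw [CfsgLib.Perm.Elusive.disjoint_orth_iff hA.isRefl]
        intro x _ hx
        by_contra hno
        push Not at hno
        exact hx ((Submodule.mem_bot F).1 (h.le (LinearMap.mem_ker.2 (LinearMap.ext fun y => hno y Submodule.mem_top))))
      have hev := CfsgLib.Perm.Elusive.even_of_nd hA hnd
      rw [finrank_top] at hev
      exact absurd hev (Nat.not_even_iff_odd.2 hodd)
    · have hu : u ∈ LinearMap.ker ω := h ▸ Submodule.mem_top
      rw [LinearMap.mem_ker.1 hu]; rfl
  have hsym : ∀ u v, β u v = β v u := fun u v => by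
    have h := halt (β - β.flip) (fun x => by simp) (fun a b => by simp [hI]) u v
    simpa [sub_eq_zero] using h
  have hsa : ∀ u v, β (T u) v = β (T v) u := fun u v => by
    obtain ⟨γ, hγ⟩ : ∃ γ : LinearMap.BilinForm F V, ∀ a b, γ a b = β (T a) b - β (T b) a :=
      ⟨β.compl₁₂ T LinearMap.id - (β.compl₁₂ T LinearMap.id).flip, fun a b => rfl⟩
    have h := halt γ (fun x => by rw [hγ, sub_self]) (fun a b => by rw [hγ, hγ, hI, hI]) u v
    rwa [hγ, sub_eq_zero] at h
  have hTT : ∀ v, T (T v) = v := fun v => by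
    refine sub_eq_zero.1 (hβ _ fun x => ?_)
    obtain ⟨u, rfl⟩ := hsurj x
    rw [map_sub, LinearMap.sub_apply, hI, hsym (T v) u, ← hsym (T u) v, hsa u v, hsym (T v) u, sub_self]
  have hV : ∀ v : V, v = 0 := fun v => hfix v (CfsgLib.Perm.Elusive.fixed_of_sq_fixed hr2 hT (hTT v))
  haveI : Subsingleton V := ⟨fun a b => (hV a).trans (hV b).symm⟩
  obtain ⟨n, hn⟩ := hodd
  rw [Module.finrank_zero_of_subsingleton] at hn
  omega

omit [Fact p.Prime] [CharP F p] [FiniteDimensional F V] in
theorem aeval_pow_card' (T : Module.End F V) : ∀ (g : ℕ) (P : F[X]),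
    aeval T (P ^ Fintype.card F ^ g) = aeval (T ^ Fintype.card F ^ g) P := by
  intro g
  induction g with
  | zero => intro P; simp
  | succ g ih =>
    intro P
    rw [pow_succ', pow_mul, ih, ← FiniteField.expand_card, expand_aeval, ← pow_mul, mul_comm]

/-- a block commuting with an overfield: the degree divides `i`, and adjoints are Frobenius powers -/
theorem block_structure (hrp : r ≠ p) (hr2 : r ≠ 2) {B : LinearMap.BilinForm F V} (hA : B.IsAlt) (hN : B.Nondegenerate)
    {T : V →ₗ[F] V} (hI : ∀ u v, B (T u) (T v) = B u v) (hT : T ^ r = 1) (ρ : E →ₐ[F] Module.End F V)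
    (hcomm : ∀ a v, T (ρ a v) = ρ a (T v)) {i c : ℕ} (hi : i = orderOf ((Fintype.card F : ℕ) : ZMod r))
    (hc : c = if Even i then i else 2 * i) {M : Submodule F V} (hM : M = LinearMap.ker (aeval T (cyclotomic r F)))
    (hMd : Module.finrank F M = c) :
    Module.finrank F E ∣ i ∧
      ∀ g, i = 2 * g → ∀ a, ∀ u ∈ M, ∀ v ∈ M, B (ρ a u) v = B u (ρ (a ^ Fintype.card F ^ g) v) := by
  classical
  have hipos : 0 < i := hi ▸ order_pos hrp
  obtain ⟨hcm, ho⟩ := fixed_moved (p := p) hrp (B := B) T hI hT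
  rw [← hM] at hcm ho
  have hρ : ∀ a P v, ρ a (aeval T P v) = aeval T P (ρ a v) := fun a P v =>
    aeval_intertwine (f := ρ a) (fun u => (hcomm a u).symm) P v
  have hMT : ∀ P : F[X], ∀ v ∈ M, aeval T P v ∈ M := fun P v hv => by
    rw [hM, LinearMap.mem_ker] at hv ⊢
    rw [← Module.End.mul_apply, ← map_mul, mul_comm, map_mul, Module.End.mul_apply, hv, map_zero]
  have hMi : ∀ v ∈ M, T v ∈ M := fun v hv => by simpa using hMT X v hv
  have hMρ : ∀ a, ∀ v ∈ M, ρ a v ∈ M := fun a v hv => by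
    rw [hM, LinearMap.mem_ker] at hv ⊢
    rw [← hρ, hv, map_zero]
  have hMf : ∀ v ∈ M, T v = v → v = 0 := fun v hv h =>
    Submodule.disjoint_def.1 hcm.disjoint v (LinearMap.mem_ker.2 (by simp [h])) hv
  have hMn : ∀ u ∈ M, (∀ v ∈ M, B u v = 0) → u = 0 := fun u hu h => hN.1 u fun v => by
    obtain ⟨a, ha, b, hb, rfl⟩ := Submodule.mem_sup.1 (hcm.sup_eq_top.ge (Submodule.mem_top (x := v)))
    rw [map_add, h b hb, hA.isRefl _ _ (ho a ha u hu), add_zero]
  have hmult : ∀ U : Submodule F V, U ≤ M → (∀ u ∈ U, T u ∈ U) → ∃ j, Module.finrank F U = j * i :=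
    fun U hU hUi => fpf_mult (p := p) hrp hT hUi (fun u hu h => hMf u (hU hu) h) hi
  rcases Nat.even_or_odd i with hev | hod
  · rw [if_pos hev] at hc
    subst c
    refine ⟨hMd ▸ finrank_dvd ρ hMρ, fun g hg a u hu v hv => ?_⟩
    obtain ⟨u₀, hu₀, hu₀0⟩ := Submodule.exists_mem_ne_zero_of_ne_bot (p := M) fun h => by
      rw [h, finrank_bot] at hMd; omega
    obtain ⟨φ, hφ⟩ : ∃ φ : F[X] →ₗ[F] V, ∀ P, φ P = aeval T P u₀ :=
      ⟨(LinearMap.applyₗ u₀).comp (aeval T).toLinearMap, fun P => rfl⟩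
    have hR : LinearMap.range φ = M := by
      have hle : LinearMap.range φ ≤ M := by rintro _ ⟨P, rfl⟩; rw [hφ]; exact hMT P u₀ hu₀
      obtain ⟨j, hj⟩ := hmult _ hle (by
        rintro _ ⟨P, rfl⟩
        exact ⟨X * P, by rw [hφ, hφ, map_mul, aeval_X, Module.End.mul_apply]⟩)
      refine Submodule.eq_of_le_of_finrank_eq hle ?_
      have h1 := Submodule.finrank_mono hle
      have h0 : 0 < Module.finrank F (LinearMap.range φ) := Nat.pos_of_ne_zero fun h =>
        hu₀0 ((Submodule.mem_bot F).1 ((Submodule.finrank_eq_zero.1 h).le ⟨1, by rw [hφ, map_one, Module.End.one_apply]⟩))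
      rw [hMd] at h1 ⊢
      rw [hj] at h1 h0 ⊢
      have : j ≤ 1 := Nat.le_of_mul_le_mul_right (by omega) hipos
      rcases Nat.le_one_iff_eq_zero_or_eq_one.1 this with h | h <;> subst h <;> omega
    obtain ⟨P, hP⟩ : ∃ P, φ P = ρ a u₀ := LinearMap.mem_range.1 (hR.ge (hMρ a u₀ hu₀))
    rw [hφ] at hP
    have hPv : ∀ w ∈ M, ρ a w = aeval T P w := by
      intro w hw
      obtain ⟨R, rfl⟩ := LinearMap.mem_range.1 (hR.ge hw)
      rw [hφ, hρ, ← hP, ← Module.End.mul_apply, ← map_mul, mul_comm, map_mul, Module.End.mul_apply]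
    have hpow : ∀ (n : ℕ), ∀ w ∈ M, ρ (a ^ n) w = aeval T (P ^ n) w := by
      intro n
      induction n with
      | zero => intro w hw; simp
      | succ n ih =>
        intro w hw
        rw [pow_succ' a, pow_succ' P, map_mul, map_mul, Module.End.mul_apply, Module.End.mul_apply, ih w hw,
          hPv _ (hMT _ w hw)]
    have hq : T ^ Fintype.card F ^ g = T ^ (r - 1) := by
      have hr : r.Prime := Fact.out
      have h1 : (Fintype.card F : ZMod r) ^ g = -1 := by
        have h2 : ((Fintype.card F : ZMod r) ^ g) ^ 2 = 1 := by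
          rw [← pow_mul, mul_comm, ← hg, hi, pow_orderOf_eq_one]
        rcases sq_eq_one_iff.1 h2 with h | h
        · have := Nat.le_of_dvd (by omega) (hi ▸ orderOf_dvd_of_pow_eq_one h)
          omega
        · exact h
      have h3 : ((Fintype.card F ^ g : ℕ) : ZMod r) = ((r - 1 : ℕ) : ZMod r) := by
        rw [Nat.cast_pow, h1, Nat.cast_sub hr.one_le, ZMod.natCast_self, Nat.cast_one, zero_sub]
      rw [ZMod.natCast_eq_natCast_iff'] at h3
      rw [pow_eq_pow_mod _ hT, h3, ← pow_eq_pow_mod _ hT]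
    rw [hPv u hu, hpow _ v hv, aeval_pow_card', hq, adjoint_aeval (r := r) hI hT P]
  · rw [if_neg (Nat.not_even_iff_odd.2 hod)] at hc
    subst c
    refine ⟨?_, fun g hg => absurd hg (by obtain ⟨h, hh⟩ := hod; omega)⟩
    -- an isotropic irreducible half
    obtain ⟨TM, hTM⟩ : ∃ TM, TM = T.restrict hMi := ⟨_, rfl⟩
    have hTMv : ∀ w : M, (TM w : V) = T w := fun w => by rw [hTM]; rfl
    obtain ⟨BM, hBM⟩ : ∃ BM : LinearMap.BilinForm F M, ∀ a b : M, BM a b = B (a : V) b :=
      ⟨B.compl₁₂ M.subtype M.subtype, fun a b => rfl⟩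
    have hBMA : BM.IsAlt := fun w => by rw [hBM]; exact hA w
    have hBMn : BM.Nondegenerate := by
      have key : ∀ w : M, (∀ z, BM w z = 0) → w = 0 := fun w h =>
        Subtype.ext (hMn w w.2 fun z hz => by rw [← hBM w ⟨z, hz⟩]; exact h _)
      exact ⟨key, fun w h => key w fun z => hBMA.isRefl _ _ (h z)⟩
    have hTMr : TM ^ r = 1 := by
      have hp : ∀ n (w : M), ((TM ^ n) w : V) = (T ^ n) w := fun n => by
        induction n with
        | zero => intro w; rfl
        | succ n ih => intro w; rw [pow_succ', Module.End.mul_apply, hTMv, ih, pow_succ', Module.End.mul_apply]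
      exact LinearMap.ext fun w => Subtype.ext (by rw [hp, hT]; rfl)
    obtain ⟨W, hWi, hW0, hWd⟩ := exists_iso_sub (p := p) hrp hr2 hBMA hBMn (T := TM)
      (fun a b => by rw [hBM, hBM, hTMv, hTMv, hI]) hTMr (fun w hw => Subtype.ext (hMf w w.2 (by rw [← hTMv, hw])))
      hi (c := 2 * i) (by rw [if_neg (Nat.not_even_iff_odd.2 hod)]) (k := 1) (j := 1) (by rw [hMd, one_mul])
      (by rw [if_pos hod])
    obtain ⟨U, hU⟩ : ∃ U, U = W.map M.subtype := ⟨_, rfl⟩
    have hUd : Module.finrank F U = i := by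
      rw [hU, ← (Submodule.equivMapOfInjective M.subtype M.injective_subtype W).finrank_eq, hWd, one_mul]
    have hUM : U ≤ M := hU ▸ Submodule.map_subtype_le M W
    have hUi : ∀ u ∈ U, T u ∈ U := by
      rw [hU]; rintro _ ⟨w, hw, rfl⟩
      exact ⟨TM w, hWi w hw, hTMv w⟩
    have hU0 : ∀ u ∈ U, ∀ v ∈ U, B u v = 0 := by
      rw [hU]; rintro _ ⟨a, ha, rfl⟩ _ ⟨b, hb, rfl⟩
      exact (hBM a b).symm.trans (hW0 a ha b hb)
    by_cases hK : ∀ a, ∀ v ∈ U, ρ a v ∈ U
    · exact hUd ▸ finrank_dvd ρ hK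
    exfalso
    push Not at hK
    obtain ⟨a, v₀, hv₀, hv₀'⟩ := hK
    have ha0 : a ≠ 0 := fun h => hv₀' (by rw [h, map_zero]; exact U.zero_mem)
    have hinj : Function.Injective (ρ a) := fun x y h => by
      have h' := congrArg (ρ a⁻¹) h
      rwa [← Module.End.mul_apply, ← Module.End.mul_apply, ← map_mul, inv_mul_cancel₀ ha0, map_one] at h'
    obtain ⟨U', hU'⟩ : ∃ U', U' = U.map (ρ a) := ⟨_, rfl⟩
    have hU'd : Module.finrank F U' = i := by
      rw [hU', ← (Submodule.equivMapOfInjective (ρ a) hinj U).finrank_eq, hUd]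
    have hU'i : ∀ u ∈ U', T u ∈ U' := by
      rw [hU']; rintro _ ⟨w, hw, rfl⟩
      exact ⟨T w, hUi w hw, (hcomm a w).symm⟩
    have hU'M : U' ≤ M := by rw [hU']; rintro _ ⟨w, hw, rfl⟩; exact hMρ a w (hUM hw)
    have hdis : U ⊓ U' = ⊥ := by
      obtain ⟨j, hj⟩ := hmult (U ⊓ U') (inf_le_left.trans hUM) fun w hw => ⟨hUi w hw.1, hU'i w hw.2⟩
      have hle := Submodule.finrank_mono (inf_le_left : U ⊓ U' ≤ U)
      rw [hj, hUd] at hle
      rcases Nat.eq_zero_or_pos j with h | h
      · exact Submodule.finrank_eq_zero.1 (by rw [hj, h, zero_mul])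
      · have hge := Nat.le_mul_of_pos_left i h
        have heq : U ⊓ U' = U := Submodule.eq_of_le_of_finrank_eq inf_le_left (by rw [hj, hUd]; omega)
        have h2 : U' = U := (Submodule.eq_of_le_of_finrank_eq (inf_eq_left.1 heq) (by rw [hUd, hU'd])).symm
        exact absurd (h2 ▸ hU' ▸ ⟨v₀, hv₀, rfl⟩ : ρ a v₀ ∈ U) hv₀'
    have hsup : U ⊔ U' = M := by
      refine Submodule.eq_of_le_of_finrank_eq (sup_le hUM hU'M) ?_
      have h := Submodule.finrank_sup_add_finrank_inf_eq U U'
      rw [hdis, finrank_bot, hUd, hU'd] at h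
      omega
    obtain ⟨TU, hTU⟩ : ∃ TU, TU = T.restrict hUi := ⟨_, rfl⟩
    have hTUv : ∀ w : U, (TU w : V) = T w := fun w => by rw [hTU]; rfl
    obtain ⟨β, hβ⟩ : ∃ β : LinearMap.BilinForm F U, ∀ x y : U, β x y = B (x : V) (ρ a y) :=
      ⟨B.compl₁₂ U.subtype ((ρ a).comp U.subtype), fun x y => rfl⟩
    refine no_invariant_form (r := r) hr2 (T := TU) ?_ (fun w hw => Subtype.ext (hMf w (hUM w.2) (by rw [← hTUv, hw])))
      (fun S hS => ?_) (hUd ▸ hod) (β := β) (fun x hx => Subtype.ext (hMn x (hUM x.2) fun z hz => ?_))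
      (fun x y => by rw [hβ, hβ, hTUv, hTUv, ← hcomm, hI])
    · have hp : ∀ n (w : U), ((TU ^ n) w : V) = (T ^ n) w := fun n => by
        induction n with
        | zero => intro w; rfl
        | succ n ih => intro w; rw [pow_succ', Module.End.mul_apply, hTUv, ih, pow_succ', Module.End.mul_apply]
      exact LinearMap.ext fun w => Subtype.ext (by rw [hp, hT]; rfl)
    · obtain ⟨j, hj⟩ := hmult (S.map U.subtype) ((Submodule.map_subtype_le U S).trans hUM) (by
        rintro _ ⟨w, hw, rfl⟩; exact ⟨TU w, hS w hw, hTUv w⟩)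
      rw [← (Submodule.equivMapOfInjective U.subtype U.injective_subtype S).finrank_eq] at hj
      have hle := Submodule.finrank_le S
      rw [hj, hUd] at hle
      rcases Nat.eq_zero_or_pos j with h | h
      · exact Or.inl (Submodule.finrank_eq_zero.1 (by rw [hj, h, zero_mul]))
      · have := Nat.le_mul_of_pos_left i h
        exact Or.inr (Submodule.eq_top_of_finrank_eq (by rw [hj, hUd]; omega))
    · obtain ⟨z₁, hz₁, z₂, hz₂, rfl⟩ := Submodule.mem_sup.1 (hsup.ge hz)
      rw [hU'] at hz₂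
      obtain ⟨w, hw, rfl⟩ := hz₂
      rw [map_add, hU0 x x.2 z₁ hz₁, zero_add, ← hβ x ⟨w, hw⟩]
      exact hx _

omit [Fintype F] [Fact p.Prime] [CharP F p] [Fact r.Prime] [FiniteDimensional F E] in
/-- fixed vectors of a semilinear map are few -/
theorem fixed_semilinear_le (ρ : E →ₐ[F] Module.End F V) {T : V →ₗ[F] V} (σ : E → E)
    (hσ : ∀ a, σ a = a → ∃ c : F, a = algebraMap F E c) (hT : ∀ a v, T (ρ a v) = ρ (σ a) (T v)) :
    ∀ (n : ℕ) (w : Fin n → V), LinearIndependent F w → (∀ j, T (w j) = w j) →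
      ∀ c : Fin n → E, ∑ j, ρ (c j) (w j) = 0 → c = 0 := by
  intro n
  induction n with
  | zero => intro w _ _ c _; exact funext fun j => j.elim0
  | succ n ih =>
    intro w hw hfix c hc
    have ih' := ih (fun j => w j.castSucc) (hw.comp _ (Fin.castSucc_injective n)) (fun j => hfix _)
    by_cases h0 : c (Fin.last n) = 0
    · have h := ih' (fun j => c j.castSucc) (by
        rw [Fin.sum_univ_castSucc, h0, map_zero, LinearMap.zero_apply, add_zero] at hc; exact hc)
      exact funext fun j => by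
        induction j using Fin.lastCases with
        | last => exact h0
        | cast j => exact congrFun h j
    obtain ⟨d, hd⟩ : ∃ d : Fin (n + 1) → E, ∀ j, d j = (c (Fin.last n))⁻¹ * c j := ⟨_, fun j => rfl⟩
    have hd1 : d (Fin.last n) = 1 := by rw [hd, inv_mul_cancel₀ h0]
    have hdsum : ∑ j, ρ (d j) (w j) = 0 := by
      simp only [hd, map_mul, Module.End.mul_apply]
      rw [← map_sum, hc, map_zero]
    have hdsum' : ∑ j, ρ (σ (d j)) (w j) = 0 := by
      have h := congrArg T hdsum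
      rw [map_sum, map_zero] at h
      simpa only [hT, hfix] using h
    have hσ1 : σ 1 = 1 := by
      by_contra hne
      have h1 : ∀ v, ρ (σ 1 - 1) (T v) = 0 := fun v => by
        have := hT 1 v
        rw [map_one, Module.End.one_apply] at this
        rw [map_sub, LinearMap.sub_apply, ← this, map_one, Module.End.one_apply, sub_self]
      have h2 := h1 (w (Fin.last n))
      rw [hfix] at h2
      have h3 := congrArg (ρ (σ 1 - 1)⁻¹) h2
      rw [← Module.End.mul_apply, ← map_mul, inv_mul_cancel₀ (sub_ne_zero.2 hne), map_one, map_zero,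
        Module.End.one_apply] at h3
      exact hw.ne_zero _ h3
    have hdiff : ∑ j : Fin n, ρ (σ (d j.castSucc) - d j.castSucc) (w j.castSucc) = 0 := by
      simp only [map_sub, LinearMap.sub_apply, Finset.sum_sub_distrib]
      rw [Fin.sum_univ_castSucc, hd1] at hdsum
      rw [Fin.sum_univ_castSucc, hd1, hσ1] at hdsum'
      rw [eq_neg_of_add_eq_zero_left hdsum, eq_neg_of_add_eq_zero_left hdsum', sub_self]
    have hfixd := ih' _ hdiff
    have hF : ∀ j, ∃ e : F, d j = algebraMap F E e := fun j => by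
      induction j using Fin.lastCases with
      | last => exact ⟨1, by rw [hd1, map_one]⟩
      | cast j => exact hσ _ (sub_eq_zero.1 (congrFun hfixd j))
    choose e he using hF
    have he0 : ∑ j, e j • w j = 0 := by
      rw [← hdsum]
      refine Finset.sum_congr rfl fun j _ => ?_
      rw [he, AlgHom.commutes, Module.algebraMap_end_apply]
    have := Fintype.linearIndependent_iff.1 hw e he0 (Fin.last n)
    rw [he, this, map_zero] at hd1
    exact absurd hd1 zero_ne_one

omit [Fintype F] [Fact p.Prime] [CharP F p] [Fact r.Prime] in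
/-- the fixed space of a semilinear map has at most the dimension over the overfield -/
theorem finrank_fixed_semilinear (ρ : E →ₐ[F] Module.End F V) {T : V →ₗ[F] V} (σ : E → E)
    (hσ : ∀ a, σ a = a → ∃ c : F, a = algebraMap F E c) (hT : ∀ a v, T (ρ a v) = ρ (σ a) (T v)) :
    Module.finrank F (LinearMap.ker (T - 1)) * Module.finrank F E ≤ Module.finrank F V := by
  classical
  obtain ⟨n, hn⟩ : ∃ n, n = Module.finrank F (LinearMap.ker (T - 1)) := ⟨_, rfl⟩
  let b := Module.finBasisOfFinrankEq F (LinearMap.ker (T - 1)) hn.symm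
  have hfix : ∀ j, T (b j : V) = b j := fun j => sub_eq_zero.1 (LinearMap.mem_ker.1 (b j).2)
  obtain ⟨φ, hφ⟩ : ∃ φ : (Fin n → E) →ₗ[F] V, ∀ c, φ c = ∑ j, ρ (c j) (b j : V) :=
    ⟨∑ j, ((LinearMap.applyₗ (b j : V)).comp ρ.toLinearMap).comp (LinearMap.proj j), fun c => by
      simp [LinearMap.sum_apply]⟩
  have hinj : Function.Injective φ := (injective_iff_map_eq_zero φ).2 fun c hc =>
    fixed_semilinear_le ρ σ hσ hT n _ (b.linearIndependent.map' _ (Submodule.ker_subtype _)) hfix c (by rw [hφ] at hc; exact hc)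
  have h := LinearMap.finrank_le_finrank_of_injective hinj
  rwa [Module.finrank_pi_fintype, Finset.sum_const, Finset.card_univ, Fintype.card_fin, smul_eq_mul, hn] at h

end CfsgLib.Perm.Elusive.OverField
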