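import Mathlib
import Cfsg.Agent.Lib.Perm.Elusive.OverFieldBlock
import Cfsg.Agent.Lib.Perm.Elusive.TensorSymp
import Cfsg.Agent.Lib.Perm.Elusive.SympPrimeElement

/-!
# Elements of normalizers of overfields in symplectic groups
-/

set_option autoImplicit false
set_option linter.all false

namespace CfsgLib.Perm.Elusive.OverField

open Cfsg.Geo Polynomial
open scoped Matrix

variable {F : Type*} [Field F] [Fintype F] {ι : Type} [Fintype ι] [DecidableEq ι]

omit [Fintype F] in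
theorem isField_sub [Nonempty ι] {k : ℕ} {K : Subalgebra F (Matrix ι ι F)} (hK : IsFieldSubalgebra k K) : IsField K := by
  haveI : Nontrivial K := ⟨⟨0, 1, fun h => zero_ne_one (congrArg Subtype.val h :)⟩⟩
  exact { exists_pair_ne := ⟨0, 1, zero_ne_one⟩
          mul_comm := fun a b => Subtype.ext (hK.comm _ a.2 _ b.2)
          mul_inv_cancel := fun {a} ha => by
            obtain ⟨y, hy, h⟩ := hK.inv _ a.2 fun h => ha (Subtype.ext h)
            exact ⟨⟨y, hy⟩, Subtype.ext h⟩ }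

/-- an element of finite prime order in the normalizer is linear or properly semilinear -/
theorem normalizer_dichotomy [Nonempty ι] {k : ℕ} (hk : k.Prime) {K : Subalgebra F (Matrix ι ι F)}
    (hK : IsFieldSubalgebra k K) {g : GL ι F} (hg : g ∈ subalgebraNormalizer K) {r : ℕ} (hr : r.Prime) (hgr : g ^ r = 1) :
    (∀ a ∈ K, g.1 * a = a * g.1) ∨
      (r = k ∧ ∃ σ : K → K, (∀ a, σ a = a → ∃ c : F, a = algebraMap F K c) ∧ ∀ a : K, g.1 * a.1 = (σ a).1 * g.1) := by
  classical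
  letI : Field K := (isField_sub hK).toField
  haveI : Finite K := Subtype.finite
  haveI : FiniteDimensional F K := Module.Finite.of_finite
  have hl : ∀ a : Matrix ι ι F, (g⁻¹).1 * (g.1 * a) = a := fun a => by
    rw [← mul_assoc, ← Units.val_mul, inv_mul_cancel, Units.val_one, one_mul]
  have hrc : ∀ a : Matrix ι ι F, g.1 * ((g⁻¹).1 * a) = a := fun a => by
    rw [← mul_assoc, ← Units.val_mul, mul_inv_cancel, Units.val_one, one_mul]
  let θ : K →ₐ[F] K :=
    { toFun := fun a => ⟨g.1 * a.1 * (g⁻¹).1, (hg a.1).1 a.2⟩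
      map_one' := Subtype.ext (by show g.1 * 1 * (g⁻¹).1 = 1; rw [mul_one, ← Units.val_mul, mul_inv_cancel, Units.val_one])
      map_mul' := fun a b => Subtype.ext (by
        show g.1 * (a.1 * b.1) * (g⁻¹).1 = g.1 * a.1 * (g⁻¹).1 * (g.1 * b.1 * (g⁻¹).1)
        simp only [mul_assoc]
        rw [hl])
      map_zero' := Subtype.ext (by show g.1 * 0 * (g⁻¹).1 = 0; simp)
      map_add' := fun a b => Subtype.ext (by show g.1 * (a.1 + b.1) * (g⁻¹).1 = _; rw [mul_add, add_mul]; rfl)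
      commutes' := fun c => Subtype.ext (by
        show g.1 * (algebraMap F (Matrix ι ι F) c) * (g⁻¹).1 = algebraMap F (Matrix ι ι F) c
        rw [← Algebra.commutes, mul_assoc, ← Units.val_mul, mul_inv_cancel, Units.val_one, mul_one]) }
  obtain ⟨e, he⟩ : ∃ e : K ≃ₐ[F] K, ∀ a, e a = θ a :=
    ⟨AlgEquiv.ofBijective θ (Finite.injective_iff_bijective.1 fun a b h => θ.toRingHom.injective h), fun a => rfl⟩
  have hθ : ∀ a : K, (e a).1 = g.1 * a.1 * (g⁻¹).1 := fun a => by rw [he]; rfl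
  have hmul : ∀ a : K, g.1 * a.1 = (e a).1 * g.1 := fun a => by
    rw [hθ, mul_assoc, ← Units.val_mul, inv_mul_cancel, Units.val_one, mul_one]
  have hpow : ∀ (n : ℕ) (a : K), ((e ^ n) a).1 = (g ^ n).1 * a.1 * ((g ^ n)⁻¹).1 := fun n => by
    induction n with
    | zero => intro a; simp
    | succ n ih =>
      intro a
      rw [pow_succ', pow_succ', AlgEquiv.mul_apply, hθ, ih, Units.val_mul, mul_inv_rev, Units.val_mul]
      simp only [mul_assoc]
  have her : e ^ r = 1 := AlgEquiv.ext fun a => Subtype.ext (by rw [hpow, hgr]; simp)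
  by_cases h1 : e = 1
  · exact Or.inl fun a ha => by simpa [h1] using hmul ⟨a, ha⟩
  refine Or.inr ⟨?_, fun a => e a, fun a ha => ?_, hmul⟩
  · have hoe : orderOf e = r := by
      haveI : Fact r.Prime := ⟨hr⟩
      exact orderOf_eq_prime her h1
    have hd : orderOf e ∣ Nat.card (K ≃ₐ[F] K) := orderOf_dvd_natCard e
    rw [IsGalois.card_aut_eq_finrank, hK.finrank_eq, hoe] at hd
    exact (Nat.prime_dvd_prime_iff_eq hr hk).1 hd
  · haveI := Subalgebra.isSimpleOrder_of_finrank_prime F K (by rw [hK.finrank_eq]; exact hk)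
    rcases eq_bot_or_eq_top (AlgHom.equalizer (e : K →ₐ[F] K) (AlgHom.id F K)) with h | h
    · have hm : a ∈ (⊥ : Subalgebra F K) := h ▸ ha
      obtain ⟨c, hc⟩ := Algebra.mem_bot.1 hm
      exact ⟨c, hc.symm⟩
    · exact absurd (AlgEquiv.ext fun b => ((AlgHom.mem_equalizer _ _ _).1 (h.ge (Algebra.mem_top (x := b))) : (e : K →ₐ[F] K) b = AlgHom.id F K b)) h1

omit [Fintype F] in
/-- kernels of polynomials in conjugate matrices -/
theorem finrank_ker_conj (g x : GL ι F) (P : F[X]) :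
    Module.finrank F (LinearMap.ker (aeval (Matrix.toLin' ((g⁻¹ * x * g : GL ι F) : Matrix ι ι F)) P)) =
      Module.finrank F (LinearMap.ker (aeval (Matrix.toLin' (x : Matrix ι ι F)) P)) := by
  obtain ⟨e, he⟩ : ∃ e : (ι → F) ≃ₗ[F] (ι → F), ∀ v, e v = ((g⁻¹ : GL ι F) : Matrix ι ι F) *ᵥ v :=
    ⟨LinearEquiv.ofLinear (Matrix.toLin' ((g⁻¹ : GL ι F) : Matrix ι ι F)) (Matrix.toLin' (g : Matrix ι ι F))
      (by rw [← Matrix.toLin'_mul, ← Units.val_mul, inv_mul_cancel, Units.val_one, Matrix.toLin'_one])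
      (by rw [← Matrix.toLin'_mul, ← Units.val_mul, mul_inv_cancel, Units.val_one, Matrix.toLin'_one]),
      fun v => Matrix.toLin'_apply _ v⟩
  have h : ∀ u, e.toLinearMap (aeval (Matrix.toLin' (x : Matrix ι ι F)) P u) =
      aeval (Matrix.toLin' ((g⁻¹ * x * g : GL ι F) : Matrix ι ι F)) P (e.toLinearMap u) :=
    fun u => aeval_intertwine (fun u => by
      simp only [LinearEquiv.coe_coe, he, Matrix.toLin'_apply, Matrix.mulVec_mulVec, ← Units.val_mul, mul_assoc,
        mul_inv_cancel, mul_one]) P u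
  have hm : LinearMap.ker (aeval (Matrix.toLin' ((g⁻¹ * x * g : GL ι F) : Matrix ι ι F)) P) =
      (LinearMap.ker (aeval (Matrix.toLin' (x : Matrix ι ι F)) P)).map e.toLinearMap := by
    ext v
    rw [Submodule.mem_map, LinearMap.mem_ker]
    constructor
    · intro hv
      refine ⟨e.symm v, LinearMap.mem_ker.2 (e.injective ?_), e.apply_symm_apply v⟩
      rw [map_zero, ← LinearEquiv.coe_coe, h, LinearEquiv.coe_coe, e.apply_symm_apply, hv]
    · rintro ⟨u, hu, rfl⟩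
      rw [← h, LinearMap.mem_ker.1 hu, map_zero]
  rw [hm, LinearEquiv.finrank_map_eq]

variable {p : ℕ} [Fact p.Prime] [CharP F p] {r : ℕ} [Fact r.Prime] {d : ℕ}

/-- a symplectic element with one block conjugate into the normalizer of an overfield -/
theorem block_of_normalizer (hrp : r ≠ p) (hr2 : r ≠ 2) {k : ℕ} (hk : k.Prime) (hkd : k ≤ d)
    {K : Subalgebra F (Matrix (Fin d ⊕ Fin d) (Fin d ⊕ Fin d) F)} (hK : IsFieldSubalgebra k K) {i c : ℕ}
    (hi : i = orderOf ((Fintype.card F : ℕ) : ZMod r)) (hc : c = if Even i then i else 2 * i)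
    {x g : GL (Fin d ⊕ Fin d) F} (hx : x ∈ Cfsg.spGL d F) (hxr : x ^ r = 1)
    (hxd : Module.finrank F (LinearMap.ker (Matrix.toLin' (x : Matrix (Fin d ⊕ Fin d) (Fin d ⊕ Fin d) F) - 1)) + c = 2 * d)
    (hg : g ∈ Cfsg.spGL d F) (hgx : g⁻¹ * x * g ∈ subalgebraNormalizer K) :
    k ∣ i ∧ ∃ M : Submodule F (Fin d ⊕ Fin d → F), M ≠ ⊥ ∧ (∀ a ∈ K, ∀ u ∈ M, a *ᵥ u ∈ M) ∧
      (∀ u ∈ M, u ≠ 0 → ∃ v ∈ M, Cfsg.sympForm d F u v ≠ 0) ∧
      ∀ h, i = 2 * h → ∀ a ∈ K, ∀ u ∈ M, ∀ v ∈ M, Cfsg.sympForm d F (a *ᵥ u) v =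
        Cfsg.sympForm d F u ((a ^ Fintype.card F ^ h) *ᵥ v) := by
  classical
  have hk2 := hk.two_le
  haveI : Nonempty (Fin d ⊕ Fin d) := ⟨.inl ⟨0, by omega⟩⟩
  letI : Field K := (isField_sub hK).toField
  haveI : Finite K := Subtype.finite
  haveI : FiniteDimensional F K := Module.Finite.of_finite
  obtain ⟨y, hy⟩ : ∃ y, y = g⁻¹ * x * g := ⟨_, rfl⟩
  rw [← hy] at hgx
  have hys : y ∈ Cfsg.spGL d F :=
    hy ▸ (Cfsg.spGL d F).mul_mem ((Cfsg.spGL d F).mul_mem ((Cfsg.spGL d F).inv_mem hg) hx) hg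
  have hyr : y ^ r = 1 := by
    rw [hy, show (g⁻¹ * x * g) ^ r = g⁻¹ * x ^ r * g by simpa using conj_pow (a := g⁻¹) (b := x) (i := r), hxr,
      mul_one, inv_mul_cancel]
  obtain ⟨T, hT⟩ : ∃ T, T = Matrix.toLin' (y : Matrix (Fin d ⊕ Fin d) (Fin d ⊕ Fin d) F) := ⟨_, rfl⟩
  have hTr : T ^ r = 1 := by
    rw [hT, ← Matrix.toLin'_pow, ← Units.val_pow_eq_pow_val, hyr, Units.val_one, Matrix.toLin'_one]; rfl
  have hI : ∀ u v, CfsgLib.Classical.SympCount.sB d F (T u) (T v) = CfsgLib.Classical.SympCount.sB d F u v := fun u v => by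
    rw [hT, Matrix.toLin'_apply, Matrix.toLin'_apply]; exact hys u v
  have hfix : Module.finrank F (LinearMap.ker (T - 1)) + c = 2 * d := by
    have h := finrank_ker_conj g x (X - 1 : F[X])
    rw [map_sub, map_sub, aeval_X, aeval_X, map_one, map_one] at h
    rw [hT, hy, h, hxd]
  have hV : Module.finrank F (Fin d ⊕ Fin d → F) = 2 * d := by
    rw [Module.finrank_fintype_fun_eq_card, Fintype.card_sum, Fintype.card_fin]; ring
  obtain ⟨ρ, hρ⟩ : ∃ ρ : K →ₐ[F] Module.End F (Fin d ⊕ Fin d → F), ∀ a v, ρ a v = a.1 *ᵥ v :=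
    ⟨(Matrix.toLinAlgEquiv' : Matrix (Fin d ⊕ Fin d) (Fin d ⊕ Fin d) F ≃ₐ[F] _).toAlgHom.comp K.val,
      fun a v => Matrix.toLin'_apply a.1 v⟩
  have hipos : 0 < i := hi ▸ order_pos hrp
  rcases normalizer_dichotomy hk hK hgx (Fact.out : r.Prime) hyr with hlin | ⟨hrk, σ, hσ, hsemi⟩
  swap
  · exfalso
    have hle := finrank_fixed_semilinear ρ (T := T) σ hσ fun a v => by
      rw [hρ, hρ, hT, Matrix.toLin'_apply, Matrix.toLin'_apply, Matrix.mulVec_mulVec, Matrix.mulVec_mulVec, hsemi]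
    rw [hK.finrank_eq, hV] at hle
    have hir : i ∣ r - 1 := hi ▸ ZMod.orderOf_dvd_card_sub_one (card_ne_zero_zmod hrp)
    have hr1 : 2 ≤ r := (Fact.out : r.Prime).two_le
    have hcr : c ≤ r - 1 := by
      by_cases hev : Even i
      · rw [if_pos hev] at hc; rw [hc]; exact Nat.le_of_dvd (by omega) hir
      · rw [if_neg hev] at hc
        rw [hc]
        refine Nat.le_of_dvd (by omega) (Nat.Coprime.mul_dvd_of_dvd_of_dvd ?_ ?_ hir)
        · exact Nat.coprime_two_left.2 (Nat.not_even_iff_odd.1 hev)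
        · have := (Fact.out : r.Prime).odd_of_ne_two hr2
          obtain ⟨t, ht⟩ := this
          exact ⟨t, by omega⟩
    have h1 : d + 1 ≤ Module.finrank F (LinearMap.ker (T - 1)) := by omega
    have h2 := Nat.mul_le_mul h1 hk2
    omega
  have hcomm : ∀ a v, T (ρ a v) = ρ a (T v) := fun a v => by
    rw [hρ, hρ, hT, Matrix.toLin'_apply, Matrix.toLin'_apply, Matrix.mulVec_mulVec, Matrix.mulVec_mulVec, hlin _ a.2]
  obtain ⟨M, hM⟩ : ∃ M, M = LinearMap.ker (aeval T (cyclotomic r F)) := ⟨_, rfl⟩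
  obtain ⟨hcm, ho⟩ := fixed_moved (p := p) hrp (B := CfsgLib.Classical.SympCount.sB d F) T hI hTr
  rw [← hM] at hcm ho
  have hsum := Submodule.finrank_add_eq_of_isCompl hcm
  rw [hV] at hsum
  have hMd : Module.finrank F M = c := by omega
  obtain ⟨hdvd, hadj⟩ := block_structure (p := p) hrp hr2 CfsgLib.Classical.SympCount.sB_isAlt
    CfsgLib.Classical.SympCount.sB_nondegenerate hI hTr ρ hcomm hi hc hM hMd
  rw [hK.finrank_eq] at hdvd
  refine ⟨hdvd, M, fun h => ?_, fun a ha u hu => ?_, fun u hu hu0 => ?_, fun h hh a ha u hu v hv => ?_⟩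
  · rw [h, finrank_bot] at hMd; split_ifs at hc <;> omega
  · rw [hM, LinearMap.mem_ker] at hu ⊢
    rw [show a *ᵥ u = ρ ⟨a, ha⟩ u from (hρ ⟨a, ha⟩ u).symm,
      ← aeval_intertwine (f := ρ ⟨a, ha⟩) (fun w => (hcomm _ w).symm) _ u, hu, map_zero]
  · by_contra hno
    push Not at hno
    refine hu0 (CfsgLib.Classical.SympCount.sB_nondegenerate.1 u fun v => ?_)
    obtain ⟨a, ha, b, hb, rfl⟩ := Submodule.mem_sup.1 (hcm.sup_eq_top.ge (Submodule.mem_top (x := v)))
    rw [map_add, show CfsgLib.Classical.SympCount.sB d F u b = 0 from hno b hb,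
      CfsgLib.Classical.SympCount.sB_isAlt.isRefl _ _ (ho a ha u hu), add_zero]
  · have h' := hadj h hh ⟨a, ha⟩ u hu v hv
    rw [hρ, hρ] at h'
    exact h'

end CfsgLib.Perm.Elusive.OverField
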