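import Mathlib
import Cfsg.Agent.Lib.Perm.Elusive.OrthFieldGen
import Cfsg.Agent.Lib.Perm.Elusive.OverFieldNormal
import Cfsg.Agent.Lib.Perm.Elusive.OrthSemisimple
import Cfsg.Agent.Lib.Perm.Elusive.OrthUnipotent
import Cfsg.Agent.Lib.Perm.Elusive.OrthTorus

/-!
# Elements of odd prime order fixing no point of the quadratic field-extension action
-/

set_option autoImplicit false
set_option linter.all false

namespace CfsgLib.Perm.Elusive.OrthField

open CfsgLib.Perm.Elusive Cfsg.Geo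
open scoped Matrix

variable {F : Type*} [Field F] [Fintype F] {ι : Type} [Fintype ι] [DecidableEq ι]
variable {Q : QuadraticForm F (ι → F)}

/-- scalar isometries of odd order -/
theorem scalar_eq_one {x : GL ι F} (hxQ : x ∈ Cfsg.isometryGroup F ⇑Q) {r : ℕ} (hr : Odd r) (hxr : x ^ r = 1)
    {v₁ : ι → F} (hv₁ : Q v₁ ≠ 0) {z : F} (hz : (x : Matrix ι ι F) = z • (1 : Matrix ι ι F)) : x = 1 := by
  have hzz : z * z = 1 := by
    have h := CfsgLib.Classical.mem_isometryGroup_iff.1 hxQ v₁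
    rw [hz, Matrix.smul_mulVec, Matrix.one_mulVec, QuadraticMap.map_smul, smul_eq_mul] at h
    exact mul_right_cancel₀ hv₁ (h.trans (one_mul _).symm)
  obtain ⟨i, hi⟩ : ∃ i, v₁ i ≠ 0 := by
    by_contra h
    push Not at h
    exact hv₁ (by rw [show v₁ = 0 from funext h, map_zero])
  have h4 := congrArg Units.val hxr
  rw [Units.val_pow_eq_pow_val, hz, smul_pow, one_pow, Units.val_one] at h4
  obtain ⟨t, rfl⟩ := hr
  rw [pow_succ, pow_mul, sq, hzz, one_pow, one_mul] at h4
  have hz1 : z = 1 := by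
    have h5 := congrFun (congrFun h4 i) i
    simpa using h5
  exact Units.ext (by rw [hz, hz1, one_smul, Units.val_one])

/-- conjugates of a linear element preserve scalar-stable kernels -/
theorem linear_data {K : Subalgebra F (Matrix ι ι F)} (hK : IsFieldSubalgebra 2 K) [Nonempty ι] {y : GL ι F}
    (hy : y ∈ subalgebraNormalizer K) {n : ℕ} (hn : n.Prime) (hn2 : n ≠ 2) (hyn : y ^ n = 1) :
    ∀ a ∈ K, y.1 * a = a * y.1 := by
  rcases OverField.normalizer_dichotomy Nat.prime_two hK hy hn hyn with h | ⟨h, -⟩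
  · exact h
  · exact absurd h hn2

/-- a unipotent element without fixed points -/
theorem derange_unipotent {p : ℕ} [Fact p.Prime] [CharP F p] (hp2 : p ≠ 2) (hN : (QuadraticMap.polarBilin Q).Nondegenerate)
    (h2 : (2 : F) ≠ 0) {d : ℕ} (hι : Fintype.card ι = 2 * d) (hd : 3 ≤ d) {K : Subalgebra F (Matrix ι ι F)}
    (hK : IsFieldSubalgebra 2 K) :
    ∃ x ∈ omegaGL ⇑Q, x ^ p = 1 ∧ (∀ z : F, (x : Matrix ι ι F) ≠ z • (1 : Matrix ι ι F)) ∧
      ∀ g : GL ι F, g⁻¹ * x * g ∉ subalgebraNormalizer K := by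
  classical
  haveI : Nonempty ι := Fintype.card_pos_iff.1 (by omega)
  have hp : p.Prime := Fact.out
  have hV : Module.finrank F (ι → F) = 2 * d := by rw [Module.finrank_fintype_fun_eq_card, hι]
  obtain ⟨W, -, hWn, hWd, hWp⟩ := exists_sub_type (qnd_top hN) (h := 1) le_rfl (by rw [finrank_top, hV]; omega) True
  obtain ⟨U, hUW, hU0, hUd⟩ := hWp.2 trivial
  obtain ⟨e₀, he₀U, he₀⟩ := Submodule.exists_mem_ne_zero_of_ne_bot (p := U) fun h => by
    rw [h, finrank_bot, hWd] at hUd; omega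
  have heQ : Q e₀ = 0 := hU0 e₀ he₀U
  have hsum := Submodule.finrank_add_eq_of_isCompl (isCompl_orth (polar_refl Q) hWn)
  rw [hWd, hV] at hsum
  obtain ⟨f, hfW, hfQ⟩ : ∃ f ∈ (qB Q).orthogonal W, Q f ≠ 0 := by
    by_contra h
    push Not at h
    have hnd := orth_nd (polar_refl Q) (B := qB Q) hN hWn
    have hbot : (qB Q).orthogonal W = ⊥ := eq_bot_iff.2 fun x hx => (Submodule.mem_bot F).2
      (Submodule.disjoint_def.1 hnd x hx fun y hy => by
        show QuadraticMap.polar Q y x = 0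
        rw [QuadraticMap.polar, h _ (Submodule.add_mem _ hy hx), h y hy, h x hx, sub_zero, sub_zero])
    rw [hbot, finrank_bot] at hsum
    omega
  have hef : qB Q e₀ f = 0 := hfW e₀ (hUW he₀U)
  have hfe : qB Q f e₀ = 0 := (QuadraticMap.polar_comm Q _ _).trans hef
  have hself : ∀ v, qB Q v v = 2 * Q v := fun v => by
    rw [qB_apply, QuadraticMap.polar_self, nsmul_eq_mul]; norm_num
  have hee : qB Q e₀ e₀ = 0 := by rw [hself, heQ, mul_zero]
  obtain ⟨N, hNdef⟩ : ∃ N : Module.End F (ι → F),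
      ∀ v, N v = qB Q v e₀ • f - (qB Q v f + Q f * qB Q v e₀) • e₀ :=
    ⟨((qB Q).flip e₀).smulRight f - ((qB Q).flip f + Q f • (qB Q).flip e₀).smulRight e₀, fun v => by simp⟩
  have hN2 : ∀ v, N (N v) = (-(2 * Q f) * qB Q v e₀) • e₀ := fun v => by
    rw [hNdef v, map_sub, map_smul, map_smul, hNdef, hNdef, hfe, hee, hself f, hef]
    module
  have hN3 : ∀ v, N (N (N v)) = 0 := fun v => by
    rw [hN2 (N v), hNdef, map_sub, map_smul, map_smul, LinearMap.sub_apply, LinearMap.smul_apply, LinearMap.smul_apply,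
      hfe, hee, smul_zero, smul_zero, sub_zero, mul_zero, zero_smul]
  obtain ⟨T, hT⟩ : ∃ T : Module.End F (ι → F), T = 1 + N := ⟨_, rfl⟩
  have hTQ : ∀ v, Q (T v) = Q v := fun v => by
    have e1 : T v = v + (qB Q v e₀ • f + (-(qB Q v f + Q f * qB Q v e₀)) • e₀) := by
      rw [hT, LinearMap.add_apply, Module.End.one_apply, hNdef]; module
    rw [e1, QuadraticMap.map_add (⇑Q), QuadraticMap.map_add (⇑Q), QuadraticMap.map_smul, QuadraticMap.map_smul, heQ,
      QuadraticMap.polar_add_right, QuadraticMap.polar_smul_right, QuadraticMap.polar_smul_right,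
      QuadraticMap.polar_smul_left, QuadraticMap.polar_smul_right, ← qB_apply, ← qB_apply, ← qB_apply, hfe]
    simp only [smul_eq_mul, mul_zero, add_zero]
    ring
  have hTp : T ^ p = 1 := by
    rw [hT]
    refine one_add_pow_char N ?_
    obtain ⟨k, hk⟩ : ∃ k, p = k + 3 := ⟨p - 3, by have := hp.two_le; omega⟩
    rw [hk, pow_add, show N ^ 3 = 0 from LinearMap.ext fun v => by simp [pow_succ, Module.End.mul_apply, hN3], mul_zero]
  obtain ⟨x, hxp, hxv⟩ := exists_gl_of_pow hp.ne_zero hTp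
  have hxI : x ∈ Cfsg.isometryGroup F ⇑Q := CfsgLib.Classical.mem_isometryGroup_iff.2 fun v => by rw [hxv]; exact hTQ v
  have hxO := mem_omega_of_odd (CfsgLib.Orth.nd_of_qf Q hN) (by omega) hxI (hp.odd_of_ne_two hp2) hxp
  have hxT : Matrix.toLin' (x : Matrix ι ι F) = T := LinearMap.ext fun v => by rw [Matrix.toLin'_apply, hxv]
  obtain ⟨w, hw⟩ : ∃ w, qB Q w e₀ ≠ 0 := by
    by_contra h
    push Not at h
    exact he₀ (hN.1 e₀ fun w => (QuadraticMap.polar_comm Q _ _).trans (h w))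
  refine ⟨x, hxO, hxp, fun z hz => ?_, fun g hg => ?_⟩
  · have h1 := scalar_eq_one hxI (hp.odd_of_ne_two hp2) hxp hfQ hz
    have h3 : N (N w) = 0 := by
      have h4 : ∀ v, N v = 0 := fun v => by
        have h5 := hxv v
        rw [h1, Units.val_one, Matrix.one_mulVec, hT, LinearMap.add_apply, Module.End.one_apply, left_eq_add] at h5
        exact h5
      rw [h4]
    rw [hN2, smul_eq_zero] at h3
    exact mul_ne_zero (neg_ne_zero.2 (mul_ne_zero h2 hfQ)) hw (h3.resolve_right he₀)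
  -- the rank of `(T - 1) ^ 2` is one
  letI : Field K := (OverField.isField_sub hK).toField
  obtain ⟨τ, hτ⟩ : ∃ τ : K →ₐ[F] Module.End F (ι → F), ∀ a v, τ a v = a.1 *ᵥ v :=
    ⟨(Matrix.toLinAlgEquiv' : Matrix ι ι F ≃ₐ[F] _).toAlgHom.comp K.val, fun a v => Matrix.toLin'_apply a.1 v⟩
  haveI : Finite K := Subtype.finite
  haveI : FiniteDimensional F K := Module.Finite.of_finite
  obtain ⟨y, hy⟩ : ∃ y, y = g⁻¹ * x * g := ⟨_, rfl⟩
  have hyp : y ^ p = 1 := by
    rw [hy, show (g⁻¹ * x * g) ^ p = g⁻¹ * x ^ p * g by simpa using conj_pow (a := g⁻¹) (b := x) (i := p), hxp,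
      mul_one, inv_mul_cancel]
  have hlin := linear_data hK (hy ▸ hg) hp hp2 hyp
  obtain ⟨Y, hY⟩ : ∃ Y, Y = Matrix.toLin' (y : Matrix ι ι F) := ⟨_, rfl⟩
  obtain ⟨M, hM⟩ : ∃ M, M = LinearMap.ker (Polynomial.aeval Y ((Polynomial.X - 1) ^ 2 : Polynomial F)) := ⟨_, rfl⟩
  have hMd : Module.finrank F M + 1 = 2 * d := by
    rw [hM, hY, hy, OverField.finrank_ker_conj, hxT, map_pow, map_sub, Polynomial.aeval_X, map_one,
      show T - 1 = N by rw [hT]; exact add_sub_cancel_left _ _,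
      show LinearMap.ker (N ^ 2) = LinearMap.ker ((qB Q).flip e₀) by
        ext v
        rw [LinearMap.mem_ker, LinearMap.mem_ker, sq, Module.End.mul_apply, hN2, smul_eq_zero, or_iff_left he₀,
          mul_eq_zero, or_iff_right (neg_ne_zero.2 (mul_ne_zero h2 hfQ))]
        rfl]
    have h := LinearMap.finrank_range_add_finrank_ker ((qB Q).flip e₀)
    rw [show LinearMap.range ((qB Q).flip e₀) = ⊤ from LinearMap.range_eq_top.2 fun c => ⟨(c / qB Q w e₀) • w, by
      simp [div_mul_cancel₀ _ hw]⟩, finrank_top, Module.finrank_self, hV] at h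
    omega
  have hcomm : ∀ a v, Y (τ a v) = τ a (Y v) := fun a v => by
    rw [hτ, hτ, hY, Matrix.toLin'_apply, Matrix.toLin'_apply, Matrix.mulVec_mulVec, Matrix.mulVec_mulVec, hlin _ a.2]
  have hst : ∀ a, ∀ v ∈ M, τ a v ∈ M := fun a v hv => by
    rw [hM, LinearMap.mem_ker] at hv ⊢
    rw [map_pow, map_sub, Polynomial.aeval_X, map_one, sq, Module.End.mul_apply] at hv ⊢
    simp only [LinearMap.sub_apply, Module.End.one_apply, map_sub] at hv ⊢
    rw [hcomm, hcomm, show τ a (Y (Y v)) - τ a (Y v) - (τ a (Y v) - τ a v) = τ a (Y (Y v) - Y v - (Y v - v)) by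
      simp only [map_sub], hv, map_zero]
  have hdvd := OverField.finrank_dvd τ hst
  rw [hK.finrank_eq] at hdvd
  omega

/-- a semisimple element whose moved space has dimension `2` mod `4` -/
theorem derange_semisimple {p : ℕ} [Fact p.Prime] [CharP F p] {r : ℕ} [Fact r.Prime] (hrp : r ≠ p) (hr2 : r ≠ 2)
    (hN : (QuadraticMap.polarBilin Q).Nondegenerate) (h2 : (2 : F) ≠ 0) {d : ℕ} (hι : Fintype.card ι = 2 * d)
    (hd : 3 ≤ d) {K : Subalgebra F (Matrix ι ι F)} (hK : IsFieldSubalgebra 2 K)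
    (hKf : IsSelfAdjointFor (QuadraticMap.polar ⇑Q) K) {i c : ℕ}
    (hi : i = orderOf ((Fintype.card F : ℕ) : ZMod r)) (hc : c = if Even i then i else 2 * i) (hc4 : c % 4 = 2)
    {W : Submodule F (ι → F)} (hW : QNd Q W) (hWd : Module.finrank F W = c) (hWp : QPlus Q W ↔ Odd i) :
    ∃ x ∈ omegaGL ⇑Q, x ^ r = 1 ∧ (∀ z : F, (x : Matrix ι ι F) ≠ z • (1 : Matrix ι ι F)) ∧
      ∀ g ∈ omegaGL ⇑Q, g⁻¹ * x * g ∉ subalgebraNormalizer K := by
  classical
  haveI : Nonempty ι := Fintype.card_pos_iff.1 (by omega)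
  have hr : r.Prime := Fact.out
  have hV : Module.finrank F (ι → F) = 2 * d := by rw [Module.finrank_fintype_fun_eq_card, hι]
  obtain ⟨T, hTQ, hTr, hTk⟩ := exists_orth_element (p := p) hrp hr2 hi hc one_pos hW (by rw [one_mul]; exact hWd)
    (by rw [hWp]; simp)
  obtain ⟨x, hxr, hxv⟩ := exists_gl_of_pow hr.ne_zero hTr
  have hxI : x ∈ Cfsg.isometryGroup F ⇑Q := CfsgLib.Classical.mem_isometryGroup_iff.2 fun v => by rw [hxv]; exact hTQ v
  have hxO := mem_omega_of_odd (CfsgLib.Orth.nd_of_qf Q hN) (by omega) hxI (hr.odd_of_ne_two hr2) hxr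
  have hxT : Matrix.toLin' (x : Matrix ι ι F) = T := LinearMap.ext fun v => by rw [Matrix.toLin'_apply, hxv]
  have hkd : Module.finrank F (LinearMap.ker (T - 1)) + c = 2 * d := by
    have h := Submodule.finrank_add_eq_of_isCompl (isCompl_orth (polar_refl Q) hW)
    rw [hWd, hV, ← hTk] at h
    omega
  refine ⟨x, hxO, hxr, fun z hz => ?_, fun g hg hgx => ?_⟩
  · obtain ⟨v₁, hv₁⟩ : ∃ v₁, Q v₁ ≠ 0 := by
      by_contra h
      push Not at h
      obtain ⟨u, hu⟩ := exists_ne (0 : ι → F)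
      exact hu (hN.1 u fun v => by
        show QuadraticMap.polar Q u v = 0
        rw [QuadraticMap.polar, h, h, h, sub_zero, sub_zero])
    have h1 := scalar_eq_one hxI (hr.odd_of_ne_two hr2) hxr hv₁ hz
    have htop : LinearMap.ker (T - 1) = ⊤ := by
      rw [← hxT, h1, Units.val_one, Matrix.toLin'_one]
      simp [Module.End.one_eq_id]
    rw [htop, finrank_top, hV] at hkd
    omega
  letI : Field K := (OverField.isField_sub hK).toField
  haveI : Finite K := Subtype.finite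
  letI : Fintype K := Fintype.ofFinite K
  haveI : FiniteDimensional F K := Module.Finite.of_finite
  letI : Module K (ι → F) :=
    { smul := fun a v => a.1 *ᵥ v
      one_smul := fun v => Matrix.one_mulVec v
      mul_smul := fun a b v => (Matrix.mulVec_mulVec v a.1 b.1).symm
      smul_zero := fun a => Matrix.mulVec_zero a.1
      smul_add := fun a u v => Matrix.mulVec_add a.1 u v
      add_smul := fun a b v => Matrix.add_mulVec a.1 b.1 v
      zero_smul := fun v => Matrix.zero_mulVec v }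
  have hsm : ∀ (a : K) (v : ι → F), a • v = a.1 *ᵥ v := fun a v => rfl
  haveI : IsScalarTower F K (ι → F) := ⟨fun c a v => Matrix.smul_mulVec c a.1 v⟩
  haveI : FiniteDimensional K (ι → F) := Module.Finite.of_finite
  obtain ⟨δ, e, hδ, hδ0, he, hgen⟩ := exists_sqrt_generator (F := F) (K := K) h2 hK.finrank_eq
  have hQa : ∀ (a : K) (u v : ι → F), qB Q (a • u) v = qB Q u (a • v) := fun a u v => by
    rw [hsm, hsm]; exact hKf _ a.2 u v
  obtain ⟨y, hy⟩ : ∃ y, y = g⁻¹ * x * g := ⟨_, rfl⟩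
  have hyr : y ^ r = 1 := by
    rw [hy, show (g⁻¹ * x * g) ^ r = g⁻¹ * x ^ r * g by simpa using conj_pow (a := g⁻¹) (b := x) (i := r), hxr,
      mul_one, inv_mul_cancel]
  have hgI : g ∈ Cfsg.isometryGroup F ⇑Q := Subgroup.map_subtype_le _ hg
  have hyI : y ∈ Cfsg.isometryGroup F ⇑Q := hy ▸ mul_mem (mul_mem (inv_mem hgI) hxI) hgI
  have hlin := linear_data hK (hy ▸ hgx) hr hr2 hyr
  obtain ⟨Y, hY⟩ : ∃ Y, Y = Matrix.toLin' (y : Matrix ι ι F) := ⟨_, rfl⟩
  have hYQ : ∀ v, Q (Y v) = Q v := fun v => by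
    rw [hY, Matrix.toLin'_apply]; exact CfsgLib.Classical.mem_isometryGroup_iff.1 hyI v
  have hYr : Y ^ r = 1 := by
    rw [hY, ← Matrix.toLin'_pow, ← Units.val_pow_eq_pow_val, hyr, Units.val_one, Matrix.toLin'_one]; rfl
  have hYa : ∀ (a : K) v, Y (a • v) = a • Y v := fun a v => by
    rw [hsm, hsm, hY, Matrix.toLin'_apply, Matrix.toLin'_apply, Matrix.mulVec_mulVec, Matrix.mulVec_mulVec, hlin _ a.2]
  have hfd : Module.finrank F (LinearMap.ker (Y - 1)) + c = 2 * d := by
    have h := OverField.finrank_ker_conj g x (Polynomial.X - 1 : Polynomial F)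
    rw [map_sub, map_sub, Polynomial.aeval_X, Polynomial.aeval_X, map_one, map_one, hxT, ← hy, ← hY] at h
    rw [h]; exact hkd
  obtain ⟨-, -, hEnd, -, -, -, -, -, -, -, -⟩ := orth_structure (p := p) hrp hr2 hN hYQ hYr hi hc
  obtain ⟨E, hE⟩ : ∃ E, E = LinearMap.ker (Y - 1) := ⟨_, rfl⟩
  rw [← hE] at hEnd hfd
  have hEm : ∀ v, v ∈ E ↔ Y v = v := fun v => by rw [hE]; simp [sub_eq_zero]
  have hinj := injective_of_pow_eq_one (r := r) hYr
  have hB : ∀ a b, qB Q (Y a) (Y b) = qB Q a b := fun a b => polar_map hYQ a b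
  -- the moved space over the extension
  obtain ⟨MK, hMK⟩ : ∃ MK : Submodule K (ι → F), ∀ v, v ∈ MK ↔ v ∈ (qB Q).orthogonal E :=
    ⟨{ carrier := {v | v ∈ (qB Q).orthogonal E}
       add_mem' := fun {a b} ha hb => ((qB Q).orthogonal E).add_mem ha hb
       zero_mem' := ((qB Q).orthogonal E).zero_mem
       smul_mem' := fun a v hv u hu => by
        show qB Q u (a • v) = 0
        rw [← hQa]
        exact hv _ ((hEm _).2 (by rw [hYa, (hEm u).1 hu])) }, fun v => Iff.rfl⟩
  have hO := orth_invariant (polar_refl Q) (B := qB Q) hB hinj (W := E) fun u hu => by rw [(hEm u).1 hu]; exact hu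
  obtain ⟨α, hα⟩ : ∃ α : LinearMap.BilinForm F (ι → F), ∀ u v, α u v = qB Q (Y u) v - qB Q u (Y v) :=
    ⟨(qB Q).compl₁₂ Y LinearMap.id - (qB Q).compl₁₂ LinearMap.id Y, fun u v => rfl⟩
  have hαs : ∀ (a : K) u v, α (a • u) v = α u (a • v) := fun a u v => by rw [hα, hα, hYa, hYa, hQa, hQa]
  obtain ⟨bK, hbK⟩ := exists_scalar_form hδ0 he hgen α hαs
  have hc' : ∀ a b, qB Q a b = qB Q b a := fun a b => QuadraticMap.polar_comm Q a b
  have halt : bK.IsAlt := fun u => by
    rw [hbK, hα u u, hc' (Y u) u, sub_self, map_zero, zero_add, hα, hYa, ← hQa, hc' (e • Y u) u, ← hQa, hc' (e • u) (Y u),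
      sub_self, mul_zero, map_zero, zero_mul]
  have hnd : Disjoint MK (bK.orthogonal MK) := by
    rw [disjoint_orth_iff halt.isRefl]
    intro u hu hu0
    by_contra hno
    push Not at hno
    have hu' := (hMK u).1 hu
    have hYu : Y (Y u) = u := by
      refine sub_eq_zero.1 (Submodule.disjoint_def.1 (orth_nd (polar_refl Q) (B := qB Q) hN hEnd) _
        (Submodule.sub_mem _ (hO _ (hO _ hu')) hu') fun v hv => ?_)
      show qB Q v (Y (Y u) - u) = 0
      obtain ⟨w, hw, rfl⟩ : ∃ w ∈ (qB Q).orthogonal E, Y w = v := by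
        refine ⟨(Y ^ (r - 1)) v, ?_, by rw [← Module.End.mul_apply, ← pow_succ', Nat.sub_add_cancel hr.one_le, hYr,
          Module.End.one_apply]⟩
        have : ∀ n, (Y ^ n) v ∈ (qB Q).orthogonal E := fun n => by
          induction n with
          | zero => simpa using hv
          | succ n ih => rw [pow_succ', Module.End.mul_apply]; exact hO _ ih
        exact this _
      have h0 := hno w ((hMK w).2 hw)
      rw [hbK] at h0
      have h1 := (coord_unique hδ he h0).1
      rw [hα] at h1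
      rw [map_sub, hB, hc' w (Y u), hc' (Y w) u]
      exact h1
    exact hu0 (Submodule.disjoint_def.1 hEnd u ((hEm u).2 (fixed_of_sq_fixed hr2 hYr hYu)) hu')
  obtain ⟨m, hm⟩ := even_of_nd halt hnd
  have h4 := Module.finrank_mul_finrank F K MK
  rw [hK.finrank_eq, hm] at h4
  have hfr : Module.finrank F MK = Module.finrank F ((qB Q).orthogonal E) :=
    LinearEquiv.finrank_eq
      { toFun := fun v => ⟨v.1, (hMK v.1).1 v.2⟩
        invFun := fun v => ⟨v.1, (hMK v.1).2 v.2⟩
        map_add' := fun u v => rfl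
        map_smul' := fun a v => rfl }
  have hs := Submodule.finrank_add_eq_of_isCompl (isCompl_orth (polar_refl Q) hEnd)
  rw [hV, ← hfr] at hs
  omega

end CfsgLib.Perm.Elusive.OrthField
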