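import Mathlib
import Cfsg.Agent.Lib.Perm.Elusive.OrthFieldGen
import Cfsg.Agent.Lib.Perm.Elusive.OverFieldNormal
import Cfsg.Agent.Lib.Perm.Elusive.OrthSemisimple
import Cfsg.Agent.Lib.Classical.QuadOrder
import Cfsg.Agent.Lib.Perm.Elusive.OrthTorus

/-!
# Orthogonal groups over a quadratic overfield inside the normalizer
-/

set_option autoImplicit false
set_option linter.all false

namespace CfsgLib.Perm.Elusive.OrthField

open CfsgLib.Perm.Elusive Cfsg.Geo CfsgLib.Classical
open scoped Matrix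

variable {F : Type*} [Field F] [Fintype F]

/-- a block-diagonal isometry of the standard minus form -/
theorem exists_minus_block {K : Type*} [Field K] [Fintype K] {p : ℕ} [Fact p.Prime] [CharP K p] {ℓ : ℕ}
    [Fact ℓ.Prime] (hlp : ℓ ≠ p) (hl : ℓ ∣ Fintype.card K + 1) {a b : K}
    (hab : ∀ z₁ z₂ : K, z₁ ^ 2 + a * z₁ * z₂ + b * z₂ ^ 2 = 0 → z₁ = 0 ∧ z₂ = 0) (m : ℕ) :
    ∃ Z : ((Fin m ⊕ Fin m) ⊕ Fin 2 → K) →ₗ[K] ((Fin m ⊕ Fin m) ⊕ Fin 2 → K),
      (∀ v, Cfsg.quadFormMinus m K a b (Z v) = Cfsg.quadFormMinus m K a b v) ∧ Z ^ ℓ = 1 ∧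
      ∀ v, Z v = v ↔ ∀ j, v (.inr j) = 0 := by
  classical
  obtain ⟨x, hx, hxl, hxf⟩ := exists_minus_fpf (F := K) (r := ℓ) (k := 0) (by simpa using hl) hab
  obtain ⟨A, hA⟩ : ∃ A : ((Fin 0 ⊕ Fin 0) ⊕ Fin 2 → K) →ₗ[K] ((Fin 0 ⊕ Fin 0) ⊕ Fin 2 → K),
      ∀ v, A v = (x : Matrix ((Fin 0 ⊕ Fin 0) ⊕ Fin 2) ((Fin 0 ⊕ Fin 0) ⊕ Fin 2) K) *ᵥ v :=
    ⟨Matrix.toLin' _, fun v => Matrix.toLin'_apply _ v⟩
  obtain ⟨pr, hpr⟩ : ∃ pr : ((Fin m ⊕ Fin m) ⊕ Fin 2 → K) →ₗ[K] ((Fin 0 ⊕ Fin 0) ⊕ Fin 2 → K),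
      ∀ v j, pr v (.inr j) = v (.inr j) :=
    ⟨LinearMap.pi fun s => s.elim (fun e => e.elim Fin.elim0 Fin.elim0) (fun j => LinearMap.proj (Sum.inr j)),
      fun v j => rfl⟩
  obtain ⟨Z, hZl, hZr⟩ : ∃ Z : ((Fin m ⊕ Fin m) ⊕ Fin 2 → K) →ₗ[K] ((Fin m ⊕ Fin m) ⊕ Fin 2 → K),
      (∀ v s, Z v (.inl s) = v (.inl s)) ∧ ∀ v j, Z v (.inr j) = A (pr v) (.inr j) :=
    ⟨LinearMap.pi fun s => s.elim (fun t => LinearMap.proj (Sum.inl t))
        (fun j => (LinearMap.proj (R := K) (φ := fun _ : (Fin 0 ⊕ Fin 0) ⊕ Fin 2 => K) (Sum.inr j)).comp (A.comp pr)),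
      fun v s => rfl, fun v j => rfl⟩
  have hz : ∀ w w' : (Fin 0 ⊕ Fin 0) ⊕ Fin 2 → K, (∀ j, w (.inr j) = w' (.inr j)) → w = w' := fun w w' h => by
    funext s
    rcases s with (e | e) | j
    · exact e.elim0
    · exact e.elim0
    · exact h j
  have hprZ : ∀ v, pr (Z v) = A (pr v) := fun v => hz _ _ fun j => by rw [hpr, hZr]
  have hpow : ∀ (n : ℕ) v, (∀ s, (Z ^ n) v (.inl s) = v (.inl s)) ∧ pr ((Z ^ n) v) =
      ((x ^ n : GL _ K) : Matrix ((Fin 0 ⊕ Fin 0) ⊕ Fin 2) ((Fin 0 ⊕ Fin 0) ⊕ Fin 2) K) *ᵥ pr v := by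
    intro n
    induction n with
    | zero => intro v; simp
    | succ n ih =>
      intro v
      rw [pow_succ', Module.End.mul_apply]
      refine ⟨fun s => by rw [hZl]; exact (ih v).1 s, ?_⟩
      rw [hprZ, (ih v).2, hA, Matrix.mulVec_mulVec, ← Units.val_mul, ← pow_succ']
  refine ⟨Z, fun v => ?_, LinearMap.ext fun v => funext fun s => ?_, fun v => ⟨fun h j => ?_, fun h => funext fun s => ?_⟩⟩
  · have h := mem_isometryGroup_iff.1 hx (pr v)
    rw [← hA] at h
    simp only [Cfsg.quadFormMinus, Finset.univ_eq_empty, Finset.sum_empty, zero_add, hpr] at h ⊢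
    simp only [hZl, hZr]
    linear_combination h
  · rcases s with s | j
    · simpa using (hpow ℓ v).1 s
    · have h := congrFun (hpow ℓ v).2 (.inr j)
      rw [hxl, Units.val_one, Matrix.one_mulVec, hpr, hpr] at h
      simpa using h
  · have h0 : pr v = 0 := hxf _ (hz _ _ fun j => by rw [← hA, ← hZr, h, hpr])
    rw [← hpr v, h0]; rfl
  · rcases s with s | j
    · exact hZl v s
    · rw [hZr, show pr v = 0 from hz _ _ fun j => by rw [hpr, h j]; rfl, map_zero, Pi.zero_apply, h j]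

variable {ι : Type} [Fintype ι] [DecidableEq ι]

/-- the orders of orthogonal groups over the extension divide the order of the normalizer -/
theorem orth_descent {p : ℕ} [Fact p.Prime] [CharP F p] {Q : QuadraticForm F (ι → F)}
    (hN : (QuadraticMap.polarBilin Q).Nondegenerate) (h2 : (2 : F) ≠ 0) {d : ℕ} (hι : Fintype.card ι = 2 * d)
    (hd : 0 < d) {K : Subalgebra F (Matrix ι ι F)} (hK : IsFieldSubalgebra 2 K)
    (hKf : IsSelfAdjointFor (QuadraticMap.polar ⇑Q) K) :
    (∃ m, d = 2 * m + 1 ∧ 2 * (Fintype.card F ^ 2) ^ (m ^ 2) *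
        ∏ l ∈ Finset.range m, ((Fintype.card F ^ 2) ^ (2 * (l + 1)) - 1) ∣
        Nat.card ((subalgebraNormalizer K).subgroupOf (Cfsg.isometryGroup F ⇑Q))) ∨
    ∃ m, d = 2 * m + 2 ∧
      ((QPlus Q ⊤ ∧ 2 * (Fintype.card F ^ 2) ^ ((m + 1) * m) * ((Fintype.card F ^ 2) ^ (m + 1) - 1) *
          ∏ l ∈ Finset.range m, ((Fintype.card F ^ 2) ^ (2 * (l + 1)) - 1) ∣
          Nat.card ((subalgebraNormalizer K).subgroupOf (Cfsg.isometryGroup F ⇑Q))) ∨
        (¬ QPlus Q ⊤ ∧ 2 * (Fintype.card F ^ 2) ^ ((m + 1) * m) * ((Fintype.card F ^ 2) ^ (m + 1) + 1) *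
          ∏ l ∈ Finset.range m, ((Fintype.card F ^ 2) ^ (2 * (l + 1)) - 1) ∣
          Nat.card ((subalgebraNormalizer K).subgroupOf (Cfsg.isometryGroup F ⇑Q)))) := by
  classical
  haveI : Nonempty ι := Fintype.card_pos_iff.1 (by omega)
  letI : Field K := (OverField.isField_sub hK).toField
  haveI : Finite K := Subtype.finite
  letI : Fintype K := Fintype.ofFinite K
  haveI : FiniteDimensional F K := Module.Finite.of_finite
  letI : Module K (ι → F) :=
    { smul := fun a v => a.1 *ᵥ v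
      one_smul := fun v => Matrix.one_mulVec v
      mul_smul := fun a b v => (Matrix.mulVec_mulVec v a.1 b.1).symm
      smul_zero := fun a => Matrix.mulVec_zero a.1
      smul_add := fun a u v => Matrix.mulVec_add a.1 u v
      add_smul := fun a b v => Matrix.add_mulVec a.1 b.1 v
      zero_smul := fun v => Matrix.zero_mulVec v }
  have hsm : ∀ (a : K) (v : ι → F), a • v = a.1 *ᵥ v := fun a v => rfl
  haveI : IsScalarTower F K (ι → F) := ⟨fun c a v => Matrix.smul_mulVec c a.1 v⟩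
  haveI : FiniteDimensional K (ι → F) := Module.Finite.of_finite
  haveI : CharP K p := charP_of_injective_algebraMap (algebraMap F K).injective p
  obtain ⟨δ, e, hδ, hδ0, he, hgen⟩ := exists_sqrt_generator (F := F) (K := K) h2 hK.finrank_eq
  have hQa : ∀ (a : K) (u v : ι → F), qB Q (a • u) v = qB Q u (a • v) := fun a u v => by
    rw [hsm, hsm]; exact hKf _ a.2 u v
  obtain ⟨bK, hbK⟩ := exists_scalar_form hδ0 he hgen (qB Q) hQa
  have h2K : (2 : K) ≠ 0 := by
    rw [show (2 : K) = algebraMap F K 2 by rw [map_ofNat]]; exact (map_ne_zero _).2 h2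
  have hsym := bK_symm hδ he hbK hQa
  obtain ⟨P, hP⟩ : ∃ P : QuadraticForm K (ι → F), ∀ u, P u = 2⁻¹ * bK u u :=
    ⟨LinearMap.BilinMap.toQuadraticMap ((2⁻¹ : K) • bK), fun u => rfl⟩
  have hPp : ∀ u v, QuadraticMap.polar P u v = bK u v := fun u v => by
    simp only [QuadraticMap.polar, hP, map_add, LinearMap.add_apply, hsym v u]
    field_simp
    ring
  have hPN : (QuadraticMap.polarBilin P).Nondegenerate := by
    have key : ∀ u, (∀ v, QuadraticMap.polar P u v = 0) → u = 0 := fun u h =>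
      hN.1 u fun v => (bK_eq_zero hδ he hbK (u := u) (v := v) ((hPp u v).symm.trans (h v))).1
    exact ⟨key, fun v hv => key v fun u => (QuadraticMap.polar_comm _ v u).trans (hv u)⟩
  have hPQ : ∀ u v, P u = P v → Q u = Q v := fun u v h => by
    rw [hP, hP, mul_right_inj' (inv_ne_zero h2K), hbK, hbK] at h
    have h1 := (coord_unique hδ he (s := qB Q u u - qB Q v v)
      (t := δ⁻¹ * qB Q u (e • u) - δ⁻¹ * qB Q v (e • v)) (by rw [map_sub, map_sub, sub_mul]; linear_combination h)).1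
    rw [qB_apply, qB_apply, QuadraticMap.polar_self, QuadraticMap.polar_self, sub_eq_zero, nsmul_eq_mul,
      nsmul_eq_mul] at h1
    exact mul_left_cancel₀ h2 (by simpa using h1)
  have hP0 : ∀ u, P u = 0 → Q u = 0 := fun u h => by
    rw [hPQ u 0 (by rw [h, map_zero]), map_zero]
  have hKc : Fintype.card K = Fintype.card F ^ 2 := by rw [Module.card_eq_pow_finrank (K := F), hK.finrank_eq]
  have hdK : Module.finrank K (ι → F) = d := by
    have h := Module.finrank_mul_finrank F K (ι → F)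
    rw [hK.finrank_eq, Module.finrank_fintype_fun_eq_card, hι] at h
    omega
  -- isometries over the extension lie in the normalizer
  have hhom : ∀ {κ : Type} [Fintype κ] [DecidableEq κ] (φ : (κ → K) ≃ₗ[K] (ι → F)) (ν : K) (f : (κ → K) → K),
      (∀ v, P (φ v) = ν * f v) →
      Nat.card (Cfsg.isometryGroup K f) ∣ Nat.card ((subalgebraNormalizer K).subgroupOf (Cfsg.isometryGroup F ⇑Q)) := by
    intro κ _ _ φ ν f hf
    obtain ⟨L, hL⟩ : ∃ L : Matrix κ κ K → ((ι → F) →ₗ[F] (ι → F)), ∀ M v, L M v = φ (M *ᵥ φ.symm v) :=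
      ⟨fun M => ((φ.toLinearMap.comp (Matrix.toLin' M)).comp φ.symm.toLinearMap).restrictScalars F,
        fun M v => by simp [Matrix.toLin'_apply]⟩
    let hom₀ : Cfsg.isometryGroup K f →* Matrix ι ι F :=
      { toFun := fun y => LinearMap.toMatrix' (L y.1.1)
        map_one' := by
          rw [show L ((1 : Cfsg.isometryGroup K f).1.1) = LinearMap.id from LinearMap.ext fun v => by
            rw [hL, OneMemClass.coe_one, Units.val_one, Matrix.one_mulVec, φ.apply_symm_apply]; rfl,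
            LinearMap.toMatrix'_id]
        map_mul' := fun y z => by
          rw [← LinearMap.toMatrix'_comp]
          congr 1
          refine LinearMap.ext fun v => ?_
          rw [LinearMap.comp_apply, hL, hL, hL, φ.symm_apply_apply, Matrix.mulVec_mulVec]
          rfl }
    have hv : ∀ y v, (hom₀.toHomUnits y : Matrix ι ι F) *ᵥ v = φ (y.1.1 *ᵥ φ.symm v) := fun y v => by
      show LinearMap.toMatrix' (L y.1.1) *ᵥ v = _
      rw [LinearMap.toMatrix'_mulVec, hL]
    have hO : ∀ y, hom₀.toHomUnits y ∈ Cfsg.isometryGroup F ⇑Q := fun y => mem_isometryGroup_iff.2 fun v => by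
      refine hPQ _ _ ?_
      rw [hv, hf, mem_isometryGroup_iff.1 y.2, ← hf, φ.apply_symm_apply]
    have hmem : ∀ y, (hom₀.toHomUnits.codRestrict _ hO) y ∈ (subalgebraNormalizer K).subgroupOf (Cfsg.isometryGroup F ⇑Q) := by
      intro y
      rw [Subgroup.mem_subgroupOf]
      obtain ⟨g, hg⟩ : ∃ g, g = hom₀.toHomUnits y := ⟨_, rfl⟩
      show hom₀.toHomUnits y ∈ subalgebraNormalizer K
      rw [← hg]
      have hcom : ∀ a ∈ K, g.1 * a = a * g.1 := fun a ha => Matrix.ext_iff_mulVec.2 fun v => by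
        rw [← Matrix.mulVec_mulVec, ← Matrix.mulVec_mulVec, hg, hv, hv, show a *ᵥ v = (⟨a, ha⟩ : K) • v from rfl,
          map_smul, Matrix.mulVec_smul, map_smul]
        rfl
      intro a
      constructor
      · intro ha
        rwa [hcom a ha, mul_assoc, ← Units.val_mul, mul_inv_cancel, Units.val_one, mul_one]
      · intro ha
        have h := hcom _ ha
        have e1 : g.1 * (g.1 * a * (g⁻¹).1) = g.1 * a := by
          rw [h, mul_assoc (g.1 * a), ← Units.val_mul, inv_mul_cancel, Units.val_one, mul_one]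
        have e2 : g.1 * a * (g⁻¹).1 = a := (Units.mul_right_inj g).1 e1
        rwa [e2] at ha
    refine Subgroup.card_dvd_of_injective ((hom₀.toHomUnits.codRestrict _ hO).codRestrict _ hmem) fun y z h =>
      Subtype.ext (Units.ext (Matrix.ext_iff_mulVec.2 fun w => ?_))
    obtain ⟨v, rfl⟩ := φ.symm.surjective w
    have h' : hom₀.toHomUnits y = hom₀.toHomUnits z := congrArg (fun t => (t.1.1 : GL ι F)) h
    have h1 := hv y v
    rw [h', hv] at h1
    exact φ.injective h1.symm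
  rcases Nat.even_or_odd' d with ⟨t, ht | ht⟩
  swap
  · subst ht
    refine Or.inl ⟨t, rfl, ?_⟩
    obtain ⟨ν, L, -, hLi, hL⟩ := CfsgLib.Orth.FieldCls.exists_odd_normal h2K P hPN (m := t) hdK
    obtain ⟨φ, hφ⟩ : ∃ φ : (Unit ⊕ (Fin t ⊕ Fin t) → K) ≃ₗ[K] (ι → F), ∀ v, φ v = L v :=
      ⟨LinearMap.linearEquivOfInjective L hLi (by
        rw [Module.finrank_fintype_fun_eq_card, Fintype.card_sum, Fintype.card_sum, Fintype.card_unit, Fintype.card_fin,
          hdK]; omega), fun v => rfl⟩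
    have h := hhom φ ν (Cfsg.quadFormOdd t K) fun v => by rw [hφ]; exact hL v
    rwa [card_iso_odd h2K t, hKc] at h
  obtain ⟨m, rfl⟩ : ∃ m, t = m + 1 := ⟨t - 1, by omega⟩
  refine Or.inr ⟨m, by omega, ?_⟩
  obtain ⟨a, b, hab⟩ := CfsgLib.IsometryConj.exists_anisotropic_binary (F := K)
  have htop : Module.finrank F (⊤ : Submodule F (ι → F)) = 4 * (m + 1) := by
    rw [finrank_top, Module.finrank_fintype_fun_eq_card, hι]; omega
  rcases CfsgLib.Orth.FieldCls.exists_even_normal P hPN (k := m) (by rw [hdK]; omega) hab with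
    ⟨L, hLi, hL⟩ | ⟨L, hLi, hL⟩
  · obtain ⟨φ, hφ⟩ : ∃ φ : (Fin (m + 1) ⊕ Fin (m + 1) → K) ≃ₗ[K] (ι → F), ∀ v, φ v = L v :=
      ⟨LinearMap.linearEquivOfInjective L hLi (by
        rw [Module.finrank_fintype_fun_eq_card, Fintype.card_sum, Fintype.card_fin, hdK]; omega), fun v => rfl⟩
    refine Or.inl ⟨?_, ?_⟩
    · obtain ⟨inc, hinc⟩ : ∃ inc : (Fin (m + 1) → K) →ₗ[K] (Fin (m + 1) ⊕ Fin (m + 1) → K),
          ∀ c, inc c = Sum.elim c 0 :=
        ⟨{ toFun := fun c => Sum.elim c 0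
           map_add' := fun c c' => by ext (i | i) <;> simp
           map_smul' := fun c c' => by ext (i | i) <;> simp }, fun c => rfl⟩
      have hinj : Function.Injective (φ.toLinearMap.comp inc) := fun c c' h => funext fun j => by
        have h' := congrFun (φ.injective h) (.inl j)
        rwa [hinc, hinc] at h'
      refine ⟨(LinearMap.range (φ.toLinearMap.comp inc)).restrictScalars F, le_top, ?_, ?_⟩
      · rintro _ ⟨c, rfl⟩
        refine hP0 _ ?_
        rw [LinearMap.comp_apply, LinearEquiv.coe_coe, hφ, hL, hinc]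
        simp [Cfsg.quadFormPlus]
      · rw [htop]
        have h1 := Module.finrank_mul_finrank F K (LinearMap.range (φ.toLinearMap.comp inc))
        rw [hK.finrank_eq, LinearMap.finrank_range_of_inj hinj, Module.finrank_fintype_fun_eq_card, Fintype.card_fin] at h1
        have h2 : Module.finrank F ((LinearMap.range (φ.toLinearMap.comp inc)).restrictScalars F) =
            Module.finrank F (LinearMap.range (φ.toLinearMap.comp inc)) := rfl
        omega
    · have h := hhom φ 1 (Cfsg.quadFormPlus (m + 1) K) fun v => by rw [hφ, hL, one_mul]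
      rwa [card_iso_plus m, hKc] at h
  · obtain ⟨φ, hφ⟩ : ∃ φ : ((Fin m ⊕ Fin m) ⊕ Fin 2 → K) ≃ₗ[K] (ι → F), ∀ v, φ v = L v :=
      ⟨LinearMap.linearEquivOfInjective L hLi (by
        rw [Module.finrank_fintype_fun_eq_card, Fintype.card_sum, Fintype.card_sum, Fintype.card_fin, Fintype.card_fin,
          hdK]; omega), fun v => rfl⟩
    refine Or.inr ⟨?_, ?_⟩
    swap
    · have h := hhom φ 1 (Cfsg.quadFormMinus m K a b) fun v => by rw [hφ, hL, one_mul]
      rwa [card_iso_minus hab m, hKc] at h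
    -- an element of order dividing `q ^ 2 + 1` shows that the type is minus
    have hqo : Odd (Fintype.card F) := Nat.odd_iff.2 (FiniteField.odd_card_of_char_ne_two fun h => h2 (by
      haveI : CharP F 2 := ringChar.of_eq h
      exact CharTwo.two_eq_zero))
    obtain ⟨u, hu⟩ := hqo
    obtain ⟨ℓ, hℓ, hℓ2, hℓd⟩ : ∃ ℓ, ℓ.Prime ∧ ℓ ≠ 2 ∧ ℓ ∣ Fintype.card F ^ 2 + 1 := by
      obtain ⟨n, hn⟩ : ∃ n, Fintype.card F ^ 2 + 1 = 2 * n ∧ Odd n ∧ 1 < n := by
        refine ⟨2 * (u * u + u) + 1, by rw [hu]; ring, odd_two_mul_add_one _, ?_⟩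
        have : 1 ≤ u := by
          have := Fintype.one_lt_card (α := F)
          omega
        nlinarith
      refine ⟨n.minFac, Nat.minFac_prime (by omega), fun h => ?_, hn.1 ▸ (Nat.minFac_dvd n).mul_left 2⟩
      exact Nat.not_even_iff_odd.2 hn.2.1 (even_iff_two_dvd.2 (h ▸ Nat.minFac_dvd n))
    haveI : Fact ℓ.Prime := ⟨hℓ⟩
    have hℓp : ℓ ≠ p := by
      rintro rfl
      obtain ⟨n, hn', hn⟩ := FiniteField.card F ℓ
      have h1 : ℓ ∣ Fintype.card F ^ 2 := by
        rw [hn]; exact dvd_pow (dvd_pow_self _ n.pos.ne') two_ne_zero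
      exact hℓ.one_lt.ne' (Nat.dvd_one.1 ((Nat.dvd_add_right h1).1 hℓd))
    have hi4 : (4 : ℕ) = orderOf ((Fintype.card F : ℕ) : ZMod ℓ) := by
      have hm : ((Fintype.card F : ℕ) : ZMod ℓ) ^ 2 = -1 := by
        rw [eq_neg_iff_add_eq_zero, ← Nat.cast_pow, ← Nat.cast_one, ← Nat.cast_add, ZMod.natCast_eq_zero_iff]
        exact hℓd
      rw [show (4 : ℕ) = 2 ^ (1 + 1) by norm_num, orderOf_eq_prime_pow (p := 2) (n := 1)]
      · rw [pow_one, hm]
        exact (one_ne_neg_one_zmod hℓ2).symm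
      · rw [show (2 : ℕ) ^ (1 + 1) = 2 * 2 by norm_num, pow_mul, hm, neg_one_sq]
    obtain ⟨Z, hZ, hZl, hZf⟩ := exists_minus_block (K := K) (p := p) hℓp (by rw [hKc]; exact hℓd) hab m
    obtain ⟨T, hT⟩ : ∃ T : (ι → F) →ₗ[F] (ι → F), ∀ v, T v = φ (Z (φ.symm v)) :=
      ⟨((φ.toLinearMap.comp Z).comp φ.symm.toLinearMap).restrictScalars F, fun v => rfl⟩
    have hTQ : ∀ v, Q (T v) = Q v := fun v => hPQ _ _ (by
      rw [hT, hφ, hL, hZ, ← hL, ← hφ, φ.apply_symm_apply])
    have hTn : ∀ n v, (T ^ n) v = φ ((Z ^ n) (φ.symm v)) := fun n => by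
      induction n with
      | zero => intro v; simp
      | succ n ih => intro v; rw [pow_succ', Module.End.mul_apply, ih, hT, φ.symm_apply_apply, pow_succ']; rfl
    have hTl : T ^ ℓ = 1 := LinearMap.ext fun v => by rw [hTn, hZl]; simp
    obtain ⟨M, k, hE, hMn, -, hEM, htopEM, hMd, hdim, hex, -⟩ :=
      orth_structure (p := p) hℓp hℓ2 hN hTQ hTl hi4 (c := 4) (if_pos (by decide)).symm
    obtain ⟨inc, hinc⟩ : ∃ inc : (Fin m ⊕ Fin m → K) →ₗ[K] ((Fin m ⊕ Fin m) ⊕ Fin 2 → K), ∀ c, inc c = Sum.elim c 0 :=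
      ⟨{ toFun := fun c => Sum.elim c 0
         map_add' := fun c c' => by ext (i | i) <;> simp
         map_smul' := fun c c' => by ext (i | i) <;> simp }, fun c => rfl⟩
    obtain ⟨inc₁, hinc₁⟩ : ∃ inc₁ : (Fin m → K) →ₗ[K] (Fin m ⊕ Fin m → K), ∀ c, inc₁ c = Sum.elim c 0 :=
      ⟨{ toFun := fun c => Sum.elim c 0
         map_add' := fun c c' => by ext (i | i) <;> simp
         map_smul' := fun c c' => by ext (i | i) <;> simp }, fun c => rfl⟩
    have hker : LinearMap.ker (T - 1) = (LinearMap.range (φ.toLinearMap.comp inc)).restrictScalars F := by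
      refine SetLike.ext fun v => ?_
      rw [LinearMap.mem_ker, LinearMap.sub_apply, Module.End.one_apply, sub_eq_zero, hT, Submodule.restrictScalars_mem]
      constructor
      · intro h
        rw [← LinearEquiv.eq_symm_apply] at h
        refine ⟨fun s => φ.symm v (.inl s), ?_⟩
        rw [LinearMap.comp_apply, LinearEquiv.coe_coe, ← LinearEquiv.eq_symm_apply, hinc]
        funext s
        rcases s with s | j
        · rfl
        · exact ((hZf _).1 h j).symm
      · rintro ⟨c, rfl⟩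
        rw [LinearMap.comp_apply, LinearEquiv.coe_coe, φ.symm_apply_apply, (hZf _).2 fun j => by rw [hinc]; rfl]
    have hinj : Function.Injective (φ.toLinearMap.comp inc) := fun c c' h => funext fun s => by
      have h' := congrFun (φ.injective h) (.inl s)
      rwa [hinc, hinc] at h'
    have hinj₁ : Function.Injective ((φ.toLinearMap.comp inc).comp inc₁) := fun c c' h => funext fun s => by
      have h' := congrFun (hinj h) (.inl s)
      rwa [hinc₁, hinc₁] at h'
    have hEd : Module.finrank F (LinearMap.ker (T - 1)) = 4 * m := by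
      rw [hker]
      have h1 := Module.finrank_mul_finrank F K (LinearMap.range (φ.toLinearMap.comp inc))
      rw [hK.finrank_eq, LinearMap.finrank_range_of_inj hinj, Module.finrank_fintype_fun_eq_card, Fintype.card_sum,
        Fintype.card_fin] at h1
      have h2 : Module.finrank F ((LinearMap.range (φ.toLinearMap.comp inc)).restrictScalars F) =
          Module.finrank F (LinearMap.range (φ.toLinearMap.comp inc)) := rfl
      omega
    have hEp : QPlus Q (LinearMap.ker (T - 1)) := by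
      refine ⟨(LinearMap.range ((φ.toLinearMap.comp inc).comp inc₁)).restrictScalars F, ?_, ?_, ?_⟩
      · rw [hker]
        rintro _ ⟨c, rfl⟩
        exact ⟨_, rfl⟩
      · rintro _ ⟨c, rfl⟩
        refine hP0 _ ?_
        rw [LinearMap.comp_apply, LinearMap.comp_apply, LinearEquiv.coe_coe, hφ, hL, hinc, hinc₁]
        simp [Cfsg.quadFormMinus]
      · rw [hEd]
        have h1 := Module.finrank_mul_finrank F K (LinearMap.range ((φ.toLinearMap.comp inc).comp inc₁))
        rw [hK.finrank_eq, LinearMap.finrank_range_of_inj hinj₁, Module.finrank_fintype_fun_eq_card, Fintype.card_fin] at h1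
        have h2 : Module.finrank F ((LinearMap.range ((φ.toLinearMap.comp inc).comp inc₁)).restrictScalars F) =
            Module.finrank F (LinearMap.range ((φ.toLinearMap.comp inc).comp inc₁)) := rfl
        omega
    rw [← finrank_top F (ι → F), htop, hEd] at hdim
    have hk1 : k = 1 := by omega
    subst hk1
    obtain ⟨W, hWM, -, -, hWd, hWp⟩ := hex 1 le_rfl
    rw [Submodule.eq_of_le_of_finrank_eq hWM (hWd.trans hMd.symm)] at hWp
    intro hV
    rw [← htopEM, qplus_sup_iff hE hMn hEM (h := 2 * m) (h' := 2) (by omega) (by omega), hWp] at hV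
    rcases hV.1 hEp with h | h
    · exact Nat.not_even_iff_odd.2 h (by decide)
    · exact Nat.not_even_iff_odd.2 odd_one h

end CfsgLib.Perm.Elusive.OrthField
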