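import Mathlib
import Cfsg.Agent.Lib.Perm.Elusive.OrthFieldGen

/-!
# Involutions of an orthogonal space move into the normalizer of a quadratic overfield
-/

set_option autoImplicit false
set_option linter.all false

namespace CfsgLib.Perm.Elusive.OrthField

open CfsgLib.Perm.Elusive

variable {F : Type*} [Field F] [Fintype F] {K : Type*} [Field K] [Algebra F K]
variable {V : Type*} [AddCommGroup V] [Module F V] [FiniteDimensional F V]
variable {Q : QuadraticForm F V}

theorem qB_self (v : V) : qB Q v v = 2 * Q v := by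
  rw [qB_apply, QuadraticMap.polar_self, nsmul_eq_mul]; norm_num

/-- spans of orthogonal anisotropic families -/
theorem family_nd (h2 : (2 : F) ≠ 0) {κ : Type*} [Fintype κ] {w : κ → V}
    (ho : ∀ i j, i ≠ j → qB Q (w i) (w j) = 0) (hne : ∀ i, Q (w i) ≠ 0) :
    Disjoint (Submodule.span F (Set.range w)) ((qB Q).orthogonal (Submodule.span F (Set.range w))) ∧
      Module.finrank F (Submodule.span F (Set.range w)) = Fintype.card κ := by
  classical
  have h2Q : ∀ i, qB Q (w i) (w i) ≠ 0 := fun i => by rw [qB_self]; exact mul_ne_zero h2 (hne i)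
  refine ⟨?_, finrank_span_eq_card (LinearMap.BilinForm.linearIndependent_of_iIsOrtho (B := qB Q) ho fun i h => h2Q i h)⟩
  rw [Submodule.disjoint_def]
  intro x hx hxo
  obtain ⟨c, rfl⟩ := (Submodule.mem_span_range_iff_exists_fun F).1 hx
  refine Finset.sum_eq_zero fun k _ => ?_
  have h := hxo (w k) (Submodule.subset_span ⟨k, rfl⟩)
  change qB Q (w k) (∑ i, c i • w i) = 0 at h
  rw [map_sum, Finset.sum_eq_single k (fun i _ hi => by rw [map_smul, ho k i hi.symm, smul_zero])
    (fun h => absurd (Finset.mem_univ k) h), map_smul, smul_eq_mul] at h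
  rw [(mul_eq_zero.1 h).resolve_right (h2Q k), zero_smul]

theorem exists_anisotropic_of_nd (h2 : (2 : F) ≠ 0) {S : Submodule F V}
    (hS : Disjoint S ((qB Q).orthogonal S)) (hpos : 0 < Module.finrank F S) : ∃ v ∈ S, Q v ≠ 0 := by
  by_contra h
  push Not at h
  have hS0 : S = ⊥ := eq_bot_iff.2 fun x hx => (Submodule.mem_bot F).2 (Submodule.disjoint_def.1 hS x hx fun y hy => by
    show QuadraticMap.polar Q y x = 0
    rw [QuadraticMap.polar, h _ (S.add_mem hy hx), h y hy, h x hx, sub_zero, sub_zero])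
  rw [hS0, finrank_bot] at hpos
  omega

/-- orthogonal bases of pairs -/
theorem exists_pair_basis (h2 : (2 : F) ≠ 0) {S : Submodule F V} (hS : Disjoint S ((qB Q).orthogonal S)) {m : ℕ}
    (hm : Module.finrank F S = 2 * m) :
    ∃ w : Fin m ⊕ Fin m → V, (∀ i, w i ∈ S) ∧ (∀ i j, i ≠ j → qB Q (w i) (w j) = 0) ∧ (∀ i, Q (w i) ≠ 0) ∧
      Submodule.span F (Set.range w) = S := by
  classical
  haveI : Invertible (2 : F) := invertibleOfNonzero h2
  have hs : LinearMap.IsSymm ((qB Q).restrict S) := ⟨fun u v => QuadraticMap.polar_comm Q u v⟩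
  obtain ⟨b, hb⟩ := LinearMap.BilinForm.exists_orthogonal_basis hs
  let f : Fin m ⊕ Fin m ≃ Fin (Module.finrank F S) := finSumFinEquiv.trans (finCongr (by omega))
  have ho : ∀ i j, i ≠ j → qB Q ((b i : S) : V) ((b j : S) : V) = 0 := fun i j h => hb h
  have hne : ∀ i, Q ((b i : S) : V) ≠ 0 := fun i hi => by
    refine b.ne_zero i (Subtype.ext (Submodule.disjoint_def.1 hS _ (b i).2 fun y hy => ?_))
    have h0 : ((qB Q).restrict S).flip (b i) = 0 := b.ext fun j => by
      show qB Q ((b j : S) : V) ((b i : S) : V) = 0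
      by_cases hij : j = i
      · rw [hij, qB_self, hi, mul_zero]
      · exact ho j i hij
    exact LinearMap.congr_fun h0 ⟨y, hy⟩
  refine ⟨fun i => ((b (f i) : S) : V), fun i => (b (f i)).2, fun i j h => ho _ _ fun e => h (f.injective e),
    fun i => hne _, ?_⟩
  refine le_antisymm (Submodule.span_le.2 (by rintro _ ⟨i, rfl⟩; exact (b (f i)).2)) fun x hx => ?_
  rw [show x = ((∑ i, b.repr ⟨x, hx⟩ i • b i : S) : V) by rw [b.sum_repr], AddSubmonoidClass.coe_finset_sum]
  exact Submodule.sum_mem _ fun i _ => Submodule.smul_mem _ _ (Submodule.subset_span ⟨f.symm i, by simp⟩)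

/-- skew frames of a square root of minus one -/
theorem exists_skew_frame (h2 : (2 : F) ≠ 0) (hN : (QuadraticMap.polarBilin Q).Nondegenerate) {T : V →ₗ[F] V}
    (hT : ∀ v, Q (T v) = Q v) (hTT : ∀ v, T (T v) = -v) {d : ℕ} (hd : Module.finrank F V = 2 * d) :
    ∀ n < d + 1, ∃ u : Fin n → V, (∀ i, Q (Sum.elim u (fun j => T (u j)) i) ≠ 0) ∧
      ∀ i j, i ≠ j → qB Q (Sum.elim u (fun j => T (u j)) i) (Sum.elim u (fun j => T (u j)) j) = 0 := by
  classical
  have hI : ∀ a b, qB Q (T a) (T b) = qB Q a b := fun a b => by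
    simp only [qB_apply, QuadraticMap.polar, ← map_add, hT]
  have hc : ∀ a b, qB Q a b = qB Q b a := fun a b => QuadraticMap.polar_comm Q a b
  have hsk : ∀ a b, qB Q (T a) b = -qB Q a (T b) := fun a b => by
    rw [← hI a (T b), hTT, map_neg, neg_neg]
  have h0 : ∀ a, qB Q (T a) a = 0 := fun a => by
    have h : qB Q (T a) a = -qB Q (T a) a := (hsk a a).trans (by rw [hc a])
    exact (mul_eq_zero.1 (show (2 : F) * qB Q (T a) a = 0 by linear_combination h)).resolve_left h2
  intro n
  induction n with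
  | zero => exact fun _ => ⟨Fin.elim0, fun i => i.elim Fin.elim0 Fin.elim0, fun i => i.elim Fin.elim0 Fin.elim0⟩
  | succ n ih =>
    intro hn
    obtain ⟨u, hu0, huo⟩ := ih (by omega)
    obtain ⟨hnd, hfr⟩ := family_nd h2 huo hu0
    obtain ⟨S, hS⟩ : ∃ S, S = Submodule.span F (Set.range (Sum.elim u fun j => T (u j))) := ⟨_, rfl⟩
    rw [← hS] at hnd hfr
    have hc' := isCompl_orth (polar_refl Q) hnd
    have hsum := Submodule.finrank_add_eq_of_isCompl hc'
    rw [hfr, Fintype.card_sum, Fintype.card_fin, hd] at hsum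
    obtain ⟨x, hx, hxQ⟩ := exists_anisotropic_of_nd h2 (orth_nd (polar_refl Q) (B := qB Q) hN hnd) (by omega)
    have hxo : ∀ i, qB Q (Sum.elim u (fun j => T (u j)) i) x = 0 := fun i => hx _ (hS ▸ Submodule.subset_span ⟨i, rfl⟩)
    have hTxo : ∀ i, qB Q (Sum.elim u (fun j => T (u j)) i) (T x) = 0 := by
      rintro (j | j)
      · have h := hxo (.inr j)
        simp only [Sum.elim_inr, hsk] at h
        simpa using h
      · show qB Q (T (u j)) (T x) = 0
        rw [hI]; exact hxo (.inl j)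
    refine ⟨Fin.cons x u, ?_, ?_⟩
    · rintro (i | i) <;> cases i using Fin.cases
      · simpa using hxQ
      · rename_i j; simpa using hu0 (.inl j)
      · simpa [hT] using hxQ
      · rename_i j; simpa using hu0 (.inr j)
    · have hord : ∀ i : Fin n, qB Q (u i) x = 0 ∧ qB Q (T (u i)) x = 0 ∧ qB Q (u i) (T x) = 0 ∧
          qB Q (T (u i)) (T x) = 0 := fun i => ⟨hxo (.inl i), hxo (.inr i), hTxo (.inl i), hTxo (.inr i)⟩
      rintro (i | i) (j | j) hij <;> cases i using Fin.cases <;> cases j using Fin.cases <;>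
        simp only [Sum.elim_inl, Sum.elim_inr, Fin.cons_zero, Fin.cons_succ]
      all_goals first
        | exact absurd rfl hij
        | exact h0 _
        | (rw [hc]; exact h0 _)
        | exact (hord _).1
        | exact (hord _).2.1
        | exact (hord _).2.2.1
        | exact (hord _).2.2.2
        | (rw [hc]; exact (hord _).1)
        | (rw [hc]; exact (hord _).2.1)
        | (rw [hc]; exact (hord _).2.2.1)
        | (rw [hc]; exact (hord _).2.2.2)
        | skip
      all_goals rename_i i j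
      · exact huo (.inl i) (.inl j) (by simpa using hij)
      · exact huo (.inl i) (.inr j) (by simp)
      · exact huo (.inr i) (.inl j) (by simp)
      · exact huo (.inr i) (.inr j) (by simpa using hij)

variable [Module K V] [IsScalarTower F K V] [FiniteDimensional K V] [Finite K]
variable {δ : F} {e : K} {bK : LinearMap.BilinForm K V}

/-- the extension line of a plane vector -/
theorem e_smul_mem (he : e * e = algebraMap F K δ)
    (hgen : ∀ a : K, ∃ s t : F, a = algebraMap F K s + algebraMap F K t * e) (h2 : (2 : F) ≠ 0) {u : V} {k : K}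
    (hu : Q u ≠ 0) (hku : Q (k • u) ≠ 0) (ho : qB Q u (k • u) = 0) {S : Submodule F V} (h1 : u ∈ S)
    (h2' : k • u ∈ S) : e • u ∈ S ∧ e • k • u ∈ S := by
  obtain ⟨s, t, rfl⟩ := hgen k
  rw [coord_smul] at h2' hku ho ⊢
  have ht : t ≠ 0 := fun h => by
    rw [h, zero_smul, add_zero] at hku ho
    rw [map_smul, qB_self, smul_eq_mul] at ho
    rw [(mul_eq_zero.1 ho).resolve_right (mul_ne_zero h2 hu), zero_smul, map_zero] at hku
    exact hku rfl
  have he' : e • u ∈ S := by
    have h := S.smul_mem t⁻¹ (S.sub_mem h2' (S.smul_mem s h1))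
    rwa [add_sub_cancel_left, smul_smul, inv_mul_cancel₀ ht, one_smul] at h
  refine ⟨he', ?_⟩
  rw [smul_add, smul_comm e s u, smul_comm e t (e • u), ← mul_smul e e, he, alg_smul]
  exact S.add_mem (S.smul_mem _ he') (S.smul_mem _ (S.smul_mem _ h1))

section

variable (hδ : ¬ IsSquare δ) (he : e * e = algebraMap F K δ)
  (hgen : ∀ a : K, ∃ s t : F, a = algebraMap F K s + algebraMap F K t * e)
  (hbK : ∀ u v, bK u v = algebraMap F K (qB Q u v) + algebraMap F K (δ⁻¹ * qB Q u (e • v)) * e)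
  (hQ : ∀ (a : K) (u v : V), qB Q (a • u) v = qB Q u (a • v))
  (h2 : (2 : F) ≠ 0) (hN : (QuadraticMap.polarBilin Q).Nondegenerate)
include hδ he hgen hbK hQ h2 hN

omit hgen in
theorem bK_top_nd : Disjoint (⊤ : Submodule K V) (bK.orthogonal ⊤) := by
  rw [disjoint_orth_iff (bK_refl hδ he hbK hQ)]
  intro u _ hu
  by_contra hno
  push Not at hno
  exact hu (hN.1 u fun v => (bK_eq_zero hδ he hbK (hno v Submodule.mem_top)).1)

/-- a frame over the extension, and an isometry moving a given family there -/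
theorem exists_moved_frame {d m : ℕ} (hd : Module.finrank K V = d) (hm : m + 1 ≤ d) {w : Fin m ⊕ Fin m → V}
    (ho : ∀ i j, i ≠ j → qB Q (w i) (w j) = 0) (hne : ∀ i, Q (w i) ≠ 0) :
    ∃ (g : V ≃ₗ[F] V) (k : Fin m → K), (∀ v, Q (g v) = Q v) ∧ (∀ j, g (w (.inr j)) = k j • g (w (.inl j))) ∧
      (∀ j, bK (g (w (.inl j))) (g (w (.inl j))) ≠ 0) ∧
      ∀ y ∈ (Submodule.span F (Set.range w)).map g.toLinearMap, e • y ∈ (Submodule.span F (Set.range w)).map g.toLinearMap := by
  classical
  obtain ⟨u, k, -, h1, h2', h3, h4, h5⟩ := exists_kframe hδ he hbK h2 hQ m (fun j => Q (w (.inl j))) (fun j => Q (w (.inr j)))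
    (fun j => hne _) (fun j => hne _) ⊤ (bK_top_nd hδ he hbK hQ h2 hN) (by rw [finrank_top, hd]; exact hm)
  obtain ⟨g, hg, hgw⟩ := exists_frame_map h2 hN (w := w) (w' := Sum.elim u fun j => k j • u j) ho (by
    rintro (i | i) (j | j) hij <;> simp only [Sum.elim_inl, Sum.elim_inr]
    · exact (bK_eq_zero hδ he hbK (h5 i j fun h => hij (by rw [h]))).1
    · by_cases h : i = j
      · subst h; exact h3 i
      · exact bK_orth hδ he hbK (h5 i j h) hgen _
    · by_cases h : i = j
      · subst h; rw [qB_apply, QuadraticMap.polar_comm]; exact h3 i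
      · rw [qB_apply, QuadraticMap.polar_comm]; exact bK_orth hδ he hbK (h5 j i (Ne.symm h)) hgen _
    · rw [hQ, ← mul_smul]; exact bK_orth hδ he hbK (h5 i j fun h => hij (by rw [h])) hgen _) hne (by
    rintro (j | j)
    · exact h1 j
    · exact h2' j)
  refine ⟨g, k, hg, fun j => ?_, fun j => ?_, ?_⟩
  · rw [hgw, hgw]; rfl
  · rw [hgw]; exact h4 j
  · rw [Submodule.map_span, ← Set.range_comp, show (g.toLinearMap : V → V) ∘ w = Sum.elim u fun j => k j • u j from funext hgw]
    intro y hy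
    obtain ⟨S, hS⟩ : ∃ S, S = Submodule.span F (Set.range (Sum.elim u fun j => k j • u j)) := ⟨_, rfl⟩
    rw [← hS] at hy ⊢
    have hle : S ≤ S.comap ((LinearMap.lsmul K V e).restrictScalars F) := by
      conv_lhs => rw [hS]
      rw [Submodule.span_le]
      rintro _ ⟨i, rfl⟩
      obtain ⟨j, hj⟩ : ∃ j, i = .inl j ∨ i = .inr j := by rcases i with j | j <;> exact ⟨j, by simp⟩
      obtain ⟨r1, r2⟩ := e_smul_mem he hgen h2 (h1 j ▸ hne (.inl j)) (h2' j ▸ hne (.inr j)) (h3 j) (S := S)
        (hS ▸ Submodule.subset_span ⟨.inl j, rfl⟩) (hS ▸ Submodule.subset_span ⟨.inr j, rfl⟩)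
      rcases hj with rfl | rfl
      · exact r1
      · exact r2
    exact hle hy

/-- involutions -/
theorem invol_linear {T : V →ₗ[F] V} (hT : ∀ v, Q (T v) = Q v) (hTT : ∀ v, T (T v) = v) {d m : ℕ}
    (hd : Module.finrank K V = d) (hdF : Module.finrank F V = 2 * d) (hm : Module.finrank F (LinearMap.ker (T + 1)) = 2 * m)
    (hmd : m < d) :
    ∃ (g : V ≃ₗ[F] V) (v₀ : V), (∀ v, Q (g v) = Q v) ∧ Q v₀ ≠ 0 ∧ g (T (g.symm v₀)) = v₀ ∧
      ∀ v, g (T (g.symm (e • v))) = e • g (T (g.symm v)) := by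
  classical
  obtain ⟨S, hS⟩ : ∃ S, S = LinearMap.ker (T + 1) := ⟨_, rfl⟩
  rw [← hS] at hm
  have hSm : ∀ v, v ∈ S ↔ T v = -v := fun v => by rw [hS]; simp [add_eq_zero_iff_eq_neg]
  have hI : ∀ a b, qB Q (T a) (T b) = qB Q a b := fun a b => by
    simp only [qB_apply, QuadraticMap.polar, ← map_add, hT]
  have hmid : ∀ v, ((1 / 2 : F) • (v - T v)) ∈ S ∧ T ((1 / 2 : F) • (v + T v)) = (1 / 2 : F) • (v + T v) := fun v =>
    ⟨(hSm _).2 (by rw [map_smul, map_sub, hTT]; module), by rw [map_smul, map_add, hTT]; module⟩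
  have hperp : ∀ s ∈ S, ∀ p, T p = p → qB Q s p = 0 := fun s hs p hp => by
    have h := hI s p
    rw [(hSm s).1 hs, hp, map_neg, LinearMap.neg_apply] at h
    exact (mul_eq_zero.1 (show (2 : F) * qB Q s p = 0 by linear_combination -h)).resolve_left h2
  have hhalf : ∀ v : V, (1 / 2 : F) • (v - T v) + (1 / 2 : F) • (v + T v) = v := fun v => by
    rw [← smul_add, show v - T v + (v + T v) = (2 : F) • v by rw [two_smul]; abel, smul_smul, div_mul_cancel₀ _ h2, one_smul]
  have hSnd : Disjoint S ((qB Q).orthogonal S) := by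
    rw [Submodule.disjoint_def]
    intro s hs hso
    refine hN.1 s fun v => ?_
    show qB Q s v = 0
    rw [← hhalf v, map_add, hperp s hs _ (hmid v).2, add_zero, qB_apply, QuadraticMap.polar_comm]
    exact hso _ (hmid v).1
  obtain ⟨w, hwS, hwo, hwn, hwsp⟩ := exists_pair_basis h2 hSnd hm
  obtain ⟨g, k, hg, -, -, hst⟩ := exists_moved_frame hδ he hgen hbK hQ h2 hN hd (by omega) hwo hwn
  rw [hwsp] at hst
  have hgI : ∀ a b, qB Q (g a) (g b) = qB Q a b := fun a b => by
    simp only [qB_apply, QuadraticMap.polar, ← map_add, hg]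
  -- the orthogonal complement of `S` is fixed
  have hfix : ∀ p, (∀ s ∈ S, qB Q s p = 0) → T p = p := fun p hp => by
    have h0 : (1 / 2 : F) • (p - T p) = 0 := Submodule.disjoint_def.1 hSnd _ (hmid p).1 fun s hs => by
      show qB Q s _ = 0
      have h := hp s hs
      rw [← hhalf p, map_add, hperp s hs _ (hmid p).2, add_zero] at h
      exact h
    rw [smul_eq_zero, sub_eq_zero] at h0
    exact (h0.resolve_left (one_div_ne_zero h2)).symm
  have hc' := isCompl_orth (polar_refl Q) hSnd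
  have hsum := Submodule.finrank_add_eq_of_isCompl hc'
  rw [hm, hdF] at hsum
  obtain ⟨p, hp, hpQ⟩ := exists_anisotropic_of_nd h2 (orth_nd (polar_refl Q) (B := qB Q) hN hSnd) (by omega)
  refine ⟨g, g p, hg, by rw [hg]; exact hpQ, by rw [g.symm_apply_apply, hfix p fun s hs => hp s hs], fun v => ?_⟩
  obtain ⟨a, ha⟩ : ∃ a, a = g.symm v := ⟨_, rfl⟩
  obtain ⟨s, hsdef⟩ : ∃ s, s = (1 / 2 : F) • (a - T a) := ⟨_, rfl⟩
  obtain ⟨t, htdef⟩ : ∃ t, t = (1 / 2 : F) • (a + T a) := ⟨_, rfl⟩
  have hv : v = g s + g t := by rw [← map_add, hsdef, htdef, hhalf, ha, g.apply_symm_apply]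
  have hs : s ∈ S := hsdef ▸ (hmid a).1
  have ht : T t = t := htdef ▸ (hmid a).2
  obtain ⟨s', hs', hes⟩ : ∃ s' ∈ S, g s' = e • g s := hst _ ⟨s, hs, rfl⟩
  have het : T (g.symm (e • g t)) = g.symm (e • g t) := hfix _ fun y hy => by
    obtain ⟨y', hy', hey⟩ : ∃ y' ∈ S, g y' = e • g y := hst _ ⟨y, hy, rfl⟩
    rw [← hgI, g.apply_symm_apply, ← hQ, ← hey, hgI]
    exact hperp y' hy' t ht
  rw [hv, smul_add, map_add, map_add, map_add, map_add, map_add, map_add, g.symm_apply_apply, g.symm_apply_apply, het,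
    ← hes, g.symm_apply_apply, (hSm s').1 hs', (hSm s).1 hs, ht, g.apply_symm_apply, map_neg, map_neg, smul_add, smul_neg,
    ← hes]

/-- square roots of minus one -/
theorem invol_semilinear {T : V →ₗ[F] V} (hT : ∀ v, Q (T v) = Q v) (hTT : ∀ v, T (T v) = -v) {d : ℕ}
    (hd : Module.finrank K V = d) (hd0 : 0 < d) (hdF : Module.finrank F V = 2 * d) :
    ∃ (g : V ≃ₗ[F] V) (v₀ : V), (∀ v, Q (g v) = Q v) ∧ Q v₀ ≠ 0 ∧
      (∀ v, g (T (g.symm (e • v))) = -(e • g (T (g.symm v)))) ∧
      ∀ R : V →ₗ[F] V, (∀ v, R v = v - ((Q v₀)⁻¹ * qB Q v v₀) • v₀) →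
        ∀ v, R (g (T (g.symm (R (e • v))))) = -(e • R (g (T (g.symm (R v))))) := by
  classical
  obtain ⟨n, rfl⟩ : ∃ n, d = n + 1 := ⟨d - 1, by omega⟩
  obtain ⟨u, hu0, huo⟩ := exists_skew_frame h2 hN hT hTT hdF n (by omega)
  obtain ⟨g, k, hg, hgk, hgb, hst⟩ := exists_moved_frame hδ he hgen hbK hQ h2 hN hd le_rfl huo hu0
  obtain ⟨S, hS⟩ : ∃ S, S = Submodule.span F (Set.range (Sum.elim u fun j => T (u j))) := ⟨_, rfl⟩
  rw [← hS] at hst
  have hgk' : ∀ j, g (T (u j)) = k j • g (u j) := hgk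
  obtain ⟨hnd, hfr⟩ := family_nd h2 huo hu0
  rw [← hS] at hnd hfr
  have hgI : ∀ a b, qB Q (g a) (g b) = qB Q a b := fun a b => by
    simp only [qB_apply, QuadraticMap.polar, ← map_add, hg]
  have hI : ∀ a b, qB Q (T a) (T b) = qB Q a b := fun a b => by
    simp only [qB_apply, QuadraticMap.polar, ← map_add, hT]
  have hsum := Submodule.finrank_add_eq_of_isCompl (isCompl_orth (polar_refl Q) hnd)
  rw [hfr, Fintype.card_sum, Fintype.card_fin, hdF] at hsum
  obtain ⟨O, hO⟩ : ∃ O, O = (qB Q).orthogonal S := ⟨_, rfl⟩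
  rw [← hO] at hsum
  obtain ⟨p, hp, hpQ⟩ := exists_anisotropic_of_nd h2 (orth_nd (polar_refl Q) (B := qB Q) hN hnd) (by rw [← hO]; omega)
  rw [← hO] at hp
  obtain ⟨v₀, hv₀⟩ : ∃ v₀, v₀ = g p := ⟨_, rfl⟩
  have hOg : ∀ x, x ∈ O → ∀ y ∈ S, qB Q y x = 0 := fun x hx => by rw [hO] at hx; exact hx
  -- the complement of the moved frame is the line through `v₀`
  have hev : ∀ x ∈ O, g x ∈ Submodule.span K {v₀} := by
    have heO : g.symm (e • v₀) ∈ O := hO ▸ fun y hy => by
      show qB Q y _ = 0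
      obtain ⟨y', hy', hey⟩ : ∃ y' ∈ S, g y' = e • g y := hst _ ⟨y, hy, rfl⟩
      rw [← hgI, g.apply_symm_apply, ← hQ, ← hey, hv₀, hgI]
      exact hOg p hp y' hy'
    have hli : LinearIndependent F ![p, g.symm (e • v₀)] := LinearIndependent.pair_iff.2 fun a b h => by
      have h' := congrArg g h
      rw [map_add, map_smul, map_smul, g.apply_symm_apply, ← hv₀, map_zero, ← coord_smul] at h'
      have hne : v₀ ≠ 0 := fun h0 => hpQ (by rw [← hg, ← hv₀, h0, map_zero])
      exact coord_unique hδ he ((smul_eq_zero.1 h').resolve_right hne)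
    have hsp : Submodule.span F (Set.range ![p, g.symm (e • v₀)]) = O := by
      refine Submodule.eq_of_le_of_finrank_eq (Submodule.span_le.2 ?_) (by rw [finrank_span_eq_card hli, Fintype.card_fin]; omega)
      rintro _ ⟨j, rfl⟩
      fin_cases j
      · exact hp
      · exact heO
    intro x hx
    obtain ⟨c, rfl⟩ := (Submodule.mem_span_range_iff_exists_fun F).1 (hsp.ge hx)
    rw [Fin.sum_univ_two]
    simp only [Matrix.cons_val_zero, Matrix.cons_val_one, map_add, map_smul, g.apply_symm_apply, ← hv₀, ← coord_smul]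
    exact Submodule.smul_mem _ _ (Submodule.mem_span_singleton_self v₀)
  have hdec : ∀ v, ∃ s ∈ S, ∃ x ∈ O, v = g s + g x := fun v => by
    obtain ⟨s, hs, x, hx, h⟩ := Submodule.mem_sup.1 ((isCompl_orth (polar_refl Q) hnd).sup_eq_top.ge
      (Submodule.mem_top (x := g.symm v)))
    exact ⟨s, hs, x, hO ▸ hx, by rw [← map_add, h, g.apply_symm_apply]⟩
  have hv₀b : bK v₀ v₀ ≠ 0 := fun h => hpQ (by
    have h1 := (bK_eq_zero hδ he hbK h).1
    rw [qB_self, hv₀, hg] at h1
    exact (mul_eq_zero.1 h1).resolve_left h2)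
  have hTO : ∀ x ∈ O, T x ∈ O := fun x hx => hO ▸ fun y hy => by
    show qB Q y _ = 0
    obtain ⟨y', hy', rfl⟩ : ∃ y' ∈ S, T y' = y := by
      refine ⟨-T y, S.neg_mem ?_, by rw [map_neg, hTT, neg_neg]⟩
      have hle : S ≤ S.comap T := by
        conv_lhs => rw [hS]
        rw [Submodule.span_le]
        rintro _ ⟨i | i, rfl⟩
        · exact hS ▸ Submodule.subset_span ⟨.inr i, rfl⟩
        · show T (T (u i)) ∈ S
          rw [hTT]; exact S.neg_mem (hS ▸ Submodule.subset_span ⟨.inl i, rfl⟩)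
      exact hle hy
    rw [hI]; exact hOg x hx y' hy'
  have hmain : ∀ z : V →ₗ[F] V, (∀ v, Q (z v) = Q v) → (∀ v, z (z v) = -v) →
      (∀ s ∈ S, z (g s) = g (T s)) → (∀ x ∈ O, z (g x) ∈ Submodule.span K {v₀}) → ∀ v, z (e • v) = -(e • z v) := by
    intro z hz hzz hzS hzO v
    obtain ⟨L, hL⟩ : ∃ L : V →ₗ[F] V, ∀ v, L v = z (e • v) + e • z v :=
      ⟨z.comp ((LinearMap.lsmul K V e).restrictScalars F) + ((LinearMap.lsmul K V e).restrictScalars F).comp z,
        fun v => rfl⟩
    suffices h : L v = 0 by rw [hL] at h; exact eq_neg_of_add_eq_zero_left h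
    have hL0 : ∀ {c v : V}, v ∈ Submodule.span K {c} → bK c c ≠ 0 → z c ∈ Submodule.span K {c} →
        z (e • c) ∈ Submodule.span K {c} → L v = 0 := fun {c v} hv hc hzc hze => by
      rw [hL, anticomm_line hδ he hbK hgen hQ hz hzz hc hzc hze v hv, neg_add_cancel]
    obtain ⟨s, hs, x, hx, rfl⟩ := hdec v
    rw [map_add]
    have h1 : S.map g.toLinearMap ≤ LinearMap.ker L := by
      rw [hS, Submodule.map_span, Submodule.span_le, ← Set.range_comp]
      rintro _ ⟨i, rfl⟩
      obtain ⟨j, hj⟩ : ∃ j, i = .inl j ∨ i = .inr j := by rcases i with j | j <;> exact ⟨j, by simp⟩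
      have hzu : z (g (u j)) = k j • g (u j) := by
        rw [hzS _ (hS ▸ Submodule.subset_span ⟨.inl j, rfl⟩)]; exact hgk j
      have hzk : z (k j • g (u j)) = -g (u j) := by rw [← hzu, hzz]
      have hko : qB Q (g (u j)) (k j • g (u j)) = 0 := by
        rw [← hgk' j, hgI]; exact huo (.inl j) (.inr j) (by simp)
      have hkQ : Q (k j • g (u j)) ≠ 0 := by rw [← hgk' j, hg]; exact hu0 (.inr j)
      obtain ⟨hm1, -⟩ := e_smul_mem he hgen h2 (show Q (g (u j)) ≠ 0 by rw [hg]; exact hu0 (.inl j)) hkQ hko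
        (S := ((Submodule.span K {g (u j)}).restrictScalars F).comap z ⊓ (Submodule.span K {g (u j)}).restrictScalars F)
        ⟨by show z (g (u j)) ∈ Submodule.span K {g (u j)}; rw [hzu]; exact Submodule.smul_mem _ _ (Submodule.mem_span_singleton_self _),
          Submodule.mem_span_singleton_self _⟩
        ⟨by show z (k j • g (u j)) ∈ Submodule.span K {g (u j)}; rw [hzk]; exact Submodule.neg_mem _ (Submodule.mem_span_singleton_self _),
          Submodule.smul_mem _ _ (Submodule.mem_span_singleton_self _)⟩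
      refine LinearMap.mem_ker.2 (hL0 (c := g (u j)) ?_ (hgb j) (hzu ▸ Submodule.smul_mem _ _ (Submodule.mem_span_singleton_self _)) hm1.1)
      rcases hj with rfl | rfl
      · exact Submodule.mem_span_singleton_self _
      · show g (T (u j)) ∈ _
        rw [show g (T (u j)) = k j • g (u j) from hgk j]
        exact Submodule.smul_mem _ _ (Submodule.mem_span_singleton_self _)
    rw [show L (g s) = 0 from LinearMap.mem_ker.1 (h1 ⟨s, hs, rfl⟩), zero_add]
    have hze : z (e • v₀) ∈ Submodule.span K {v₀} := by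
      obtain ⟨s', hs', x', hx', hsx⟩ := hdec (e • v₀)
      have hs0 : g s' = 0 := by
        have : s' = 0 := Submodule.disjoint_def.1 hnd s' hs' fun y hy => by
          show qB Q y s' = 0
          obtain ⟨y', hy', hey⟩ : ∃ y' ∈ S, g y' = e • g y := hst _ ⟨y, hy, rfl⟩
          have h1 : qB Q (g y) (e • v₀) = 0 := by
            rw [← hQ, ← hey, hv₀, hgI]; exact hOg p hp y' hy'
          rw [hsx, map_add, hgI, hgI, hOg x' hx' y hy, add_zero] at h1
          exact h1
        rw [this, map_zero]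
      rw [hsx, hs0, zero_add]
      exact hzO x' hx'
    exact hL0 (hev x hx) hv₀b (hv₀ ▸ hzO p hp) hze
  refine ⟨g, v₀, hg, by rw [hv₀, hg]; exact hpQ, ?_, ?_⟩
  · exact hmain (g.toLinearMap.comp (T.comp g.symm.toLinearMap))
      (fun v => by show Q (g (T (g.symm v))) = Q v; rw [hg, hT, ← hg, g.apply_symm_apply])
      (fun v => by
        show g (T (g.symm (g (T (g.symm v))))) = -v
        rw [g.symm_apply_apply, hTT, map_neg, g.apply_symm_apply])
      (fun s _ => by show g (T (g.symm (g s))) = g (T s); rw [g.symm_apply_apply])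
      fun x hx => by
        show g (T (g.symm (g x))) ∈ _
        rw [g.symm_apply_apply]; exact hev _ (hTO x hx)
  · intro R hR
    have hvQ : Q v₀ ≠ 0 := by rw [hv₀, hg]; exact hpQ
    have hRR : ∀ v, R (R v) = v := fun v => by
      rw [hR, hR v]
      simp only [map_sub, map_smul, LinearMap.sub_apply, LinearMap.smul_apply, smul_eq_mul, qB_self]
      have : ((Q v₀)⁻¹ * (qB Q v v₀ - (Q v₀)⁻¹ * qB Q v v₀ * (2 * Q v₀))) = -((Q v₀)⁻¹ * qB Q v v₀) := by
        field_simp; ring
      rw [this]; module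
    have hRQ : ∀ v, Q (R v) = Q v := fun v => by
      rw [hR, sub_eq_add_neg, ← neg_smul, QuadraticMap.map_add (⇑Q), QuadraticMap.map_smul, QuadraticMap.polar_smul_right]
      rw [smul_eq_mul, smul_eq_mul, ← qB_apply]
      field_simp
      ring
    have hRS : ∀ s ∈ S, R (g s) = g s := fun s hs => by
      rw [hR, hv₀, hgI, hOg p hp s hs, mul_zero, zero_smul, sub_zero]
    have hRO : ∀ y ∈ Submodule.span K {v₀}, R y ∈ Submodule.span K {v₀} := fun y hy => by
      rw [hR]
      refine Submodule.sub_mem _ hy ?_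
      rw [← algebraMap_smul K]
      exact Submodule.smul_mem _ _ (Submodule.mem_span_singleton_self _)
    exact hmain (R.comp ((g.toLinearMap.comp (T.comp g.symm.toLinearMap)).comp R))
      (fun v => by show Q (R (g (T (g.symm (R v))))) = Q v; rw [hRQ, hg, hT, ← hg, g.apply_symm_apply, hRQ])
      (fun v => by
        show R (g (T (g.symm (R (R (g (T (g.symm (R v))))))))) = -v
        rw [hRR, g.symm_apply_apply, hTT, map_neg, g.apply_symm_apply, map_neg, hRR])
      (fun s hs => by
        show R (g (T (g.symm (R (g s))))) = g (T s)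
        rw [hRS s hs, g.symm_apply_apply, hRS]
        have hle : S ≤ S.comap T := by
          conv_lhs => rw [hS]
          rw [Submodule.span_le]
          rintro _ ⟨i | i, rfl⟩
          · exact hS ▸ Submodule.subset_span ⟨.inr i, rfl⟩
          · show T (T (u i)) ∈ S
            rw [hTT]; exact S.neg_mem (hS ▸ Submodule.subset_span ⟨.inl i, rfl⟩)
        exact hle hs)
      fun x hx => by
        show R (g (T (g.symm (R (g x))))) ∈ _
        refine hRO _ ?_
        obtain ⟨s', hs', x', hx', hsx⟩ := hdec (R (g x))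
        have hs0 : g s' = 0 := by
          have : s' = 0 := Submodule.disjoint_def.1 hnd s' hs' fun y hy => by
            show qB Q y s' = 0
            have h1 : qB Q (g y) (R (g x)) = 0 := by
              rw [hR, map_sub, map_smul, hgI, hOg x hx y hy, hv₀, hgI y p, hOg p hp y hy, smul_zero, sub_zero]
            rw [hsx, map_add, hgI, hgI, hOg x' hx' y hy, add_zero] at h1
            exact h1
          rw [this, map_zero]
        rw [hsx, hs0, zero_add, g.symm_apply_apply]
        exact hev _ (hTO x' hx')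

end

end CfsgLib.Perm.Elusive.OrthField
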