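import Mathlib
import Cfsg.Agent.Lib.Perm.Elusive.SympPrime

/-!
# Frames of hyperbolic pairs in symplectic spaces
-/

set_option autoImplicit false
set_option linter.all false

namespace CfsgLib.Perm.Elusive.OverField

variable {F : Type*} [Field F] {V : Type*} [AddCommGroup V] [Module F V] {B : LinearMap.BilinForm F V}

/-- mutually orthogonal pairs with prescribed values -/
structure IsPairs (B : LinearMap.BilinForm F V) {κ : Type*} (c : κ → F) (u v : κ → V) : Prop where
  val : ∀ j, B (u j) (v j) = c j
  uu : ∀ j l, B (u j) (u l) = 0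
  vv : ∀ j l, B (v j) (v l) = 0
  uv : ∀ j l, j ≠ l → B (u j) (v l) = 0

theorem IsPairs.combine (hA : B.IsAlt) {κ κ' : Type*} {c : κ → F} {c' : κ' → F} {u v : κ → V} {u' v' : κ' → V}
    (h : IsPairs B c u v) (h' : IsPairs B c' u' v') {S S' : Submodule F V} (hu : ∀ j, u j ∈ S) (hv : ∀ j, v j ∈ S)
    (hu' : ∀ j, u' j ∈ S') (hv' : ∀ j, v' j ∈ S') (ho : ∀ x ∈ S, ∀ y ∈ S', B x y = 0) :
    IsPairs B (Sum.elim c c') (Sum.elim u u') (Sum.elim v v') where
  val j := by rcases j with j | j; exacts [h.val j, h'.val j]
  uu j l := by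
    rcases j with j | j <;> rcases l with l | l
    exacts [h.uu j l, ho _ (hu j) _ (hu' l), hA.isRefl _ _ (ho _ (hu l) _ (hu' j)), h'.uu j l]
  vv j l := by
    rcases j with j | j <;> rcases l with l | l
    exacts [h.vv j l, ho _ (hv j) _ (hv' l), hA.isRefl _ _ (ho _ (hv l) _ (hv' j)), h'.vv j l]
  uv j l hjl := by
    rcases j with j | j <;> rcases l with l | l
    exacts [h.uv j l fun e => hjl (congrArg Sum.inl e), ho _ (hu j) _ (hv' l), hA.isRefl _ _ (ho _ (hv l) _ (hu' j)),
      h'.uv j l fun e => hjl (congrArg Sum.inr e)]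

theorem IsPairs.linearIndependent (hA : B.IsAlt) {κ : Type*} [Fintype κ] {c : κ → F} {u v : κ → V}
    (h : IsPairs B c u v) (hc : ∀ j, c j ≠ 0) : LinearIndependent F (Sum.elim u v) := by
  classical
  rw [Fintype.linearIndependent_iff]
  intro s hs
  rw [Fintype.sum_sum_type] at hs
  simp only [Sum.elim_inl, Sum.elim_inr] at hs
  rintro (l | l)
  · have h1 := congrArg (fun x => B x (v l)) hs
    simp only [map_add, map_sum, map_smul, LinearMap.add_apply, LinearMap.coe_sum, Finset.sum_apply,
      LinearMap.smul_apply, map_zero, LinearMap.zero_apply, h.vv, smul_zero, Finset.sum_const_zero, add_zero] at h1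
    rw [Finset.sum_eq_single l (fun j _ hj => by rw [h.uv j l hj, smul_zero])
      (fun hl => absurd (Finset.mem_univ l) hl), h.val, smul_eq_mul] at h1
    exact (mul_eq_zero.1 h1).resolve_right (hc l)
  · have h1 := congrArg (fun x => B (u l) x) hs
    simp only [map_add, map_sum, map_smul, map_zero, h.uu, smul_zero, Finset.sum_const_zero, zero_add] at h1
    rw [Finset.sum_eq_single l (fun j _ hj => by rw [h.uv l j (Ne.symm hj), smul_zero])
      (fun hl => absurd (Finset.mem_univ l) hl), h.val, smul_eq_mul] at h1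
    exact (mul_eq_zero.1 h1).resolve_right (hc l)

variable [FiniteDimensional F V]

/-- two frames with the same values differ by an isometry -/
theorem exists_frame_map (hA : B.IsAlt) {κ : Type*} [Fintype κ] {c : κ → F} (hc : ∀ j, c j ≠ 0) {u v u' v' : κ → V}
    (h : IsPairs B c u v) (h' : IsPairs B c u' v') (hV : Module.finrank F V = 2 * Fintype.card κ) :
    ∃ G : V ≃ₗ[F] V, (∀ x y, B (G x) (G y) = B x y) ∧ (∀ j, G (u j) = u' j) ∧ ∀ j, G (v j) = v' j := by
  classical
  rcases isEmpty_or_nonempty κ with hκ | hκ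
  · exact ⟨LinearEquiv.refl F V, fun x y => rfl, fun j => isEmptyElim j, fun j => isEmptyElim j⟩
  have hcard : Fintype.card (κ ⊕ κ) = Module.finrank F V := by rw [Fintype.card_sum, hV]; ring
  let b := basisOfLinearIndependentOfCardEqFinrank (h.linearIndependent hA hc) hcard
  let b' := basisOfLinearIndependentOfCardEqFinrank (h'.linearIndependent hA hc) hcard
  have hb : ∀ x, b x = Sum.elim u v x := fun x => congrFun (coe_basisOfLinearIndependentOfCardEqFinrank _ hcard) x
  have hb' : ∀ x, b' x = Sum.elim u' v' x := fun x => congrFun (coe_basisOfLinearIndependentOfCardEqFinrank _ hcard) x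
  obtain ⟨G, hG⟩ : ∃ G : V ≃ₗ[F] V, ∀ x, G (b x) = b' x := ⟨b.equiv b' (Equiv.refl _), fun x => by simp⟩
  have hval : ∀ x y, B (b' x) (b' y) = B (b x) (b y) := fun x y => by
    rw [hb, hb, hb', hb']
    rcases x with j | j <;> rcases y with l | l <;> simp only [Sum.elim_inl, Sum.elim_inr]
    · rw [h.uu, h'.uu]
    · rcases eq_or_ne j l with rfl | hjl
      · rw [h.val, h'.val]
      · rw [h.uv j l hjl, h'.uv j l hjl]
    · rcases eq_or_ne l j with rfl | hjl
      · rw [← LinearMap.IsAlt.neg hA, h'.val, ← LinearMap.IsAlt.neg hA (u l), h.val]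
      · rw [hA.isRefl _ _ (h.uv l j hjl), hA.isRefl _ _ (h'.uv l j hjl)]
    · rw [h.vv, h'.vv]
  refine ⟨G, fun x y => ?_, fun j => ?_, fun j => ?_⟩
  · have hB : B.compl₁₂ G.toLinearMap G.toLinearMap = B :=
      LinearMap.ext_basis b b fun x y => by simp [LinearMap.compl₁₂_apply, hG, hval]
    exact LinearMap.congr_fun (LinearMap.congr_fun hB x) y
  · have := hG (.inl j); rwa [hb, hb'] at this
  · have := hG (.inr j); rwa [hb, hb'] at this

/-- frames from a rule for choosing one pair -/
theorem exists_pairs (hA : B.IsAlt) {c : F} (hc : c ≠ 0) (R : V → V → Prop) (Inv : Submodule F V → Prop) :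
    ∀ (N : ℕ) {S : Submodule F V}, Module.finrank F S = N → Disjoint S (B.orthogonal S) → Inv S →
      (∀ W ≤ S, Inv W → Disjoint W (B.orthogonal W) → W ≠ ⊥ →
        ∃ u ∈ W, ∃ v ∈ W, B u v = c ∧ R u v ∧ Inv (W ⊓ B.orthogonal (Submodule.span F {u, v}))) →
      ∃ (k : ℕ) (u v : Fin k → V), N = 2 * k ∧ IsPairs B (fun _ => c) u v ∧
        ∀ j, u j ∈ S ∧ v j ∈ S ∧ R (u j) (v j) := by
  intro N
  induction N using Nat.strong_induction_on with
  | _ N ih =>
    intro S hN hS hI step
    by_cases hS0 : S = ⊥
    · rw [hS0, finrank_bot] at hN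
      exact ⟨0, fun j => j.elim0, fun j => j.elim0, hN.symm, ⟨fun j => j.elim0, fun j => j.elim0, fun j => j.elim0,
        fun j => j.elim0⟩, fun j => j.elim0⟩
    obtain ⟨u, hu, v, hv, huv, hR, hI'⟩ := step S le_rfl hI hS hS0
    obtain ⟨P, hP⟩ : ∃ P, P = Submodule.span F {u, v} := ⟨_, rfl⟩
    have hvu : B v u = -c := by rw [← LinearMap.IsAlt.neg hA, huv]
    have hli : LinearIndependent F ![u, v] := LinearIndependent.pair_iff.2 fun a b h => by
      have h1 := congrArg (fun x => B x v) h
      have h2 := congrArg (fun x => B x u) h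
      simp only [map_add, map_smul, LinearMap.add_apply, LinearMap.smul_apply, huv, hvu, hA u, hA v, map_zero,
        LinearMap.zero_apply, smul_eq_mul, mul_zero, zero_add, add_zero, mul_neg, neg_eq_zero] at h1 h2
      exact ⟨(mul_eq_zero.1 h1).resolve_right hc, (mul_eq_zero.1 h2).resolve_right hc⟩
    have hPd : Module.finrank F P = 2 := by
      rw [hP, ← Matrix.range_cons_cons_empty u v ![], finrank_span_eq_card hli, Fintype.card_fin]
    have hPS : P ≤ S := hP ▸ Submodule.span_le.2 (Set.insert_subset hu (Set.singleton_subset_iff.2 hv))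
    have huP : u ∈ P := hP ▸ Submodule.subset_span (by simp)
    have hvP : v ∈ P := hP ▸ Submodule.subset_span (by simp)
    have hPn : Disjoint P (B.orthogonal P) := by
      rw [Submodule.disjoint_def]
      intro x hx hxo
      rw [hP] at hx
      obtain ⟨a, b, rfl⟩ := Submodule.mem_span_pair.1 hx
      have h1 : B v (a • u + b • v) = 0 := hxo v hvP
      have h2 : B u (a • u + b • v) = 0 := hxo u huP
      simp only [map_add, map_smul, huv, hvu, hA u, hA v, smul_eq_mul, mul_zero, zero_add, add_zero, mul_neg,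
        neg_eq_zero] at h1 h2
      rw [(mul_eq_zero.1 h1).resolve_right hc, (mul_eq_zero.1 h2).resolve_right hc, zero_smul, zero_smul, add_zero]
    obtain ⟨S', hS'⟩ : ∃ S', S' = S ⊓ B.orthogonal P := ⟨_, rfl⟩
    have hsup : P ⊔ S' = S := by
      refine le_antisymm (sup_le hPS (hS' ▸ inf_le_left)) fun x hx => ?_
      obtain ⟨a, ha, b, hb, rfl⟩ := Submodule.mem_sup.1
        ((CfsgLib.Perm.Elusive.isCompl_orth hA.isRefl hPn).sup_eq_top.ge (Submodule.mem_top (x := x)))
      exact Submodule.add_mem_sup ha (hS' ▸ ⟨(Submodule.add_mem_iff_right _ (hPS ha)).1 hx, hb⟩)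
    have hS'n : Disjoint S' (B.orthogonal S') := by
      rw [Submodule.disjoint_def]
      intro x hx hxo
      refine Submodule.disjoint_def.1 hS x ?_ fun y hy => ?_
      · rw [hS'] at hx; exact hx.1
      obtain ⟨a, ha, b, hb, rfl⟩ := Submodule.mem_sup.1 (hsup.ge hy)
      rw [hS'] at hx
      show B (a + b) x = 0
      rw [map_add, LinearMap.add_apply, hx.2 a ha, hxo b hb, add_zero]
    have hdim : 2 + Module.finrank F S' = N := by
      rw [← hN, ← hPd, ← CfsgLib.Perm.Elusive.finrank_sup_orth hPn (hS' ▸ inf_le_right), hsup]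
    obtain ⟨k, us, vs, hk, hpairs, hmem⟩ := ih (Module.finrank F S') (by omega) rfl hS'n (hS' ▸ hP ▸ hI')
      fun W hW => step W (hW.trans (hS' ▸ inf_le_left))
    have hperp : ∀ j, (B u (us j) = 0 ∧ B u (vs j) = 0) ∧ (B v (us j) = 0 ∧ B v (vs j) = 0) := fun j => by
      have h1 : us j ∈ B.orthogonal P := (hS' ▸ (hmem j).1 : us j ∈ S ⊓ B.orthogonal P).2
      have h2 : vs j ∈ B.orthogonal P := (hS' ▸ (hmem j).2.1 : vs j ∈ S ⊓ B.orthogonal P).2
      exact ⟨⟨h1 u huP, h2 u huP⟩, ⟨h1 v hvP, h2 v hvP⟩⟩
    refine ⟨k + 1, Fin.cons u us, Fin.cons v vs, by omega, ⟨?_, ?_, ?_, ?_⟩, ?_⟩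
    · intro j
      induction j using Fin.cases with
      | zero => exact huv
      | succ j => simpa using hpairs.val j
    · intro j l
      induction j using Fin.cases with
      | zero => induction l using Fin.cases with
        | zero => exact hA u
        | succ l => simpa using (hperp l).1.1
      | succ j => induction l using Fin.cases with
        | zero => simpa using hA.isRefl _ _ (hperp j).1.1
        | succ l => simpa using hpairs.uu j l
    · intro j l
      induction j using Fin.cases with
      | zero => induction l using Fin.cases with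
        | zero => exact hA v
        | succ l => simpa using (hperp l).2.2
      | succ j => induction l using Fin.cases with
        | zero => simpa using hA.isRefl _ _ (hperp j).2.2
        | succ l => simpa using hpairs.vv j l
    · intro j l hjl
      induction j using Fin.cases with
      | zero => induction l using Fin.cases with
        | zero => exact absurd rfl hjl
        | succ l => simpa using (hperp l).1.2
      | succ j => induction l using Fin.cases with
        | zero => simpa using hA.isRefl _ _ (hperp j).2.1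
        | succ l => simpa using hpairs.uv j l fun h => hjl (by rw [h])
    · intro j
      induction j using Fin.cases with
      | zero => exact ⟨hu, hv, hR⟩
      | succ j =>
        have h := hmem j
        rw [hS'] at h
        simpa using ⟨h.1.1, h.2.1.1, h.2.2⟩

end CfsgLib.Perm.Elusive.OverField
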