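import Mathlib
import Cfsg.Agent.Lib.Perm.Elusive.OverFieldNormal
import Cfsg.Agent.Lib.Perm.Elusive.SympPairFrames

/-!
# Symplectic elements with scalar square and overfields of degree two
-/

set_option autoImplicit false
set_option linter.all false

namespace CfsgLib.Perm.Elusive.OverField

open Cfsg.Geo
open scoped Matrix

variable {F : Type*} [Field F]

/-- a matrix commuting up to sign with a generator normalizes the subalgebra -/
theorem mem_normalizer_pm {ι : Type} [Fintype ι] [DecidableEq ι] {K : Subalgebra F (Matrix ι ι F)} {E : Matrix ι ι F}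
    (hE : E ∈ K) (hspan : ∀ a ∈ K, ∃ s t : F, a = s • 1 + t • E) {g : GL ι F}
    (h : g.1 * E = E * g.1 ∨ g.1 * E = -(E * g.1)) : g ∈ subalgebraNormalizer K := by
  obtain ⟨ε, hε, hgE⟩ : ∃ ε : F, ε * ε = 1 ∧ g.1 * E = ε • (E * g.1) := by
    rcases h with h | h
    · exact ⟨1, one_mul 1, by rw [one_smul]; exact h⟩
    · exact ⟨-1, by ring, by rw [neg_one_smul]; exact h⟩
  have hkey : ∀ s t : F, g.1 * (s • 1 + t • E) * (g⁻¹).1 = s • 1 + (t * ε) • E := fun s t => by
    rw [mul_add, Matrix.mul_smul, Matrix.mul_smul, mul_one, hgE, add_mul, Matrix.smul_mul, Matrix.smul_mul,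
      Matrix.smul_mul, mul_assoc E, ← Units.val_mul, mul_inv_cancel, Units.val_one, mul_one, smul_smul]
  intro a
  constructor
  · intro ha
    obtain ⟨s, t, rfl⟩ := hspan a ha
    rw [hkey]
    exact K.add_mem (K.smul_mem K.one_mem s) (K.smul_mem hE _)
  · intro ha
    obtain ⟨s, t, hst⟩ := hspan _ ha
    have h2 : a = s • 1 + (t * ε) • E := by
      have h3 := hkey s (t * ε)
      rw [mul_assoc t, hε, mul_one, ← hst] at h3
      exact ((Units.mul_left_inj g⁻¹).1 (g.isUnit.mul_left_cancel (by simpa only [mul_assoc] using h3))).symm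
    rw [h2]
    exact K.add_mem (K.smul_mem K.one_mem s) (K.smul_mem hE _)

variable {V : Type*} [AddCommGroup V] [Module F V] [FiniteDimensional F V] {B : LinearMap.BilinForm F V}

/-- maps agreeing on a frame agree -/
theorem frame_ext (hA : B.IsAlt) {κ : Type*} [Fintype κ] {c : κ → F} (hc : ∀ j, c j ≠ 0) {u v : κ → V}
    (h : IsPairs B c u v) (hV : Module.finrank F V = 2 * Fintype.card κ) {P R : V →ₗ[F] V}
    (hu : ∀ j, P (u j) = R (u j)) (hv : ∀ j, P (v j) = R (v j)) : P = R := by
  classical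
  refine LinearMap.ext_on_range (v := Sum.elim u v) ?_ (fun x => by rcases x with j | j; exacts [hu j, hv j])
  exact (h.linearIndependent hA hc).span_eq_top_of_card_eq_finrank' (by rw [Fintype.card_sum, hV]; ring)

/-- the two eigenspaces of an involution -/
theorem invol_eigen (h2 : (2 : F) ≠ 0) (hA : B.IsAlt) (hN : B.Nondegenerate) {T : V →ₗ[F] V}
    (hI : ∀ u v, B (T u) (T v) = B u v) (hT : ∀ v, T (T v) = v) :
    IsCompl (LinearMap.ker (T - 1)) (LinearMap.ker (T + 1)) ∧
      (∀ x ∈ LinearMap.ker (T - 1), ∀ y ∈ LinearMap.ker (T + 1), B x y = 0) ∧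
      Disjoint (LinearMap.ker (T - 1)) (B.orthogonal (LinearMap.ker (T - 1))) ∧
      Disjoint (LinearMap.ker (T + 1)) (B.orthogonal (LinearMap.ker (T + 1))) := by
  have hAf : ∀ x ∈ LinearMap.ker (T - 1), T x = x := fun x hx => sub_eq_zero.1 (LinearMap.mem_ker.1 hx)
  have hBf : ∀ x ∈ LinearMap.ker (T + 1), T x = -x := fun x hx => eq_neg_of_add_eq_zero_left (LinearMap.mem_ker.1 hx)
  have ho : ∀ x ∈ LinearMap.ker (T - 1), ∀ y ∈ LinearMap.ker (T + 1), B x y = 0 := fun x hx y hy => by
    have h := hI x y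
    rw [hAf x hx, hBf y hy, map_neg] at h
    exact (mul_eq_zero.1 (show (2 : F) * B x y = 0 by linear_combination -h)).resolve_left h2
  have hc : IsCompl (LinearMap.ker (T - 1)) (LinearMap.ker (T + 1)) := by
    refine ⟨Submodule.disjoint_def.2 fun x h1 h3 => ?_, codisjoint_iff.2 (eq_top_iff.2 fun v _ => ?_)⟩
    · have h := (hAf x h1).symm.trans (hBf x h3)
      rw [eq_neg_iff_add_eq_zero, ← two_smul F x, smul_eq_zero] at h
      exact h.resolve_left h2
    · refine Submodule.mem_sup.2 ⟨(2 : F)⁻¹ • (v + T v), ?_, (2 : F)⁻¹ • (v - T v), ?_, ?_⟩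
      · rw [LinearMap.mem_ker, LinearMap.sub_apply, Module.End.one_apply, map_smul, map_add, hT]; module
      · rw [LinearMap.mem_ker, LinearMap.add_apply, Module.End.one_apply, map_smul, map_sub, hT]; module
      · rw [← smul_add, show v + T v + (v - T v) = (2 : F) • v by module, inv_smul_smul₀ h2]
  have hnd : ∀ {X Y : Submodule F V}, X ⊔ Y = ⊤ → (∀ x ∈ X, ∀ y ∈ Y, B x y = 0) → Disjoint X (B.orthogonal X) := by
    intro X Y hXY hxy
    rw [Submodule.disjoint_def]
    intro x hx hxo
    refine hN.1 x fun v => ?_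
    obtain ⟨a, ha, b, hb, rfl⟩ := Submodule.mem_sup.1 (hXY.ge (Submodule.mem_top (x := v)))
    rw [map_add, hxy x hx b hb, hA.isRefl _ _ (hxo a ha), add_zero]
  exact ⟨hc, ho, hnd hc.sup_eq_top ho,
    hnd (by rw [sup_comm]; exact hc.sup_eq_top) fun x hx y hy => hA.isRefl _ _ (ho y hy x hx)⟩

/-- pairs spanning a nondegenerate space -/
theorem exists_symp_pairs (hA : B.IsAlt) {c : F} (hc : c ≠ 0) {S : Submodule F V} (hS : Disjoint S (B.orthogonal S)) :
    ∃ (k : ℕ) (u v : Fin k → V), Module.finrank F S = 2 * k ∧ IsPairs B (fun _ => c) u v ∧ ∀ j, u j ∈ S ∧ v j ∈ S := by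
  obtain ⟨k, u, v, hk, hp, hm⟩ := exists_pairs hA hc (fun _ _ => True) (fun _ => True) _ rfl hS trivial
    (fun W _ _ hW hW0 => by
      obtain ⟨u, hu, hu0⟩ := Submodule.exists_mem_ne_zero_of_ne_bot hW0
      obtain ⟨v, hv, huv⟩ := (CfsgLib.Perm.Elusive.disjoint_orth_iff hA.isRefl W).1 hW u hu hu0
      exact ⟨u, hu, (c * (B u v)⁻¹) • v, W.smul_mem _ hv, by rw [map_smul, smul_eq_mul, mul_assoc, inv_mul_cancel₀ huv, mul_one],
        trivial, trivial⟩)
  exact ⟨k, u, v, hk, hp, fun j => ⟨(hm j).1, (hm j).2.1⟩⟩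

/-- a square root of `-1` has a frame -/
theorem exists_negsq_pairs [Fintype F] (h2 : (2 : F) ≠ 0) (hA : B.IsAlt) (hN : B.Nondegenerate) {T : V →ₗ[F] V}
    (hI : ∀ u v, B (T u) (T v) = B u v) (hT : ∀ v, T (T v) = -v) :
    ∃ (k : ℕ) (w : Fin k → V), Module.finrank F V = 2 * k ∧ IsPairs B (fun _ => (1 : F)) w (fun j => T (w j)) := by
  have hskew : ∀ x y, B (T x) y = -B x (T y) := fun x y => by
    have h := hI x (T y)
    rw [hT, map_neg] at h
    linear_combination -h
  have hsum : ∀ e : F, ∃ a b : F, a * a + b * b = e := fun e => by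
    open Polynomial in
    obtain ⟨a, b, hab⟩ := FiniteField.exists_root_sum_quadratic (f := (X ^ 2 : Polynomial F)) (g := X ^ 2 - C e)
      (by simp) (by rw [Polynomial.degree_X_pow_sub_C two_pos]; rfl)
      (FiniteField.odd_card_of_char_ne_two fun h => h2 (by
        haveI : CharP F 2 := ringChar.of_eq h
        exact CharTwo.two_eq_zero))
    simp at hab
    exact ⟨a, b, by linear_combination hab⟩
  have htop : Disjoint (⊤ : Submodule F V) (B.orthogonal ⊤) := by
    rw [CfsgLib.Perm.Elusive.disjoint_orth_iff hA.isRefl]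
    intro x _ hx
    by_contra hno
    push Not at hno
    exact hx (hN.1 x fun y => hno y Submodule.mem_top)
  obtain ⟨k, u, v, hk, hp, hm⟩ := exists_pairs hA one_ne_zero (fun x y => y = T x) (fun W => ∀ x ∈ W, T x ∈ W) _ rfl htop
    (fun x _ => Submodule.mem_top) (fun W _ hWi hW hW0 => by
      obtain ⟨w₀, hw₀, hs⟩ : ∃ w ∈ W, B w (T w) ≠ 0 := by
        by_contra hno
        push Not at hno
        obtain ⟨x, hx, hx0⟩ := Submodule.exists_mem_ne_zero_of_ne_bot hW0
        obtain ⟨y, hy, hxy⟩ := (CfsgLib.Perm.Elusive.disjoint_orth_iff hA.isRefl W).1 hW x hx hx0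
        refine hxy ?_
        have h := hno (x + T y) (W.add_mem hx (hWi y hy))
        have h5 := hno x hx
        have h6 := hno (T y) (hWi y hy)
        rw [hT, map_neg] at h6
        rw [map_add T, hT, map_add, map_add, LinearMap.add_apply, LinearMap.add_apply, map_neg, map_neg] at h
        rw [hI, ← LinearMap.IsAlt.neg hA x y] at h
        exact (mul_eq_zero.1 (show (2 : F) * B x y = 0 by linear_combination -h + h5 + h6)).resolve_left h2
      obtain ⟨a, b, hab⟩ := hsum (B w₀ (T w₀))⁻¹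
      refine ⟨a • w₀ + b • T w₀, W.add_mem (W.smul_mem _ hw₀) (W.smul_mem _ (hWi _ hw₀)), _,
        hWi _ (W.add_mem (W.smul_mem _ hw₀) (W.smul_mem _ (hWi _ hw₀))), ?_, rfl, ?_⟩
      · have e1 : B (T w₀) w₀ = -B w₀ (T w₀) := (LinearMap.IsAlt.neg hA w₀ (T w₀)).symm
        rw [map_add T, map_smul, map_smul, hT]
        simp only [map_add, map_smul, map_neg, LinearMap.add_apply, LinearMap.smul_apply, smul_eq_mul, hA w₀, hA (T w₀), e1]
        have h3 := congrArg (fun t => t * B w₀ (T w₀)) hab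
        simp only [inv_mul_cancel₀ hs] at h3
        linear_combination h3
      · intro x hx
        refine ⟨hWi x hx.1, fun y hy => ?_⟩
        show B y (T x) = 0
        have h := hskew y x
        have h3 : B (T y) x = 0 := by
          refine hx.2 (T y) ?_
          obtain ⟨s, t, rfl⟩ := Submodule.mem_span_pair.1 hy
          rw [map_add T (s • _) (t • _), map_smul T s, map_smul T t, hT]
          exact Submodule.mem_span_pair.2 ⟨-t, s, by rw [smul_neg, neg_smul, add_comm]⟩
        rw [h3] at h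
        linear_combination h)
  rw [finrank_top] at hk
  refine ⟨k, u, hk, ?_⟩
  rw [show (fun j => T (u j)) = v from funext fun j => (hm j).2.2.symm]
  exact hp

end CfsgLib.Perm.Elusive.OverField
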