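import Mathlib
import Cfsg.Agent.Lib.Perm.Elusive.OrthFieldInvol
import Cfsg.Agent.Lib.Perm.Elusive.OverFieldNormal
import Cfsg.Agent.Lib.Perm.Elusive.OverFieldTwo
import Cfsg.Agent.Lib.Orth.Facts

/-!
# Elements of order two of `Ω` fix a point of the quadratic field-extension action
-/

set_option autoImplicit false
set_option linter.all false

namespace CfsgLib.Perm.Elusive.OrthField

open CfsgLib.Perm.Elusive CfsgLib.Orth Cfsg.Geo CfsgLib.Perm.Trans.Quad
open scoped Matrix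

variable {F : Type*} [Field F] [Fintype F] {ι : Type} [Fintype ι] [DecidableEq ι]

theorem two_fixes_point {Q : QuadraticForm F (ι → F)} (hN : (QuadraticMap.polarBilin Q).Nondegenerate)
    (h2 : (2 : F) ≠ 0) {d : ℕ} (hι : Fintype.card ι = 2 * d) (hd : 2 ≤ d) {K : Subalgebra F (Matrix ι ι F)}
    (hK : IsFieldSubalgebra 2 K) (hKf : IsSelfAdjointFor (QuadraticMap.polar ⇑Q) K) {x : GL ι F}
    (hx : x ∈ omegaGL ⇑Q) {z : F} (hz : ((x ^ 2 : GL ι F) : Matrix ι ι F) = z • (1 : Matrix ι ι F))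
    (hns : ∀ z : F, (x : Matrix ι ι F) ≠ z • (1 : Matrix ι ι F)) :
    ∃ g ∈ omegaGL ⇑Q, g⁻¹ * x * g ∈ subalgebraNormalizer K := by
  classical
  haveI : Nonempty ι := Fintype.card_pos_iff.1 (by omega)
  letI : Field K := (OverField.isField_sub hK).toField
  haveI : Finite K := Subtype.finite
  haveI : FiniteDimensional F K := Module.Finite.of_finite
  letI : Module K (ι → F) :=
    { smul := fun a v => a.1 *ᵥ v
      one_smul := fun v => Matrix.one_mulVec v
      mul_smul := fun a b v => (Matrix.mulVec_mulVec v a.1 b.1).symm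
      smul_zero := fun a => Matrix.mulVec_zero a.1
      smul_add := fun a u v => Matrix.mulVec_add a.1 u v
      add_smul := fun a b v => Matrix.add_mulVec a.1 b.1 v
      zero_smul := fun v => Matrix.zero_mulVec v }
  have hsm : ∀ (a : K) (v : ι → F), a • v = a.1 *ᵥ v := fun a v => rfl
  haveI : IsScalarTower F K (ι → F) := ⟨fun c a v => Matrix.smul_mulVec c a.1 v⟩
  haveI : FiniteDimensional K (ι → F) := Module.Finite.of_finite
  obtain ⟨δ, e, hδ, hδ0, he, hgen⟩ := exists_sqrt_generator (F := F) (K := K) h2 hK.finrank_eq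
  have hQa : ∀ (a : K) (u v : ι → F), qB Q (a • u) v = qB Q u (a • v) := fun a u v => by
    rw [hsm, hsm]; exact hKf _ a.2 u v
  obtain ⟨bK, hbK⟩ := exists_scalar_form hδ0 he hgen (qB Q) hQa
  have hspan : ∀ a ∈ K, ∃ s t : F, a = s • 1 + t • e.1 := fun a ha => by
    obtain ⟨s, t, h⟩ := hgen ⟨a, ha⟩
    refine ⟨s, t, ?_⟩
    have h' := congrArg Subtype.val h
    simpa [Algebra.smul_def] using h'
  have hdK : Module.finrank K (ι → F) = d := by
    have h := Module.finrank_mul_finrank F K (ι → F)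
    rw [hK.finrank_eq, Module.finrank_fintype_fun_eq_card, hι] at h
    omega
  have hdF : Module.finrank F (ι → F) = 2 * d := by rw [Module.finrank_fintype_fun_eq_card, hι]
  have hQn := nd_of_qf Q hN
  have hex : Fintype.card F ≠ 2 ∨ Fintype.card ι ≠ 4 := hex_of_two h2
  have hn : 2 ≤ Fintype.card ι := by omega
  obtain ⟨xO, hxΩ, rfl⟩ := hx
  have hxI : ∀ v, Q ((xO.1 : Matrix ι ι F) *ᵥ v) = Q v := CfsgLib.Classical.mem_isometryGroup_iff.1 xO.2
  obtain ⟨T, hT⟩ : ∃ T : (ι → F) →ₗ[F] (ι → F), ∀ v, T v = (xO.1 : Matrix ι ι F) *ᵥ v :=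
    ⟨Matrix.toLin' _, fun v => Matrix.toLin'_apply _ v⟩
  have hTQ : ∀ v, Q (T v) = Q v := fun v => by rw [hT]; exact hxI v
  have hTT : ∀ v, T (T v) = z • v := fun v => by
    rw [hT, hT, Matrix.mulVec_mulVec, ← Units.val_mul, ← sq]
    show ((xO.1 ^ 2 : GL ι F) : Matrix ι ι F) *ᵥ v = _
    rw [show ((xO.1 ^ 2 : GL ι F) : Matrix ι ι F) = z • 1 from hz, Matrix.smul_mulVec, Matrix.one_mulVec]
  obtain ⟨v₁, -, hv₁⟩ := exists_anisotropic_of_nd (Q := Q) h2 (qnd_top hN) (by rw [finrank_top, hdF]; omega)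
  have hz1 : z = 1 ∨ z = -1 := by
    have h : Q (z • v₁) = Q v₁ := by rw [← hTT, hTQ, hTQ]
    rw [QuadraticMap.map_smul, smul_eq_mul] at h
    exact mul_self_eq_one_iff.1 (mul_right_cancel₀ hv₁ (h.trans (one_mul _).symm))
  -- the reflection and the moved element
  obtain ⟨g, v₀, hgQ, hv₀, hcases⟩ : ∃ (g : (ι → F) ≃ₗ[F] (ι → F)) (v₀ : ι → F), (∀ v, Q (g v) = Q v) ∧ Q v₀ ≠ 0 ∧
      ∀ R : (ι → F) →ₗ[F] (ι → F), (∀ v, R v = v - ((Q v₀)⁻¹ * qB Q v v₀) • v₀) →
        ((∀ v, g (T (g.symm (e • v))) = e • g (T (g.symm v))) ∨ ∀ v, g (T (g.symm (e • v))) = -(e • g (T (g.symm v)))) ∧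
        ((∀ v, R (g (T (g.symm (R (e • v))))) = e • R (g (T (g.symm (R v))))) ∨
          ∀ v, R (g (T (g.symm (R (e • v))))) = -(e • R (g (T (g.symm (R v)))))) := by
    rcases hz1 with rfl | rfl
    · have hTT' : ∀ v, T (T v) = v := fun v => by rw [hTT, one_smul]
      obtain ⟨S, hS⟩ : ∃ S, S = LinearMap.ker (T + 1) := ⟨_, rfl⟩
      have hmv : moved xO.1 = S := by
        rw [hS]
        refine le_antisymm ?_ fun s hs => ?_
        · rintro _ ⟨v, rfl⟩
          rw [LinearMap.mem_ker, LinearMap.add_apply, Module.End.one_apply, disp_apply, ← hT, map_sub, hTT']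
          abel
        · refine ⟨(1 / 2 : F) • s, ?_⟩
          rw [disp_apply, ← hT, map_smul, show T s = -s by
            rw [LinearMap.mem_ker, LinearMap.add_apply, Module.End.one_apply] at hs; exact eq_neg_of_add_eq_zero_left hs,
            smul_neg, sub_neg_eq_add, ← two_smul F, smul_smul, mul_one_div_cancel h2, one_smul]
      obtain ⟨m, hm⟩ : Even (wrk xO.1) := ((mem_omega_iff hQn hn hex xO).1 hxΩ).2
      have hm' : Module.finrank F (LinearMap.ker (T + 1)) = 2 * m := by rw [← hS, ← hmv]; exact hm.trans (two_mul m).symm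
      have hmd : m < d := by
        by_contra hle
        have htop : LinearMap.ker (T + 1) = ⊤ := Submodule.eq_top_of_finrank_eq (le_antisymm (Submodule.finrank_le _)
          (by rw [hm', hdF]; omega))
        refine hns (-1) (Matrix.ext_iff_mulVec.2 fun v => ?_)
        show (xO.1 : Matrix ι ι F) *ᵥ v = _
        have h : T v + v = 0 := LinearMap.congr_fun (LinearMap.ker_eq_top.1 htop) v
        rw [← hT, eq_neg_of_add_eq_zero_left h, Matrix.smul_mulVec, Matrix.one_mulVec, neg_one_smul]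
      obtain ⟨g, v₀, h1, h2', h3, h4⟩ := invol_linear hδ he hgen hbK hQa h2 hN hTQ hTT' hdK hdF hm' hmd
      refine ⟨g, v₀, h1, h2', fun R hR => ⟨Or.inl h4, Or.inl fun v => ?_⟩⟩
      -- `R` commutes with the moved involution
      obtain ⟨Z, hZ⟩ : ∃ Z : (ι → F) →ₗ[F] (ι → F), ∀ v, Z v = g (T (g.symm v)) :=
        ⟨g.toLinearMap.comp (T.comp g.symm.toLinearMap), fun v => rfl⟩
      have hZQ : ∀ a b, qB Q (Z a) (Z b) = qB Q a b := fun a b => by
        have hq : ∀ v, Q (Z v) = Q v := fun v => by rw [hZ, h1, hTQ, ← h1, g.apply_symm_apply]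
        simp only [qB_apply, QuadraticMap.polar, ← map_add, hq]
      have hZ0 : Z v₀ = v₀ := by rw [hZ]; exact h3
      have hZR : ∀ v, R (Z v) = Z (R v) := fun v => by
        rw [hR, hR, map_sub, map_smul, hZ0]
        congr 3
        conv_lhs => rw [← hZ0, hZQ]
      have hRR : ∀ v, R (R v) = v := fun v => by
        rw [hR, hR v]
        simp only [map_sub, map_smul, LinearMap.sub_apply, LinearMap.smul_apply, smul_eq_mul, qB_self]
        have : ((Q v₀)⁻¹ * (qB Q v v₀ - (Q v₀)⁻¹ * qB Q v v₀ * (2 * Q v₀))) = -((Q v₀)⁻¹ * qB Q v v₀) := by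
          field_simp; ring
        rw [this]; module
      rw [← hZ, ← hZ, hZR, hZR, hRR, hRR, hZ, hZ, h4]
    · obtain ⟨g, v₀, h1, h2', h3, h4⟩ := invol_semilinear hδ he hgen hbK hQa h2 hN hTQ
        (fun v => by rw [hTT, neg_one_smul]) hdK (by omega) hdF
      exact ⟨g, v₀, h1, h2', fun R hR => ⟨Or.inr h3, Or.inr (h4 R hR)⟩⟩
  obtain ⟨G, hG, hGv⟩ := CfsgLib.Classical.exists_iso_of_linear hN g.toLinearMap hgQ
  have hGs : ∀ v, ((G⁻¹ : GL ι F) : Matrix ι ι F) *ᵥ v = g.symm v := fun v => by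
    have h := hGv (g.symm v)
    rw [LinearEquiv.coe_coe, g.apply_symm_apply] at h
    conv_lhs => rw [← h]
    rw [Matrix.mulVec_mulVec, ← Units.val_mul, inv_mul_cancel, Units.val_one, Matrix.one_mulVec]
  obtain ⟨R, hR, hRv⟩ := exists_refl hQn hv₀
  obtain ⟨hR1, -⟩ := refl_spn hQn hR hRv hv₀
  have hRR : R⁻¹ = R := inv_eq_of_mul_eq_one_right (refl_mul_self hQn hRv hv₀)
  obtain ⟨hcA, hcB⟩ := hcases (Matrix.toLin' (R : Matrix ι ι F)) (fun v => by rw [Matrix.toLin'_apply, hRv]; rfl)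
  have hmem : ∀ y : GL ι F, ((∀ v, (y : Matrix ι ι F) *ᵥ (e • v) = e • ((y : Matrix ι ι F) *ᵥ v)) ∨
      ∀ v, (y : Matrix ι ι F) *ᵥ (e • v) = -(e • ((y : Matrix ι ι F) *ᵥ v))) → y ∈ subalgebraNormalizer K := by
    intro y hy
    refine OverField.mem_normalizer_pm e.2 hspan ?_
    rcases hy with h | h
    · left; refine Matrix.ext_iff_mulVec.2 fun v => ?_
      rw [← Matrix.mulVec_mulVec, ← Matrix.mulVec_mulVec, ← hsm, ← hsm, h]
    · right; refine Matrix.ext_iff_mulVec.2 fun v => ?_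
      rw [Matrix.neg_mulVec, ← Matrix.mulVec_mulVec, ← Matrix.mulVec_mulVec, ← hsm, ← hsm, h]
  have hA : G * xO.1 * G⁻¹ ∈ subalgebraNormalizer K := by
    refine hmem _ ?_
    have hv : ∀ v, ((G * xO.1 * G⁻¹ : GL ι F) : Matrix ι ι F) *ᵥ v = g (T (g.symm v)) := fun v => by
      rw [Units.val_mul, Units.val_mul, ← Matrix.mulVec_mulVec, ← Matrix.mulVec_mulVec, hGs, ← hT, hGv]; rfl
    simp only [hv]
    exact hcA
  have hB : R * (G * xO.1 * G⁻¹) * R ∈ subalgebraNormalizer K := by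
    refine hmem _ ?_
    have hv : ∀ v, ((R * (G * xO.1 * G⁻¹) * R : GL ι F) : Matrix ι ι F) *ᵥ v =
        Matrix.toLin' (R : Matrix ι ι F) (g (T (g.symm (Matrix.toLin' (R : Matrix ι ι F) v)))) := fun v => by
      simp only [Units.val_mul, ← Matrix.mulVec_mulVec, hGs, ← hT, hGv, Matrix.toLin'_apply, LinearEquiv.coe_coe]
    simp only [hv]
    exact hcB
  -- negating a line over the extension
  obtain ⟨w, -, k, hw1, hw2, hw3, -⟩ := exists_kplane hδ he hbK h2 hQa (W := ⊤) (bK_top_nd hδ he hbK hQa h2 hN)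
    (by rw [finrank_top, hdK]; exact hd) one_ne_zero hδ0
  have hwQ : Q w ≠ 0 := by rw [hw1]; exact one_ne_zero
  have hkQ : Q (k • w) ≠ 0 := by rw [hw2]; exact hδ0
  obtain ⟨R₁, hR₁, hR₁v⟩ := exists_refl hQn hwQ
  obtain ⟨R₂, hR₂, hR₂v⟩ := exists_refl hQn hkQ
  obtain ⟨hR₁w, hR₁s⟩ := refl_spn hQn hR₁ hR₁v hwQ
  obtain ⟨hR₂w, hR₂s⟩ := refl_spn hQn hR₂ hR₂v hkQ
  have hNK : R₁ * R₂ ∈ subalgebraNormalizer K := by
    refine hmem _ (Or.inl fun v => ?_)
    obtain ⟨N, hN'⟩ : ∃ N : (ι → F) →ₗ[F] (ι → F), ∀ v, N v = ((R₁ * R₂ : GL ι F) : Matrix ι ι F) *ᵥ v :=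
      ⟨Matrix.toLin' _, fun v => Matrix.toLin'_apply _ v⟩
    have hNv : ∀ v, N v = v - ((Q (k • w))⁻¹ * qB Q v (k • w)) • (k • w) - ((Q w)⁻¹ * qB Q v w) • w := fun v => by
      rw [hN', Units.val_mul, ← Matrix.mulVec_mulVec, hR₂v, hR₁v]
      show _ - ((Q w)⁻¹ * qB Q (v - ((Q (k • w))⁻¹ * qB Q v (k • w)) • (k • w)) w) • w = _
      rw [(qB Q).map_sub, (qB Q).map_smul, LinearMap.sub_apply, LinearMap.smul_apply,
        show qB Q (k • w) w = 0 from (QuadraticMap.polar_comm Q _ _).trans hw3, smul_zero, sub_zero]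
      rfl
    obtain ⟨f, hf⟩ : ∃ f : Fin 2 → ι → F, f = ![w, k • w] := ⟨_, rfl⟩
    have hwk : qB Q (k • w) w = 0 := (QuadraticMap.polar_comm Q _ _).trans hw3
    obtain ⟨hPnd, -⟩ := family_nd (Q := Q) h2 (w := f) (by
      intro i j hij
      rw [hf]
      fin_cases i <;> fin_cases j <;> simp_all) (by
      intro i; rw [hf]; fin_cases i <;> simpa)
    obtain ⟨P, hP⟩ : ∃ P, P = Submodule.span F (Set.range f) := ⟨_, rfl⟩
    rw [← hP] at hPnd
    have hwP : w ∈ P := hP ▸ Submodule.subset_span ⟨0, by rw [hf]; rfl⟩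
    have hkP : k • w ∈ P := hP ▸ Submodule.subset_span ⟨1, by rw [hf]; rfl⟩
    obtain ⟨hm1, hm2⟩ := e_smul_mem he hgen h2 hwQ hkQ hw3 hwP hkP
    have heP : ∀ y ∈ P, e • y ∈ P := fun y hy => by
      have hle : P ≤ P.comap ((LinearMap.lsmul K (ι → F) e).restrictScalars F) := by
        conv_lhs => rw [hP]
        rw [Submodule.span_le]
        rintro _ ⟨i, rfl⟩
        rw [hf]
        fin_cases i
        · exact hm1
        · exact hm2
      exact hle hy
    have hneg : ∀ y ∈ P, N y = -y := fun y hy => by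
      have hle : P ≤ LinearMap.ker (N + 1) := by
        rw [hP, Submodule.span_le]
        rintro _ ⟨i, rfl⟩
        rw [SetLike.mem_coe, LinearMap.mem_ker, LinearMap.add_apply, Module.End.one_apply, hNv, hf]
        fin_cases i <;>
          simp only [Fin.zero_eta, Fin.mk_one, Matrix.cons_val_zero, Matrix.cons_val_one, hwk, hw3, qB_self, mul_zero, zero_smul,
            sub_zero]
        · rw [show (Q w)⁻¹ * (2 * Q w) = 2 by field_simp, two_smul]; abel
        · rw [show (Q (k • w))⁻¹ * (2 * Q (k • w)) = 2 by field_simp, two_smul]; abel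
      exact eq_neg_of_add_eq_zero_left (LinearMap.mem_ker.1 (hle hy))
    obtain ⟨y, hy, o, ho, rfl⟩ := Submodule.mem_sup.1 ((isCompl_orth (polar_refl Q) hPnd).sup_eq_top.ge
      (Submodule.mem_top (x := v)))
    have hfix : ∀ o, (∀ y ∈ P, qB Q y o = 0) → N o = o := fun o ho => by
      have hc : ∀ y ∈ P, qB Q o y = 0 := fun y hy => (QuadraticMap.polar_comm Q _ _).trans (ho y hy)
      rw [hNv, hc _ hkP, hc _ hwP, mul_zero, mul_zero, zero_smul, zero_smul, sub_zero, sub_zero]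
    rw [← hN', ← hN', smul_add, map_add, map_add, hneg y hy, hneg _ (heP y hy), hfix o fun y hy => ho y hy,
      hfix (e • o) fun y hy => by rw [← hQa]; exact ho _ (heP y hy), smul_add, smul_neg]
  -- correcting the class in `O / Ω`
  obtain ⟨c, hc⟩ : ∃ c, c = clsHom hQn hex := ⟨_, rfl⟩
  have hker : ∀ y : ↥(Cfsg.isometryGroup F ⇑Q), c y = 1 → y.1 ∈ omegaGL ⇑Q := fun y hy =>
    Subgroup.mem_map.2 ⟨y, by rw [← clsHom_ker hQn hn hex, MonoidHom.mem_ker, ← hc]; exact hy, rfl⟩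
  obtain ⟨H, hH⟩ : ∃ H : ↥(Cfsg.isometryGroup F ⇑Q), H = ⟨G⁻¹, inv_mem hG⟩ := ⟨_, rfl⟩
  obtain ⟨RO, hRO⟩ : ∃ RO : ↥(Cfsg.isometryGroup F ⇑Q), RO = ⟨R, hR⟩ := ⟨_, rfl⟩
  obtain ⟨NO, hNO⟩ : ∃ NO : ↥(Cfsg.isometryGroup F ⇑Q), NO = ⟨R₁, hR₁⟩ * ⟨R₂, hR₂⟩ := ⟨_, rfl⟩
  have hNc : c NO = (sqc δ, 1) := by
    rw [hNO, map_mul, hc]
    refine Prod.ext ?_ ?_
    · show spn Q R₁ * spn Q R₂ = sqc δ
      rw [hR₁s, hR₂s, hw1, hw2, sqc_one, one_mul]
    · show Multiplicative.ofAdd ((wrk R₁ : ℕ) : ZMod 2) * Multiplicative.ofAdd ((wrk R₂ : ℕ) : ZMod 2) = 1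
      rw [hR₁w, hR₂w]; decide
  obtain ⟨H₁, hH₁, hH₁p⟩ : ∃ H₁ : ↥(Cfsg.isometryGroup F ⇑Q), H₁.1⁻¹ * xO.1 * H₁.1 ∈ subalgebraNormalizer K ∧
      (c H₁).2 = 1 := by
    by_cases hp : (c H).2 = 1
    · exact ⟨H, by rw [hH]; simpa using hA, hp⟩
    · refine ⟨H * RO, ?_, ?_⟩
      · rw [hH, hRO]
        simpa [mul_inv_rev, hRR, mul_assoc] using hB
      · have hR2 : (c RO).2 = Multiplicative.ofAdd (1 : ZMod 2) := by
          rw [hc, hRO]
          show Multiplicative.ofAdd ((wrk R : ℕ) : ZMod 2) = _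
          rw [hR1, Nat.cast_one]
        rw [map_mul, Prod.snd_mul, hR2]
        revert hp
        generalize (c H).2 = a
        revert a
        decide
  have hsd : sqc δ ≠ 1 := fun h => hδ ((sqc_eq_one_iff hδ0).1 h)
  by_cases hs : (c H₁).1 = 1
  · exact ⟨H₁.1, hker _ (Prod.ext hs hH₁p), hH₁⟩
  · refine ⟨(H₁ * NO).1, hker _ ?_, ?_⟩
    · rw [map_mul, hNc]
      refine Prod.ext ?_ (by show (c H₁).2 * 1 = 1; rw [hH₁p, one_mul])
      show (c H₁).1 * sqc δ = 1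
      obtain ⟨u, -, hu⟩ := (Nat.card_eq_two_iff' (1 : SqClass F)).1 (card_sqClass_odd h2)
      rw [hu _ hs, ← hu _ hsd, sqc_mul_self hδ0]
    · have hN1 : (NO.1 : GL ι F) ∈ subalgebraNormalizer K := by rw [hNO]; exact hNK
      have h := (subalgebraNormalizer K).mul_mem ((subalgebraNormalizer K).mul_mem (inv_mem hN1) hH₁) hN1
      simpa [mul_inv_rev, mul_assoc] using h

end CfsgLib.Perm.Elusive.OrthField
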