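import Mathlib
import Cfsg.Agent.Lib.Perm.Elusive.OrthFieldTwo
import Cfsg.Agent.Lib.Perm.Elusive.OrthFieldDerange
import Cfsg.Agent.Lib.Perm.Elusive.OrthFieldDescent

/-!
# Prime order elements and orthogonal groups over a quadratic overfield
-/

set_option autoImplicit false
set_option linter.all false

namespace CfsgLib.Perm.Elusive.OrthField

open CfsgLib.Perm.Elusive CfsgLib.Orth Cfsg.Geo
open scoped Matrix

variable {F : Type*} [Field F] [Fintype F] {ι : Type} [Fintype ι] [DecidableEq ι]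

theorem prod_range_double (f : ℕ → ℕ) : ∀ m, ∏ j ∈ Finset.range (2 * m), f j =
    (∏ l ∈ Finset.range m, f (2 * l + 1)) * ∏ l ∈ Finset.range m, f (2 * l)
  | 0 => by simp
  | m + 1 => by
    rw [show 2 * (m + 1) = 2 * m + 1 + 1 by ring, Finset.prod_range_succ, Finset.prod_range_succ, prod_range_double f m,
      Finset.prod_range_succ, Finset.prod_range_succ]
    ring

/-- the index of the normalizer in the isometry group -/
theorem prime_dvd_iso_index {Q : QuadraticForm F (ι → F)} (hN : (QuadraticMap.polarBilin Q).Nondegenerate)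
    (h2 : (2 : F) ≠ 0) (hn : 2 ≤ Fintype.card ι) (H : Subgroup (GL ι F)) {r : ℕ} (hr : r.Prime) (hr2 : r ≠ 2)
    (hdvd : r ∣ H.relIndex (omegaGL ⇑Q)) : r ∣ (H.subgroupOf (Cfsg.isometryGroup F ⇑Q)).index := by
  have hQn := nd_of_qf Q hN
  haveI : (Cfsg.Omega F ⇑Q).Normal := inferInstanceAs (commutator _).Normal
  obtain ⟨H', hH'⟩ : ∃ H', H' = H.subgroupOf (Cfsg.isometryGroup F ⇑Q) := ⟨_, rfl⟩
  have h4 : (Cfsg.Omega F ⇑Q).index = 4 := omega_index_odd hQn hn h2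
  have hrel : H'.relIndex (Cfsg.Omega F ⇑Q) = H.relIndex (omegaGL ⇑Q) := by
    rw [hH', Subgroup.subgroupOf, Subgroup.relIndex_comap]; rfl
  have e1 : (H' ⊓ Cfsg.Omega F ⇑Q).index = H'.relIndex (Cfsg.Omega F ⇑Q) * (Cfsg.Omega F ⇑Q).index := by
    rw [← Subgroup.relIndex_mul_index (inf_le_right : H' ⊓ Cfsg.Omega F ⇑Q ≤ Cfsg.Omega F ⇑Q), Subgroup.inf_relIndex_right]
  have e2 : (H' ⊓ Cfsg.Omega F ⇑Q).index = (Cfsg.Omega F ⇑Q).relIndex H' * H'.index := by
    rw [← Subgroup.relIndex_mul_index (inf_le_left : H' ⊓ Cfsg.Omega F ⇑Q ≤ H'), Subgroup.inf_relIndex_left]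
  have h5 : (Cfsg.Omega F ⇑Q).relIndex H' ∣ 4 := h4 ▸ Subgroup.relIndex_dvd_index_of_normal _ _
  have h6 : r ∣ 4 * H'.index := by
    refine dvd_trans ?_ (mul_dvd_mul_right h5 _)
    rw [← e2, e1, hrel]
    exact hdvd.mul_right _
  rcases hr.dvd_mul.1 h6 with h | h
  · exact absurd ((Nat.prime_dvd_prime_iff_eq hr Nat.prime_two).1 (hr.dvd_of_dvd_pow (show r ∣ 2 ^ 2 from h))) hr2
  · exact hH' ▸ h

theorem pow_cast_eq {a : ℕ} {r : ℕ} (ha : 0 < a) {n : ℕ} (h : r ∣ a ^ n - 1) : ((a : ℕ) : ZMod r) ^ n = 1 := by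
  rw [← sub_eq_zero]
  have h := (ZMod.natCast_eq_zero_iff _ r).2 h
  rwa [Nat.cast_sub (Nat.one_le_pow _ _ ha), Nat.cast_pow, Nat.cast_one] at h

theorem iff_two {p : ℕ} [Fact p.Prime] [CharP F p] {Q : QuadraticForm F (ι → F)}
    (hN : (QuadraticMap.polarBilin Q).Nondegenerate) (hodd : Odd (Fintype.card F)) {d : ℕ} (hd : 4 ≤ d)
    (hι : Fintype.card ι = 2 * d)
    (hcard : ∃ N, Nat.card (Cfsg.isometryGroup F ⇑Q) = 2 * Fintype.card F ^ N *
      (∏ i ∈ Finset.range (d - 1), (Fintype.card F ^ (2 * (i + 1)) - 1)) * (Fintype.card F ^ d - 1) ∧ QPlus Q ⊤ ∨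
      Nat.card (Cfsg.isometryGroup F ⇑Q) = 2 * Fintype.card F ^ N *
      (∏ i ∈ Finset.range (d - 1), (Fintype.card F ^ (2 * (i + 1)) - 1)) * (Fintype.card F ^ d + 1) ∧ ¬ QPlus Q ⊤)
    {K : Subalgebra F (Matrix ι ι F)} (hK : IsFieldSubalgebra 2 K)
    (hKf : IsSelfAdjointFor (QuadraticMap.polar ⇑Q) K) (r : ℕ) [Fact r.Prime]
    (hΩ : r ∣ (subalgebraNormalizer K).relIndex (omegaGL ⇑Q)) :
    (∀ x ∈ omegaGL ⇑Q, (∃ z : F, ((x ^ r : GL ι F) : Matrix ι ι F) = z • (1 : Matrix ι ι F)) →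
      (∀ z : F, (x : Matrix ι ι F) ≠ z • (1 : Matrix ι ι F)) →
      ∃ g ∈ omegaGL ⇑Q, g⁻¹ * x * g ∈ subalgebraNormalizer K) ↔ r = 2 := by
  classical
  have h2 : (2 : F) ≠ 0 := two_ne_zero_of_odd hodd
  have hp2 : p ≠ 2 := fun h => h2 (by
    subst h
    exact CharTwo.two_eq_zero)
  refine ⟨fun hL => ?_, fun h x hx hz hns => ?_⟩
  swap
  · subst h
    obtain ⟨z, hz⟩ := hz
    exact two_fixes_point hN h2 hι (by omega) hK hKf hx hz hns
  by_contra hr2
  by_cases hrp : r = p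
  · subst hrp
    obtain ⟨x, hx, hxp, hns, hno⟩ := derange_unipotent (p := r) hr2 hN h2 hι (by omega) hK
    obtain ⟨g, -, hgx⟩ := hL x hx ⟨1, by rw [hxp, Units.val_one, one_smul]⟩ hns
    exact hno g hgx
  have hr : r.Prime := Fact.out
  obtain ⟨q, hq⟩ : ∃ q, q = Fintype.card F := ⟨_, rfl⟩
  have hq0 : 0 < q := hq ▸ Fintype.card_pos
  have hrq : ∀ n, ¬ r ∣ q ^ n := fun n h => by
    obtain ⟨k, hp', hk⟩ := FiniteField.card F p
    rw [hq, hk] at h
    exact hrp ((Nat.prime_dvd_prime_iff_eq hr hp').1 (hr.dvd_of_dvd_pow (hr.dvd_of_dvd_pow h)))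
  have hr2' : ¬ r ∣ 2 := fun h => hr2 ((Nat.prime_dvd_prime_iff_eq hr Nat.prime_two).1 h)
  obtain ⟨i, hi⟩ : ∃ i, i = orderOf ((q : ℕ) : ZMod r) := ⟨_, rfl⟩
  obtain ⟨c, hc⟩ : ∃ c, c = if Even i then i else 2 * i := ⟨_, rfl⟩
  have hipos : 0 < i := by rw [hi, hq]; exact order_pos hrp
  obtain ⟨N', hN'⟩ : ∃ N', N' = (subalgebraNormalizer K).subgroupOf (Cfsg.isometryGroup F ⇑Q) := ⟨_, rfl⟩
  have hrN : r ∣ N'.index := hN' ▸ prime_dvd_iso_index hN h2 (by omega) _ hr hr2 hΩ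
  have hcardN := Subgroup.index_mul_card N'
  have hidvd : ∀ n, r ∣ q ^ n - 1 → i ∣ n := fun n h => by
    rw [hi]; exact orderOf_dvd_of_pow_eq_one (pow_cast_eq hq0 h)
  have hidvd' : ∀ n, r ∣ q ^ n + 1 → i ∣ 2 * n ∧ ¬ i ∣ n := fun n h => by
    have h1 : ((q : ℕ) : ZMod r) ^ n = -1 := by
      rw [eq_neg_iff_add_eq_zero, ← Nat.cast_pow, ← Nat.cast_one, ← Nat.cast_add, ZMod.natCast_eq_zero_iff]
      exact h
    refine ⟨hi ▸ orderOf_dvd_of_pow_eq_one (by rw [mul_comm, pow_mul, h1, neg_one_sq]), fun h' => ?_⟩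
    have h3 : ((q : ℕ) : ZMod r) ^ n = 1 := orderOf_dvd_iff_pow_eq_one.1 (hi ▸ h')
    exact one_ne_neg_one_zmod hr2 (h3.symm.trans h1)
  obtain ⟨Nq, hN₀⟩ := hcard
  rw [← hq] at hN₀
  by_cases h4 : i % 4 = 0
  · -- the Sylow subgroups lie in the normalizer
    have hodd' : ∀ s, ¬ r ∣ q ^ (2 * (2 * s + 1)) - 1 := fun s h => by
      have h1 := (Nat.dvd_of_mod_eq_zero h4).trans (hidvd _ h)
      omega
    have hoddP : ∀ m, ¬ r ∣ ∏ l ∈ Finset.range m, (q ^ (2 * (2 * l + 1)) - 1) := fun m h => by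
      obtain ⟨l, -, hl⟩ := hr.prime.dvd_finsetProd_iff _ |>.1 h
      exact hodd' l hl
    have hdesc := orth_descent (p := p) hN h2 hι (by omega) hK hKf
    rw [← hN', ← hq] at hdesc
    have hcancel : ∀ (A a b : ℕ) (X : ℕ), 0 < A → 2 * (q ^ 2) ^ a * A ∣ Nat.card N' →
        Nat.card (Cfsg.isometryGroup F ⇑Q) = 2 * q ^ b * (A * X) → ¬ r ∣ X → False := by
      intro A a b X hA h1 h2' hX
      have h3 := mul_dvd_mul hrN h1
      rw [hcardN, h2', show r * (2 * (q ^ 2) ^ a * A) = (r * (q ^ 2) ^ a) * (2 * A) by ring,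
        show 2 * q ^ b * (A * X) = (q ^ b * X) * (2 * A) by ring] at h3
      rcases hr.dvd_mul.1 ((dvd_mul_right r _).trans (Nat.dvd_of_mul_dvd_mul_right (by omega) h3)) with h | h
      · exact hrq _ h
      · exact hX h
    have hpos : ∀ m, 0 < ∏ l ∈ Finset.range m, ((q ^ 2) ^ (2 * (l + 1)) - 1) := fun m => Finset.prod_pos fun j _ =>
      Nat.sub_pos_of_lt (Nat.one_lt_pow (by omega) (Nat.one_lt_pow (by omega) (hq ▸ Fintype.one_lt_card)))
    have hev : ∀ m, ∏ l ∈ Finset.range m, (q ^ (2 * (2 * l + 1 + 1)) - 1) =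
        ∏ l ∈ Finset.range m, ((q ^ 2) ^ (2 * (l + 1)) - 1) := fun m =>
      Finset.prod_congr rfl fun l _ => by rw [← pow_mul]; ring_nf
    rcases hdesc with ⟨m, hm, hdv⟩ | ⟨m, hm, hdv⟩
    · -- odd dimension over the extension
      have hsplit := prod_range_double (fun j => q ^ (2 * (j + 1)) - 1) m
      rw [hev m] at hsplit
      rw [hm, show 2 * m + 1 - 1 = 2 * m by omega, hsplit] at hN₀
      rcases hN₀ with ⟨h, -⟩ | ⟨h, -⟩
      · refine hcancel _ (m ^ 2) Nq ((∏ l ∈ Finset.range m, (q ^ (2 * (2 * l + 1)) - 1)) * (q ^ (2 * m + 1) - 1))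
          (hpos m) hdv (h.trans (by ring)) (fun hX => ?_)
        rcases hr.dvd_mul.1 hX with h' | h'
        · exact hoddP m h'
        · have h1 := (Nat.dvd_of_mod_eq_zero h4).trans (hidvd _ h')
          omega
      · refine hcancel _ (m ^ 2) Nq ((∏ l ∈ Finset.range m, (q ^ (2 * (2 * l + 1)) - 1)) * (q ^ (2 * m + 1) + 1))
          (hpos m) hdv (h.trans (by ring)) (fun hX => ?_)
        rcases hr.dvd_mul.1 hX with h' | h'
        · exact hoddP m h'
        · have h1 := (Nat.dvd_of_mod_eq_zero h4).trans (hidvd' _ h').1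
          omega
    · -- even dimension over the extension
      have hsplit := prod_range_double (fun j => q ^ (2 * (j + 1)) - 1) m
      rw [hev m] at hsplit
      rw [hm, show 2 * m + 2 - 1 = 2 * m + 1 by omega, Finset.prod_range_succ, hsplit] at hN₀
      have hX : ¬ r ∣ (∏ l ∈ Finset.range m, (q ^ (2 * (2 * l + 1)) - 1)) * (q ^ (2 * (2 * m + 1)) - 1) := fun hX => by
        rcases hr.dvd_mul.1 hX with h' | h'
        · exact hoddP m h'
        · exact hodd' m h'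
      rcases hdv with ⟨hP, hdv⟩ | ⟨hP, hdv⟩ <;> rcases hN₀ with ⟨h, hP'⟩ | ⟨h, hP'⟩
      · refine hcancel (((q ^ 2) ^ (m + 1) - 1) * ∏ l ∈ Finset.range m, ((q ^ 2) ^ (2 * (l + 1)) - 1)) ((m + 1) * m) Nq
          _ (Nat.mul_pos (Nat.sub_pos_of_lt (Nat.one_lt_pow (by omega) (Nat.one_lt_pow (by omega) (hq ▸ Fintype.one_lt_card))))
            (hpos m)) (by rwa [← mul_assoc]) (h.trans (by rw [← pow_mul, show 2 * (m + 1) = 2 * m + 2 by ring]; ring)) hX
      · exact hP' hP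
      · exact hP hP'
      · refine hcancel (((q ^ 2) ^ (m + 1) + 1) * ∏ l ∈ Finset.range m, ((q ^ 2) ^ (2 * (l + 1)) - 1)) ((m + 1) * m) Nq
          _ (Nat.mul_pos (Nat.succ_pos _) (hpos m)) (by rwa [← mul_assoc])
            (h.trans (by rw [← pow_mul, show 2 * (m + 1) = 2 * m + 2 by ring]; ring)) hX
  -- a single block gives a derangement
  have hc4 : c % 4 = 2 := by
    rw [hc]
    split_ifs with hev
    · rw [Nat.even_iff] at hev; omega
    · rw [Nat.even_iff] at hev; omega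
  have hrO : r ∣ Nat.card (Cfsg.isometryGroup F ⇑Q) := hcardN ▸ hrN.mul_right _
  have hV : Module.finrank F (ι → F) = 2 * d := by rw [Module.finrank_fintype_fun_eq_card, hι]
  have hfit : c < 2 * d ∨ (c = 2 * d ∧ (QPlus Q ⊤ ↔ Odd i)) := by
    have hmain : ∀ X : ℕ, r ∣ 2 * q ^ Nq * (∏ j ∈ Finset.range (d - 1), (q ^ (2 * (j + 1)) - 1)) * X →
        (c < 2 * d) ∨ r ∣ X := by
      intro X h
      rcases hr.dvd_mul.1 h with h | h
      · rcases hr.dvd_mul.1 h with h | h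
        · rcases hr.dvd_mul.1 h with h | h
          · exact absurd h hr2'
          · exact absurd h (hrq _)
        · obtain ⟨j, hj, hj'⟩ := hr.prime.dvd_finsetProd_iff _ |>.1 h
          rw [Finset.mem_range] at hj
          have h1 := hidvd _ hj'
          refine Or.inl ?_
          rw [hc]
          split_ifs with hev
          · have := Nat.le_of_dvd (by omega) h1
            omega
          · have := Nat.le_of_dvd (by omega)
              ((Nat.coprime_two_right.2 (Nat.not_even_iff_odd.1 hev)).dvd_of_dvd_mul_left h1)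
            omega
      · exact Or.inr h
    rcases hN₀ with ⟨h, hP⟩ | ⟨h, hP⟩ <;> rw [h] at hrO <;> rcases hmain _ hrO with h' | h'
    · exact Or.inl h'
    · have hid := Nat.le_of_dvd (by omega) (hidvd _ h')
      rw [hc]
      split_ifs with hev
      · exact Or.inl (by omega)
      · rcases Nat.lt_or_eq_of_le hid with hlt | heq
        · exact Or.inl (by omega)
        · exact Or.inr ⟨by omega, iff_of_true hP (Nat.not_even_iff_odd.1 hev)⟩
    · exact Or.inl h'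
    · obtain ⟨h1, h1'⟩ := hidvd' _ h'
      have hev : Even i := by
        by_contra hev
        exact h1' ((Nat.coprime_two_right.2 (Nat.not_even_iff_odd.1 hev)).dvd_of_dvd_mul_left h1)
      rw [hc, if_pos hev]
      rcases Nat.lt_or_eq_of_le (Nat.le_of_dvd (by omega) h1) with hlt | heq
      · exact Or.inl hlt
      · exact Or.inr ⟨heq, iff_of_false hP (Nat.not_odd_iff_even.2 hev)⟩
  obtain ⟨W, hW, hWd, hWp⟩ : ∃ W : Submodule F (ι → F), QNd Q W ∧ Module.finrank F W = c ∧ (QPlus Q W ↔ Odd i) := by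
    rcases hfit with hlt | ⟨heq, hty⟩
    · obtain ⟨h, hh⟩ : ∃ h, c = 2 * h := ⟨c / 2, by omega⟩
      obtain ⟨W, -, h1, h3, h5⟩ := exists_sub_type (qnd_top hN) (h := h) (by omega) (by rw [finrank_top, hV]; omega) (Odd i)
      exact ⟨W, h1, by omega, h5⟩
    · exact ⟨⊤, qnd_top hN, by rw [finrank_top, hV, heq], hty⟩
  obtain ⟨x, hx, hxr, hns, hno⟩ := derange_semisimple (p := p) hrp hr2 hN h2 hι (by omega) hK hKf
    (hi.trans (by rw [hq])) hc hc4 hW hWd hWp
  obtain ⟨g, hg, hgx⟩ := hL x hx ⟨1, by rw [hxr, Units.val_one, one_smul]⟩ hns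
  exact hno g hg hgx

end CfsgLib.Perm.Elusive.OrthField
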