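import Mathlib
import Cfsg.Agent.Lib.Perm.Elusive.OrthInvolution

/-!
# Involutions of quadratic spaces in characteristic two and the subspaces they fix
-/

set_option autoImplicit false
set_option linter.all false

namespace CfsgLib.Perm.Elusive

open CfsgLib.Classical
open scoped Matrix

variable {F : Type*} [Field F] [Fintype F] {V : Type*} [AddCommGroup V] [Module F V] [FiniteDimensional F V]
variable {Q : QuadraticForm F V} {T : V →ₗ[F] V}

theorem invol_sq (h2 : (2 : F) = 0) (hTT : ∀ v, T (T v) = v) (v : V) : (T - 1) ((T - 1) v) = 0 := by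
  have h : (T - 1) ((T - 1) v) = (2 : F) • (v - T v) := by
    simp only [map_sub, LinearMap.sub_apply, Module.End.one_apply, hTT]
    module
  rw [h, h2, zero_smul]

theorem invol_polar (hI : ∀ v, Q (T v) = Q v) (hTT : ∀ v, T (T v) = v) (u v : V) :
    QuadraticMap.polar Q ((T - 1) u) v = QuadraticMap.polar Q u ((T - 1) v) := by
  have h := polar_map hI u (T v)
  rw [hTT] at h
  simp only [LinearMap.sub_apply, Module.End.one_apply, QuadraticMap.polar_sub_left, QuadraticMap.polar_sub_right, h]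

theorem invol_value (h2 : (2 : F) = 0) (hI : ∀ v, Q (T v) = Q v) (v : V) :
    Q ((T - 1) v) = QuadraticMap.polar Q v ((T - 1) v) := by
  have h := hI v
  rw [show T v = v + (T - 1) v by simp, QuadraticMap.map_add (⇑Q)] at h
  linear_combination h - QuadraticMap.polar Q v ((T - 1) v) * h2

theorem invol_self (h2 : (2 : F) = 0) (v : V) : QuadraticMap.polar Q v v = 0 := by
  rw [QuadraticMap.polar_self]
  simp [h2]

theorem map_sub_one_le {W : Submodule F V} (hW : ∀ u ∈ W, T u ∈ W) : W.map (T - 1) ≤ W := by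
  rintro _ ⟨u, hu, rfl⟩
  exact W.sub_mem (hW u hu) hu

/-- splitting an invariant space -/
theorem invol_split (hI : ∀ v, Q (T v) = Q v) (hTT : ∀ v, T (T v) = v) {E U : Submodule F V}
    (hE : ∀ u ∈ E, T u ∈ E) (hEn : QNd Q E) (hU : ∀ u ∈ U, T u ∈ U) (hUn : QNd Q U) (hUE : U ≤ E) :
    (∀ u ∈ E ⊓ (qB Q).orthogonal U, T u ∈ E ⊓ (qB Q).orthogonal U) ∧ QNd Q (E ⊓ (qB Q).orthogonal U) ∧
      U ⊔ (E ⊓ (qB Q).orthogonal U) = E ∧
      Module.finrank F U + Module.finrank F (E ⊓ (qB Q).orthogonal U : Submodule F V) = Module.finrank F E ∧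
      Module.finrank F (U.map (T - 1)) + Module.finrank F ((E ⊓ (qB Q).orthogonal U).map (T - 1)) =
        Module.finrank F (E.map (T - 1)) := by
  obtain ⟨hn, hsup, hd⟩ := qnd_inf_orth hEn hUn hUE
  have hinv : ∀ u ∈ E ⊓ (qB Q).orthogonal U, T u ∈ E ⊓ (qB Q).orthogonal U := fun u hu =>
    ⟨hE u hu.1, orth_invariant (polar_refl Q) (B := qB Q) (fun a b => polar_map hI a b)
      (Function.LeftInverse.injective hTT) hU u hu.2⟩
  refine ⟨hinv, hn, hsup, hd, ?_⟩
  conv_rhs => rw [← hsup, Submodule.map_sup]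
  have h := Submodule.finrank_sup_add_finrank_inf_eq (U.map (T - 1)) ((E ⊓ (qB Q).orthogonal U).map (T - 1))
  have hdj : Disjoint (U.map (T - 1)) ((E ⊓ (qB Q).orthogonal U).map (T - 1)) :=
    Disjoint.mono (map_sub_one_le hU) ((map_sub_one_le hinv).trans inf_le_right) hUn
  rw [hdj.eq_bot, finrank_bot, add_zero] at h
  exact h.symm

/-- orthogonal sums of invariant spaces -/
theorem invol_sup {U W : Submodule F V} (hU : ∀ u ∈ U, T u ∈ U) (hW : ∀ u ∈ W, T u ∈ W) :
    ∀ u ∈ U ⊔ W, T u ∈ U ⊔ W := fun u hu => by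
  obtain ⟨a, ha, b, hb, rfl⟩ := Submodule.mem_sup.1 hu
  rw [map_add]
  exact Submodule.add_mem_sup (hU a ha) (hW b hb)

/-- parity of the rank where the associated form alternates -/
theorem invol_rank_even (h2 : (2 : F) = 0) (hI : ∀ v, Q (T v) = Q v) (hTT : ∀ v, T (T v) = v) {W : Submodule F V}
    (hW : ∀ u ∈ W, T u ∈ W) (hWn : QNd Q W) (halt : ∀ w ∈ W, Q ((T - 1) w) = 0) :
    Even (Module.finrank F (W.map (T - 1))) := by
  obtain ⟨f, hf⟩ : ∃ f : W →ₗ[F] V, f = (T - 1).comp W.subtype := ⟨_, rfl⟩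
  obtain ⟨β, hβ⟩ : ∃ β : LinearMap.BilinForm F W, ∀ a b : W,
      β a b = QuadraticMap.polar Q ((T - 1) (a : V)) (b : V) :=
    ⟨(qB Q).compl₁₂ ((T - 1).comp W.subtype) W.subtype, fun a b => rfl⟩
  have hA : β.IsAlt := fun a => by
    rw [hβ, QuadraticMap.polar_comm, ← invol_value h2 hI, halt _ a.2]
  obtain ⟨C, hC⟩ := Submodule.exists_isCompl (LinearMap.ker f)
  have hCn : Disjoint C (β.orthogonal C) := (disjoint_orth_iff hA.isRefl C).2 fun u hu hu0 => by
    by_contra hno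
    push Not at hno
    refine hu0 (Submodule.disjoint_def.1 hC.disjoint u ?_ hu)
    rw [LinearMap.mem_ker, hf]
    by_contra hne
    obtain ⟨v, hv, hv'⟩ := (qnd_iff Q W).1 hWn _ (map_sub_one_le hW ⟨u, u.2, rfl⟩) hne
    have htop : (⟨v, hv⟩ : W) ∈ LinearMap.ker f ⊔ C := by rw [hC.sup_eq_top]; exact Submodule.mem_top
    obtain ⟨k, hk, c, hc, hkc⟩ := Submodule.mem_sup.1 htop
    have hk0 : (T - 1) (k : V) = 0 := by
      have := LinearMap.mem_ker.1 hk
      rw [hf] at this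
      exact this
    refine hv' ?_
    rw [show v = (k : V) + c from (congrArg Subtype.val hkc).symm, QuadraticMap.polar_add_right,
      invol_polar hI hTT, hk0, QuadraticMap.polar_zero_right, zero_add, ← hβ]
    exact hno c hc
  obtain ⟨k, hk, -⟩ := block_chain (B := β) hA.isRefl (T := LinearMap.id) (fun a b => rfl) Function.injective_id
    two_pos (S₀ := ⊤) (fun S _ _ hnd hne => by
      obtain ⟨P, hP, hPn, hPd⟩ := exists_plane hA hnd hne
      exact ⟨P, hP, fun u hu => hu, hPn, hPd⟩) le_top (fun u hu => hu) hCn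
  have h1 := Submodule.finrank_add_eq_of_isCompl hC
  have h3 := LinearMap.finrank_range_add_finrank_ker f
  have h4 : LinearMap.range f = W.map (T - 1) := by rw [hf, LinearMap.range_comp, Submodule.range_subtype]
  rw [h4] at h3
  exact ⟨k, by omega⟩

/-- the plane of a vector with nonsingular image -/
theorem invol_plane (h2 : (2 : F) = 0) (hI : ∀ v, Q (T v) = Q v) (hTT : ∀ v, T (T v) = v) {E : Submodule F V}
    (hE : ∀ u ∈ E, T u ∈ E) {v : V} (hv : v ∈ E) (hn : Q ((T - 1) v) ≠ 0) :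
    ∃ P ≤ E, v ∈ P ∧ (T - 1) v ∈ P ∧ (∀ u ∈ P, T u ∈ P) ∧ QNd Q P ∧ Module.finrank F P = 2 ∧
      Module.finrank F (P.map (T - 1)) = 1 ∧ (Q v = 0 → QPlus Q P) := by
  obtain ⟨n, hnv⟩ : ∃ n, n = (T - 1) v := ⟨_, rfl⟩
  obtain ⟨L, hL⟩ : ∃ L : (Fin 2 → F) →ₗ[F] V, ∀ z, L z = z 0 • v + z 1 • n :=
    ⟨Fintype.linearCombination F ![v, n], fun z => by simp [Fintype.linearCombination_apply, Fin.sum_univ_two]⟩
  have hNn : (T - 1) n = 0 := by rw [hnv]; exact invol_sq h2 hTT v
  have hb : QuadraticMap.polar Q v n ≠ 0 := by rw [hnv, ← invol_value h2 hI]; exact hn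
  have hNL : ∀ z, (T - 1) (L z) = z 0 • n := fun z => by
    rw [hL, map_add, map_smul, map_smul, hNn, smul_zero, add_zero, hnv]
  have key : ∀ z, (∀ z', QuadraticMap.polar Q (L z) (L z') = 0) → z = 0 := fun z hz => by
    have e1 := hz ![0, 1]
    have e2 := hz ![1, 0]
    simp only [hL, Matrix.cons_val_zero, Matrix.cons_val_one, zero_smul, one_smul, zero_add, add_zero,
      QuadraticMap.polar_add_left, QuadraticMap.polar_smul_left, invol_self h2, smul_eq_mul, mul_zero,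
      QuadraticMap.polar_comm Q n v, mul_eq_zero, hb, or_false] at e1 e2
    funext i
    fin_cases i <;> assumption
  have hinj : Function.Injective L := (injective_iff_map_eq_zero L).2 fun z hz => key z fun z' => by
    rw [hz, QuadraticMap.polar_zero_left]
  refine ⟨LinearMap.range L, ?_, ⟨![1, 0], by simp [hL]⟩, ⟨![0, 1], by simp [hL, hnv]⟩, ?_, ?_, ?_, ?_, fun h0 => ?_⟩
  · rintro _ ⟨z, rfl⟩
    rw [hL, hnv]
    exact E.add_mem (E.smul_mem _ hv) (E.smul_mem _ (E.sub_mem (hE v hv) hv))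
  · rintro _ ⟨z, rfl⟩
    refine ⟨![z 0, z 0 + z 1], ?_⟩
    rw [show T (L z) = L z + (T - 1) (L z) by simp, hNL, hL, hL]
    simp only [Matrix.cons_val_zero, Matrix.cons_val_one]
    module
  · refine (qnd_iff Q _).2 ?_
    rintro _ ⟨z, rfl⟩ hu
    by_contra hno
    push Not at hno
    exact hu (by rw [key z fun z' => hno _ ⟨z', rfl⟩, map_zero])
  · rw [LinearMap.finrank_range_of_inj hinj, Module.finrank_fin_fun]
  · rw [show (LinearMap.range L).map (T - 1) = Submodule.span F {n} from le_antisymm (by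
        rintro _ ⟨_, ⟨z, rfl⟩, rfl⟩
        rw [hNL]
        exact Submodule.smul_mem _ _ (Submodule.mem_span_singleton_self n))
      ((Submodule.span_singleton_le_iff_mem _ _).2 ⟨L ![1, 0], ⟨_, rfl⟩, by rw [hNL]; simp⟩)]
    exact finrank_span_singleton fun h => hn (by rw [← hnv, h, map_zero])
  · refine ⟨Submodule.span F {v}, (Submodule.span_singleton_le_iff_mem _ _).2 ⟨![1, 0], by simp [hL]⟩, ?_, ?_⟩
    · intro u hu
      obtain ⟨c, rfl⟩ := Submodule.mem_span_singleton.1 hu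
      rw [QuadraticMap.map_smul, h0, smul_zero]
    · rw [finrank_span_singleton (fun h => hn (by rw [h, map_zero, map_zero])), LinearMap.finrank_range_of_inj hinj,
        Module.finrank_fin_fun]

/-- adjusting the type of a plane -/
theorem invol_adjust (h2 : (2 : F) = 0) (hI : ∀ v, Q (T v) = Q v) (hTT : ∀ v, T (T v) = v) {E : Submodule F V}
    (hE : ∀ u ∈ E, T u ∈ E) (hEn : QNd Q E) {v : V} (hv : v ∈ E) (hn : Q ((T - 1) v) ≠ 0) :
    (∃ P ≤ E, (∀ u ∈ P, T u ∈ P) ∧ QNd Q P ∧ Module.finrank F P = 2 ∧ Module.finrank F (P.map (T - 1)) = 1 ∧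
      QPlus Q P) ∨
    ∃ P ≤ E, (∀ u ∈ P, T u ∈ P) ∧ QNd Q P ∧ Module.finrank F P = 2 ∧ Module.finrank F (P.map (T - 1)) = 1 ∧
      ∀ k ∈ E ⊓ (qB Q).orthogonal P, T k = k → Q k = 0 := by
  obtain ⟨P, hP, hvP, hnP, hPi, hPn, hPd, hPr, -⟩ := invol_plane h2 hI hTT hE hv hn
  by_cases hall : ∀ k ∈ E ⊓ (qB Q).orthogonal P, T k = k → Q k = 0
  · exact Or.inr ⟨P, hP, hPi, hPn, hPd, hPr, hall⟩
  push Not at hall
  obtain ⟨k, hk, hkT, hkQ⟩ := hall
  haveI : CharP F 2 := CharTwo.of_one_ne_zero_of_two_eq_zero one_ne_zero h2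
  obtain ⟨c, hc⟩ := FiniteField.isSquare_of_char_two (ringChar.eq F 2) (Q v / Q k)
  rw [div_eq_iff hkQ] at hc
  have hv' : v + c • k ∈ E := E.add_mem hv (E.smul_mem c hk.1)
  have hN' : (T - 1) (v + c • k) = (T - 1) v := by simp [hkT]
  have hQ' : Q (v + c • k) = 0 := by
    rw [QuadraticMap.map_add (⇑Q), QuadraticMap.map_smul, QuadraticMap.polar_smul_right,
      show QuadraticMap.polar Q v k = 0 from hk.2 v hvP, smul_eq_mul, smul_eq_mul, mul_zero, add_zero]
    linear_combination hc + (c * c * Q k) * h2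
  obtain ⟨P', h1, -, -, h3, h4, h5, h6, h7⟩ := invol_plane h2 hI hTT hE hv' (by rwa [hN'])
  exact Or.inl ⟨P', h1, h3, h4, h5, h6, h7 hQ'⟩

/-- even rank: a plus plane -/
theorem invol_plus_plane (h2 : (2 : F) = 0) (hI : ∀ v, Q (T v) = Q v) (hTT : ∀ v, T (T v) = v) {E : Submodule F V}
    (hE : ∀ u ∈ E, T u ∈ E) (hEn : QNd Q E) (hev : Even (Module.finrank F (E.map (T - 1)))) {v : V} (hv : v ∈ E)
    (hn : Q ((T - 1) v) ≠ 0) :
    ∃ P ≤ E, (∀ u ∈ P, T u ∈ P) ∧ QNd Q P ∧ Module.finrank F P = 2 ∧ Module.finrank F (P.map (T - 1)) = 1 ∧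
      QPlus Q P := by
  rcases invol_adjust h2 hI hTT hE hEn hv hn with h | ⟨P, hP, hPi, hPn, hPd, hPr, hall⟩
  · exact h
  exfalso
  obtain ⟨hi, hn', -, -, hr⟩ := invol_split hI hTT hE hEn hPi hPn hP
  have hpar := invol_rank_even h2 hI hTT hi hn' fun w hw =>
    hall _ (map_sub_one_le hi ⟨w, hw, rfl⟩) (sub_eq_zero.1 (by
      show (T - 1) ((T - 1) w) = 0
      exact invol_sq h2 hTT w))
  rw [← hr, hPr] at hev
  obtain ⟨s, hs⟩ := hev
  obtain ⟨t, ht⟩ := hpar
  omega

/-- the four-dimensional block with singular image -/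
theorem invol_quad (h2 : (2 : F) = 0) (hI : ∀ v, Q (T v) = Q v) (hTT : ∀ v, T (T v) = v) {E : Submodule F V}
    (hE : ∀ u ∈ E, T u ∈ E) (hEn : QNd Q E) (halt : ∀ w ∈ E, Q ((T - 1) w) = 0) {v : V} (hv : v ∈ E)
    (hn : (T - 1) v ≠ 0) :
    ∃ U ≤ E, (∀ u ∈ U, T u ∈ U) ∧ QNd Q U ∧ Module.finrank F U = 4 ∧ Module.finrank F (U.map (T - 1)) = 2 ∧
      QPlus Q U := by
  obtain ⟨w, hw, hvw⟩ := (qnd_iff Q E).1 hEn _ (map_sub_one_le hE ⟨v, hv, rfl⟩) hn
  obtain ⟨a, ha⟩ : ∃ a, a = (T - 1) v := ⟨_, rfl⟩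
  obtain ⟨b, hb⟩ : ∃ b, b = (T - 1) w := ⟨_, rfl⟩
  rw [← ha] at hvw
  obtain ⟨L, hL⟩ : ∃ L : (Fin 4 → F) →ₗ[F] V, ∀ z, L z = z 0 • v + z 1 • w + z 2 • a + z 3 • b :=
    ⟨Fintype.linearCombination F ![v, w, a, b], fun z => by
      simp [Fintype.linearCombination_apply, Fin.sum_univ_four]⟩
  have hNa : (T - 1) a = 0 := by rw [ha]; exact invol_sq h2 hTT v
  have hNb : (T - 1) b = 0 := by rw [hb]; exact invol_sq h2 hTT w
  have hva : QuadraticMap.polar Q v a = 0 := by rw [ha, ← invol_value h2 hI]; exact halt v hv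
  have hwb : QuadraticMap.polar Q w b = 0 := by rw [hb, ← invol_value h2 hI]; exact halt w hw
  have hvb : QuadraticMap.polar Q v b = QuadraticMap.polar Q a w := by rw [hb, ← invol_polar hI hTT, ha]
  have hab : QuadraticMap.polar Q a b = 0 := by
    rw [ha, invol_polar hI hTT, hNb, QuadraticMap.polar_zero_right]
  have hNL : ∀ z, (T - 1) (L z) = z 0 • a + z 1 • b := fun z => by
    rw [hL, map_add, map_add, map_add, map_smul, map_smul, map_smul, map_smul, hNa, hNb, smul_zero, smul_zero,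
      add_zero, add_zero, ha, hb]
  have key : ∀ z, (∀ z', QuadraticMap.polar Q (L z) (L z') = 0) → z = 0 := fun z hz => by
    have e3 := hz ![0, 0, 1, 0]
    have e4 := hz ![0, 0, 0, 1]
    have e1 := hz ![1, 0, 0, 0]
    have e2 := hz ![0, 1, 0, 0]
    simp only [hL, Matrix.cons_val_zero, Matrix.cons_val_one, Matrix.cons_val, zero_smul, one_smul, zero_add, add_zero,
      QuadraticMap.polar_add_left, QuadraticMap.polar_smul_left, invol_self h2, smul_eq_mul, mul_zero,
      QuadraticMap.polar_comm Q a v, QuadraticMap.polar_comm Q b v, QuadraticMap.polar_comm Q b w,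
      QuadraticMap.polar_comm Q w a, QuadraticMap.polar_comm Q b a, QuadraticMap.polar_comm Q w v,
      hva, hwb, hvb, hab, mul_eq_zero, hvw, or_false] at e1 e2 e3 e4
    have h1 : z 1 = 0 := e3
    have h0 : z 0 = 0 := e4
    rw [h1, zero_mul, zero_add, mul_eq_zero] at e1
    rw [h0, zero_mul, zero_add, mul_eq_zero] at e2
    funext i
    fin_cases i
    · exact h0
    · exact h1
    · exact e2.resolve_right hvw
    · exact e1.resolve_right hvw
  have hinj : Function.Injective L := (injective_iff_map_eq_zero L).2 fun z hz => key z fun z' => by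
    rw [hz, QuadraticMap.polar_zero_left]
  obtain ⟨J, hJ⟩ : ∃ J : (Fin 2 → F) →ₗ[F] (Fin 4 → F), ∀ z, J z = ![0, 0, z 0, z 1] :=
    ⟨{ toFun := fun z => ![0, 0, z 0, z 1]
       map_add' := fun x y => by ext i; fin_cases i <;> simp
       map_smul' := fun c x => by ext i; fin_cases i <;> simp }, fun z => rfl⟩
  have hJi : Function.Injective J := fun x y h => by
    rw [hJ, hJ] at h
    funext i
    fin_cases i
    · simpa using congrFun h 2
    · simpa using congrFun h 3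
  have hmap : (LinearMap.range L).map (T - 1) = LinearMap.range (L.comp J) := le_antisymm
    (by
      rintro _ ⟨_, ⟨z, rfl⟩, rfl⟩
      exact ⟨![z 0, z 1], by rw [LinearMap.comp_apply, hJ, hNL, hL]; simp⟩)
    (by
      rintro _ ⟨z, rfl⟩
      exact ⟨L ![z 0, z 1, 0, 0], ⟨_, rfl⟩, by rw [LinearMap.comp_apply, hJ, hNL, hL]; simp⟩)
  have hrk : Module.finrank F ((LinearMap.range L).map (T - 1)) = 2 := by
    rw [hmap, LinearMap.finrank_range_of_inj (f := L.comp J) (hinj.comp hJi), Module.finrank_fin_fun]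
  have hd : Module.finrank F (LinearMap.range L) = 4 := by
    rw [LinearMap.finrank_range_of_inj hinj, Module.finrank_fin_fun]
  have hUi : ∀ u ∈ LinearMap.range L, T u ∈ LinearMap.range L := by
    rintro _ ⟨z, rfl⟩
    refine ⟨![z 0, z 1, z 0 + z 2, z 1 + z 3], ?_⟩
    rw [show T (L z) = L z + (T - 1) (L z) by simp, hNL, hL, hL]
    simp only [Matrix.cons_val_zero, Matrix.cons_val_one, Matrix.cons_val]
    module
  have hle : LinearMap.range L ≤ E := by
    rintro _ ⟨z, rfl⟩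
    rw [hL, ha, hb]
    exact E.add_mem (E.add_mem (E.add_mem (E.smul_mem _ hv) (E.smul_mem _ hw))
      (E.smul_mem _ (E.sub_mem (hE v hv) hv))) (E.smul_mem _ (E.sub_mem (hE w hw) hw))
  refine ⟨LinearMap.range L, hle, hUi, ?_, hd, hrk, (LinearMap.range L).map (T - 1), map_sub_one_le hUi, ?_, by
    rw [hrk, hd]⟩
  · refine (qnd_iff Q _).2 ?_
    rintro _ ⟨z, rfl⟩ hu
    by_contra hno
    push Not at hno
    exact hu (by rw [key z fun z' => hno _ ⟨z', rfl⟩, map_zero])
  · rintro _ ⟨u, hu, rfl⟩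
    exact halt u (hle hu)

/-- a plus four-space of even rank -/
theorem invol_step (h2 : (2 : F) = 0) (hI : ∀ v, Q (T v) = Q v) (hTT : ∀ v, T (T v) = v) {E : Submodule F V}
    (hE : ∀ u ∈ E, T u ∈ E) (hEn : QNd Q E) {e : ℕ} (hd : Module.finrank F E = 2 * e) (he : 3 ≤ e)
    (hev : Even (Module.finrank F (E.map (T - 1)))) :
    ∃ U ≤ E, (∀ u ∈ U, T u ∈ U) ∧ QNd Q U ∧ Module.finrank F U = 4 ∧ Even (Module.finrank F (U.map (T - 1))) ∧
      QPlus Q U := by
  by_cases hc : ∃ v ∈ E, Q ((T - 1) v) ≠ 0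
  · obtain ⟨v, hv, hn⟩ := hc
    obtain ⟨P, hP, hPi, hPn, hPd, hPr, hPp⟩ := invol_plus_plane h2 hI hTT hE hEn hev hv hn
    obtain ⟨hi, hn', -, hdim, hr⟩ := invol_split hI hTT hE hEn hPi hPn hP
    have hv' : ∃ v' ∈ E ⊓ (qB Q).orthogonal P, Q ((T - 1) v') ≠ 0 := by
      by_contra hno
      push Not at hno
      obtain ⟨s, hs⟩ := hev
      obtain ⟨t, ht⟩ := invol_rank_even h2 hI hTT hi hn' hno
      omega
    obtain ⟨v', hv', hn''⟩ := hv'
    rcases invol_adjust h2 hI hTT hi hn' hv' hn'' with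
      ⟨R, hR, hRi, hRn, hRd, hRr, hRp⟩ | ⟨R, hR, hRi, hRn, hRd, hRr, hall⟩
    · have ho : ∀ u ∈ P, ∀ w ∈ R, QuadraticMap.polar Q u w = 0 := fun u hu w hw => (hR hw).2 u hu
      refine ⟨P ⊔ R, sup_le hP (hR.trans inf_le_left), invol_sup hPi hRi,
        sup_nd (polar_refl Q) hPn hRn fun w hw u hu => ho u hu w hw, ?_, ?_,
        (qplus_sup_iff hPn hRn ho (h := 1) (h' := 1) hPd hRd).2 (iff_of_true hPp hRp)⟩
      · rw [finrank_sup_polar hPn ho, hPd, hRd]
      · have hle : Module.finrank F ((P ⊔ R).map (T - 1)) = 2 := by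
          rw [Submodule.map_sup]
          have h := Submodule.finrank_sup_add_finrank_inf_eq (P.map (T - 1)) (R.map (T - 1))
          have hdj : Disjoint (P.map (T - 1)) (R.map (T - 1)) :=
            Disjoint.mono (map_sub_one_le hPi) ((map_sub_one_le hRi).trans (hR.trans inf_le_right)) hPn
          rw [hdj.eq_bot, finrank_bot, add_zero, hPr, hRr] at h
          exact h
        rw [hle]
        exact even_two
    · obtain ⟨hi', hn3, -, hdim', -⟩ := invol_split hI hTT hi hn' hRi hRn hR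
      obtain ⟨G, hG⟩ : ∃ G, G = E ⊓ (qB Q).orthogonal P ⊓ (qB Q).orthogonal R := ⟨_, rfl⟩
      rw [← hG] at hi' hn3 hdim' hall
      have hsing : ∀ w ∈ G, Q ((T - 1) w) = 0 := fun w hw =>
        hall _ (map_sub_one_le hi' ⟨w, hw, rfl⟩) (sub_eq_zero.1 (invol_sq h2 hTT w))
      have hmove : ∃ w ∈ G, (T - 1) w ≠ 0 := by
        by_contra hno
        push Not at hno
        have hz : ∀ w ∈ G, Q w = 0 := fun w hw => hall w hw (sub_eq_zero.1 (hno w hw))
        have hbot : G = ⊥ := (Submodule.eq_bot_iff _).2 fun w hw => by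
          by_contra h0
          obtain ⟨y, hy, hne⟩ := (qnd_iff Q G).1 hn3 w hw h0
          exact hne (by rw [QuadraticMap.polar, hz _ (G.add_mem hw hy), hz w hw, hz y hy]; simp)
        rw [hbot, finrank_bot] at hdim'
        omega
      obtain ⟨w, hw, hw0⟩ := hmove
      obtain ⟨U, hU, hUi, hUn, hUd, hUr, hUp⟩ := invol_quad h2 hI hTT hi' hn3 hsing hw hw0
      exact ⟨U, hU.trans (hG ▸ inf_le_left.trans inf_le_left), hUi, hUn, hUd, hUr ▸ even_two, hUp⟩
  · push Not at hc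
    by_cases hm : ∃ v ∈ E, (T - 1) v ≠ 0
    · obtain ⟨v, hv, hn⟩ := hm
      obtain ⟨U, hU, hUi, hUn, hUd, hUr, hUp⟩ := invol_quad h2 hI hTT hE hEn hc hv hn
      exact ⟨U, hU, hUi, hUn, hUd, hUr ▸ even_two, hUp⟩
    · push Not at hm
      obtain ⟨U, hU, hUn, hUd, hUp⟩ := exists_sub_type hEn (h := 2) (by omega) (by omega) True
      have hbot : U.map (T - 1) = ⊥ := eq_bot_iff.2 (by
        rintro _ ⟨u, hu, rfl⟩
        rw [hm u (hU hu)]
        exact zero_mem _)
      refine ⟨U, hU, fun u hu => ?_, hUn, hUd, ?_, hUp.2 trivial⟩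
      · rw [show T u = u + (T - 1) u by simp, hm u (hU hu), add_zero]; exact hu
      · rw [hbot, finrank_bot]; exact Even.zero

/-- plus spaces of dimension divisible by four -/
theorem invol_even_chain (h2 : (2 : F) = 0) (hI : ∀ v, Q (T v) = Q v) (hTT : ∀ v, T (T v) = v) (j : ℕ) :
    ∀ {E : Submodule F V}, (∀ u ∈ E, T u ∈ E) → QNd Q E → ∀ {e : ℕ}, Module.finrank F E = 2 * e → 2 * j < e →
    Even (Module.finrank F (E.map (T - 1))) →
    ∃ W ≤ E, (∀ u ∈ W, T u ∈ W) ∧ QNd Q W ∧ Module.finrank F W = 2 * (2 * j) ∧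
      Even (Module.finrank F (W.map (T - 1))) ∧ QPlus Q W := by
  induction j with
  | zero =>
    intro E _ _ e _ _ _
    exact ⟨⊥, bot_le, fun u hu => by rw [(Submodule.mem_bot F).1 hu, map_zero]; exact zero_mem _, qnd_bot Q,
      by simp, by rw [Submodule.map_bot, finrank_bot]; exact Even.zero, qplus_bot Q⟩
  | succ j ih =>
    intro E hE hEn e hd hlt hev
    obtain ⟨U, hU, hUi, hUn, hUd, hUev, hUp⟩ := invol_step h2 hI hTT hE hEn hd (by omega) hev
    obtain ⟨hi, hn, -, hdim, hr⟩ := invol_split hI hTT hE hEn hUi hUn hU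
    rw [← hr, Nat.even_add] at hev
    obtain ⟨W, hW, hWi, hWn, hWd, hWev, hWp⟩ := ih hi hn (e := e - 2) (by omega) (by omega) (hev.1 hUev)
    have ho : ∀ u ∈ U, ∀ w ∈ W, QuadraticMap.polar Q u w = 0 := fun u hu w hw => (hW hw).2 u hu
    refine ⟨U ⊔ W, sup_le hU (hW.trans inf_le_left), invol_sup hUi hWi,
      sup_nd (polar_refl Q) hUn hWn fun w hw u hu => ho u hu w hw, ?_, ?_,
      (qplus_sup_iff hUn hWn ho (h := 2) (h' := 2 * j) hUd hWd).2 (iff_of_true hUp hWp)⟩
    · rw [finrank_sup_polar hUn ho, hUd, hWd]; ring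
    · rw [Submodule.map_sup]
      have h := Submodule.finrank_sup_add_finrank_inf_eq (U.map (T - 1)) (W.map (T - 1))
      have hdj : Disjoint (U.map (T - 1)) (W.map (T - 1)) :=
        Disjoint.mono (map_sub_one_le hUi) ((map_sub_one_le hWi).trans (hW.trans inf_le_right)) hUn
      rw [hdj.eq_bot, finrank_bot, add_zero] at h
      rw [h]
      exact hUev.add hWev

/-- minus spaces with an even number of planes contain plus planes -/
theorem invol_minus_plane (h2 : (2 : F) = 0) (hI : ∀ v, Q (T v) = Q v) (hTT : ∀ v, T (T v) = v) (j : ℕ) :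
    ∀ {E : Submodule F V}, (∀ u ∈ E, T u ∈ E) → QNd Q E → Module.finrank F E = 2 * (2 * j) →
    Even (Module.finrank F (E.map (T - 1))) → ¬ QPlus Q E →
    ∃ P ≤ E, (∀ u ∈ P, T u ∈ P) ∧ QNd Q P ∧ Module.finrank F P = 2 ∧ QPlus Q P := by
  induction j with
  | zero =>
    intro E _ _ hd _ hE
    have hb : E = ⊥ := Submodule.finrank_eq_zero.1 (by omega)
    exact absurd (hb ▸ qplus_bot Q) hE
  | succ j ih =>
    intro E hE hEn hd hev hmin
    by_cases hc : ∃ v ∈ E, Q ((T - 1) v) ≠ 0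
    · obtain ⟨v, hv, hn⟩ := hc
      obtain ⟨P, h1, h2', h3, h4, -, h5⟩ := invol_plus_plane h2 hI hTT hE hEn hev hv hn
      exact ⟨P, h1, h2', h3, h4, h5⟩
    push Not at hc
    by_cases hm : ∃ v ∈ E, (T - 1) v ≠ 0
    · obtain ⟨v, hv, hn⟩ := hm
      obtain ⟨U, hU, hUi, hUn, hUd, hUr, hUp⟩ := invol_quad h2 hI hTT hE hEn hc hv hn
      obtain ⟨hi, hn', hsup, hdim, hr⟩ := invol_split hI hTT hE hEn hUi hUn hU
      rw [← hr, Nat.even_add, hUr] at hev
      obtain ⟨P, h1, h2', h3, h4, h5⟩ := ih hi hn' (by omega) (hev.1 even_two) fun hp => hmin (by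
        rw [← hsup]
        exact (qplus_sup_iff hUn hn' (fun u hu w hw => hw.2 u hu) (h := 2) (h' := 2 * j) hUd (by omega)).2
          (iff_of_true hUp hp))
      exact ⟨P, h1.trans inf_le_left, h2', h3, h4, h5⟩
    · push Not at hm
      obtain ⟨P, hP, hPn, hPd, hPp⟩ := exists_sub_type hEn (h := 1) le_rfl (by omega) True
      refine ⟨P, hP, fun u hu => ?_, hPn, by omega, hPp.2 trivial⟩
      rw [show T u = u + (T - 1) u by simp, hm u (hP hu), add_zero]; exact hu

/-- invariant plus subspaces of every admissible dimension -/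
theorem exists_invol_plus (h2 : (2 : F) = 0) (hN : (QuadraticMap.polarBilin Q).Nondegenerate)
    (hI : ∀ v, Q (T v) = Q v) (hTT : ∀ v, T (T v) = v) (hev : Even (Module.finrank F (LinearMap.range (T - 1))))
    {d g : ℕ} (hd : Module.finrank F V = 2 * d) (hg : g < d) (hg0 : 0 < g)
    (hgood : Even g ∨ (QPlus Q ⊤ ↔ Odd d)) :
    ∃ W : Submodule F V, (∀ u ∈ W, T u ∈ W) ∧ QNd Q W ∧ Module.finrank F W = 2 * g ∧ QPlus Q W := by
  have htop : ∀ u ∈ (⊤ : Submodule F V), T u ∈ (⊤ : Submodule F V) := fun _ _ => Submodule.mem_top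
  have hevt : Even (Module.finrank F ((⊤ : Submodule F V).map (T - 1))) := by rwa [Submodule.map_top]
  have htd : Module.finrank F (⊤ : Submodule F V) = 2 * d := by rw [finrank_top, hd]
  rcases Nat.even_or_odd g with ⟨j, hj⟩ | ⟨j, hj⟩
  · obtain ⟨W, -, h1, h2', h3, -, h4⟩ := invol_even_chain h2 hI hTT j htop (qnd_top hN) htd (by omega) hevt
    exact ⟨W, h1, h2', by omega, h4⟩
  have hgood' := hgood.resolve_left (Nat.not_even_iff_odd.2 ⟨j, hj⟩)
  by_cases hp : QPlus Q ⊤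
  · obtain ⟨s, hs⟩ := hgood'.1 hp
    obtain ⟨W, -, hWi, hWn, hWd, -, hWp⟩ :=
      invol_even_chain h2 hI hTT (s - j) htop (qnd_top hN) htd (by omega) hevt
    obtain ⟨hi, hn, hsup, hdim, -⟩ := invol_split hI hTT htop (qnd_top hN) hWi hWn le_top
    refine ⟨_, hi, hn, by omega, ?_⟩
    have hiff := qplus_sup_iff hWn hn (fun u hu w hw => hw.2 u hu) hWd (h' := g) (by omega)
    rw [hsup] at hiff
    exact (hiff.1 hp).1 hWp
  · obtain ⟨s, hs⟩ := Nat.not_odd_iff_even.1 fun h => hp (hgood'.2 h)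
    obtain ⟨W, -, hWi, hWn, hWd, hWev, hWp⟩ :=
      invol_even_chain h2 hI hTT j htop (qnd_top hN) htd (by omega) hevt
    obtain ⟨hi, hn, hsup, hdim, hr⟩ := invol_split hI hTT htop (qnd_top hN) hWi hWn le_top
    rw [← hr, Nat.even_add] at hevt
    obtain ⟨P, hP, hPi, hPn, hPd, hPp⟩ := invol_minus_plane h2 hI hTT (s - j) hi hn (by omega) (hevt.1 hWev)
      fun hE => hp (by
        rw [← hsup]
        exact (qplus_sup_iff hWn hn (fun u hu w hw => hw.2 u hu) hWd (h' := d - 2 * j) (by omega)).2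
          (iff_of_true hWp hE))
    have ho : ∀ u ∈ W, ∀ w ∈ P, QuadraticMap.polar Q u w = 0 := fun u hu w hw => (hP hw).2 u hu
    refine ⟨W ⊔ P, invol_sup hWi hPi, sup_nd (polar_refl Q) hWn hPn fun w hw u hu => ho u hu w hw, ?_,
      (qplus_sup_iff hWn hPn ho hWd (h' := 1) hPd).2 (iff_of_true hWp hPp)⟩
    rw [finrank_sup_polar hWn ho, hWd, hPd]; omega

/-- ranks on the two parts of an invariant decomposition with singular image -/
theorem invol_rank_bound (h2 : (2 : F) = 0) (hI : ∀ v, Q (T v) = Q v) (hTT : ∀ v, T (T v) = v)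
    (hN : (QuadraticMap.polarBilin Q).Nondegenerate) (hsing : ∀ v, Q ((T - 1) v) = 0) {W : Submodule F V}
    (hW : ∀ u ∈ W, T u ∈ W) (hWn : QNd Q W) :
    ∃ a b : ℕ, Even a ∧ Even b ∧ a + b = Module.finrank F (LinearMap.range (T - 1)) ∧
      2 * a ≤ Module.finrank F W ∧ 2 * b + Module.finrank F W ≤ Module.finrank F V ∧
      (2 * a = Module.finrank F W → QPlus Q W) := by
  obtain ⟨hi, hn, -, hdim, hr⟩ :=
    invol_split hI hTT (E := ⊤) (fun _ _ => Submodule.mem_top) (qnd_top hN) hW hWn le_top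
  rw [finrank_top] at hdim
  rw [Submodule.map_top] at hr
  have hhalf : ∀ X : Submodule F V, (∀ u ∈ X, T u ∈ X) → 2 * Module.finrank F (X.map (T - 1)) ≤ Module.finrank F X :=
    fun X hX => by
      obtain ⟨f, hf⟩ : ∃ f : X →ₗ[F] V, f = (T - 1).comp X.subtype := ⟨_, rfl⟩
      have h := LinearMap.finrank_range_add_finrank_ker f
      have h' : (X.map (T - 1)).comap X.subtype ≤ LinearMap.ker f := by
        rintro u ⟨w, -, hw⟩
        rw [LinearMap.mem_ker, hf, LinearMap.comp_apply, ← hw]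
        exact invol_sq h2 hTT w
      have h'' := Submodule.finrank_mono h'
      rw [LinearEquiv.finrank_eq (Submodule.comapSubtypeEquivOfLe (map_sub_one_le hX))] at h''
      rw [hf, LinearMap.range_comp, Submodule.range_subtype] at h
      rw [hf] at h''
      omega
  refine ⟨_, _, invol_rank_even h2 hI hTT hW hWn (fun w _ => hsing w),
    invol_rank_even h2 hI hTT hi hn (fun w _ => hsing w), hr, hhalf W hW, ?_, fun h => ?_⟩
  · have := hhalf _ hi
    omega
  · exact ⟨_, map_sub_one_le hW, by rintro _ ⟨u, -, rfl⟩; exact hsing u, h⟩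

end CfsgLib.Perm.Elusive
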