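import Mathlib
import Cfsg.Agent.Lib.Perm.Elusive.OrthSingular

/-!
# Semisimple isometries with few invariant totally singular subspaces
-/

set_option autoImplicit false
set_option linter.all false

namespace CfsgLib.Perm.Elusive

open CfsgLib.Classical
open scoped Matrix

variable {F : Type*} [Field F] [Fintype F] {p : ℕ} [Fact p.Prime] [CharP F p] {r : ℕ} [Fact r.Prime]

/-- a quadratic form from a fixed point free symplectic map of odd order -/
theorem exists_quad_of_alt (hr2 : r ≠ 2) {V : Type*} [AddCommGroup V] [Module F V] [FiniteDimensional F V]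
    {B : LinearMap.BilinForm F V} (hA : B.IsAlt) (hN : B.Nondegenerate) {T : V →ₗ[F] V}
    (hI : ∀ u v, B (T u) (T v) = B u v) (hT : T ^ r = 1) (hfix : ∀ v, T v = v → v = 0) :
    ∃ P : QuadraticForm F V, (QuadraticMap.polarBilin P).Nondegenerate ∧ (∀ v, P (T v) = P v) ∧
      ∀ W : Submodule F V, (∀ u ∈ W, T u ∈ W) → (∀ u ∈ W, P u = 0) → ∀ u ∈ W, ∀ v ∈ W, B u v = 0 := by
  have hr : r.Prime := Fact.out
  obtain ⟨Ti, hTi⟩ : ∃ Ti, Ti = T ^ (r - 1) := ⟨_, rfl⟩
  have hTTi : T * Ti = 1 := by rw [hTi, ← pow_succ', Nat.sub_add_cancel hr.one_le, hT]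
  have hTiT : Ti * T = 1 := by rw [hTi, ← pow_succ, Nat.sub_add_cancel hr.one_le, hT]
  have hplus : ∀ v, T v + v = 0 → v = 0 := fun v h => hfix v (fixed_of_sq_fixed hr2 hT (by
    rw [eq_neg_of_add_eq_zero_left h, map_neg, eq_neg_of_add_eq_zero_left h, neg_neg]))
  obtain ⟨D, hD⟩ : ∃ D : V →ₗ[F] V, D = (T * T - 1) * (1 + T) := ⟨_, rfl⟩
  have hDinj : LinearMap.ker D = ⊥ := by
    rw [Submodule.eq_bot_iff]
    intro v hv
    rw [hD, LinearMap.mem_ker, Module.End.mul_apply, LinearMap.sub_apply, Module.End.mul_apply,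
      Module.End.one_apply, sub_eq_zero] at hv
    exact hplus v (by
      rw [add_comm]
      exact hfix _ (fixed_of_sq_fixed hr2 hT hv))
  obtain ⟨u, hu⟩ := (LinearMap.isUnit_iff_ker_eq_bot D).2 hDinj
  obtain ⟨E, hE⟩ : ∃ E : V →ₗ[F] V, E = ↑u⁻¹ := ⟨_, rfl⟩
  have hDE : D * E = 1 := by rw [hE, ← hu]; exact u.mul_inv
  have hED : E * D = 1 := by rw [hE, ← hu]; exact u.inv_mul
  have hcE : T * E = E * T := by
    have hc : Commute T D := by
      rw [hD]
      exact (((Commute.refl T).mul_right (Commute.refl T)).sub_right (Commute.one_right T)).mul_right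
        ((Commute.one_right T).add_right (Commute.refl T))
    calc T * E = E * D * (T * E) := by rw [hED, one_mul]
      _ = E * (T * D) * E := by rw [hc.eq]; simp only [mul_assoc]
      _ = E * T := by rw [mul_assoc, mul_assoc, hDE, mul_one]
  obtain ⟨A, hAd⟩ : ∃ A : V →ₗ[F] V, A = T * T * E := ⟨_, rfl⟩
  have hTA : ∀ v, T (A v) = A (T v) := fun v => by
    have h : T * A = A * T := by
      rw [hAd]
      calc T * (T * T * E) = T * T * (T * E) := by simp only [mul_assoc]
        _ = T * T * E * T := by rw [hcE]; simp only [mul_assoc]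
    exact LinearMap.congr_fun h v
  obtain ⟨P, hP⟩ : ∃ P : QuadraticForm F V, P = LinearMap.BilinMap.toQuadraticMap (B.compl₁₂ A LinearMap.id) := ⟨_, rfl⟩
  have hPv : ∀ v, P v = B (A v) v := fun v => by rw [hP]; rfl
  have hpol : ∀ a b, QuadraticMap.polar P a b = B (A a) b + B (A b) a := fun a b => by
    rw [hP, LinearMap.BilinMap.polar_toQuadraticMap]; rfl
  have hpT : ∀ v, P (T v) = P v := fun v => by rw [hPv, hPv, ← hTA, hI]
  have hpTT : ∀ a b, QuadraticMap.polar P (T a) (T b) = QuadraticMap.polar P a b := fun a b => by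
    simp only [QuadraticMap.polar, ← map_add, hpT]
  -- the symmetrisation of `A` is the inverse of `T - T⁻¹`
  have hkey : ∀ a b, QuadraticMap.polar P (T (T a) - a) b = B (T a) b := by
    intro a b
    obtain ⟨c, rfl⟩ : ∃ c, a = T c + c := by
      have hs : Function.Injective ⇑(T + LinearMap.id : V →ₗ[F] V) :=
        (injective_iff_map_eq_zero _).2 fun v hv => hplus v hv
      obtain ⟨c, hc⟩ := LinearMap.surjective_of_injective hs a
      exact ⟨c, hc.symm⟩
    have hEc : T (T (T c + c)) - (T c + c) = D c := by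
      simp only [hD, Module.End.mul_apply, LinearMap.sub_apply, LinearMap.add_apply, Module.End.one_apply, map_add]
      abel
    have hAD : A (D c) = T (T c) := by
      have h : A * D = T * T := by rw [hAd, mul_assoc, hED, mul_one]
      exact LinearMap.congr_fun h c
    obtain ⟨e, rfl⟩ : ∃ e, b = D e := ⟨E b, (LinearMap.congr_fun hDE b).symm⟩
    have hAD' : A (D e) = T (T e) := by
      have h : A * D = T * T := by rw [hAd, mul_assoc, hED, mul_one]
      exact LinearMap.congr_fun h e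
    rw [hEc, hpol, hAD, hAD']
    simp only [hD, Module.End.mul_apply, LinearMap.sub_apply, LinearMap.add_apply, Module.End.one_apply, map_add,
      map_sub, hI]
    have hneg : ∀ x y, - B x y = B y x := LinearMap.IsAlt.neg hA
    linear_combination -1 * hneg c e - hneg (T c) e + hneg c (T e) + hneg c (T (T e))
  have hnd : (QuadraticMap.polarBilin P).Nondegenerate := by
    have key : ∀ b, (∀ a, QuadraticMap.polar P b a = 0) → b = 0 := fun b hb => hN.1 b fun v => by
      have h := hkey (Ti v) b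
      rw [show T (Ti v) = v from LinearMap.congr_fun hTTi v, QuadraticMap.polar_comm, hb] at h
      exact hA.isRefl _ _ h.symm
    exact ⟨key, fun v hv => key v fun u => (QuadraticMap.polar_comm _ v u).trans (hv u)⟩
  refine ⟨P, hnd, hpT, fun W hW h0 a ha b hb => ?_⟩
  have hp : ∀ n, (T ^ n) a ∈ W := fun n => by
    induction n with
    | zero => exact ha
    | succ n ih => rw [pow_succ', Module.End.mul_apply]; exact hW _ ih
  have h := hkey (Ti a) b
  rw [show T (Ti a) = a from LinearMap.congr_fun hTTi a] at h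
  have hm : T a - Ti a ∈ W := W.sub_mem (hW a ha) (hTi ▸ hp _)
  rw [← h, QuadraticMap.polar, h0 _ (W.add_mem hm hb), h0 _ hm, h0 _ hb]
  simp

variable {V : Type*} [AddCommGroup V] [Module F V] [FiniteDimensional F V] {Q : QuadraticForm F V}

omit [Fact p.Prime] [CharP F p] [Fact r.Prime] in
/-- models of nondegenerate spaces of the same type -/
theorem exists_iso_model {κ : Type*} [AddCommGroup κ] [Module F κ] [FiniteDimensional F κ] {P : QuadraticForm F κ}
    (hP : (QuadraticMap.polarBilin P).Nondegenerate) {U : Submodule F V} (hU : QNd Q U) {h : ℕ} (hh : 0 < h)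
    (hd : Module.finrank F U = 2 * h) (hd' : Module.finrank F κ = 2 * h) (ht : QPlus Q U ↔ QPlus P ⊤) :
    ∃ L : κ ≃ₗ[F] U, ∀ v, Q (L v : V) = P v := by
  obtain ⟨k, rfl⟩ : ∃ k, h = k + 1 := ⟨h - 1, by omega⟩
  obtain ⟨a, b, hab⟩ := CfsgLib.IsometryConj.exists_anisotropic_binary (F := F)
  have hd'' : Module.finrank F (⊤ : Submodule F κ) = 2 * (k + 1) := by rw [finrank_top, hd']
  rcases qplus_cases hU hd hab with ⟨hp, L, hL⟩ | ⟨hp, L, hL⟩ <;>
    rcases qplus_cases (qnd_top hP) hd'' hab with ⟨hp', L', hL'⟩ | ⟨hp', L', hL'⟩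
  · refine ⟨(Submodule.topEquiv.symm.trans L'.symm).trans L, fun v => ?_⟩
    rw [LinearEquiv.trans_apply, hL, ← hL', LinearEquiv.trans_apply, L'.apply_symm_apply]; rfl
  · exact absurd (ht.1 hp) hp'
  · exact absurd (ht.2 hp') hp
  · refine ⟨(Submodule.topEquiv.symm.trans L'.symm).trans L, fun v => ?_⟩
    rw [LinearEquiv.trans_apply, hL, ← hL', LinearEquiv.trans_apply, L'.apply_symm_apply]; rfl

/-- an element of many classes of odd multiplicity -/
theorem exists_singular_element (hrp : r ≠ p) (hr2 : r ≠ 2) (hN : (QuadraticMap.polarBilin Q).Nondegenerate)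
    {i k s n : ℕ} (hn : Module.finrank F V = n) (hi : i = orderOf ((Fintype.card F : ℕ) : ZMod r)) (hev : Even i)
    (hk : 0 < k) (hks : Odd (k - s)) (hst : s + 1 ≤ (r - 1) / i) (hkn : k * i ≤ n)
    (hfull : k * i = n → (QPlus Q ⊤ ↔ Even k)) :
    ∃ T : V →ₗ[F] V, (∀ v, Q (T v) = Q v) ∧ T ^ r = 1 ∧ T ≠ 1 ∧
      Module.finrank F (LinearMap.ker (T - 1)) + k * i = n ∧
      ∀ W : Submodule F V, (∀ u ∈ W, T u ∈ W) → (∀ u ∈ W, Q u = 0) →
        2 * Module.finrank F (W ⊓ LinearMap.ker (Polynomial.aeval T (Polynomial.cyclotomic r F)) : Submodule F V) +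
          (s + 1) * i ≤ k * i := by
  classical
  obtain ⟨g, hg⟩ := id hev
  have hipos : 0 < i := hi ▸ order_pos hrp
  obtain ⟨x, hx, hxe, hbound⟩ := exists_symp_class_element (p := p) hrp hr2 (d := k * g) (e := 0) hi hev
    (by rw [hg]; ring) hks hst
  obtain ⟨T₀, hT₀⟩ : ∃ T₀, T₀ = Matrix.toLin' (x : Matrix (Fin (k * g) ⊕ Fin (k * g)) (Fin (k * g) ⊕ Fin (k * g)) F) :=
    ⟨_, rfl⟩
  rw [← hT₀] at hxe hbound
  have hT₀r : T₀ ^ r = 1 := by rw [hT₀, ← Matrix.toLin'_pow, hx, Matrix.toLin'_one]; rfl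
  have hfix₀ : ∀ v, T₀ v = v → v = 0 := fun v hv => by
    have hb : LinearMap.ker (T₀ - 1) = ⊥ := Submodule.finrank_eq_zero.1 (hxe.trans (mul_zero 2))
    exact (Submodule.mem_bot F).1 (hb.le (LinearMap.mem_ker.2 (by simp [hv])))
  have hI₀ : ∀ u v, CfsgLib.Classical.SympCount.sB (k * g) F (T₀ u) (T₀ v) =
      CfsgLib.Classical.SympCount.sB (k * g) F u v := fun u v => by
    rw [hT₀, Matrix.toLin'_apply, Matrix.toLin'_apply]
    exact CfsgLib.Sp.sf_sp x u v
  obtain ⟨P, hPn, hPT, hPiso⟩ := exists_quad_of_alt (r := r) hr2 CfsgLib.Classical.SympCount.sB_isAlt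
    CfsgLib.Classical.SympCount.sB_nondegenerate hI₀ hT₀r hfix₀
  have hκ : Module.finrank F (Fin (k * g) ⊕ Fin (k * g) → F) = 2 * (k * g) := by
    rw [Module.finrank_fintype_fun_eq_card, Fintype.card_sum, Fintype.card_fin]; ring
  have hki : k * i = 2 * (k * g) := by rw [hg]; ring
  obtain ⟨k', hk', htype⟩ := fixed_type (p := p) hrp hr2 hPn hPT hT₀r hi (c := i) (by rw [if_pos hev])
  rw [hxe, hκ, mul_zero, zero_add, ← hki] at hk'
  obtain rfl : k = k' := Nat.eq_of_mul_eq_mul_right hipos hk'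
  have hkg : 0 < k * g := Nat.mul_pos hk (by omega)
  have hPt : QPlus P ⊤ ↔ Even k := by
    rw [htype (by rw [hκ]; exact even_two_mul _), Submodule.finrank_eq_zero.1 (hxe.trans (mul_zero 2))]
    simp [qplus_bot, Nat.not_odd_iff_even.2 hev]
  obtain ⟨U, hUn, hUd, hUp⟩ : ∃ U, QNd Q U ∧ Module.finrank F U = 2 * (k * g) ∧ (QPlus Q U ↔ Even k) := by
    rcases hkn.lt_or_eq with h | h
    · obtain ⟨U, -, h1, h2, h3⟩ := exists_sub_type (qnd_top hN) (h := k * g) hkg (by rw [finrank_top]; omega) (Even k)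
      exact ⟨U, h1, h2, h3⟩
    · exact ⟨⊤, qnd_top hN, by rw [finrank_top]; omega, hfull h⟩
  obtain ⟨L, hL⟩ := exists_iso_model hPn hUn hkg hUd hκ (hUp.trans hPt.symm)
  obtain ⟨O, hO⟩ : ∃ O, O = (qB Q).orthogonal U := ⟨_, rfl⟩
  have hcm : IsCompl U O := hO ▸ isCompl_orth (polar_refl Q) hUn
  obtain ⟨f, hf⟩ : ∃ f : U →ₗ[F] U, ∀ v, f v = L (T₀ (L.symm v)) :=
    ⟨L.toLinearMap.comp (T₀.comp L.symm.toLinearMap), fun v => rfl⟩
  obtain ⟨T, hT⟩ : ∃ T : V →ₗ[F] V, T = LinearMap.ofIsCompl hcm (U.subtype.comp f) O.subtype := ⟨_, rfl⟩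
  have hTU : ∀ w : U, T (w : V) = (f w : V) := fun w => by
    rw [hT, LinearMap.ofIsCompl_apply_left]; rfl
  have hTO : ∀ o ∈ O, T o = o := fun o ho => by
    rw [hT, show o = ((⟨o, ho⟩ : O) : V) from rfl, LinearMap.ofIsCompl_apply_right]; rfl
  have hdec : ∀ v, ∃ w : U, ∃ o ∈ O, v = (w : V) + o := fun v => by
    obtain ⟨a, ha, b, hb, rfl⟩ := Submodule.mem_sup.1 (hcm.sup_eq_top.ge (Submodule.mem_top (x := v)))
    exact ⟨⟨a, ha⟩, b, hb, rfl⟩
  have hTI : ∀ v, Q (T v) = Q v := fun v => by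
    obtain ⟨w, o, ho, rfl⟩ := hdec v
    have hp : ∀ w' : U, QuadraticMap.polar Q (w' : V) o = 0 := fun w' => (hO ▸ ho) w' w'.2
    have h1 : Q (f w : V) = Q (w : V) := by
      rw [hf, hL, hPT, ← hL, L.apply_symm_apply]
    rw [map_add, hTU, hTO o ho, QuadraticMap.map_add (⇑Q), QuadraticMap.map_add (⇑Q), hp, hp, h1]
  have hfp : ∀ (j : ℕ) (w : U), (f ^ j) w = L ((T₀ ^ j) (L.symm w)) := fun j => by
    induction j with
    | zero => intro w; simp
    | succ j ih => intro w; rw [pow_succ', Module.End.mul_apply, ih, hf, L.symm_apply_apply, pow_succ', Module.End.mul_apply]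
  have hTr : T ^ r = 1 := LinearMap.ext fun v => by
    obtain ⟨w, o, ho, rfl⟩ := hdec v
    have hp : ∀ (j : ℕ), (T ^ j) ((w : V) + o) = ((f ^ j) w : V) + o := fun j => by
      induction j with
      | zero => simp
      | succ j ih => rw [pow_succ', Module.End.mul_apply, ih, map_add, hTU, hTO o ho, pow_succ', Module.End.mul_apply]
    rw [hp, hfp, hT₀r, Module.End.one_apply, Module.End.one_apply, L.apply_symm_apply]
  have hker : LinearMap.ker (T - 1) = O := by
    refine le_antisymm (fun v hv => ?_) fun o ho => LinearMap.mem_ker.2 (by simp [hTO o ho])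
    obtain ⟨w, o, ho, rfl⟩ := hdec v
    have h : T ((w : V) + o) = (w : V) + o := by simpa [sub_eq_zero] using hv
    rw [map_add, hTU, hTO o ho, add_left_inj] at h
    have hw : L.symm w = 0 := hfix₀ _ (by
      rw [← L.symm_apply_apply (T₀ (L.symm w)), ← hf, Subtype.ext h])
    rw [L.symm.map_eq_zero_iff.1 hw, Submodule.coe_zero, zero_add]
    exact ho
  obtain ⟨M, hM⟩ : ∃ M, M = LinearMap.ker (Polynomial.aeval T (Polynomial.cyclotomic r F)) := ⟨_, rfl⟩
  obtain ⟨hcM, hoM, -, -, hMi, -⟩ := moved_space (p := p) hrp hN hTI hTr hM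
  have hMU : M = U := by
    refine Submodule.eq_of_le_of_finrank_eq (fun v hv => ?_) ?_
    · obtain ⟨w, o, ho, rfl⟩ := hdec v
      have ho0 : o = 0 := hN.1 o fun y => by
        obtain ⟨w', o', ho', rfl⟩ := hdec y
        have h2 := hoM o' (hker ▸ ho') _ hv
        rw [QuadraticMap.polar_add_right, QuadraticMap.polar_comm Q o' (w : V),
          show QuadraticMap.polar Q (w : V) o' = 0 from (hO ▸ ho') w w.2, zero_add] at h2
        show QuadraticMap.polar Q o ((w' : V) + o') = 0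
        rw [QuadraticMap.polar_add_right, QuadraticMap.polar_comm Q o (w' : V),
          show QuadraticMap.polar Q (w' : V) o = 0 from (hO ▸ ho) w' w'.2, zero_add, QuadraticMap.polar_comm, h2]
      rw [ho0, add_zero]
      exact w.2
    · have h1 := Submodule.finrank_add_eq_of_isCompl hcM
      have h2 := Submodule.finrank_add_eq_of_isCompl hcm
      rw [hker] at h1
      omega
  refine ⟨T, hTI, hTr, fun h => ?_, ?_, fun W hW h0 => ?_⟩
  · have h2 := Submodule.finrank_add_eq_of_isCompl hcm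
    rw [← hker, h, sub_self, LinearMap.ker_zero, finrank_top] at h2
    omega
  · have h2 := Submodule.finrank_add_eq_of_isCompl hcm
    rw [hker]
    omega
  · rw [← hM, hMU]
    obtain ⟨W', hW'⟩ : ∃ W', W' = (W.comap U.subtype).map L.symm.toLinearMap := ⟨_, rfl⟩
    have hmem : ∀ z, z ∈ W' ↔ (L z : V) ∈ W := fun z => by
      rw [hW']
      exact ⟨by rintro ⟨u, hu, rfl⟩; simpa using hu, fun h => ⟨L z, h, L.symm_apply_apply z⟩⟩
    have hW'i : ∀ z ∈ W', T₀ z ∈ W' := fun z hz => by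
      rw [hmem] at hz ⊢
      have h := hW _ hz
      rwa [hTU, hf, L.symm_apply_apply] at h
    have h := hbound W' hW'i (hPiso W' hW'i fun z hz => by rw [← hL]; exact h0 _ ((hmem z).1 hz))
    have hfr : Module.finrank F W' = Module.finrank F (W ⊓ U : Submodule F V) := by
      rw [hW', LinearEquiv.finrank_map_eq, ← Submodule.finrank_map_subtype_eq U, Submodule.map_comap_subtype, inf_comm]
    rw [hfr, ← hki] at h
    exact h

end CfsgLib.Perm.Elusive
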