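import Mathlib
import Cfsg.Agent.Lib.Perm.Elusive.OrthSingularElement
import Cfsg.Agent.Lib.Perm.Elusive.OrthTorus
import Cfsg.Agent.Lib.Perm.Elusive.OrthStd
import Cfsg.Agent.Lib.Perm.Elusive.TensorSymp
import Cfsg.Agent.Lib.Classical.SpOrder

/-!
# Orthogonal subgroups of symplectic groups in characteristic two
-/

set_option autoImplicit false
set_option linter.all false

namespace CfsgLib.Perm.Elusive.OrthOfSymp

open CfsgLib.Classical
open scoped Matrix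

variable {F : Type*} [Field F] [Fintype F]

/-- conjugating matrices along a linear isomorphism -/
theorem exists_gl_equiv {ι κ : Type} [Fintype ι] [DecidableEq ι] [Fintype κ] [DecidableEq κ] (L : (κ → F) ≃ₗ[F] (ι → F)) :
    ∃ e : GL κ F ≃* GL ι F, ∀ (x : GL κ F) (v : κ → F),
      (e x : Matrix ι ι F) *ᵥ (L v) = L ((x : Matrix κ κ F) *ᵥ v) := by
  refine ⟨(Matrix.GeneralLinearGroup.toLin.trans (LinearMap.GeneralLinearGroup.congrLinearEquiv L)).trans
    Matrix.GeneralLinearGroup.toLin.symm, fun x v => ?_⟩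
  obtain ⟨y, hy⟩ : ∃ y, y = ((Matrix.GeneralLinearGroup.toLin.trans (LinearMap.GeneralLinearGroup.congrLinearEquiv L)).trans
    Matrix.GeneralLinearGroup.toLin.symm) x := ⟨_, rfl⟩
  rw [← hy]
  have h : Matrix.GeneralLinearGroup.toLin y =
      LinearMap.GeneralLinearGroup.congrLinearEquiv L (Matrix.GeneralLinearGroup.toLin x) := by
    rw [hy, MulEquiv.trans_apply, MulEquiv.apply_symm_apply]; rfl
  have h' := LinearMap.congr_fun (congrArg Units.val h) (L v)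
  simpa [Matrix.GeneralLinearGroup.toLin, LinearMap.GeneralLinearGroup.congrLinearEquiv, Matrix.toLin'_apply,
    LinearEquiv.conj_apply] using h'

/-- isometry groups of equivalent forms have the same order -/
theorem card_iso_linear {ι κ : Type} [Fintype ι] [DecidableEq ι] [Fintype κ] [DecidableEq κ]
    (L : (κ → F) ≃ₗ[F] (ι → F)) {P : (κ → F) → F} {R : (ι → F) → F} (h : ∀ v, R (L v) = P v) :
    Nat.card (Cfsg.isometryGroup F P) = Nat.card (Cfsg.isometryGroup F R) := by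
  obtain ⟨e, he⟩ := exists_gl_equiv L
  have key : ∀ x, e x ∈ Cfsg.isometryGroup F R ↔ x ∈ Cfsg.isometryGroup F P := fun x => by
    rw [mem_isometryGroup_iff, mem_isometryGroup_iff]
    constructor
    · intro hx v
      rw [← h, ← he, hx, h]
    · intro hx v
      obtain ⟨v, rfl⟩ := L.surjective v
      rw [he, h, hx, h]
  exact Nat.card_congr (e.toEquiv.subtypeEquiv fun x => (key x).symm)

variable {d : ℕ}

omit [Fintype F] in
theorem sympForm_char_two (h2 : (2 : F) = 0) (u v : Fin d ⊕ Fin d → F) :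
    Cfsg.sympForm d F u v = ∑ i, (u (.inl i) * v (.inr i) + u (.inr i) * v (.inl i)) := by
  have hneg : ∀ x : F, -x = x := fun x => by linear_combination (-x) * h2
  simp [Cfsg.sympForm, Matrix.J, Matrix.mulVec, dotProduct, Fintype.sum_sum_type, Matrix.one_apply,
    Finset.sum_add_distrib, hneg]

omit [Fintype F] in
theorem polar_plus (h2 : (2 : F) = 0) (u v : Fin d ⊕ Fin d → F) :
    QuadraticMap.polar (Cfsg.quadFormPlus d F) u v = Cfsg.sympForm d F u v := by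
  rw [sympForm_char_two h2]
  simp only [QuadraticMap.polar, Cfsg.quadFormPlus, Pi.add_apply, ← Finset.sum_sub_distrib]
  exact Finset.sum_congr rfl fun i _ => by ring

/-- relabelling the coordinates of a minus form -/
theorem exists_minus_frame (h2 : (2 : F) = 0) (k : ℕ) (b : F) :
    ∃ L : ((Fin k ⊕ Fin k) ⊕ Fin 2 → F) ≃ₗ[F] (Fin (k + 1) ⊕ Fin (k + 1) → F), ∀ u v,
      Cfsg.sympForm (k + 1) F (L u) (L v) = QuadraticMap.polar (Cfsg.quadFormMinus k F 1 b) u v := by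
  obtain ⟨s, hs⟩ : ∃ s : (Fin k ⊕ Fin k) ⊕ Fin 2 → Fin (k + 1) ⊕ Fin (k + 1),
      s = Sum.elim (Sum.elim (fun i => .inl i.castSucc) (fun i => .inr i.castSucc))
        ![.inl (Fin.last k), .inr (Fin.last k)] := ⟨_, rfl⟩
  have hb : Function.Bijective s := by
    rw [Fintype.bijective_iff_injective_and_card]
    refine ⟨?_, by simp only [Fintype.card_sum, Fintype.card_fin]; omega⟩
    rintro ((x | x) | x) ((y | y) | y) h <;> (try fin_cases x) <;> (try fin_cases y) <;>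
      first
      | rfl
      | (subst hs; simp [Fin.ext_iff] at h ⊢; try omega)
  obtain ⟨L, hL⟩ : ∃ L : ((Fin k ⊕ Fin k) ⊕ Fin 2 → F) ≃ₗ[F] (Fin (k + 1) ⊕ Fin (k + 1) → F),
      ∀ u x, L u (s x) = u x :=
    ⟨LinearEquiv.funCongrLeft F F (Equiv.ofBijective s hb).symm, fun u x => by
      show u ((Equiv.ofBijective s hb).symm (s x)) = u x
      rw [Equiv.ofBijective_symm_apply_apply]⟩
  refine ⟨L, fun u v => ?_⟩
  have e1 : ∀ (w : (Fin k ⊕ Fin k) ⊕ Fin 2 → F) (i : Fin k), L w (.inl i.castSucc) = w (.inl (.inl i)) :=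
    fun w i => by rw [← hL w (.inl (.inl i)), hs]; rfl
  have e2 : ∀ (w : (Fin k ⊕ Fin k) ⊕ Fin 2 → F) (i : Fin k), L w (.inr i.castSucc) = w (.inl (.inr i)) :=
    fun w i => by rw [← hL w (.inl (.inr i)), hs]; rfl
  have e3 : ∀ w : (Fin k ⊕ Fin k) ⊕ Fin 2 → F, L w (.inl (Fin.last k)) = w (.inr 0) :=
    fun w => by rw [← hL w (.inr 0), hs]; rfl
  have e4 : ∀ w : (Fin k ⊕ Fin k) ⊕ Fin 2 → F, L w (.inr (Fin.last k)) = w (.inr 1) :=
    fun w => by rw [← hL w (.inr 1), hs]; rfl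
  rw [sympForm_char_two h2, Fin.sum_univ_castSucc]
  simp only [e1, e2, e3, e4, QuadraticMap.polar, Cfsg.quadFormMinus, Pi.add_apply]
  rw [show (∑ i : Fin k, (u (.inl (.inl i)) + v (.inl (.inl i))) * (u (.inl (.inr i)) + v (.inl (.inr i)))) =
      (∑ i : Fin k, u (.inl (.inl i)) * u (.inl (.inr i))) + (∑ i : Fin k, v (.inl (.inl i)) * v (.inl (.inr i))) +
        ∑ i : Fin k, (u (.inl (.inl i)) * v (.inl (.inr i)) + u (.inl (.inr i)) * v (.inl (.inl i))) by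
    rw [← Finset.sum_add_distrib, ← Finset.sum_add_distrib]; exact Finset.sum_congr rfl fun i _ => by ring]
  linear_combination -(u (.inr 0) * v (.inr 0) + b * (u (.inr 1) * v (.inr 1))) * h2

/-- an anisotropic binary form with middle coefficient one -/
theorem exists_binary_one (h2 : (2 : F) = 0) :
    ∃ b : F, ∀ z₁ z₂ : F, z₁ ^ 2 + 1 * z₁ * z₂ + b * z₂ ^ 2 = 0 → z₁ = 0 ∧ z₂ = 0 := by
  obtain ⟨a, b, hab⟩ := CfsgLib.IsometryConj.exists_anisotropic_binary (F := F)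
  have ha : a ≠ 0 := fun h => by
    haveI : CharP F 2 := CharTwo.of_one_ne_zero_of_two_eq_zero one_ne_zero h2
    obtain ⟨t, ht⟩ := (frobeniusEquiv F 2).surjective b
    rw [frobeniusEquiv_apply, frobenius_def] at ht
    exact one_ne_zero (hab t 1 (by rw [h, ← ht]; linear_combination t ^ 2 * h2)).2
  refine ⟨b / a ^ 2, fun z₁ z₂ h => ?_⟩
  obtain ⟨h1, h3⟩ := hab z₁ (z₂ / a) (by
    rw [← h]
    field_simp)
  exact ⟨h1, (div_eq_zero_iff.1 h3).resolve_right ha⟩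

variable {Q : QuadraticForm F (Fin d ⊕ Fin d → F)} (hQf : ∀ u v, QuadraticMap.polar Q u v = Cfsg.sympForm d F u v)

include hQf in
omit [Fintype F] in
theorem mem_sp_of_iso {x : GL (Fin d ⊕ Fin d) F} (hx : x ∈ Cfsg.isometryGroup F ⇑Q) : x ∈ Cfsg.spGL d F := fun u v => by
  show Cfsg.sympForm d F ((x : Matrix (Fin d ⊕ Fin d) (Fin d ⊕ Fin d) F) *ᵥ u)
    ((x : Matrix (Fin d ⊕ Fin d) (Fin d ⊕ Fin d) F) *ᵥ v) = Cfsg.sympForm d F u v
  rw [← hQf, ← hQf]
  simp only [QuadraticMap.polar, ← Matrix.mulVec_add, mem_isometryGroup_iff.1 hx]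

include hQf in
theorem sim_inf_sp (hd : 0 < d) (h2 : (2 : F) = 0) :
    Cfsg.Geo.quadSimilarityGroup ⇑Q ⊓ Cfsg.spGL d F = Cfsg.isometryGroup F ⇑Q := by
  refine le_antisymm ?_ fun x hx => ⟨⟨1, fun v => by rw [Units.val_one, one_mul, mem_isometryGroup_iff.1 hx]⟩,
    mem_sp_of_iso hQf hx⟩
  rintro x ⟨⟨c, hc⟩, hxs⟩
  obtain ⟨u, v, huv⟩ : ∃ u v, Cfsg.sympForm d F u v = 1 := ⟨Pi.single (.inl ⟨0, hd⟩) 1, Pi.single (.inr ⟨0, hd⟩) 1, by
    rw [sympForm_char_two h2, Finset.sum_eq_single ⟨0, hd⟩ (fun i _ hi => by simp [Pi.single_apply, hi])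
      (fun h => absurd (Finset.mem_univ _) h)]
    simp⟩
  have h1 : Cfsg.sympForm d F ((x : Matrix (Fin d ⊕ Fin d) (Fin d ⊕ Fin d) F) *ᵥ u)
    ((x : Matrix (Fin d ⊕ Fin d) (Fin d ⊕ Fin d) F) *ᵥ v) = Cfsg.sympForm d F u v := hxs u v
  rw [← hQf, ← hQf] at h1
  simp only [QuadraticMap.polar, ← Matrix.mulVec_add, hc] at h1
  rw [← hQf, QuadraticMap.polar] at huv
  rw [← mul_sub, ← mul_sub, huv, mul_one] at h1
  exact mem_isometryGroup_iff.2 fun v => by rw [hc, h1, one_mul]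

include hQf in
/-- the number of quadratic forms of a given type polarising to the alternating form -/
theorem relIndex_eq (hd : 0 < d) (h2 : (2 : F) = 0) (hN : (QuadraticMap.polarBilin Q).Nondegenerate) :
    (QPlus Q ⊤ → 2 * (Cfsg.Geo.quadSimilarityGroup ⇑Q).relIndex (Cfsg.spGL d F) =
      Fintype.card F ^ d * (Fintype.card F ^ d + 1)) ∧
    (¬ QPlus Q ⊤ → 2 * (Cfsg.Geo.quadSimilarityGroup ⇑Q).relIndex (Cfsg.spGL d F) =
      Fintype.card F ^ d * (Fintype.card F ^ d - 1)) := by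
  classical
  obtain ⟨k, rfl⟩ : ∃ k, d = k + 1 := ⟨d - 1, by omega⟩
  obtain ⟨a, b, hab⟩ := CfsgLib.IsometryConj.exists_anisotropic_binary (F := F)
  have hV : Module.finrank F (⊤ : Submodule F (Fin (k + 1) ⊕ Fin (k + 1) → F)) = 2 * (k + 1) := by
    rw [finrank_top, Module.finrank_fintype_fun_eq_card, Fintype.card_sum, Fintype.card_fin]; ring
  obtain ⟨q, hq⟩ : ∃ q, q = Fintype.card F := ⟨_, rfl⟩
  have hq1 : 2 ≤ q := hq ▸ Fintype.one_lt_card
  have hG : Nat.card (Cfsg.spGL (k + 1) F) = q ^ ((k + 1) ^ 2) *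
      ((∏ i ∈ Finset.range k, (q ^ (2 * (i + 1)) - 1)) * ((q ^ (k + 1) - 1) * (q ^ (k + 1) + 1))) := by
    rw [card_spGL, card_symplectic, ← hq, Finset.prod_range_succ]
    congr 2
    rw [mul_comm 2, pow_mul, mul_comm (q ^ (k + 1) - 1), ← Nat.sq_sub_sq, one_pow]
  have hidx : (Cfsg.Geo.quadSimilarityGroup ⇑Q).relIndex (Cfsg.spGL (k + 1) F) *
      Nat.card (Cfsg.isometryGroup F ⇑Q) = Nat.card (Cfsg.spGL (k + 1) F) := by
    rw [← Subgroup.inf_relIndex_right, sim_inf_sp hQf hd h2,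
      ← Nat.card_congr (Subgroup.subgroupOfEquivOfLe (fun x hx => mem_sp_of_iso hQf hx :
        Cfsg.isometryGroup F ⇑Q ≤ Cfsg.spGL (k + 1) F)).toEquiv]
    exact Subgroup.index_mul_card _
  have hpos : 0 < Nat.card (Cfsg.isometryGroup F ⇑Q) := Nat.card_pos
  have e : (k + 1) ^ 2 = (k + 1) * k + (k + 1) := by ring
  rw [← hq]
  rcases qplus_cases (qnd_top hN) hV hab with ⟨hp, L, hL⟩ | ⟨hp, L, hL⟩
  · have hc : Nat.card (Cfsg.isometryGroup F ⇑Q) = 2 * q ^ ((k + 1) * k) * (q ^ (k + 1) - 1) *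
        ∏ i ∈ Finset.range k, (q ^ (2 * (i + 1)) - 1) := by
      rw [← card_iso_linear (L.trans Submodule.topEquiv) hL, card_iso_plus, hq]
    refine ⟨fun _ => ?_, fun h => absurd hp h⟩
    refine Nat.eq_of_mul_eq_mul_left hpos ?_
    calc Nat.card (Cfsg.isometryGroup F ⇑Q) * (2 * _) = 2 * Nat.card (Cfsg.spGL (k + 1) F) := by rw [← hidx]; ring
      _ = _ := by rw [hG, hc, e, pow_add]; ring
  · have hc : Nat.card (Cfsg.isometryGroup F ⇑Q) = 2 * q ^ ((k + 1) * k) * (q ^ (k + 1) + 1) *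
        ∏ i ∈ Finset.range k, (q ^ (2 * (i + 1)) - 1) := by
      rw [← card_iso_linear (L.trans Submodule.topEquiv) hL, card_iso_minus hab, hq]
    refine ⟨fun h => absurd h hp, fun _ => ?_⟩
    refine Nat.eq_of_mul_eq_mul_left hpos ?_
    calc Nat.card (Cfsg.isometryGroup F ⇑Q) * (2 * _) = 2 * Nat.card (Cfsg.spGL (k + 1) F) := by rw [← hidx]; ring
      _ = _ := by rw [hG, hc, e, pow_add]; ring

/-- a fixed point free element of odd order preserving a form of the other type -/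
theorem exists_fpf_other {r : ℕ} [Fact r.Prime] (hd : 0 < d) (h2 : (2 : F) = 0) (P : Prop)
    (hr : (P ∧ r ∣ Fintype.card F ^ d + 1) ∨ (¬ P ∧ r ∣ Fintype.card F ^ d - 1)) :
    ∃ x : GL (Fin d ⊕ Fin d) F, x ∈ Cfsg.spGL d F ∧ x ^ r = 1 ∧
      ∀ v, (x : Matrix (Fin d ⊕ Fin d) (Fin d ⊕ Fin d) F) *ᵥ v = v → v = 0 := by
  classical
  rcases hr with ⟨-, h⟩ | ⟨-, h⟩
  · obtain ⟨k, rfl⟩ : ∃ k, d = k + 1 := ⟨d - 1, by omega⟩
    obtain ⟨b, hb⟩ := exists_binary_one h2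
    obtain ⟨x, hx, hxr, hfix⟩ := exists_minus_fpf h hb
    obtain ⟨L, hL⟩ := exists_minus_frame h2 k b
    obtain ⟨e, he⟩ := exists_gl_equiv L
    refine ⟨e x, fun u v => ?_, by rw [← map_pow, hxr, map_one], fun v hv => ?_⟩
    · show Cfsg.sympForm (k + 1) F ((e x : Matrix (Fin (k + 1) ⊕ Fin (k + 1)) (Fin (k + 1) ⊕ Fin (k + 1)) F) *ᵥ u)
        ((e x : Matrix (Fin (k + 1) ⊕ Fin (k + 1)) (Fin (k + 1) ⊕ Fin (k + 1)) F) *ᵥ v) = Cfsg.sympForm (k + 1) F u v
      obtain ⟨u, rfl⟩ := L.surjective u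
      obtain ⟨v, rfl⟩ := L.surjective v
      rw [he, he, hL, hL]
      simp only [QuadraticMap.polar, ← Matrix.mulVec_add, mem_isometryGroup_iff.1 hx]
    · obtain ⟨v, rfl⟩ := L.surjective v
      rw [he] at hv
      rw [hfix v (L.injective hv), map_zero]
  · obtain ⟨x, hx, hxr, hfix⟩ := exists_plus_fpf hd h
    refine ⟨x, fun u v => ?_, hxr, hfix⟩
    show Cfsg.sympForm d F ((x : Matrix (Fin d ⊕ Fin d) (Fin d ⊕ Fin d) F) *ᵥ u)
      ((x : Matrix (Fin d ⊕ Fin d) (Fin d ⊕ Fin d) F) *ᵥ v) = Cfsg.sympForm d F u v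
    rw [← polar_plus h2, ← polar_plus h2]
    simp only [QuadraticMap.polar, ← Matrix.mulVec_add, mem_isometryGroup_iff.1 hx]

end CfsgLib.Perm.Elusive.OrthOfSymp
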