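import Mathlib
import Cfsg.Agent.Lib.Perm.Elusive.OrthOfSymp

/-!
# Involutions of symplectic groups preserving quadratic forms
-/

set_option autoImplicit false
set_option linter.all false

namespace CfsgLib.Perm.Elusive.OrthOfSymp

open CfsgLib.Classical
open scoped Matrix

variable {F : Type*} [Field F] [Fintype F] {V : Type*} [AddCommGroup V] [Module F V] [FiniteDimensional F V]

/-- changing a quadratic form by the square of a functional -/
theorem exists_shift (h2 : (2 : F) = 0) (Q : QuadraticForm F V) (u : V) :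
    ∃ Q' : QuadraticForm F V, (∀ v, Q' v = Q v + QuadraticMap.polar Q v u ^ 2) ∧
      ∀ v w, QuadraticMap.polar Q' v w = QuadraticMap.polar Q v w := by
  obtain ⟨l, hl⟩ : ∃ l : V →ₗ[F] F, ∀ v, l v = QuadraticMap.polar Q v u :=
    ⟨(qB Q).flip u, fun v => rfl⟩
  refine ⟨Q + QuadraticMap.linMulLin l l, fun v => ?_, fun v w => ?_⟩
  · show Q v + l v * l v = _
    rw [hl, sq]
  · simp only [QuadraticMap.polar]
    show Q (v + w) + l (v + w) * l (v + w) - (Q v + l v * l v) - (Q w + l w * l w) = _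
    rw [l.map_add]
    linear_combination (l v * l w) * h2

omit [Fintype F] in
/-- the type of a plane with a basis -/
theorem plane_plus_iff {Q : QuadraticForm F V} {y z : V} (hy : Q y ≠ 0) (hli : LinearIndependent F ![y, z])
    (hd : Module.finrank F (Submodule.span F {y, z}) = 2) :
    QPlus Q (Submodule.span F {y, z}) ↔ ∃ t : F, Q (t • y + z) = 0 := by
  constructor
  · rintro ⟨U, hU, hU0, hUd⟩
    obtain ⟨p, hp, hp0⟩ := Submodule.exists_mem_ne_zero_of_ne_bot (p := U) (fun h => by
      rw [h, finrank_bot] at hUd; omega)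
    obtain ⟨a, b, rfl⟩ := Submodule.mem_span_pair.1 (hU hp)
    have hb : b ≠ 0 := fun hb => by
      have h := hU0 _ hp
      rw [hb, zero_smul, add_zero, QuadraticMap.map_smul, smul_eq_mul] at h
      have ha : a ≠ 0 := fun ha => hp0 (by rw [ha, hb, zero_smul, zero_smul, add_zero])
      exact hy ((mul_eq_zero.1 h).resolve_left (mul_ne_zero ha ha))
    refine ⟨b⁻¹ * a, ?_⟩
    have h : (b⁻¹ * a) • y + z = b⁻¹ • (a • y + b • z) := by
      rw [smul_add, smul_smul, inv_smul_smul₀ hb]
    rw [h, QuadraticMap.map_smul, hU0 _ hp, smul_zero]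
  · rintro ⟨t, ht⟩
    have hne : t • y + z ≠ 0 := fun h => by
      have := (LinearIndependent.pair_iff.1 hli) t 1 (by rw [one_smul]; exact h)
      exact one_ne_zero this.2
    refine ⟨Submodule.span F {t • y + z}, ?_, fun p hp => ?_, by rw [finrank_span_singleton hne, hd]⟩
    · rw [Submodule.span_singleton_le_iff_mem]
      exact Submodule.mem_span_pair.2 ⟨t, 1, by rw [one_smul]⟩
    · obtain ⟨c, rfl⟩ := Submodule.mem_span_singleton.1 hp
      rw [QuadraticMap.map_smul, ht, smul_zero]

/-- values outside the image of `t ↦ t² + t` change the type -/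
theorem type_flip (h2 : (2 : F) = 0) {Q Q' : QuadraticForm F V} (hN : (QuadraticMap.polarBilin Q).Nondegenerate)
    {d : ℕ} (hd : Module.finrank F V = 2 * d) {y : V} (hy : ∀ t : F, t ^ 2 + t ≠ Q y)
    (hQ' : ∀ v, Q' v = Q v + QuadraticMap.polar Q v y ^ 2)
    (hpol : ∀ v w, QuadraticMap.polar Q' v w = QuadraticMap.polar Q v w) :
    QPlus Q' ⊤ ↔ ¬ QPlus Q ⊤ := by
  classical
  have hneg : ∀ x : F, -x = x := fun x => by linear_combination (-x) * h2
  have hy0 : y ≠ 0 := fun h => hy 0 (by rw [h, map_zero]; ring)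
  have hQy : Q y ≠ 0 := fun h => hy 0 (by rw [h]; ring)
  obtain ⟨z, hz⟩ : ∃ z, QuadraticMap.polar Q y z = 1 := by
    obtain ⟨z, hz⟩ := not_forall.1 fun h => hy0 (hN.1 y h)
    refine ⟨(QuadraticMap.polar Q y z)⁻¹ • z, ?_⟩
    rw [QuadraticMap.polar_smul_right, smul_eq_mul]
    exact inv_mul_cancel₀ hz
  have hyy : QuadraticMap.polar Q y y = 0 := by rw [QuadraticMap.polar_self, two_nsmul, ← two_mul, h2, zero_mul]
  have hzy : QuadraticMap.polar Q z y = 1 := by rw [QuadraticMap.polar_comm, hz]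
  have hval : ∀ a b : F, Q (a • y + b • z) = a * a * Q y + a * b + b * b * Q z := fun a b => by
    rw [QuadraticMap.map_add (⇑Q), QuadraticMap.map_smul, QuadraticMap.map_smul, QuadraticMap.polar_smul_left,
      QuadraticMap.polar_smul_right, hz, smul_eq_mul, smul_eq_mul, smul_eq_mul, smul_eq_mul]
    ring
  have hli : LinearIndependent F ![y, z] := LinearIndependent.pair_iff.2 fun a b h => by
    have hb : b = 0 := by
      have h' := congrArg (fun v => QuadraticMap.polar Q y v) h
      simp only [QuadraticMap.polar_add_right, QuadraticMap.polar_smul_right, hyy, hz, smul_eq_mul,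
        QuadraticMap.polar_zero_right] at h'
      linear_combination h'
    rw [hb, zero_smul, add_zero, smul_eq_zero] at h
    exact ⟨h.resolve_right hy0, hb⟩
  obtain ⟨P, hP⟩ : ∃ P, P = Submodule.span F {y, z} := ⟨_, rfl⟩
  have hPd : Module.finrank F P = 2 := by
    rw [hP, ← Matrix.range_cons_cons_empty y z ![], finrank_span_eq_card hli, Fintype.card_fin]
  have hPn : QNd Q P := by
    rw [qnd_iff]
    intro u hu hu0
    rw [hP] at hu
    obtain ⟨a, b, rfl⟩ := Submodule.mem_span_pair.1 hu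
    by_cases hb : b = 0
    · refine ⟨z, hP ▸ Submodule.subset_span (by simp), ?_⟩
      rw [hb, zero_smul, add_zero, QuadraticMap.polar_smul_left, hz, smul_eq_mul, mul_one]
      intro ha
      exact hu0 (by rw [ha, hb, zero_smul, zero_smul, add_zero])
    · refine ⟨y, hP ▸ Submodule.subset_span (by simp), ?_⟩
      rw [QuadraticMap.polar_add_left, QuadraticMap.polar_smul_left, QuadraticMap.polar_smul_left, hyy, hzy,
        smul_zero, zero_add, smul_eq_mul, mul_one]
      exact hb
  obtain ⟨O, hO⟩ : ∃ O, O = (qB Q).orthogonal P := ⟨_, rfl⟩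
  have hcm : IsCompl P O := hO ▸ isCompl_orth (polar_refl Q) hPn
  have hOn : QNd Q O := hO ▸ orth_nd (polar_refl Q) hN hPn
  have ho : ∀ u ∈ P, ∀ v ∈ O, QuadraticMap.polar Q u v = 0 := fun u hu v hv => (hO ▸ hv) u hu
  have hsum := Submodule.finrank_add_eq_of_isCompl hcm
  rw [hPd, hd] at hsum
  have hPn' : QNd Q' P := by rw [qnd_iff]; simpa only [hpol] using (qnd_iff Q P).1 hPn
  have hOn' : QNd Q' O := by rw [qnd_iff]; simpa only [hpol] using (qnd_iff Q O).1 hOn
  have hs := qplus_sup_iff hPn hOn ho (h := 1) (h' := d - 1) (by omega) (by omega)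
  have hs' := qplus_sup_iff hPn' hOn' (fun u hu v hv => (hpol u v).trans (ho u hu v hv))
    (h := 1) (h' := d - 1) (by omega) (by omega)
  rw [hcm.sup_eq_top] at hs hs'
  have hyO : ∀ v ∈ O, QuadraticMap.polar Q v y = 0 := fun v hv => by
    rw [QuadraticMap.polar_comm]; exact ho y (hP ▸ Submodule.subset_span (by simp)) v hv
  have hOe : ∀ v ∈ O, Q' v = Q v := fun v hv => by rw [hQ', hyO v hv]; ring
  have hOp : QPlus Q' O ↔ QPlus Q O :=
    ⟨fun ⟨U, h1, h2', h3⟩ => ⟨U, h1, fun u hu => by rw [← hOe u (h1 hu)]; exact h2' u hu, h3⟩,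
      fun ⟨U, h1, h2', h3⟩ => ⟨U, h1, fun u hu => by rw [hOe u (h1 hu)]; exact h2' u hu, h3⟩⟩
  -- the plane changes its type
  obtain ⟨φ, hφ⟩ : ∃ φ : F →+ F, ∀ t, φ t = t ^ 2 + t :=
    ⟨{ toFun := fun t => t ^ 2 + t, map_zero' := by ring,
       map_add' := fun s t => by linear_combination (s * t) * h2 }, fun t => rfl⟩
  have hidx : φ.range.index = 2 := by
    have hker : Nat.card φ.ker = 2 := by
      rw [Nat.card_eq_two_iff]
      refine ⟨⟨0, φ.ker.zero_mem⟩, ⟨1, by rw [AddMonoidHom.mem_ker, hφ]; linear_combination h2⟩,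
        fun h => zero_ne_one (congrArg Subtype.val h), Set.eq_univ_of_forall fun t => ?_⟩
      have h : (t : F) ^ 2 + t = 0 := by rw [← hφ]; exact t.2
      rcases mul_eq_zero.1 (show (t : F) * ((t : F) + 1) = 0 by linear_combination h) with h | h
      · exact Or.inl (Subtype.ext h)
      · exact Or.inr (Subtype.ext (show (t : F) = 1 by linear_combination h - h2))
    have h1 := AddSubgroup.index_mul_card φ.range
    have h3 := AddSubgroup.index_mul_card φ.ker
    rw [AddSubgroup.index_ker, hker] at h3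
    exact Nat.eq_of_mul_eq_mul_right (Nat.card_pos (α := φ.range)) (by linarith)
  have hmem : ∀ x, x ∈ φ.range ↔ ∃ t, t ^ 2 + t = x := fun x => by simp [AddMonoidHom.mem_range, hφ]
  have hroot : ∀ (R : QuadraticForm F V), R y = Q y → (∀ t : F, R (t • y + z) = t * t * Q y + t + R z) →
      (QPlus R P ↔ Q y * R z ∈ φ.range) := by
    intro R hRy hR
    rw [hP, plane_plus_iff (by rw [hRy]; exact hQy) hli (hP ▸ hPd), hmem]
    constructor
    · rintro ⟨t, ht⟩
      rw [hR] at ht
      exact ⟨Q y * t, by linear_combination (Q y) * ht - (Q y * R z) * h2⟩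
    · rintro ⟨s, hs⟩
      refine ⟨s / Q y, ?_⟩
      rw [hR]
      field_simp
      linear_combination hs + (Q y * R z) * h2
  have hQ'y : Q' y = Q y := by rw [hQ', hyy]; ring
  have hQ'z : Q' z = Q z + 1 := by rw [hQ', hzy]; ring
  have e1 : QPlus Q P ↔ Q y * Q z ∈ φ.range := hroot Q rfl fun t => by
    have h := hval t 1
    rw [one_smul] at h
    rw [h]; ring
  have e2 : QPlus Q' P ↔ Q y * Q z + Q y ∈ φ.range := by
    rw [hroot Q' hQ'y fun t => ?_, hQ'z, mul_add, mul_one]
    have h := hval t 1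
    rw [one_smul] at h
    rw [hQ', hQ'z, h, QuadraticMap.polar_add_left, QuadraticMap.polar_smul_left, hyy, hzy]
    simp
    ring
  have hno : Q y ∉ φ.range := fun h => by
    obtain ⟨t, ht⟩ := (hmem _).1 h
    exact hy t ht
  rw [AddSubgroup.add_mem_iff_of_index_two hidx] at e2
  rw [hs, hs', hOp]
  tauto

/-- every involution preserves a form of a given type unless its fixed space is singular -/
theorem exists_invariant_form (h2 : (2 : F) = 0) {Q : QuadraticForm F V} (hN : (QuadraticMap.polarBilin Q).Nondegenerate)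
    {d : ℕ} (hd : Module.finrank F V = 2 * d) {X : V →ₗ[F] V} (hXX : ∀ v, X (X v) = v)
    (hX : ∀ v w, QuadraticMap.polar Q (X v) (X w) = QuadraticMap.polar Q v w) (hgood : QPlus Q ⊤ ∨ Odd d) :
    ∃ Q' : QuadraticForm F V, (∀ v w, QuadraticMap.polar Q' v w = QuadraticMap.polar Q v w) ∧
      (∀ v, Q' (X v) = Q' v) ∧ (QPlus Q' ⊤ ↔ QPlus Q ⊤) := by
  classical
  obtain ⟨N, hNdef⟩ : ∃ N : V →ₗ[F] V, ∀ v, N v = X v + v := ⟨X + LinearMap.id, fun v => rfl⟩
  have hneg : ∀ v : V, -v = v := fun v => by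
    rw [neg_eq_iff_add_eq_zero, ← two_smul F v, h2, zero_smul]
  have hself : ∀ v : V, v + v = 0 := fun v => by rw [← two_smul F v, h2, zero_smul]
  have hXv : ∀ v, X v = v + N v := fun v => by rw [hNdef, add_comm (X v) v, ← add_assoc, hself, zero_add]
  have hNN : ∀ v, N (N v) = 0 := fun v => by
    rw [hNdef, hNdef, map_add, hXX, add_comm v (X v)]; exact hself _
  have hadj : ∀ v w, QuadraticMap.polar Q (N v) w = QuadraticMap.polar Q v (N w) := fun v w => by
    rw [hNdef, hNdef, QuadraticMap.polar_add_left, QuadraticMap.polar_add_right]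
    congr 1
    rw [← hX (X v) w, hXX]
  have hiso : ∀ v w, QuadraticMap.polar Q (N v) (N w) = 0 := fun v w => by
    rw [hadj, hNN, QuadraticMap.polar_zero_right]
  have hnegF : ∀ x : F, -x = x := fun x => by linear_combination (-x) * h2
  haveI : CharP F 2 := CharTwo.of_one_ne_zero_of_two_eq_zero one_ne_zero h2
  obtain ⟨σ, hσ⟩ : ∃ σ, σ = (frobeniusEquiv F 2).symm := ⟨_, rfl⟩
  have hσ2 : ∀ x, σ x ^ 2 = x := fun x => by
    rw [hσ, ← frobenius_def 2 ((frobeniusEquiv F 2).symm x), ← frobeniusEquiv_apply, RingEquiv.apply_symm_apply]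
  have hσm : ∀ c x, σ (c * c * x) = c * σ x := fun c x => by
    have : σ (c * c) = c := by
      rw [hσ, ← sq, ← frobenius_def 2 c, ← frobeniusEquiv_apply, RingEquiv.symm_apply_apply]
    rw [map_mul, this]
  obtain ⟨ψ, hψ⟩ : ∃ ψ : V →ₗ[F] F, ∀ v, ψ v = σ (Q (N v) + QuadraticMap.polar Q v (N v)) :=
    ⟨{ toFun := fun v => σ (Q (N v) + QuadraticMap.polar Q v (N v))
       map_add' := fun v w => by
         rw [← map_add σ]
         congr 1
         rw [map_add, QuadraticMap.map_add (⇑Q), hiso, QuadraticMap.polar_add_left, QuadraticMap.polar_add_right,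
           QuadraticMap.polar_add_right, show QuadraticMap.polar Q w (N v) = QuadraticMap.polar Q v (N w) by
             rw [← hadj, QuadraticMap.polar_comm]]
         linear_combination (QuadraticMap.polar Q v (N w)) * h2
       map_smul' := fun c v => by
         simp only [RingHom.id_apply, map_smul, QuadraticMap.map_smul, QuadraticMap.polar_smul_left,
           QuadraticMap.polar_smul_right, smul_eq_mul]
         rw [← hσm]
         congr 1
         ring }, fun v => rfl⟩
  have hψker : ψ ∈ (LinearMap.ker N).dualAnnihilator := by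
    rw [Submodule.mem_dualAnnihilator]
    intro v hv
    rw [hψ, LinearMap.mem_ker.1 hv, map_zero, QuadraticMap.polar_zero_right, add_zero, map_zero]
  rw [← LinearMap.range_dualMap_eq_dualAnnihilator_ker] at hψker
  obtain ⟨h, hh⟩ := hψker
  obtain ⟨u, hu⟩ : ∃ u, ∀ w, QuadraticMap.polar Q w u = h w := by
    refine ⟨(LinearMap.BilinForm.toDual (qB Q) hN).symm h, fun w => ?_⟩
    rw [QuadraticMap.polar_comm]
    exact LinearMap.BilinForm.apply_toDual_symm_apply (B := qB Q) h w
  obtain ⟨Q₁, hQ₁, hp₁⟩ := exists_shift h2 Q u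
  have hinv : ∀ v, Q₁ (X v) = Q₁ v := fun v => by
    have hk : QuadraticMap.polar Q (N v) u ^ 2 = Q (N v) + QuadraticMap.polar Q v (N v) := by
      rw [hu, show h (N v) = ψ v from LinearMap.congr_fun hh v, hψ, hσ2]
    rw [hQ₁, hQ₁, hXv, QuadraticMap.map_add (⇑Q), QuadraticMap.polar_add_left]
    linear_combination hk + (Q (N v) + QuadraticMap.polar Q v (N v) +
      QuadraticMap.polar Q v u * QuadraticMap.polar Q (N v) u) * h2
  have hN₁ : (QuadraticMap.polarBilin Q₁).Nondegenerate := by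
    have key : ∀ a, (∀ b, QuadraticMap.polar Q₁ a b = 0) → a = 0 := fun a ha => hN.1 a fun b => (hp₁ a b).symm.trans (ha b)
    exact ⟨key, fun b hb => key b fun a => (QuadraticMap.polar_comm _ b a).trans (hb a)⟩
  by_cases hsame : QPlus Q₁ ⊤ ↔ QPlus Q ⊤
  · exact ⟨Q₁, hp₁, hinv, hsame⟩
  by_cases hk0 : ∀ v ∈ LinearMap.ker N, Q₁ v = 0
  · exfalso
    have hle : LinearMap.range N ≤ LinearMap.ker N := by
      rintro _ ⟨v, rfl⟩; exact LinearMap.mem_ker.2 (hNN v)
    have h1 := LinearMap.finrank_range_add_finrank_ker N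
    have h3 := Submodule.finrank_mono hle
    have h4 := ts_half_le (qnd_top hN₁) (U := LinearMap.ker N) le_top hk0
    rw [finrank_top, hd] at h4
    rw [hd] at h1
    have hKd : Module.finrank F (LinearMap.ker N) = d := by omega
    have hp : QPlus Q₁ ⊤ := ⟨LinearMap.ker N, le_top, hk0, by rw [finrank_top, hd, hKd]⟩
    -- the bilinear form `(v, w) ↦ B(v, N w)` is alternating
    obtain ⟨G, hG⟩ : ∃ G : LinearMap.BilinForm F V, ∀ v w, G v w = QuadraticMap.polar Q v (N w) :=
      ⟨(qB Q).compl₁₂ LinearMap.id N, fun v w => rfl⟩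
    have hGA : G.IsAlt := fun v => by
      rw [hG]
      have h := hinv v
      rw [hXv, QuadraticMap.map_add (⇑Q₁), hk0 (N v) (hle ⟨v, rfl⟩), hp₁, add_zero] at h
      linear_combination h
    obtain ⟨C, hC⟩ := Submodule.exists_isCompl (LinearMap.ker N)
    have hCd := Submodule.finrank_add_eq_of_isCompl hC
    rw [hKd, hd] at hCd
    have hCn : Disjoint C (G.orthogonal C) := by
      rw [disjoint_orth_iff hGA.isRefl]
      intro w hw hw0
      by_contra hno
      push Not at hno
      refine hw0 (Submodule.disjoint_def.1 hC.disjoint w (LinearMap.mem_ker.2 (hN.1 _ fun v => ?_)) hw)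
      show QuadraticMap.polar Q (N w) v = 0
      obtain ⟨a, ha, c, hc, rfl⟩ := Submodule.mem_sup.1 (hC.sup_eq_top.ge (Submodule.mem_top (x := v)))
      rw [QuadraticMap.polar_add_right, hadj w a, LinearMap.mem_ker.1 ha, QuadraticMap.polar_zero_right, zero_add,
        hadj w c, ← hG, hno c hc]
    have heven := even_of_nd hGA hCn
    rw [show Module.finrank F C = d by omega] at heven
    refine hsame (iff_of_true hp (hgood.resolve_right (Nat.not_odd_iff_even.2 heven)))
  · push Not at hk0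
    obtain ⟨y₀, hy₀, hy₀'⟩ := hk0
    obtain ⟨α, hα⟩ : ∃ α : F, ∀ t : F, t ^ 2 + t ≠ α := by
      by_contra hno
      push Not at hno
      have hinj : Function.Injective fun t : F => t ^ 2 + t :=
        Finite.injective_iff_surjective.2 hno
      exact zero_ne_one (hinj (show (0 : F) ^ 2 + 0 = 1 ^ 2 + 1 by linear_combination (-1 : F) * h2))
    obtain ⟨y, hy, hQy⟩ : ∃ y ∈ LinearMap.ker N, Q₁ y = α := by
      refine ⟨σ (α / Q₁ y₀) • y₀, (LinearMap.ker N).smul_mem _ hy₀, ?_⟩
      rw [QuadraticMap.map_smul, ← sq, hσ2, smul_eq_mul, div_mul_cancel₀ _ hy₀']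
    obtain ⟨Q₂, hQ₂, hp₂⟩ := exists_shift h2 Q₁ y
    refine ⟨Q₂, fun v w => (hp₂ v w).trans (hp₁ v w), fun v => ?_, ?_⟩
    · rw [hQ₂, hQ₂, hinv, hXv, QuadraticMap.polar_add_left, hp₁ (N v), hadj, LinearMap.mem_ker.1 hy,
        QuadraticMap.polar_zero_right, add_zero]
    · rw [type_flip h2 hN₁ hd (fun t => hQy ▸ hα t) hQ₂ hp₂]
      tauto

end CfsgLib.Perm.Elusive.OrthOfSymp
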