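import Mathlib
import Cfsg.Agent.Lib.Perm.Elusive.OrthTorus
import Cfsg.Agent.Lib.Perm.Elusive.SympPrime

/-!
# Nonsingular points fixed by elements of prime order of orthogonal groups in characteristic two
-/

set_option autoImplicit false
set_option linter.all false

namespace CfsgLib.Perm.Elusive

open scoped Matrix

variable {F : Type*} [Field F] [Fintype F] {ι : Type} [Fintype ι] [DecidableEq ι] {Q : (ι → F) → F}

/-- scalar powers of isometries are trivial -/
theorem pow_eq_one_of_scalar (h2 : (2 : F) = 0) (hQ : Cfsg.Geo.IsNondegenerateQuadraticForm Q) {v : ι → F} (hv : Q v ≠ 0)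
    {g : GL ι F} (hg : g ∈ Cfsg.isometryGroup F Q) {r : ℕ} {z : F}
    (hz : ((g ^ r : GL ι F) : Matrix ι ι F) = z • (1 : Matrix ι ι F)) : g ^ r = 1 := by
  have h := CfsgLib.Classical.mem_isometryGroup_iff.1 (pow_mem hg r) v
  rw [hz, Matrix.smul_mulVec, Matrix.one_mulVec, hQ.smul] at h
  have h1 : z * z = 1 := mul_right_cancel₀ hv (by rw [one_mul, ← sq]; exact h)
  refine Units.ext ?_
  rw [hz, Units.val_one]
  rcases mul_self_eq_one_iff.1 h1 with h | h
  · rw [h, one_smul]
  · rw [show z = 1 by linear_combination h - h2, one_smul]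

/-- an involution fixes a nonsingular point unless its fixed space is totally singular -/
theorem fixed_point_or_singular {g : GL ι F} (hg : g * g = 1) (h2 : (2 : F) = 0) :
    (∃ W : Submodule F (ι → F), (Module.finrank F ↥W = 1 ∧ ∃ v ∈ W, Q v ≠ 0) ∧
      W.map (Matrix.toLin' (g : Matrix ι ι F)) ≤ W) ∨ (Q 0 ≠ 0) ∨
      ∃ K : Submodule F (ι → F), (∀ v ∈ K, Q v = 0) ∧ (∀ v, v ∈ K ↔ (g : Matrix ι ι F) *ᵥ v = v) ∧
        Fintype.card ι ≤ 2 * Module.finrank F K := by
  obtain ⟨N, hN⟩ : ∃ N : Module.End F (ι → F), N = Matrix.toLin' (g : Matrix ι ι F) - 1 := ⟨_, rfl⟩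
  have hNv : ∀ v, N v = (g : Matrix ι ι F) *ᵥ v - v := fun v => by rw [hN]; rfl
  have hker : ∀ v, v ∈ LinearMap.ker N ↔ (g : Matrix ι ι F) *ᵥ v = v := fun v => by
    rw [LinearMap.mem_ker, hNv, sub_eq_zero]
  by_cases h : ∀ v ∈ LinearMap.ker N, Q v = 0
  · refine Or.inr (Or.inr ⟨LinearMap.ker N, h, hker, ?_⟩)
    have hle : LinearMap.range N ≤ LinearMap.ker N := by
      rintro _ ⟨v, rfl⟩
      rw [hker, hNv, Matrix.mulVec_sub, Matrix.mulVec_mulVec, ← Units.val_mul, hg, Units.val_one, Matrix.one_mulVec]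
      funext i
      simp only [Pi.sub_apply]
      linear_combination (v i - ((g : Matrix ι ι F) *ᵥ v) i) * h2
    have h1 := LinearMap.finrank_range_add_finrank_ker N
    rw [Module.finrank_fintype_fun_eq_card] at h1
    have h3 := Submodule.finrank_mono hle
    omega
  · push Not at h
    obtain ⟨v, hv, hQv⟩ := h
    by_cases hv0 : v = 0
    · exact Or.inr (Or.inl (hv0 ▸ hQv))
    refine Or.inl ⟨Submodule.span F {v}, ⟨finrank_span_singleton hv0, v, Submodule.mem_span_singleton_self v, hQv⟩, ?_⟩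
    rw [Submodule.map_span, Set.image_singleton, Submodule.span_singleton_le_iff_mem, Matrix.toLin'_apply,
      (hker v).1 hv]
    exact Submodule.mem_span_singleton_self v

/-- the fixed space of an involution is not a totally singular subspace of dimension `k` for odd `k` -/
theorem even_of_singular_fixed (h2 : (2 : F) = 0) (hQ : Cfsg.Geo.IsNondegenerateQuadraticForm Q) {g : GL ι F}
    (hg : g ∈ Cfsg.isometryGroup F Q) (hgg : g * g = 1) {K : Submodule F (ι → F)} (hK : ∀ v ∈ K, Q v = 0)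
    (hKmem : ∀ v, v ∈ K ↔ (g : Matrix ι ι F) *ᵥ v = v) {k : ℕ} (hk : Fintype.card ι = 2 * k)
    (hKd : Module.finrank F K = k) : Even k := by
  obtain ⟨P, hP⟩ := CfsgLib.Orth.FieldCls.exists_qf hQ
  obtain ⟨B, hB⟩ : ∃ B, B = QuadraticMap.polarBilin P := ⟨_, rfl⟩
  have hBv : ∀ u v, B u v = Q (u + v) - Q u - Q v := fun u v => by
    rw [hB, QuadraticMap.polarBilin_apply_apply, QuadraticMap.polar, hP]
  obtain ⟨N, hN⟩ : ∃ N : Module.End F (ι → F), N = Matrix.toLin' (g : Matrix ι ι F) - 1 := ⟨_, rfl⟩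
  have hNv : ∀ v, N v = (g : Matrix ι ι F) *ᵥ v - v := fun v => by rw [hN]; rfl
  have hNK : ∀ v, N v ∈ K := fun v => by
    rw [hKmem, hNv, Matrix.mulVec_sub, Matrix.mulVec_mulVec, ← Units.val_mul, hgg, Units.val_one, Matrix.one_mulVec]
    funext i
    simp only [Pi.sub_apply]
    linear_combination (v i - ((g : Matrix ι ι F) *ᵥ v) i) * h2
  obtain ⟨G, hG⟩ : ∃ G : LinearMap.BilinForm F (ι → F), ∀ u v, G u v = B (N u) v :=
    ⟨LinearMap.BilinForm.comp B N LinearMap.id, fun u v => rfl⟩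
  have hGA : G.IsAlt := fun u => by
    have h := CfsgLib.Classical.mem_isometryGroup_iff.1 hg u
    rw [hG, hBv, hK _ (hNK u), sub_zero, show N u + u = (g : Matrix ι ι F) *ᵥ u by rw [hNv]; abel, h, sub_self]
  obtain ⟨C, hC⟩ := Submodule.exists_isCompl K
  have hCnd : Disjoint C (G.orthogonal C) := by
    rw [Submodule.disjoint_def]
    intro u hu ho
    refine Submodule.disjoint_def.1 hC.disjoint u ?_ hu
    have h0 : N u = 0 := by
      by_contra hne
      obtain ⟨w, hw⟩ : ∃ w, B (N u) w ≠ 0 := by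
        obtain ⟨w, hw⟩ := (hQ.nondegenerate (N u) hne).2
        exact ⟨w, by rw [hBv]; exact hw⟩
      obtain ⟨x, hx, c, hc, rfl⟩ := Submodule.mem_sup.1 (hC.sup_eq_top.ge (Submodule.mem_top (x := w)))
      refine hw ?_
      have hx0 : G x u = 0 := by
        rw [hG, show N x = 0 by rw [hNv, (hKmem x).1 hx, sub_self], map_zero, LinearMap.zero_apply]
      rw [map_add, ← hG, ← hG, hGA.isRefl _ _ hx0, hGA.isRefl _ _ (ho c hc), add_zero]
    rw [hKmem, ← sub_eq_zero, ← hNv, h0]
  have h := even_of_nd hGA hCnd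
  have h3 := Submodule.finrank_add_eq_of_isCompl hC
  rw [Module.finrank_fintype_fun_eq_card, hKd, hk] at h3
  rwa [show Module.finrank F C = k by omega] at h

/-- the involution with totally singular fixed space of even dimension -/
theorem exists_singular_invol (h2 : (2 : F) = 0) {d : ℕ} (hd : Even d) (hd3 : 3 ≤ d) :
    ∃ g : GL (Fin d ⊕ Fin d) F, g ∈ Cfsg.Geo.omegaGL (Cfsg.quadFormPlus d F) ∧ g ^ 2 = 1 ∧
      (∀ z : F, (g : Matrix (Fin d ⊕ Fin d) (Fin d ⊕ Fin d) F) ≠ z • 1) ∧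
      ∀ v, (g : Matrix (Fin d ⊕ Fin d) (Fin d ⊕ Fin d) F) *ᵥ v = v → Cfsg.quadFormPlus d F v = 0 := by
  classical
  obtain ⟨S, hS⟩ : ∃ S : Matrix (Fin d) (Fin d) F, S = Matrix.of fun i j => if j = Fin.rev i then 1 else 0 := ⟨_, rfl⟩
  have hSv : ∀ (w : Fin d → F) i, (S *ᵥ w) i = w (Fin.rev i) := fun w i => by
    simp [hS, Matrix.mulVec, dotProduct]
  obtain ⟨X, hX⟩ : ∃ X : Matrix (Fin d ⊕ Fin d) (Fin d ⊕ Fin d) F, X = Matrix.fromBlocks 1 S 0 1 := ⟨_, rfl⟩
  have hXX : X * X = 1 := by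
    rw [hX, Matrix.fromBlocks_multiply]
    simp only [Matrix.one_mul, Matrix.mul_one, Matrix.mul_zero, Matrix.zero_mul, add_zero, zero_add]
    rw [show S + S = 0 by rw [← two_smul F S, h2, zero_smul], Matrix.fromBlocks_one]
  obtain ⟨g, hg⟩ : ∃ g : GL (Fin d ⊕ Fin d) F, (g : Matrix (Fin d ⊕ Fin d) (Fin d ⊕ Fin d) F) = X :=
    ⟨⟨X, X, hXX, hXX⟩, rfl⟩
  have hgv : ∀ v, (g : Matrix (Fin d ⊕ Fin d) (Fin d ⊕ Fin d) F) *ᵥ v =
      v + Sum.elim (fun i => v (Sum.inr (Fin.rev i))) 0 := fun v => by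
    funext x
    rw [hg, hX, Matrix.fromBlocks_mulVec]
    rcases x with i | i
    · simp [hSv]
    · simp
  have hiso : g ∈ Cfsg.isometryGroup F (Cfsg.quadFormPlus d F) := by
    refine CfsgLib.Classical.mem_isometryGroup_iff.2 fun v => ?_
    rw [hgv]
    simp only [Cfsg.quadFormPlus, Pi.add_apply, Sum.elim_inl, Sum.elim_inr, Pi.zero_apply, add_zero, add_mul,
      Finset.sum_add_distrib, add_eq_left]
    refine Finset.sum_involution (fun i _ => Fin.rev i) (fun i _ => ?_) (fun i _ _ h => ?_) (fun i _ => Finset.mem_univ _)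
      (fun i _ => Fin.rev_rev i)
    · rw [Fin.rev_rev]
      linear_combination (v (Sum.inr (Fin.rev i)) * v (Sum.inr i)) * h2
    · have hv := congrArg Fin.val h
      rw [Fin.val_rev] at hv
      obtain ⟨w, hw⟩ := hd
      omega
  have hQ : Cfsg.Geo.IsNondegenerateQuadraticForm (Cfsg.quadFormPlus d F) := CfsgLib.Perm.Trans.Quad.quadFormPlus_nd
  refine ⟨g, ?_, ?_, fun z hz => ?_, fun v hv => ?_⟩
  · refine ⟨⟨g, hiso⟩, (CfsgLib.Orth.mem_omega_iff hQ (by simp; omega) (Or.inr (by simp; omega)) _).2 ⟨?_, ?_⟩, rfl⟩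
    · haveI : CharP F 2 := CharTwo.of_one_ne_zero_of_two_eq_zero one_ne_zero h2
      rw [CfsgLib.Orth.spn]
      generalize (CfsgLib.Orth.wallMat (Cfsg.quadFormPlus d F) g (CfsgLib.Orth.exists_frame g).choose).det = a
      by_cases ha : a = 0
      · rw [CfsgLib.Orth.sqc, dif_pos ha]
      · exact (CfsgLib.Orth.sqc_eq_one_iff ha).2 (FiniteField.isSquare_of_char_two (ringChar.eq F 2) a)
    · have hw : CfsgLib.Orth.wrk g = d := by
        obtain ⟨E, hE⟩ : ∃ E : (Fin d → F) →ₗ[F] (Fin d ⊕ Fin d → F), ∀ c, E c = Sum.elim c 0 :=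
          ⟨{ toFun := fun c => Sum.elim c 0
             map_add' := fun a b => by funext x; rcases x with i | i <;> simp
             map_smul' := fun s a => by funext x; rcases x with i | i <;> simp }, fun c => rfl⟩
        have hr : CfsgLib.Orth.moved g = LinearMap.range E := by
          refine le_antisymm ?_ ?_
          · rintro _ ⟨v, rfl⟩
            refine ⟨-fun i => v (Sum.inr (Fin.rev i)), ?_⟩
            rw [CfsgLib.Orth.disp_apply, hgv, hE]
            funext x; rcases x with i | i <;> simp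
          · rintro _ ⟨c, rfl⟩
            refine ⟨Sum.elim 0 fun i => -c (Fin.rev i), ?_⟩
            rw [CfsgLib.Orth.disp_apply, hgv, hE]
            funext x; rcases x with i | i <;> simp
        rw [CfsgLib.Orth.wrk, hr, LinearMap.finrank_range_of_inj (fun a b h => funext fun i => by
          have := congrFun h (Sum.inl i)
          simpa [hE] using this), Module.finrank_fintype_fun_eq_card, Fintype.card_fin]
      show Even (CfsgLib.Orth.wrk g)
      rw [hw]
      exact hd
  · exact Units.ext (by rw [sq, Units.val_mul, hg, hXX, Units.val_one])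
  · have h := congrFun (congrFun hz (Sum.inl ⟨0, by omega⟩)) (Sum.inr (Fin.rev ⟨0, by omega⟩))
    simp [hg, hX, hS] at h
  · rw [hgv, add_eq_left] at hv
    refine Finset.sum_eq_zero fun i _ => ?_
    have h := congrFun hv (Sum.inl (Fin.rev i))
    simp only [Sum.elim_inl, Fin.rev_rev, Pi.zero_apply] at h
    rw [h, mul_zero]

end CfsgLib.Perm.Elusive
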