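import Mathlib
import Cfsg.Agent.Lib.Perm.Elusive.OrthSingular

/-!
# The number of totally singular subspaces is prime to the characteristic
-/

set_option autoImplicit false
set_option linter.all false

namespace CfsgLib.Perm.Elusive

variable {F : Type*} [Field F] [Fintype F] {p : ℕ} [Fact p.Prime] [CharP F p]
variable {V : Type*} [AddCommGroup V] [Module F V] [FiniteDimensional F V] {Q : QuadraticForm F V}

omit [Fintype F] [FiniteDimensional F V] in
/-- the Siegel transformations at a singular vector -/
theorem exists_siegel {u : V} (hu : Q u = 0) (S : Submodule F V) (hS : ∀ x ∈ S, QuadraticMap.polar Q u x = 0) :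
    ∃ e : S → (V →ₗ[F] V), (∀ x v, e x v = v + QuadraticMap.polar Q v u • (x : V) +
        (-QuadraticMap.polar Q v x - Q x * QuadraticMap.polar Q v u) • u) ∧
      (∀ x v, Q (e x v) = Q v) ∧ (∀ x y v, e x (e y v) = e (x + y) v) ∧ ∀ v, e 0 v = v := by
  obtain ⟨e, he⟩ : ∃ e : S → (V →ₗ[F] V), ∀ x v, e x v = v + QuadraticMap.polar Q v u • (x : V) +
      (-QuadraticMap.polar Q v x - Q x * QuadraticMap.polar Q v u) • u :=
    ⟨fun x =>
      { toFun := fun v => v + QuadraticMap.polar Q v u • (x : V) +
          (-QuadraticMap.polar Q v x - Q x * QuadraticMap.polar Q v u) • u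
        map_add' := fun a b => by simp only [QuadraticMap.polar_add_left]; module
        map_smul' := fun c a => by
          simp only [QuadraticMap.polar_smul_left, smul_eq_mul, RingHom.id_apply]; module }, fun x v => rfl⟩
  have huu : QuadraticMap.polar Q u u = 0 := by rw [QuadraticMap.polar_self, hu, smul_zero]
  have hxu : ∀ x : S, QuadraticMap.polar Q (x : V) u = 0 := fun x => by
    rw [QuadraticMap.polar_comm]; exact hS _ x.2
  refine ⟨e, he, fun x v => ?_, fun x y v => ?_, fun v => ?_⟩
  · rw [he]
    simp only [QuadraticMap.map_add (⇑Q), QuadraticMap.map_smul, QuadraticMap.polar_add_left, QuadraticMap.polar_smul_left,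
      QuadraticMap.polar_smul_right, hxu, hu, smul_eq_mul, mul_zero, add_zero]
    ring
  · rw [he x, he y, he (x + y)]
    simp only [QuadraticMap.polar_add_left, QuadraticMap.polar_smul_left, smul_eq_mul, hxu, huu, hS _ x.2, mul_zero,
      add_zero, Submodule.coe_add, QuadraticMap.polar_add_right, QuadraticMap.map_add (⇑Q),
      QuadraticMap.polar_comm Q (y : V) (x : V)]
    module
  · rw [he]
    simp [QuadraticMap.polar]

/-- totally singular subspaces through a given one, modulo the characteristic -/
theorem ts_through_mod (hN : (QuadraticMap.polarBilin Q).Nondegenerate) {n m : ℕ} (hn : Module.finrank F V = n)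
    (hmn : 2 * m + 1 ≤ n) {W₀ : Submodule F V} (hW₀ : Module.finrank F W₀ = m) (hW₀0 : ∀ u ∈ W₀, Q u = 0) (d : ℕ) :
    ∀ U : Submodule F V, U ≤ W₀ → Module.finrank F U + d = m →
      Nat.card {W : Submodule F V // (Module.finrank F W = m ∧ ∀ u ∈ W, Q u = 0) ∧ U ≤ W} ≡ 1 [MOD p] := by
  classical
  haveI : Finite V := Module.finite_of_finite F
  induction d with
  | zero =>
    intro U hU hd
    have heq : U = W₀ := Submodule.eq_of_le_of_finrank_eq hU (by omega)
    haveI : Subsingleton {W : Submodule F V // (Module.finrank F W = m ∧ ∀ u ∈ W, Q u = 0) ∧ U ≤ W} :=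
      ⟨fun W W' => Subtype.ext ((Submodule.eq_of_le_of_finrank_eq W.2.2 (by rw [W.2.1.1]; omega)).symm.trans
        (Submodule.eq_of_le_of_finrank_eq W'.2.2 (by rw [W'.2.1.1]; omega)))⟩
    haveI : Nonempty {W : Submodule F V // (Module.finrank F W = m ∧ ∀ u ∈ W, Q u = 0) ∧ U ≤ W} :=
      ⟨⟨W₀, ⟨hW₀, hW₀0⟩, hU⟩⟩
    rw [Nat.card_eq_one_iff_unique.2 ⟨inferInstance, inferInstance⟩]
  | succ d ih =>
    intro U hU hd
    obtain ⟨u, hu, huU⟩ : ∃ u ∈ W₀, u ∉ U := by
      by_contra hno
      push Not at hno
      have := Submodule.finrank_mono (show W₀ ≤ U from hno)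
      omega
    obtain ⟨U₁, hU₁⟩ : ∃ U₁, U₁ = U ⊔ Submodule.span F {u} := ⟨_, rfl⟩
    have hU₁W : U₁ ≤ W₀ := hU₁ ▸ sup_le hU ((Submodule.span_singleton_le_iff_mem _ _).2 hu)
    have huU₁ : u ∈ U₁ := hU₁ ▸ Submodule.mem_sup_right (Submodule.mem_span_singleton_self u)
    have hUU₁ : U ≤ U₁ := hU₁ ▸ le_sup_left
    have hu0 : u ≠ 0 := fun h => huU (h ▸ U.zero_mem)
    have hd₁ : Module.finrank F U₁ = Module.finrank F U + 1 := by
      have h := Submodule.finrank_sup_add_finrank_inf_eq U (Submodule.span F {u})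
      rw [← hU₁, finrank_span_singleton hu0] at h
      have hb : U ⊓ Submodule.span F {u} = ⊥ := by
        rw [Submodule.eq_bot_iff]
        rintro x ⟨hx, hx'⟩
        obtain ⟨c, rfl⟩ := Submodule.mem_span_singleton.1 hx'
        by_contra hne
        have hc : c ≠ 0 := fun h => hne (by rw [h, zero_smul])
        exact huU (by simpa [smul_smul, hc] using U.smul_mem c⁻¹ hx)
      rw [hb, finrank_bot] at h
      omega
    obtain ⟨S, hS⟩ : ∃ S, S = (qB Q).orthogonal U₁ := ⟨_, rfl⟩
    have hperp : ∀ v ∈ U₁, ∀ x ∈ S, QuadraticMap.polar Q v x = 0 := fun v hv x hx => (hS ▸ hx) v hv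
    have hSd : Module.finrank F S + (Module.finrank F U + 1) = n := by
      rw [hS, LinearMap.BilinForm.finrank_orthogonal (B := qB Q) hN, hn, hd₁]
      omega
    obtain ⟨e, he, heI, headd, he0⟩ := exists_siegel (hW₀0 u hu) S (hperp u huU₁)
    let E : S → (V ≃ₗ[F] V) := fun x => LinearEquiv.ofLinear (e x) (e (-x))
      (LinearMap.ext fun v => by rw [LinearMap.comp_apply, headd, add_neg_cancel, he0]; rfl)
      (LinearMap.ext fun v => by rw [LinearMap.comp_apply, headd, neg_add_cancel, he0]; rfl)
    have hEv : ∀ x v, E x v = e x v := fun x v => rfl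
    have hz : ∀ {W : Submodule F V}, (∀ v ∈ W, Q v = 0) → ∀ a ∈ W, ∀ b ∈ W, QuadraticMap.polar Q a b = 0 :=
      fun h a ha b hb => by rw [QuadraticMap.polar, h _ (Submodule.add_mem _ ha hb), h a ha, h b hb]; simp
    let Y : Type _ := {W : Submodule F V // (Module.finrank F W = m ∧ ∀ v ∈ W, Q v = 0) ∧ U ≤ W}
    have hmap : ∀ (x : S) (W : Y), (Module.finrank F (W.1.map (E x).toLinearMap) = m ∧
        ∀ v ∈ W.1.map (E x).toLinearMap, Q v = 0) ∧ U ≤ W.1.map (E x).toLinearMap := fun x W => by
      refine ⟨⟨(LinearEquiv.finrank_map_eq _ _).trans W.2.1.1, ?_⟩, fun v hv => ⟨v, W.2.2 hv, ?_⟩⟩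
      · rintro _ ⟨v, hv, rfl⟩
        exact (heI x v).trans (W.2.1.2 v hv)
      · show e x v = v
        rw [he, hperp v (hUU₁ hv) _ x.2, hz hW₀0 v (hU hv) u hu]
        simp
    letI act : MulAction (Multiplicative S) Y :=
      { smul := fun x W => ⟨W.1.map (E x.toAdd).toLinearMap, hmap _ W⟩
        one_smul := fun W => Subtype.ext (by
          show W.1.map (E 0).toLinearMap = W.1
          conv_rhs => rw [← Submodule.map_id W.1]
          exact congrArg (fun f => Submodule.map f W.1) (LinearMap.ext fun v => he0 v))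
        mul_smul := fun x y W => Subtype.ext (by
          show W.1.map (E (x.toAdd + y.toAdd)).toLinearMap = (W.1.map (E y.toAdd).toLinearMap).map (E x.toAdd).toLinearMap
          rw [← Submodule.map_comp]
          exact congrArg (fun f => Submodule.map f W.1) (LinearMap.ext fun v => (headd _ _ v).symm)) }
    have hP : IsPGroup p (Multiplicative S) := by
      obtain ⟨c, hp, hc⟩ := FiniteField.card F p
      refine IsPGroup.of_card (n := (c : ℕ) * Module.finrank F S) ?_
      rw [show Nat.card (Multiplicative S) = Nat.card S from rfl, Module.natCard_eq_pow_finrank (K := F),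
        Nat.card_eq_fintype_card, hc, ← pow_mul]
    have hfix : ∀ W : Y, W ∈ MulAction.fixedPoints (Multiplicative S) Y ↔ U₁ ≤ W.1 := by
      intro W
      constructor
      · intro h
        have hinv : ∀ (x : S), ∀ w ∈ W.1, e x w ∈ W.1 := fun x w hw => by
          have h1 : W.1.map (E x).toLinearMap = W.1 := congrArg Subtype.val (h (Multiplicative.ofAdd x))
          rw [← h1]
          exact ⟨w, hw, rfl⟩
        have hmove : ∀ (x : S), ∀ w ∈ W.1, QuadraticMap.polar Q w u • (x : V) +
            (-QuadraticMap.polar Q w x - Q x * QuadraticMap.polar Q w u) • u ∈ W.1 := fun x w hw => by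
          have h1 := W.1.sub_mem (hinv x w hw) hw
          rwa [he, add_assoc, add_sub_cancel_left] at h1
        have hiso : ∀ w ∈ W.1, QuadraticMap.polar Q w u = 0 := by
          by_contra hno
          push Not at hno
          obtain ⟨w, hw, ha⟩ := hno
          have hle : S ≤ W.1 ⊔ Submodule.span F {u} := fun x hx => by
            have h1 := hmove ⟨x, hx⟩ w hw
            obtain ⟨b, hb⟩ : ∃ b, b = -QuadraticMap.polar Q w x - Q x * QuadraticMap.polar Q w u := ⟨_, rfl⟩
            rw [show x = (QuadraticMap.polar Q w u)⁻¹ • (QuadraticMap.polar Q w u • x + b • u) +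
              (-(QuadraticMap.polar Q w u)⁻¹ * b) • u by
                rw [smul_add, inv_smul_smul₀ ha, smul_smul, neg_mul, neg_smul]; abel]
            exact Submodule.add_mem_sup (W.1.smul_mem _ (hb ▸ h1)) (Submodule.smul_mem _ _ (Submodule.mem_span_singleton_self u))
          have h2 := Submodule.finrank_mono hle
          have h3 := Submodule.finrank_add_le_finrank_add_finrank W.1 (Submodule.span F {u})
          rw [W.2.1.1, finrank_span_singleton hu0] at h3
          have heq : S = W.1 ⊔ Submodule.span F {u} := Submodule.eq_of_le_of_finrank_le hle (by omega)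
          have hwS : w ∈ S := heq.ge (Submodule.mem_sup_left hw)
          exact ha (by rw [QuadraticMap.polar_comm]; exact hperp u huU₁ w hwS)
        by_contra hnle
        have huW : u ∉ W.1 := fun h' =>
          hnle (hU₁ ▸ sup_le W.2.2 ((Submodule.span_singleton_le_iff_mem _ _).2 h'))
        have hle : W.1 ≤ U₁ := fun w hw => by
          have h4 : ∀ x ∈ S, QuadraticMap.polar Q x w = 0 := fun x hx => by
            by_contra hne
            have h1 := hmove ⟨x, hx⟩ w hw
            rw [hiso w hw, zero_smul, zero_add, mul_zero, sub_zero] at h1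
            have h5 := W.1.smul_mem (-QuadraticMap.polar Q w x)⁻¹ h1
            rw [inv_smul_smul₀ (neg_ne_zero.2 fun h' => hne (by rw [QuadraticMap.polar_comm]; exact h'))] at h5
            exact huW h5
          have h5 : w ∈ (qB Q).orthogonal S := fun x hx => h4 x hx
          rwa [hS, LinearMap.BilinForm.orthogonal_orthogonal (B := qB Q) hN (polar_refl Q)] at h5
        have h6 := Submodule.finrank_mono hle
        rw [W.2.1.1] at h6
        exact hnle ((Submodule.eq_of_le_of_finrank_le hle (by rw [W.2.1.1]; omega)).ge)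
      · intro hW x
        refine Subtype.ext (Submodule.eq_of_le_of_finrank_eq ?_ (LinearEquiv.finrank_map_eq (E x.toAdd) W.1))
        rintro _ ⟨w, hw, rfl⟩
        show e x.toAdd w ∈ W.1
        rw [he, hz W.2.1.2 w hw u (hW huU₁), zero_smul, add_zero]
        exact W.1.add_mem hw (W.1.smul_mem _ (hW huU₁))
    have hmod := hP.card_modEq_card_fixedPoints Y
    refine hmod.trans ?_
    have hcard : Nat.card (MulAction.fixedPoints (Multiplicative S) Y) =
        Nat.card {W : Submodule F V // (Module.finrank F W = m ∧ ∀ v ∈ W, Q v = 0) ∧ U₁ ≤ W} := Nat.card_congr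
      { toFun := fun W => ⟨W.1.1, W.1.2.1, (hfix W.1).1 W.2⟩
        invFun := fun W => ⟨⟨W.1, W.2.1, hUU₁.trans W.2.2⟩, (hfix _).2 W.2.2⟩
        left_inv := fun W => rfl
        right_inv := fun W => rfl }
    rw [hcard]
    exact ih U₁ hU₁W (by omega)

/-- the characteristic does not divide the number of totally singular subspaces -/
theorem ts_not_dvd (hN : (QuadraticMap.polarBilin Q).Nondegenerate) {n m : ℕ} (hn : Module.finrank F V = n)
    (hmn : 2 * m + 1 ≤ n) :
    ¬ p ∣ Nat.card {W : Submodule F V // Module.finrank F W = m ∧ ∀ u ∈ W, Q u = 0} := by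
  intro hdvd
  obtain ⟨W₀, -, h0, hd⟩ := (ts_sub_iff (qnd_top hN) m).2 ⟨by rw [finrank_top, hn]; omega, fun h => by
    rw [finrank_top, hn] at h; omega⟩
  have h := ts_through_mod (p := p) hN hn hmn hd h0 m ⊥ bot_le (by simp)
  rw [Nat.card_congr (Equiv.subtypeEquivRight fun W => and_iff_left (bot_le : ⊥ ≤ W))] at h
  have hp := (Fact.out : p.Prime)
  exact hp.ne_one (Nat.dvd_one.1 ((Nat.ModEq.dvd_iff h dvd_rfl).1 hdvd))

end CfsgLib.Perm.Elusive
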