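import Mathlib
import Cfsg.Agent.Lib.Perm.Elusive.OrthSingularElement

/-!
# Isometries of odd prime order fixing a totally singular subspace
-/

set_option autoImplicit false
set_option linter.all false

namespace CfsgLib.Perm.Elusive

open CfsgLib.Classical

/-- a subspace of dimension `m` is available next to a moved part of `k` blocks -/
def SingFix (tp : Prop) (i c t m n k : ℕ) : Prop :=
  ∃ j, j * i ≤ m ∧ j ≤ (if Odd i then k else (k + 1 - t) / 2) ∧ 2 * (m - j * i) + k * c ≤ n ∧
    (2 * (m - j * i) + k * c = n → (tp ↔ Odd i ∨ Even k))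

theorem type_swap {P E A : Prop} (h : P ↔ (E ↔ A)) : E ↔ (P ↔ A) := by
  tauto

theorem type_of_compat {P E A : Prop} (h2 : P ↔ (E ↔ A)) (h3 : P ↔ A) : E := by
  tauto

theorem type_clash {P E M A B : Prop} (h1 : P ↔ (M ↔ B)) (h2 : P ↔ (E ↔ M)) (h3 : P ↔ (E ↔ A)) :
    (P ↔ A) ↔ B := by
  tauto

variable {F : Type*} [Field F] [Fintype F] {p : ℕ} [Fact p.Prime] [CharP F p] {r : ℕ} [Fact r.Prime]
variable {V : Type*} [AddCommGroup V] [Module F V] [FiniteDimensional F V] {Q : QuadraticForm F V}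

/-- the criterion, block number by block number -/
theorem singular_criterion (hrp : r ≠ p) (hr2 : r ≠ 2) (hN : (QuadraticMap.polarBilin Q).Nondegenerate) {i c m n t : ℕ}
    (hn : Module.finrank F V = n) (hi : i = orderOf ((Fintype.card F : ℕ) : ZMod r))
    (hc : c = if Even i then i else 2 * i) (ht : t = (r - 1) / i) :
    (∀ T : V →ₗ[F] V, (∀ v, Q (T v) = Q v) → T ^ r = 1 → T ≠ 1 →
      ∃ W : Submodule F V, (Module.finrank F W = m ∧ ∀ u ∈ W, Q u = 0) ∧ ∀ u ∈ W, T u ∈ W) ↔
    (∀ k, 1 ≤ k → k * c ≤ n → (k * c = n → (QPlus Q ⊤ ↔ Odd i ∨ Even k)) →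
      SingFix (QPlus Q ⊤) i c t m n k) := by
  classical
  obtain ⟨hipos, hcpos, hce, -⟩ := block_power (F := F) (p := p) hrp hr2 hi hc
  obtain ⟨c', hc'⟩ := hce
  have hfacts : ∀ (T : V →ₗ[F] V), (∀ v, Q (T v) = Q v) → T ^ r = 1 → ∀ {k : ℕ},
      Module.finrank F (LinearMap.ker (T - 1)) + k * c = n → ∀ {a : ℕ},
      2 * a = Module.finrank F (LinearMap.ker (T - 1)) →
      (QPlus Q (LinearMap.ker (T - 1)) ↔ (QPlus Q ⊤ ↔ Odd i ∨ Even k)) := by
    intro T hI hT k hk a ha
    obtain ⟨k', hk', htype⟩ := fixed_type (p := p) hrp hr2 hN hI hT hi hc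
    obtain rfl : k' = k := Nat.eq_of_mul_eq_mul_right hcpos (show k' * c = k * c by omega)
    exact type_swap (htype (by rw [hn, ← hk, ← ha, hc']; exact ⟨a + k' * c', by ring⟩))
  constructor
  · intro hL k hk1 hkn hfull
    obtain ⟨T, hI, hT, hT1, hd, hbound⟩ : ∃ T : V →ₗ[F] V, (∀ v, Q (T v) = Q v) ∧ T ^ r = 1 ∧ T ≠ 1 ∧
        Module.finrank F (LinearMap.ker (T - 1)) + k * c = n ∧
        ∀ W : Submodule F V, (∀ u ∈ W, T u ∈ W) → (∀ u ∈ W, Q u = 0) → ∀ j,
          Module.finrank F (W ⊓ LinearMap.ker (Polynomial.aeval T (Polynomial.cyclotomic r F)) : Submodule F V) = j * i →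
          j ≤ (if Odd i then k else (k + 1 - t) / 2) := by
      have hplain : ((Odd i ∨ (Even k ∧ t = 1))) → ∃ T : V →ₗ[F] V, (∀ v, Q (T v) = Q v) ∧ T ^ r = 1 ∧ T ≠ 1 ∧
          Module.finrank F (LinearMap.ker (T - 1)) + k * c = n ∧
          ∀ W : Submodule F V, (∀ u ∈ W, T u ∈ W) → (∀ u ∈ W, Q u = 0) → ∀ j,
            Module.finrank F (W ⊓ LinearMap.ker (Polynomial.aeval T (Polynomial.cyclotomic r F)) : Submodule F V) = j * i →
            j ≤ (if Odd i then k else (k + 1 - t) / 2) := by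
        intro hcase
        obtain ⟨T, hI, hT, hd, hT1⟩ := exists_orth_elem_dim (p := p) hrp hr2 hN hi hc hk1 (hn ▸ hkn)
          (fun h => hfull (h.trans hn))
        refine ⟨T, hI, hT, hT1, hn ▸ hd, fun W hW h0 j hj => ?_⟩
        obtain ⟨hcm, -, -, hMn, -, -⟩ := moved_space (p := p) hrp hN hI hT rfl
        have h2 := ts_half_le hMn (inf_le_right : W ⊓ _ ≤ _) fun u hu => h0 u hu.1
        have h3 := Submodule.finrank_add_eq_of_isCompl hcm
        rw [hj] at h2
        have h4 : 2 * (j * i) ≤ k * c := by omega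
        rcases hcase with ho | ⟨⟨k₀, hk₀⟩, ht1⟩
        · rw [if_neg (Nat.not_even_iff_odd.2 ho)] at hc
          rw [if_pos ho]
          rw [hc, mul_left_comm k] at h4
          exact Nat.le_of_mul_le_mul_right (by omega) hipos
        · by_cases ho : Odd i
          · rw [if_neg (Nat.not_even_iff_odd.2 ho)] at hc
            rw [if_pos ho]
            rw [hc, mul_left_comm k] at h4
            exact Nat.le_of_mul_le_mul_right (by omega) hipos
          · rw [if_pos (Nat.not_odd_iff_even.1 ho)] at hc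
            rw [if_neg ho]
            rw [hc, ← mul_assoc] at h4
            have := Nat.le_of_mul_le_mul_right h4 hipos
            omega
      by_cases hcase : Odd i ∨ (Even k ∧ t = 1)
      · exact hplain hcase
      push Not at hcase
      obtain ⟨hno, hkt⟩ := hcase
      have hev := Nat.not_odd_iff_even.1 hno
      rw [if_pos hev] at hc
      subst hc
      have hr : r.Prime := Fact.out
      have htpos : 1 ≤ t := by
        rw [ht]
        refine Nat.div_pos (Nat.le_of_dvd (by have := hr.two_le; omega) ?_) hipos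
        exact hi ▸ ZMod.orderOf_dvd_card_sub_one (card_ne_zero_zmod hrp)
      obtain ⟨s, hs⟩ : ∃ s, s + 1 = (if k ≤ t then k else if (k - t) % 2 = 0 then t else t - 1) := by
        refine ⟨(if k ≤ t then k else if (k - t) % 2 = 0 then t else t - 1) - 1, ?_⟩
        have : Even k → t ≠ 1 := hkt
        split_ifs with h1 h2
        · omega
        · omega
        · have : 2 ≤ t := by
            by_contra hlt
            exact this (Nat.even_iff.2 (by omega)) (by omega)
          omega
      obtain ⟨T, hI, hT, hT1, hd, hb⟩ := exists_singular_element (p := p) hrp hr2 hN hn hi hev (s := s) hk1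
        (Nat.odd_iff.2 (by split_ifs at hs <;> omega)) (by rw [← ht]; split_ifs at hs <;> omega) hkn
        (fun h => by simpa [hno] using hfull h)
      refine ⟨T, hI, hT, hT1, hd, fun W hW h0 j hj => ?_⟩
      have h := hb W hW h0
      rw [hj, ← mul_assoc, ← add_mul] at h
      have := Nat.le_of_mul_le_mul_right h hipos
      rw [if_neg hno]
      split_ifs at hs <;> omega
    obtain ⟨W, ⟨hWd, hW0⟩, hW⟩ := hL T hI hT hT1
    obtain ⟨j, hjM, hjd⟩ := inv_split (p := p) hrp hI hT rfl hW hi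
    obtain ⟨-, -, hEn, -, -, -⟩ := moved_space (p := p) hrp hN hI hT rfl
    obtain ⟨h1, h2⟩ := (ts_sub_iff hEn _).1 ⟨_, inf_le_right, fun u hu => hW0 u hu.1, rfl⟩
    refine ⟨j, by omega, hbound W hW hW0 j hjM, by omega, fun he => ?_⟩
    exact (hfacts T hI hT hd (a := Module.finrank F (W ⊓ LinearMap.ker (T - 1) : Submodule F V)) (by omega)).1
      (h2 (by omega))
  · intro hF T hI hT hT1
    obtain ⟨M, hM⟩ : ∃ M, M = LinearMap.ker (Polynomial.aeval T (Polynomial.cyclotomic r F)) := ⟨_, rfl⟩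
    obtain ⟨hcm, ho, hEn, hMn, hMi, -⟩ := moved_space (p := p) hrp hN hI hT hM
    obtain ⟨k, hk, htype⟩ := fixed_type (p := p) hrp hr2 hN hI hT hi hc
    rw [hn] at hk
    have hMd : Module.finrank F M = k * c := by
      have h := Submodule.finrank_add_eq_of_isCompl hcm
      omega
    have hk1 : 1 ≤ k := Nat.pos_of_ne_zero fun h0 => hT1 (sub_eq_zero.1 (LinearMap.ker_eq_top.1
      (Submodule.eq_top_of_finrank_eq (by rw [hn, hk, h0, zero_mul, add_zero]))))
    have hfull : k * c = n → (QPlus Q ⊤ ↔ Odd i ∨ Even k) := fun h => by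
      have hE0 : LinearMap.ker (T - 1) = ⊥ := Submodule.finrank_eq_zero.1 (by omega)
      have := htype (by rw [hn, ← h, hc']; exact ⟨k * c', by ring⟩)
      rw [hE0] at this
      simpa [qplus_bot] using this
    obtain ⟨j, hjm, hj, hle, heq⟩ := hF k hk1 (by omega) hfull
    obtain ⟨Y, hYM, hY, hY0, hYd⟩ := exists_ts_moved (p := p) hrp hr2 hN hI hT hM hi hc hMd (j := j) (ht ▸ hj)
    obtain ⟨X, hXE, hX0, hXd⟩ := (ts_sub_iff hEn (m - j * i)).2 ⟨by omega, fun h =>
      (hfacts T hI hT hk.symm h).2 (heq (by omega))⟩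
    have hXi : ∀ u ∈ X, T u ∈ X := fun u hu => by
      have : T u = u := by simpa [sub_eq_zero] using hXE hu
      rwa [this]
    refine ⟨X ⊔ Y, ⟨?_, fun u hu => ?_⟩, fun u hu => ?_⟩
    · have h := Submodule.finrank_sup_add_finrank_inf_eq X Y
      rw [(hcm.disjoint.mono hXE hYM).eq_bot, finrank_bot, add_zero, hXd, hYd] at h
      omega
    · obtain ⟨x, hx, y, hy, rfl⟩ := Submodule.mem_sup.1 hu
      rw [QuadraticMap.map_add (⇑Q), hX0 x hx, hY0 y hy, ho x (hXE hx) y (hYM hy)]
      simp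
    · obtain ⟨x, hx, y, hy, rfl⟩ := Submodule.mem_sup.1 hu
      rw [map_add]
      exact Submodule.add_mem_sup (hXi x hx) (hY y hy)

/-- small dimensions are coprime to `r` -/
theorem singular_small (hrp : r ≠ p) (hr2 : r ≠ 2) (hN : (QuadraticMap.polarBilin Q).Nondegenerate) {i c m n k : ℕ}
    (hn : Module.finrank F V = n) (hi : i = orderOf ((Fintype.card F : ℕ) : ZMod r))
    (hc : c = if Even i then i else 2 * i) (hm : m < i)
    (hkn : k * c ≤ n) (hfull : k * c = n → (QPlus Q ⊤ ↔ Odd i ∨ Even k))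
    (hle : 2 * m + k * c ≤ n) (heq : 2 * m + k * c = n → (QPlus Q ⊤ ↔ Odd i ∨ Even k))
    (hno : n < k * c + c ∨ (n = k * c + c ∧ ¬ ((QPlus Q ⊤ ↔ Odd i ∨ Even k) ↔ Odd i))) :
    ¬ r ∣ Nat.card {W : Submodule F V // Module.finrank F W = m ∧ ∀ u ∈ W, Q u = 0} := by
  classical
  obtain ⟨hipos, hcpos, hce, -⟩ := block_power (F := F) (p := p) hrp hr2 hi hc
  obtain ⟨c', hc'⟩ := hce
  obtain ⟨T, hI, hT, hd⟩ : ∃ T : V →ₗ[F] V, (∀ v, Q (T v) = Q v) ∧ T ^ r = 1 ∧
      Module.finrank F (LinearMap.ker (T - 1)) + k * c = n := by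
    rcases Nat.eq_zero_or_pos k with h0 | hpos
    · exact ⟨1, fun v => rfl, one_pow r, by rw [sub_self, LinearMap.ker_zero, finrank_top, hn, h0, zero_mul, add_zero]⟩
    · obtain ⟨T, hI, hT, hd, -⟩ := exists_orth_elem_dim (p := p) hrp hr2 hN hi hc hpos (hn ▸ hkn)
        (fun h => hfull (h.trans hn))
      exact ⟨T, hI, hT, hn ▸ hd⟩
  obtain ⟨M, hM⟩ : ∃ M, M = LinearMap.ker (Polynomial.aeval T (Polynomial.cyclotomic r F)) := ⟨_, rfl⟩
  obtain ⟨hcm, ho, hEn, hMn, hMi, -⟩ := moved_space (p := p) hrp hN hI hT hM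
  obtain ⟨k', hk', htype⟩ := fixed_type (p := p) hrp hr2 hN hI hT hi hc
  rw [hn] at hk'
  obtain rfl : k = k' := Nat.eq_of_mul_eq_mul_right hcpos (show k * c = k' * c by omega)
  have hMd : Module.finrank F M = k * c := by
    have h := Submodule.finrank_add_eq_of_isCompl hcm
    omega
  refine class_not_dvd hN hI hT ho hcm.disjoint hcm.sup_eq_top (fun g hg hgM hgr => ?_)
    (fun W => Module.finrank F W = m ∧ ∀ u ∈ W, Q u = 0) ?_ ?_ ?_ ?_
  · obtain ⟨k₁, hk₁, htype₁⟩ := fixed_type (p := p) hrp hr2 hN hg hgr hi hc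
    rw [hn] at hk₁
    have hMg : M ≤ LinearMap.ker (g - 1) := fun v hv => LinearMap.mem_ker.2 (by simp [hgM v hv])
    have h1 := Submodule.finrank_mono hMg
    rw [hMd] at h1
    rcases k₁ with _ | _ | k₁
    · exact sub_eq_zero.1 (LinearMap.ker_eq_top.1 (Submodule.eq_top_of_finrank_eq (by omega)))
    · exfalso
      rw [zero_add, one_mul] at hk₁
      obtain ⟨he, hne⟩ := hno.resolve_left (by omega)
      have heq' : M = LinearMap.ker (g - 1) := Submodule.eq_of_le_of_finrank_eq hMg (by omega)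
      have hev : Even n := by rw [he, hc']; exact ⟨k * c' + c', by ring⟩
      have t1 := htype₁ (hn ▸ hev)
      rw [← heq', zero_add] at t1
      have hEd : Module.finrank F (LinearMap.ker (T - 1)) = 2 * c' := by omega
      have t2 := qplus_sup_iff hEn hMn ho hEd (h' := k * c') (by rw [hMd, hc']; ring)
      rw [hcm.sup_eq_top] at t2
      have t3 := htype (hn ▸ hev)
      simp only [Nat.not_even_one, or_false] at t1
      exact hne (type_clash t1 t2 t3)
    · exfalso
      have : 2 * c ≤ (k₁ + 1 + 1) * c := Nat.mul_le_mul_right c (by omega)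
      rcases hno with h | ⟨h, -⟩ <;> omega
  · rintro W e he ⟨hd', h0⟩
    refine ⟨(LinearEquiv.finrank_map_eq e W).trans hd', ?_⟩
    rintro _ ⟨u, hu, rfl⟩
    exact (he u).trans (h0 u hu)
  · obtain ⟨U, hU, hU0, hUd⟩ := (ts_sub_iff hEn m).2 ⟨by omega, fun h => by
      have h2 := htype (by rw [hn, hk', ← h, hc']; exact ⟨m + k * c', by ring⟩)
      have h3 := heq (by omega)
      exact type_of_compat h2 h3⟩
    exact ⟨U, ⟨hUd, hU0⟩, fun u hu => by
      have : T u = u := by simpa [sub_eq_zero] using hU hu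
      rwa [this]⟩
  · rintro W ⟨hd', h0⟩ hW u hu
    obtain ⟨j, hj, hjd⟩ := inv_split (p := p) hrp hI hT hM hW hi
    have hj0 : j = 0 := by
      rcases Nat.eq_zero_or_pos j with h | h
      · exact h
      · have := Nat.le_mul_of_pos_left i h; omega
    subst hj0
    have heq' : W ⊓ LinearMap.ker (T - 1) = W := Submodule.eq_of_le_of_finrank_eq inf_le_left (by omega)
    exact (heq'.ge hu).2
  · rintro W W' ⟨hd', h0⟩ ⟨hd'', h0'⟩
    exact ⟨LinearEquiv.ofFinrankEq _ _ (hd'.trans hd''.symm), fun w => by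
      rw [h0 _ w.2, h0' _ (Subtype.coe_prop _)]⟩

/-- arithmetic: odd order of `q` -/
theorem singular_arith_odd {tp : Prop} {i t m n D : ℕ} (hi : Odd i) (him : i ≤ m)
    (hD : ∀ a, (2 * a ≤ n ∧ (2 * a = n → tp)) ↔ a ≤ D) (hmD : m ≤ D) :
    (∀ k, 1 ≤ k → k * (2 * i) ≤ n → (k * (2 * i) = n → (tp ↔ Odd i ∨ Even k)) →
      SingFix tp i (2 * i) t m n k) ↔ m % i ≤ D % i := by
  have hipos : 0 < i := hi.pos
  have key : ∀ k a, (2 * a + k * (2 * i) ≤ n ∧ (2 * a + k * (2 * i) = n → tp)) ↔ a + k * i ≤ D := fun k a => by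
    rw [← hD, show 2 * (a + k * i) = 2 * a + k * (2 * i) by ring]
  simp only [SingFix, hi, if_true, true_or, iff_true, key]
  have e1 := Nat.div_add_mod' m i
  have e2 := Nat.div_add_mod' D i
  constructor
  · intro h
    have hK : 1 ≤ D / i := Nat.div_pos (him.trans hmD) hipos
    have hKD : 0 + D / i * i ≤ D := by omega
    obtain ⟨hK1, hK2⟩ := (key (D / i) 0).2 hKD
    obtain ⟨j, hjm, hjk, hj⟩ := h (D / i) hK (by simpa using hK1) (fun e => hK2 (by simpa using e))
    have : j * i ≤ m / i * i := Nat.mul_le_mul_right i ((Nat.le_div_iff_mul_le hipos).2 hjm)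
    omega
  · intro hl k hk hkn hkf
    have hkD : 0 + k * i ≤ D := (key k 0).1 ⟨by simpa using hkn, fun e => hkf (by simpa using e)⟩
    have hkK : k ≤ D / i := (Nat.le_div_iff_mul_le hipos).2 (by omega)
    rcases le_total k (m / i) with h | h
    · have := Nat.mul_le_mul_right i h
      exact ⟨k, by omega, le_rfl, by omega⟩
    · have := Nat.mul_le_mul_right i hkK
      exact ⟨m / i, by omega, h, by omega⟩

/-- arithmetic: even order of `q` -/
theorem singular_arith_even {tp : Prop} {i t m n : ℕ} (hi : Even i) (hipos : 0 < i) (ht : 1 ≤ t) (him : i ≤ m)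
    (hm : 2 * m ≤ n) :
    (∀ k, 1 ≤ k → k * i ≤ n → (k * i = n → (tp ↔ Odd i ∨ Even k)) → SingFix tp i i t m n k) ↔
    (t + 2 * (m / i) ≤ n / i ∧
      ((n % i = 0 ∧ ¬ (tp ↔ Even (n / i)) ∧ 2 * (m % i) ≤ i ∧ t + 2 * (m / i) < n / i) ∨
       ((Odd n ∨ (tp ↔ Even (n / i))) ∧ 2 * (m % i) ≤ n % i) ∨
       (¬ (Odd n ∨ (tp ↔ Even (n / i))) ∧ 2 * (m % i) < n % i))) := by
  have hno : ¬ Odd i := Nat.not_odd_iff_even.2 hi
  simp only [SingFix, hno, if_false, false_or]
  obtain ⟨g, hg⟩ := id hi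
  have e1 := Nat.div_add_mod' m i
  have e2 := Nat.div_add_mod' n i
  have l1 := Nat.mod_lt m hipos
  have l2 := Nat.mod_lt n hipos
  obtain ⟨M, hMdef⟩ : ∃ M, M = m / i := ⟨_, rfl⟩
  obtain ⟨N, hNdef⟩ : ∃ N, N = n / i := ⟨_, rfl⟩
  rw [← hMdef] at e1 ⊢
  rw [← hNdef] at e2 ⊢
  have hM1 : 1 ≤ M := hMdef ▸ Nat.div_pos him hipos
  have hMN : 2 * M ≤ N := by
    rw [hNdef, Nat.le_div_iff_mul_le hipos, mul_assoc]
    omega
  have hodd_n : ∀ x, 2 * x + N * i = n → ¬ Odd n := fun x hx => by
    rw [Nat.not_odd_iff_even, ← hx, hg]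
    exact ⟨x + N * g, by ring⟩
  have hjM : ∀ j, j * i ≤ m → j ≤ M := fun j hj => hMdef ▸ (Nat.le_div_iff_mul_le hipos).2 hj
  constructor
  · intro h
    have hsub : ∀ d, d ≤ N → (N - d) * i + d * i = N * i := fun d hd => by rw [← add_mul, Nat.sub_add_cancel hd]
    have hb1 := hsub 1 (by omega)
    obtain ⟨j, hjm, hjJ, hj, hje⟩ := h (N - 1) (by omega) (by omega) (fun e => absurd e (by omega))
    have hjM' := hjM j hjm
    have hb : (M - j) * i + j * i = M * i := by rw [← add_mul, Nat.sub_add_cancel hjM']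
    have hj1 : j = M := by
      by_contra hne
      have : 1 * i ≤ (M - j) * i := Nat.mul_le_mul_right i (by omega)
      omega
    subst hj1
    have hA : t + 2 * j ≤ N := by omega
    refine ⟨hA, ?_⟩
    by_cases hσ : Odd n ∨ (tp ↔ Even N)
    · refine Or.inr (Or.inl ⟨hσ, ?_⟩)
      obtain ⟨j', hjm', hjJ', hj', -⟩ := h N (by omega) (by omega) (fun e => hσ.resolve_left (hodd_n 0 (by omega)))
      have hb' : (j - j') * i + j' * i = j * i := by rw [← add_mul, Nat.sub_add_cancel (hjM j' hjm')]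
      omega
    · rcases Nat.eq_zero_or_pos (n % i) with h0 | h0
      · refine Or.inl ⟨h0, fun hh => hσ (Or.inr hh), by omega, ?_⟩
        by_contra hlt
        have hN2 : 2 < N ∨ N = 2 := by omega
        have hb2 := hsub 2 (by omega)
        rcases hN2 with hN2 | hN2
        · obtain ⟨j', hjm', hjJ', hj', hje'⟩ := h (N - 2) (by omega) (by omega) (fun e => absurd e (by omega))
          have hlt' : j' < j := by omega
          have hb' : (j - j') * i + j' * i = j * i := by rw [← add_mul, Nat.sub_add_cancel hlt'.le]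
          have : 1 * i ≤ (j - j') * i := Nat.mul_le_mul_right i (by omega)
          have hcompat := hje' (by omega)
          refine hσ (Or.inr (hcompat.trans ?_))
          rw [Nat.even_sub (by omega)]
          simp
        · omega
      · refine Or.inr (Or.inr ⟨hσ, ?_⟩)
        obtain ⟨j', hjm', hjJ', hj', hje'⟩ := h N (by omega) (by omega) (fun e => absurd e (by omega))
        have hb' : (j - j') * i + j' * i = j * i := by rw [← add_mul, Nat.sub_add_cancel (hjM j' hjm')]
        by_contra hlt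
        exact hσ (Or.inr (hje' (by omega)))
  · rintro ⟨hA, hB⟩ k hk hkn hkf
    have hkN : k ≤ N := hNdef ▸ (Nat.le_div_iff_mul_le hipos).2 hkn
    obtain ⟨j, hj⟩ : ∃ j, j = min M ((k + 1 - t) / 2) := ⟨_, rfl⟩
    have hjM' : j ≤ M := hj ▸ min_le_left _ _
    have hb : (M - j) * i + j * i = M * i := by rw [← add_mul, Nat.sub_add_cancel hjM']
    have hb' : (N - k) * i + k * i = N * i := by rw [← add_mul, Nat.sub_add_cancel hkN]
    have hXδ : 2 * (M - j) ≤ N - k := by omega
    have hX : 2 * ((M - j) * i) ≤ (N - k) * i := by rw [← mul_assoc]; exact Nat.mul_le_mul_right i hXδ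
    refine ⟨j, by omega, hj ▸ min_le_right _ _, ?_, ?_⟩
    · rcases hB with ⟨h0, hne, hl, hlt⟩ | ⟨-, hl⟩ | ⟨-, hl⟩
      · rcases Nat.eq_zero_or_pos (N - k) with hk0 | hk0
        · exact absurd ((hkf (by rw [show k = N by omega]; omega)).trans (by rw [show k = N by omega])) hne
        · have : 2 * (M - j) + 1 ≤ N - k := by omega
          have := Nat.mul_le_mul_right i this
          rw [add_mul, mul_assoc] at this
          omega
      · omega
      · omega
    · intro he
      rcases hB with ⟨h0, hne, hl, hlt⟩ | ⟨hσ, hl⟩ | ⟨-, hl⟩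
      · rcases Nat.eq_zero_or_pos (N - k) with hk0 | hk0
        · exact absurd ((hkf (by rw [show k = N by omega]; omega)).trans (by rw [show k = N by omega])) hne
        · have hle1 : 2 * (M - j) + 1 ≤ N - k := by omega
          have := Nat.mul_le_mul_right i hle1
          rw [add_mul, mul_assoc] at this
          have heq : 2 * (M - j) + 1 = N - k := Nat.eq_of_mul_eq_mul_right hipos (by
            rw [add_mul, mul_assoc]; omega)
          have hN' : N = k + (2 * (M - j) + 1) := by omega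
          rw [hN', Nat.even_add] at hne
          simp [Nat.not_even_iff_odd] at hne
          rw [Nat.even_iff]
          rw [Nat.odd_iff] at hne
          rcases Nat.mod_two_eq_zero_or_one k with h | h <;> simp [h] at hne ⊢ <;> exact hne
      · have heq : 2 * (M - j) = N - k := Nat.eq_of_mul_eq_mul_right hipos (by rw [mul_assoc]; omega)
        have hN' : N = k + 2 * (M - j) := by omega
        have hnodd : ¬ Odd n := hodd_n (n % i / 2) (by
          have : n % i % 2 = 0 := by omega
          omega)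
        have := hσ.resolve_left hnodd
        rw [hN', Nat.even_add] at this
        simpa using this
      · omega

end CfsgLib.Perm.Elusive
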