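import Mathlib
import Cfsg.Agent.Lib.Perm.Elusive.OrthSingularCriterion

/-!
# The criterion for totally singular subspaces in closed form
-/

set_option autoImplicit false
set_option linter.all false

namespace CfsgLib.Perm.Elusive

variable {F : Type*} [Field F] [Fintype F] {p : ℕ} [Fact p.Prime] [CharP F p] {r : ℕ} [Fact r.Prime]
variable {V : Type*} [AddCommGroup V] [Module F V] [FiniteDimensional F V] {Q : QuadraticForm F V}

theorem not_iff_flip {P : Prop} {N : ℕ} (hN : 1 ≤ N) (h : ¬ (P ↔ Even N)) : P ↔ Even (N - 1) := by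
  rw [Nat.even_sub hN]
  simp only [Nat.not_even_one, iff_false]
  tauto

/-- elements of odd prime order fixing a totally singular subspace of dimension `m` -/
theorem singular_iff (hrp : r ≠ p) (hr2 : r ≠ 2) (hN : (QuadraticMap.polarBilin Q).Nondegenerate) {i c m n D : ℕ}
    (hn : Module.finrank F V = n) (hi : i = orderOf ((Fintype.card F : ℕ) : ZMod r))
    (hc : c = if Even i then i else 2 * i) (hm : 1 ≤ m) (hmD : m ≤ D)
    (hD : ∀ a, (2 * a ≤ n ∧ (2 * a = n → QPlus Q ⊤)) ↔ a ≤ D)
    (hdvd : r ∣ Nat.card {W : Submodule F V // Module.finrank F W = m ∧ ∀ u ∈ W, Q u = 0}) :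
    (∀ T : V →ₗ[F] V, (∀ v, Q (T v) = Q v) → T ^ r = 1 → T ≠ 1 →
      ∃ W : Submodule F V, (Module.finrank F W = m ∧ ∀ u ∈ W, Q u = 0) ∧ ∀ u ∈ W, T u ∈ W) ↔
    (i ≤ m ∧ ((Odd i ∧ m % i ≤ D % i) ∨ (Even i ∧ (r - 1) / i + 2 * (m / i) ≤ n / i ∧
      ((n % i = 0 ∧ ¬ (QPlus Q ⊤ ↔ Even (n / i)) ∧ 2 * (m % i) ≤ i ∧ (r - 1) / i + 2 * (m / i) < n / i) ∨
       ((Odd n ∨ (QPlus Q ⊤ ↔ Even (n / i))) ∧ 2 * (m % i) ≤ n % i) ∨
       (¬ (Odd n ∨ (QPlus Q ⊤ ↔ Even (n / i))) ∧ 2 * (m % i) < n % i))))) := by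
  obtain ⟨hipos, hcpos, -, -⟩ := block_power (F := F) (p := p) hrp hr2 hi hc
  obtain ⟨t, ht⟩ : ∃ t, t = (r - 1) / i := ⟨_, rfl⟩
  rw [← ht, singular_criterion (p := p) hrp hr2 hN hn hi hc ht]
  obtain ⟨hm2, hm2'⟩ := (hD m).2 hmD
  have hr : r.Prime := Fact.out
  have htpos : 1 ≤ t := by
    rw [ht]
    refine Nat.div_pos (Nat.le_of_dvd (by have := hr.two_le; omega) ?_) hipos
    exact hi ▸ ZMod.orderOf_dvd_card_sub_one (card_ne_zero_zmod hrp)
  have hzero : ∀ {k}, m < i → SingFix (QPlus Q ⊤) i c t m n k →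
      2 * m + k * c ≤ n ∧ (2 * m + k * c = n → (QPlus Q ⊤ ↔ Odd i ∨ Even k)) := by
    rintro k hlt ⟨j, hjm, -, hle, heq⟩
    have hj0 : j = 0 := by
      rcases Nat.eq_zero_or_pos j with h | h
      · exact h
      · have := Nat.le_mul_of_pos_left i h; omega
    subst hj0
    rw [zero_mul, Nat.sub_zero] at hle heq
    exact ⟨hle, heq⟩
  rcases Nat.even_or_odd i with hev | ho
  · have hno : ¬ Odd i := Nat.not_odd_iff_even.2 hev
    rw [if_pos hev] at hc
    subst c
    constructor
    · intro hF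
      have him : i ≤ m := by
        by_contra hlt
        replace hlt : m < i := by omega
        have e2 := Nat.div_add_mod' n i
        have l2 := Nat.mod_lt n hipos
        obtain ⟨g, hg⟩ := id hev
        obtain ⟨k, hkn, hkf, hno'⟩ : ∃ k, k * i ≤ n ∧ (k * i = n → (QPlus Q ⊤ ↔ Odd i ∨ Even k)) ∧
            (n < k * i + i ∨ (n = k * i + i ∧ ¬ ((QPlus Q ⊤ ↔ Odd i ∨ Even k) ↔ Odd i))) := by
          by_cases hσ : Odd n ∨ (QPlus Q ⊤ ↔ Even (n / i))
          · refine ⟨n / i, by omega, fun h => ?_, Or.inl (by omega)⟩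
            have hne : ¬ Odd n := by
              rw [Nat.not_odd_iff_even, ← h, hg]
              exact ⟨n / (g + g) * g, by ring⟩
            simp only [hno, false_or]
            exact hσ.resolve_left hne
          rcases Nat.eq_zero_or_pos (n % i) with h0 | h0
          · have hq : 1 ≤ n / i := Nat.pos_of_ne_zero fun hq => by rw [hq, zero_mul] at e2; omega
            have hb : (n / i - 1) * i + 1 * i = n / i * i := by rw [← add_mul, Nat.sub_add_cancel hq]
            refine ⟨n / i - 1, by omega, fun h => absurd h (by omega), Or.inr ⟨by omega, ?_⟩⟩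
            simp only [hno, false_or, iff_false, not_not]
            exact not_iff_flip hq fun h => hσ (Or.inr h)
          · exact ⟨n / i, by omega, fun h => absurd h (by omega), Or.inl (by omega)⟩
        have hsf : 2 * m + k * i ≤ n ∧ (2 * m + k * i = n → (QPlus Q ⊤ ↔ Odd i ∨ Even k)) := by
          rcases Nat.eq_zero_or_pos k with h0 | h0
          · subst h0
            simp only [zero_mul, add_zero, hno, false_or, Even.zero, iff_true]
            exact ⟨hm2, hm2'⟩
          · exact hzero hlt (hF k h0 hkn hkf)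
        exact singular_small (p := p) hrp hr2 hN hn hi (by rw [if_pos hev]) hlt hkn hkf hsf.1 hsf.2 hno' hdvd
      exact ⟨him, Or.inr ⟨hev, (singular_arith_even hev hipos htpos him hm2).1 hF⟩⟩
    · rintro ⟨him, ⟨ho', -⟩ | ⟨-, h⟩⟩
      · exact absurd ho' hno
      exact (singular_arith_even hev hipos htpos him hm2).2 h
  · have hne : ¬ Even i := Nat.not_even_iff_odd.2 ho
    rw [if_neg hne] at hc
    subst c
    constructor
    · intro hF
      have him : i ≤ m := by
        by_contra hlt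
        replace hlt : m < i := by omega
        have e2 := Nat.div_add_mod' D i
        have l2 := Nat.mod_lt D hipos
        obtain ⟨hk1, hk2⟩ := (hD (D / i * i)).2 (by omega)
        have hkn : D / i * (2 * i) ≤ n := by rw [mul_left_comm]; exact hk1
        have hkf : D / i * (2 * i) = n → (QPlus Q ⊤ ↔ Odd i ∨ Even (D / i)) := fun h =>
          iff_of_true (hk2 (by rw [← h]; ring)) (Or.inl ho)
        have hno' : n < D / i * (2 * i) + 2 * i ∨ (n = D / i * (2 * i) + 2 * i ∧
            ¬ ((QPlus Q ⊤ ↔ Odd i ∨ Even (D / i)) ↔ Odd i)) := by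
          have h := mt (hD (D / i * i + i)).1 (by omega)
          rw [not_and_or, Classical.not_imp] at h
          have e3 : D / i * (2 * i) = 2 * (D / i * i) := by ring
          rcases h with h | ⟨h1, h3⟩
          · exact Or.inl (by omega)
          · refine Or.inr ⟨by omega, ?_⟩
            simpa [ho] using h3
        have hsf : 2 * m + D / i * (2 * i) ≤ n ∧
            (2 * m + D / i * (2 * i) = n → (QPlus Q ⊤ ↔ Odd i ∨ Even (D / i))) := by
          rcases Nat.eq_zero_or_pos (D / i) with h0 | h0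
          · rw [h0, zero_mul, add_zero]
            exact ⟨hm2, fun h => iff_of_true (hm2' h) (Or.inl ho)⟩
          · exact hzero hlt (hF _ h0 hkn hkf)
        exact singular_small (p := p) hrp hr2 hN hn hi (by rw [if_neg hne]) hlt hkn hkf hsf.1 hsf.2 hno' hdvd
      exact ⟨him, Or.inl ⟨ho, (singular_arith_odd ho him hD hmD).1 hF⟩⟩
    · rintro ⟨him, ⟨-, h⟩ | ⟨hev', -⟩⟩
      · exact (singular_arith_odd ho him hD hmD).2 h
      · exact absurd hev' hne

end CfsgLib.Perm.Elusive
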