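import Mathlib
import Cfsg.Agent.Lib.Perm.Elusive.OrthTwo
import Cfsg.Agent.Lib.Perm.Elusive.OrthSingular
import Cfsg.Agent.Lib.Classical.QuadDisc

/-!
# Totally singular subspaces fixed by elements of order two
-/

set_option autoImplicit false
set_option linter.all false

namespace CfsgLib.Perm.Elusive

open CfsgLib.Classical CfsgLib.Orth
open scoped Matrix

variable {F : Type*} [Field F] [Fintype F]

section General

variable {V : Type*} [AddCommGroup V] [Module F V] [FiniteDimensional F V] {Q : QuadraticForm F V} {T : V →ₗ[F] V}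

/-- the two eigenspaces of an involution -/
theorem invol_parts (h2 : (2 : F) ≠ 0) (hN : (QuadraticMap.polarBilin Q).Nondegenerate) (hI : ∀ v, Q (T v) = Q v)
    (hT : ∀ v, T (T v) = v) :
    IsCompl (LinearMap.ker (T - 1)) (LinearMap.ker (T + 1)) ∧
      QNd Q (LinearMap.ker (T - 1)) ∧ QNd Q (LinearMap.ker (T + 1)) ∧
      (∀ u ∈ LinearMap.ker (T - 1), ∀ v ∈ LinearMap.ker (T + 1), QuadraticMap.polar Q u v = 0) ∧
      ∀ W : Submodule F V, (∀ u ∈ W, T u ∈ W) →
        Module.finrank F W = Module.finrank F (W ⊓ LinearMap.ker (T - 1) : Submodule F V) +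
          Module.finrank F (W ⊓ LinearMap.ker (T + 1) : Submodule F V) := by
  obtain ⟨A, hA⟩ : ∃ A, A = LinearMap.ker (T - 1) := ⟨_, rfl⟩
  obtain ⟨B, hB⟩ : ∃ B, B = LinearMap.ker (T + 1) := ⟨_, rfl⟩
  rw [← hA, ← hB]
  have hAf : ∀ u ∈ A, T u = u := fun u hu => by rw [hA] at hu; simpa [sub_eq_zero] using hu
  have hBf : ∀ u ∈ B, T u = -u := fun u hu => by rw [hB] at hu; simpa [add_eq_zero_iff_eq_neg] using hu
  have ho : ∀ u ∈ A, ∀ v ∈ B, QuadraticMap.polar Q u v = 0 := fun u hu v hv => by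
    have h := polar_map hI u v
    rw [hAf u hu, hBf v hv, QuadraticMap.polar_neg_right] at h
    exact (mul_eq_zero.1 (show (2 : F) * QuadraticMap.polar Q u v = 0 by linear_combination -h)).resolve_left h2
  have hmem : ∀ (W : Submodule F V), (∀ u ∈ W, T u ∈ W) → (W ⊓ A) ⊔ (W ⊓ B) = W := fun W hW => by
    refine le_antisymm (sup_le inf_le_left inf_le_left) fun v hv => ?_
    refine Submodule.mem_sup.2 ⟨(2 : F)⁻¹ • (v + T v), ⟨W.smul_mem _ (W.add_mem hv (hW v hv)), ?_⟩,
      (2 : F)⁻¹ • (v - T v), ⟨W.smul_mem _ (W.sub_mem hv (hW v hv)), ?_⟩, ?_⟩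
    · rw [SetLike.mem_coe, hA, LinearMap.mem_ker, LinearMap.sub_apply, Module.End.one_apply, map_smul, map_add, hT]; module
    · rw [SetLike.mem_coe, hB, LinearMap.mem_ker, LinearMap.add_apply, Module.End.one_apply, map_smul, map_sub, hT]; module
    · rw [← smul_add, show v + T v + (v - T v) = (2 : F) • v by module, inv_smul_smul₀ h2]
  have htop : A ⊔ B = ⊤ := by
    have h := hmem ⊤ fun _ _ => Submodule.mem_top
    rwa [top_inf_eq, top_inf_eq] at h
  have hdis : Disjoint A B := Submodule.disjoint_def.2 fun u h1 h2' => by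
    have h := (hAf u h1).symm.trans (hBf u h2')
    rw [eq_neg_iff_add_eq_zero, ← two_smul F u, smul_eq_zero] at h
    exact h.resolve_left h2
  have hsplit : ∀ {X Y : Submodule F V}, (∀ u ∈ X, ∀ v ∈ Y, QuadraticMap.polar Q u v = 0) → X ⊔ Y = ⊤ → QNd Q X := by
    intro X Y hXY h
    rw [qnd_iff]
    intro u hu hu0
    by_contra hno
    push Not at hno
    refine hu0 (hN.1 u fun z => ?_)
    obtain ⟨x, hx, y, hy, rfl⟩ := Submodule.mem_sup.1 (h.ge (Submodule.mem_top (x := z)))
    show QuadraticMap.polar Q u (x + y) = 0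
    rw [QuadraticMap.polar_add_right, hno x hx, hXY u hu y hy, add_zero]
  refine ⟨⟨hdis, codisjoint_iff.2 htop⟩, hsplit ho htop,
    hsplit (fun u hu v hv => (QuadraticMap.polar_comm Q u v).trans (ho v hv u hu)) ((sup_comm B A).trans htop), ho,
    fun W hW => ?_⟩
  have h := Submodule.finrank_sup_add_finrank_inf_eq (W ⊓ A) (W ⊓ B)
  rw [hmem W hW, (hdis.mono inf_le_right inf_le_right).eq_bot, finrank_bot, add_zero] at h
  exact h

/-- invariant singular subspaces of an involution from the two eigenspaces -/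
theorem invol_singular (h2 : (2 : F) ≠ 0) (hN : (QuadraticMap.polarBilin Q).Nondegenerate) (hI : ∀ v, Q (T v) = Q v)
    (hT : ∀ v, T (T v) = v) {a b : ℕ} (ha : 2 * a ≤ Module.finrank F (LinearMap.ker (T - 1)))
    (ha' : 2 * a = Module.finrank F (LinearMap.ker (T - 1)) → QPlus Q (LinearMap.ker (T - 1)))
    (hb : 2 * b ≤ Module.finrank F (LinearMap.ker (T + 1)))
    (hb' : 2 * b = Module.finrank F (LinearMap.ker (T + 1)) → QPlus Q (LinearMap.ker (T + 1))) :
    ∃ W : Submodule F V, (Module.finrank F W = a + b ∧ ∀ u ∈ W, Q u = 0) ∧ ∀ u ∈ W, T u ∈ W := by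
  obtain ⟨hc, hAn, hBn, ho, -⟩ := invol_parts h2 hN hI hT
  obtain ⟨X, hX, hX0, hXd⟩ := (ts_sub_iff hAn a).2 ⟨ha, ha'⟩
  obtain ⟨Y, hY, hY0, hYd⟩ := (ts_sub_iff hBn b).2 ⟨hb, hb'⟩
  refine ⟨X ⊔ Y, ⟨?_, fun u hu => ?_⟩, fun u hu => ?_⟩
  · have h := Submodule.finrank_sup_add_finrank_inf_eq X Y
    rwa [(hc.disjoint.mono hX hY).eq_bot, finrank_bot, add_zero, hXd, hYd] at h
  · obtain ⟨x, hx, y, hy, rfl⟩ := Submodule.mem_sup.1 hu
    rw [QuadraticMap.map_add (⇑Q), hX0 x hx, hY0 y hy, ho x (hX hx) y (hY hy)]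
    simp
  · obtain ⟨x, hx, y, hy, rfl⟩ := Submodule.mem_sup.1 hu
    rw [map_add, show T x = x by simpa [sub_eq_zero] using hX hx, show T y = -y by
      simpa [add_eq_zero_iff_eq_neg] using hY hy]
    exact Submodule.add_mem_sup hx (Y.neg_mem hy)

/-- orthogonal anisotropic bases -/
theorem exists_orth_family (h2 : (2 : F) ≠ 0) : ∀ (k : ℕ) {B : Submodule F V}, QNd Q B → Module.finrank F B = k →
    ∃ v : Fin k → V, (∀ j, v j ∈ B ∧ Q (v j) ≠ 0) ∧ ∀ j l, j ≠ l → QuadraticMap.polar Q (v j) (v l) = 0 := by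
  intro k
  induction k with
  | zero => intro B _ _; exact ⟨fun j => j.elim0, fun j => j.elim0, fun j => j.elim0⟩
  | succ k ih =>
    intro B hB hd
    obtain ⟨u, hu, hQu⟩ := exists_anisotropic_vec h2 hB (fun h => by rw [h, finrank_bot] at hd; omega)
    obtain ⟨hl, hld⟩ := qnd_line h2 hQu
    obtain ⟨hn, -, hdim⟩ := qnd_inf_orth hB hl ((Submodule.span_singleton_le_iff_mem _ _).2 hu)
    obtain ⟨v, hv, hvv⟩ := ih hn (by omega)
    have ho : ∀ j, QuadraticMap.polar Q u (v j) = 0 := fun j =>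
      (hv j).1.2 u (Submodule.mem_span_singleton_self u)
    refine ⟨Fin.cons u v, fun j => ?_, fun j l hjl => ?_⟩
    · induction j using Fin.cases with
      | zero => exact ⟨hu, hQu⟩
      | succ j => exact ⟨(hv j).1.1, (hv j).2⟩
    · induction j using Fin.cases with
      | zero =>
        induction l using Fin.cases with
        | zero => exact absurd rfl hjl
        | succ l => simpa using ho l
      | succ j =>
        induction l using Fin.cases with
        | zero => simpa [QuadraticMap.polar_comm] using ho j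
        | succ l => simpa using hvv j l fun h => hjl (h ▸ rfl)

/-- orthogonal families give independent vectors -/
theorem orth_family_li (h2 : (2 : F) ≠ 0) {ι : Type*} [Fintype ι] {v : ι → V} (hv : ∀ j, Q (v j) ≠ 0)
    (hvv : ∀ j l, j ≠ l → QuadraticMap.polar Q (v j) (v l) = 0) : LinearIndependent F v := by
  classical
  rw [Fintype.linearIndependent_iff]
  intro c hc l
  have h : qB Q (v l) (∑ j, c j • v j) = 0 := by rw [hc, map_zero]
  rw [map_sum, Finset.sum_eq_single l (fun j _ hj => by rw [map_smul, qB_apply, hvv l j (Ne.symm hj), smul_zero])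
    (fun h' => absurd (Finset.mem_univ l) h'), map_smul, qB_apply, smul_eq_mul] at h
  exact (mul_eq_zero.1 h).resolve_right fun h' => hv l ((value_zero_iff h2 _).1 h')

/-- square discriminant and square `-1` give half singular spaces -/
theorem exists_singular_half (h2 : (2 : F) ≠ 0) (h1 : IsSquare (-1 : F)) {ι : Type*} [DecidableEq ι] {v : ι → V}
    (hv : ∀ j, Q (v j) ≠ 0) (hvv : ∀ j l, j ≠ l → QuadraticMap.polar Q (v j) (v l) = 0) (n : ℕ) :
    ∀ s : Finset ι, s.card = 2 * n → IsSquare (∏ j ∈ s, Q (v j)) →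
      ∃ U : Submodule F V, U ≤ Submodule.span F (v '' (s : Set ι)) ∧ (∀ u ∈ U, Q u = 0) ∧ Module.finrank F U = n := by
  induction n with
  | zero =>
    intro s _ _
    exact ⟨⊥, bot_le, fun u hu => by rw [(Submodule.mem_bot F).1 hu, map_zero], finrank_bot F V⟩
  | succ n ih =>
    intro s hs hsq
    obtain ⟨a, b, ha, hb, hab, hcls⟩ : ∃ a b, a ∈ s ∧ b ∈ s ∧ a ≠ b ∧ IsSquare (Q (v a) * Q (v b)) := by
      rcases Nat.eq_zero_or_pos n with h0 | h0
      · subst h0
        obtain ⟨a, b, hab, rfl⟩ := Finset.card_eq_two.1 hs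
        exact ⟨a, b, by simp, by simp, hab, by simpa [Finset.prod_pair hab] using hsq⟩
      · obtain ⟨a, b, c, ha, hb, hc, hab, hac, hbc⟩ := Finset.two_lt_card_iff.1 (show 2 < s.card by omega)
        by_cases h : IsSquare (Q (v a) * Q (v b))
        · exact ⟨a, b, ha, hb, hab, h⟩
        by_cases h' : IsSquare (Q (v a) * Q (v c))
        · exact ⟨a, c, ha, hc, hac, h'⟩
        refine ⟨b, c, hb, hc, hbc, ?_⟩
        have := CfsgLib.Classical.isSquare_mul_of_not h2 h h'
        rwa [show Q (v a) * Q (v b) * (Q (v a) * Q (v c)) = Q (v a) * Q (v a) * (Q (v b) * Q (v c)) by ring,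
          CfsgLib.Classical.isSquare_mul_sq_iff (hv a)] at this
    obtain ⟨s', hs'⟩ : ∃ s', s' = (s.erase a).erase b := ⟨_, rfl⟩
    have hb' : b ∈ s.erase a := Finset.mem_erase.2 ⟨Ne.symm hab, hb⟩
    have hprod : ∏ j ∈ s, Q (v j) = Q (v a) * Q (v b) * ∏ j ∈ s', Q (v j) := by
      rw [← Finset.mul_prod_erase s _ ha, ← Finset.mul_prod_erase (s.erase a) _ hb', hs']; ring
    obtain ⟨e, he⟩ := hcls
    have he0 : e ≠ 0 := fun h => mul_ne_zero (hv a) (hv b) (by rw [he, h, zero_mul])
    obtain ⟨U, hU, hU0, hUd⟩ := ih s' (by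
      rw [hs', Finset.card_erase_of_mem hb', Finset.card_erase_of_mem ha]; omega) (by
      rw [hprod, he, CfsgLib.Classical.isSquare_mul_sq_iff he0] at hsq
      exact hsq)
    obtain ⟨i₁, hi₁⟩ := h1
    obtain ⟨w, hw⟩ : ∃ w, w = v a + (i₁ * (e / Q (v b))) • v b := ⟨_, rfl⟩
    have hQw : Q w = 0 := by
      rw [hw, QuadraticMap.map_add (⇑Q), QuadraticMap.map_smul, QuadraticMap.polar_smul_right, hvv a b hab, smul_eq_mul,
        smul_eq_mul, mul_zero, add_zero]
      have := hv b
      field_simp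
      linear_combination (-(e * e)) * hi₁ + he
    have hperp : ∀ x ∈ Submodule.span F (v '' (s' : Set ι)), QuadraticMap.polar Q w x = 0 ∧
        QuadraticMap.polar Q (v a) x = 0 := by
      intro x hx
      induction hx using Submodule.span_induction with
      | mem x hx =>
        obtain ⟨j, hj, rfl⟩ := hx
        rw [Finset.mem_coe, hs', Finset.mem_erase, Finset.mem_erase] at hj
        rw [hw, QuadraticMap.polar_add_left, QuadraticMap.polar_smul_left, hvv a j (Ne.symm hj.2.1),
          hvv b j (Ne.symm hj.1)]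
        simp
      | zero => simp
      | add x y _ _ h h' => simp [QuadraticMap.polar_add_right, h.1, h.2, h'.1, h'.2]
      | smul c x _ h => simp [QuadraticMap.polar_smul_right, h.1, h.2]
    have hs's : (s' : Set ι) ⊆ s := fun j hj => by
      rw [Finset.mem_coe, hs', Finset.mem_erase, Finset.mem_erase] at hj
      exact hj.2.2
    refine ⟨U ⊔ Submodule.span F {w}, sup_le (hU.trans (Submodule.span_mono (Set.image_mono hs's))) ?_, ?_, ?_⟩
    · rw [Submodule.span_singleton_le_iff_mem, hw]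
      exact add_mem (Submodule.subset_span ⟨a, ha, rfl⟩) (Submodule.smul_mem _ _ (Submodule.subset_span ⟨b, hb, rfl⟩))
    · intro u hu
      obtain ⟨x, hx, y, hy, rfl⟩ := Submodule.mem_sup.1 hu
      obtain ⟨c, rfl⟩ := Submodule.mem_span_singleton.1 hy
      rw [QuadraticMap.map_add (⇑Q), hU0 x hx, QuadraticMap.map_smul, hQw, QuadraticMap.polar_smul_right,
        QuadraticMap.polar_comm, (hperp x (hU hx)).1]
      simp
    · have hdis : U ⊓ Submodule.span F {w} = ⊥ := by
        rw [Submodule.eq_bot_iff]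
        rintro x ⟨hx, hx'⟩
        obtain ⟨c, rfl⟩ := Submodule.mem_span_singleton.1 hx'
        have h := (hperp _ (hU hx)).2
        rw [QuadraticMap.polar_smul_right, hw, QuadraticMap.polar_add_right, QuadraticMap.polar_smul_right,
          hvv a b hab, smul_zero, add_zero, smul_eq_mul, mul_eq_zero] at h
        rw [h.resolve_right fun h' => hv a ((value_zero_iff h2 _).1 h'), zero_smul]
      have h := Submodule.finrank_sup_add_finrank_inf_eq U (Submodule.span F {w})
      rw [hdis, finrank_bot, add_zero, hUd, finrank_span_singleton (fun h0 => hv a ((value_zero_iff h2 _).1 (by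
        have h3 : QuadraticMap.polar Q (v a) w = 0 := by rw [h0, QuadraticMap.polar_zero_right]
        rwa [hw, QuadraticMap.polar_add_right, QuadraticMap.polar_smul_right, hvv a b hab, smul_zero, add_zero] at h3)))] at h
      exact h

/-- spans of pairwise orthogonal singular vectors, closed under `T` -/
theorem singular_span (h2 : (2 : F) ≠ 0) {κ : Type*} [Fintype κ] (hI : ∀ v, Q (T v) = Q v) {w : κ → V}
    (hw : ∀ j, Q (w j) = 0) (hww : ∀ j l, j ≠ l → QuadraticMap.polar Q (w j) (w l) = 0)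
    (hli : LinearIndependent F w) (hT : ∀ j, T (w j) ∈ Submodule.span F (Set.range w)) :
    ∃ W : Submodule F V, (Module.finrank F W = Fintype.card κ ∧ ∀ u ∈ W, Q u = 0) ∧ ∀ u ∈ W, T u ∈ W := by
  refine ⟨Submodule.span F (Set.range w), ⟨finrank_span_eq_card hli, ?_⟩, ?_⟩
  · have key : ∀ u ∈ Submodule.span F (Set.range w), Q u = 0 ∧ ∀ j, QuadraticMap.polar Q (w j) u = 0 := by
      intro u hu
      induction hu using Submodule.span_induction with
      | mem x hx =>
        obtain ⟨j, rfl⟩ := hx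
        refine ⟨hw j, fun l => ?_⟩
        by_cases hlj : l = j
        · rw [hlj, value_zero_iff h2]; exact hw j
        · exact hww l j hlj
      | zero => simp
      | add x y hx _ h h' =>
        refine ⟨?_, fun j => by rw [QuadraticMap.polar_add_right, h.2, h'.2, add_zero]⟩
        have hxy : QuadraticMap.polar Q x y = 0 := by
          clear h
          induction hx using Submodule.span_induction with
          | mem x hx => obtain ⟨j, rfl⟩ := hx; exact h'.2 j
          | zero => simp
          | add a b _ _ ha hb => rw [QuadraticMap.polar_add_left, ha, hb, add_zero]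
          | smul c a _ ha => rw [QuadraticMap.polar_smul_left, ha, smul_zero]
        rw [QuadraticMap.map_add (⇑Q), h.1, h'.1, hxy, add_zero, add_zero]
      | smul c x _ h =>
        exact ⟨by rw [QuadraticMap.map_smul, h.1, smul_zero], fun j => by
          rw [QuadraticMap.polar_smul_right, h.2, smul_zero]⟩
    exact fun u hu => (key u hu).1
  · intro u hu
    induction hu using Submodule.span_induction with
    | mem x hx => obtain ⟨j, rfl⟩ := hx; exact hT j
    | zero => simp
    | add x y _ _ h h' => rw [map_add]; exact add_mem h h'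
    | smul c x _ h => rw [map_smul]; exact Submodule.smul_mem _ c h

/-- square roots of `-1` in a field with a fourth root of unity -/
theorem negsq_singular_split (h2 : (2 : F) ≠ 0) (hN : (QuadraticMap.polarBilin Q).Nondegenerate)
    (hI : ∀ v, Q (T v) = Q v) (hT : ∀ v, T (T v) = -v) (h1 : IsSquare (-1 : F)) {m : ℕ}
    (hm : 2 * m ≤ Module.finrank F V) :
    ∃ W : Submodule F V, (Module.finrank F W = m ∧ ∀ u ∈ W, Q u = 0) ∧ ∀ u ∈ W, T u ∈ W := by
  obtain ⟨s, hs⟩ := h1
  have hs0 : s ≠ 0 := fun h => by rw [h, mul_zero] at hs; exact one_ne_zero (neg_eq_zero.1 hs)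
  obtain ⟨k, hk, -, -, v, hv, hvv⟩ := negsq_sub h2 hI hT (fun _ _ => Submodule.mem_top) (qnd_top hN)
  rw [finrank_top] at hk
  obtain ⟨w, hw⟩ : ∃ w : Fin m → V, ∀ j, w j = T (v (Fin.castLE (by omega) j)) + s • v (Fin.castLE (by omega) j) :=
    ⟨_, fun j => rfl⟩
  have hcl : ∀ {j l : Fin m}, j ≠ l → Fin.castLE (show m ≤ k by omega) j ≠ Fin.castLE (show m ≤ k by omega) l :=
    fun h h' => h (Fin.castLE_injective _ h')
  have hTv : ∀ a b, QuadraticMap.polar Q (T a) b = -QuadraticMap.polar Q a (T b) := fun a b => by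
    have h := polar_map hI a (T b)
    rw [hT, QuadraticMap.polar_neg_right] at h
    linear_combination -h
  obtain ⟨W, hW, hW'⟩ := singular_span h2 (κ := Fin m) hI (w := w) (fun j => by
      rw [hw, QuadraticMap.map_add (⇑Q), hI, QuadraticMap.map_smul, QuadraticMap.polar_smul_right,
        QuadraticMap.polar_comm, polar_negsq h2 hI hT, smul_zero, add_zero, smul_eq_mul]
      linear_combination -(Q (v (Fin.castLE (by omega) j))) * hs)
    (fun j l hjl => by
      obtain ⟨e1, e2⟩ := hvv _ _ (hcl hjl)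
      rw [hw, hw]
      simp only [QuadraticMap.polar_add_left, QuadraticMap.polar_add_right, QuadraticMap.polar_smul_left,
        QuadraticMap.polar_smul_right, polar_map hI, hTv, e1, e2, neg_zero, smul_zero, add_zero])
    (by
      classical
      rw [Fintype.linearIndependent_iff]
      intro c hc l
      have h : qB Q (v (Fin.castLE (by omega) l)) (∑ j, c j • w j) = 0 := by rw [hc, map_zero]
      rw [map_sum, Finset.sum_eq_single l (fun j _ hj => by
          obtain ⟨e1, e2⟩ := hvv _ _ (hcl (Ne.symm hj))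
          rw [map_smul, qB_apply, hw, QuadraticMap.polar_add_right, QuadraticMap.polar_smul_right, e1, e2]
          simp)
        (fun h' => absurd (Finset.mem_univ l) h'), map_smul, qB_apply, hw, QuadraticMap.polar_add_right,
        polar_negsq h2 hI hT, QuadraticMap.polar_smul_right, zero_add, smul_eq_mul, smul_eq_mul] at h
      exact (mul_eq_zero.1 h).resolve_right (mul_ne_zero hs0 fun h' => (hv _).2 ((value_zero_iff h2 _).1 h')))
    (fun j => by
      have h : T (w j) = s • w j := by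
        rw [hw, map_add, map_smul, hT, smul_add, smul_smul, ← hs, neg_one_smul, add_comm]
      rw [h]
      exact Submodule.smul_mem _ _ (Submodule.subset_span ⟨j, rfl⟩))
  exact ⟨W, ⟨hW.1.trans (Fintype.card_fin m), hW.2⟩, hW'⟩

/-- square roots of `-1` fix singular subspaces of even dimension -/
theorem negsq_singular_even (h2 : (2 : F) ≠ 0) (hN : (QuadraticMap.polarBilin Q).Nondegenerate)
    (hI : ∀ v, Q (T v) = Q v) (hT : ∀ v, T (T v) = -v) {e : ℕ} (he : 2 * (2 * e) ≤ Module.finrank F V) :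
    ∃ W : Submodule F V, (Module.finrank F W = 2 * e ∧ ∀ u ∈ W, Q u = 0) ∧ ∀ u ∈ W, T u ∈ W := by
  classical
  obtain ⟨k, hk, -, -, v, hv, hvv⟩ := negsq_sub h2 hI hT (fun _ _ => Submodule.mem_top) (qnd_top hN)
  rw [finrank_top] at hk
  have hrc : ringChar F ≠ 2 := fun h => h2 (by
    haveI : CharP F 2 := ringChar.of_eq h
    exact CharTwo.two_eq_zero)
  obtain ⟨f, g, hfg⟩ : ∃ f g : Fin e → Fin k, (∀ j l, f j ≠ g l) ∧ Function.Injective f ∧ Function.Injective g :=
    ⟨fun j => ⟨2 * j, by omega⟩, fun j => ⟨2 * j + 1, by omega⟩, fun j l h => by have := congrArg Fin.val h; simp at this; omega,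
      fun a b h => Fin.ext (by have := congrArg Fin.val h; simp at this; omega),
      fun a b h => Fin.ext (by have := congrArg Fin.val h; simp at this; omega)⟩
  obtain ⟨hfg, hfi, hgi⟩ := hfg
  choose a b hab using fun j : Fin e => FiniteField.exists_root_sum_quadratic
    (f := Polynomial.X ^ 2) (g := Polynomial.X ^ 2 + Polynomial.C (Q (v (g j)) / Q (v (f j))))
    (Polynomial.degree_X_pow 2) (Polynomial.degree_X_pow_add_C two_pos _) (FiniteField.odd_card_of_char_ne_two hrc)
  have hTv : ∀ x y, QuadraticMap.polar Q (T x) y = -QuadraticMap.polar Q x (T y) := fun x y => by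
    have h := polar_map hI x (T y)
    rw [hT, QuadraticMap.polar_neg_right] at h
    linear_combination -h
  obtain ⟨w, hw⟩ : ∃ w : Fin e → V, ∀ j, w j = a j • v (f j) + b j • T (v (f j)) + v (g j) := ⟨_, fun j => rfl⟩
  have hQw : ∀ j, Q (w j) = 0 := fun j => by
    obtain ⟨e1, e2⟩ := hvv _ _ (hfg j j)
    have h := hab j
    simp only [Polynomial.eval_pow, Polynomial.eval_X, Polynomial.eval_add, Polynomial.eval_C] at h
    rw [hw]
    simp only [QuadraticMap.map_add (⇑Q), QuadraticMap.map_smul, QuadraticMap.polar_add_left,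
      QuadraticMap.polar_smul_left, QuadraticMap.polar_smul_right, polar_negsq h2 hI hT, hTv, e1, e2, hI, smul_eq_mul,
      mul_zero, neg_zero, add_zero]
    have := (hv (f j)).2
    field_simp at h
    linear_combination h
  have hcross : ∀ j l, j ≠ l → QuadraticMap.polar Q (w j) (w l) = 0 ∧ QuadraticMap.polar Q (w j) (T (w l)) = 0 :=
    fun j l hjl => by
      obtain ⟨a1, a2⟩ := hvv _ _ (fun h => hjl (hfi h) : f j ≠ f l)
      obtain ⟨b1, b2⟩ := hvv _ _ (fun h => hjl (hgi h) : g j ≠ g l)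
      obtain ⟨c1, c2⟩ := hvv _ _ (hfg j l)
      obtain ⟨d1, d2⟩ := hvv _ _ (Ne.symm (hfg l j))
      constructor <;>
      · rw [hw, hw]
        simp only [map_add, map_smul, hT, QuadraticMap.polar_add_left, QuadraticMap.polar_add_right,
          QuadraticMap.polar_smul_left, QuadraticMap.polar_smul_right, QuadraticMap.polar_neg_right, polar_map hI, hTv,
          a1, a2, b1, b2, c1, c2, d1, d2, neg_zero, smul_zero, add_zero]
  obtain ⟨w', hw'⟩ : ∃ w' : Fin e × Fin 2 → V, ∀ x, w' x = if x.2 = 0 then w x.1 else T (w x.1) := ⟨_, fun x => rfl⟩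
  obtain ⟨W, hW, hW'⟩ := singular_span h2 (κ := Fin e × Fin 2) hI (w := w') (fun x => by
      rw [hw']; split_ifs
      · exact hQw _
      · rw [hI]; exact hQw _)
    (fun x y hxy => by
      obtain ⟨j, s⟩ := x
      obtain ⟨l, t⟩ := y
      rw [hw', hw']
      by_cases hjl : j = l
      · subst hjl
        have hz := polar_negsq h2 hI hT (w j)
        fin_cases s <;> fin_cases t <;> first
          | exact absurd rfl hxy
          | simpa using hz
          | simpa [QuadraticMap.polar_comm] using hz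
      · obtain ⟨e1, e2⟩ := hcross j l hjl
        fin_cases s <;> fin_cases t <;> simp [e1, e2, polar_map hI, hTv])
    (by
      rw [Fintype.linearIndependent_iff]
      intro c hc
      rintro ⟨l, t⟩
      have hgl : ∀ x : Fin e × Fin 2, QuadraticMap.polar Q (v (g l)) (w' x) =
          if x = (l, 0) then QuadraticMap.polar Q (v (g l)) (v (g l)) else 0 := by
        rintro ⟨j, s⟩
        obtain ⟨d1, d2⟩ := hvv _ _ (Ne.symm (hfg j l))
        rw [hw', hw]
        by_cases hjl : j = l
        · subst hjl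
          fin_cases s <;> simp [QuadraticMap.polar_add_right, QuadraticMap.polar_smul_right,
            QuadraticMap.polar_neg_right, map_add, map_smul, hT, d1, d2, polar_negsq h2 hI hT]
        · obtain ⟨e1, e2⟩ := hvv _ _ (fun h => hjl (hgi h).symm : g l ≠ g j)
          fin_cases s <;> simp [QuadraticMap.polar_add_right, QuadraticMap.polar_smul_right,
            QuadraticMap.polar_neg_right, map_add, map_smul, hT, d1, d2, e1, e2, hjl]
      have hne : QuadraticMap.polar Q (v (g l)) (v (g l)) ≠ 0 := fun h => (hv _).2 ((value_zero_iff h2 _).1 h)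
      have h0 : qB Q (v (g l)) (∑ x, c x • w' x) = 0 := by rw [hc, map_zero]
      have h1 : qB Q (T (v (g l))) (∑ x, c x • w' x) = 0 := by rw [hc, map_zero]
      fin_cases t
      · rw [map_sum, Finset.sum_eq_single (l, 0) (fun x _ hx => by rw [map_smul, qB_apply, hgl, if_neg hx, smul_zero])
          (fun h' => absurd (Finset.mem_univ _) h'), map_smul, qB_apply, hgl, if_pos rfl, smul_eq_mul] at h0
        exact (mul_eq_zero.1 h0).resolve_right hne
      · rw [map_sum, Finset.sum_eq_single (l, 1) (fun x _ hx => by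
            obtain ⟨j, s⟩ := x
            rw [map_smul, qB_apply]
            fin_cases s
            · have hx' := hgl (j, 1)
              simp [hw'] at hx' ⊢
              rw [hTv, hx']
              simp
            · have hx' := hgl (j, 0)
              simp [hw'] at hx' ⊢
              rw [polar_map hI, hx', if_neg (fun h => hx (by simp [h]))]
              simp)
          (fun h' => absurd (Finset.mem_univ _) h'), map_smul, qB_apply] at h1
        have hx' := hgl (l, 0)
        simp [hw'] at hx'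
        simp [hw', polar_map hI, hx'] at h1
        exact h1.resolve_right (fun h => hne (by simpa [QuadraticMap.polar_self] using h)))
    (fun x => by
      obtain ⟨j, s⟩ := x
      rw [hw']
      fin_cases s
      · exact Submodule.subset_span ⟨(j, 1), by simp [hw']⟩
      · have h0 : -w j ∈ Submodule.span F (Set.range w') :=
          Submodule.neg_mem _ (Submodule.subset_span ⟨(j, 0), by simp [hw']⟩)
        simpa [hT] using h0)
  exact ⟨W, ⟨hW.1.trans (by rw [Fintype.card_prod, Fintype.card_fin, Fintype.card_fin, mul_comm]), hW.2⟩, hW'⟩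

omit [Fintype F] in
/-- square roots of `-1` in other fields fix only even dimensions -/
theorem negsq_even_dim (hT : ∀ v, T (T v) = -v) (h1 : ¬ IsSquare (-1 : F)) {W : Submodule F V}
    (hW : ∀ u ∈ W, T u ∈ W) : Even (Module.finrank F W) := by
  by_contra hodd
  have hTT : (T.restrict hW) * (T.restrict hW) = (-1 : F) • LinearMap.id := by
    refine LinearMap.ext fun u => Subtype.ext ?_
    show T (T (u : V)) = _
    rw [hT]
    simp
  have hdet := congrArg LinearMap.det hTT
  rw [map_mul, LinearMap.det_smul, LinearMap.det_id, mul_one, (Nat.not_even_iff_odd.1 hodd).neg_one_pow] at hdet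
  exact h1 ⟨_, hdet.symm⟩

end General

section Omega

variable {ι : Type} [Fintype ι] [DecidableEq ι] {Q : QuadraticForm F (ι → F)}

/-- involutions of Omega negate plus spaces when `-1` is a square -/
theorem omega_invol_plus (h2 : (2 : F) ≠ 0) (hQ : (QuadraticMap.polarBilin Q).Nondegenerate) (hn : 5 ≤ Fintype.card ι)
    {x : GL ι F} (hx : x ∈ Cfsg.Geo.omegaGL ⇑Q)
    (hxx : ∀ v, Matrix.toLin' (x : Matrix ι ι F) (Matrix.toLin' (x : Matrix ι ι F) v) = v) :
    Even (Module.finrank F (LinearMap.ker (Matrix.toLin' (x : Matrix ι ι F) + 1))) ∧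
      (IsSquare (-1 : F) → QPlus Q (LinearMap.ker (Matrix.toLin' (x : Matrix ι ι F) + 1))) := by
  classical
  obtain ⟨T, hT⟩ : ∃ T, T = Matrix.toLin' (x : Matrix ι ι F) := ⟨_, rfl⟩
  rw [← hT] at hxx ⊢
  have hTv : ∀ v, T v = (x : Matrix ι ι F) *ᵥ v := fun v => by rw [hT, Matrix.toLin'_apply]
  have hI : ∀ v, Q (T v) = Q v := fun v => by rw [hTv]; exact mem_isometryGroup_iff.1 (mem_iso_of_omega hx) v
  obtain ⟨hc, -, hBn, -, -⟩ := invol_parts h2 hQ hI hxx
  obtain ⟨B, hB⟩ : ∃ B, B = LinearMap.ker (T + 1) := ⟨_, rfl⟩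
  rw [← hB] at hc hBn ⊢
  obtain ⟨k, hk⟩ : ∃ k, k = Module.finrank F B := ⟨_, rfl⟩
  obtain ⟨v, hv, hvv⟩ := exists_orth_family h2 k hBn hk.symm
  have hli := orth_family_li h2 (fun j => (hv j).2) hvv
  have hspan : Submodule.span F (Set.range v) = B := Submodule.eq_of_le_of_finrank_eq
    (Submodule.span_le.2 (by rintro _ ⟨j, rfl⟩; exact (hv j).1))
    (by rw [finrank_span_eq_card hli, Fintype.card_fin, hk])
  have hneg : ∀ u ∈ B, T u = -u := fun u hu => by rw [hB] at hu; simpa [add_eq_zero_iff_eq_neg] using hu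
  obtain ⟨hw, hs⟩ := spn_of_negating (nd_of_qf Q hQ) h2 (mem_iso_of_omega hx) hli
    (fun j => by rw [← hTv]; exact hneg _ (hv j).1) (fun y => by
      rw [hspan, hB, LinearMap.mem_ker, LinearMap.add_apply, Module.End.one_apply, map_sub, ← hTv, hxx]
      abel)
  have hiff := CfsgLib.Orth.mem_omega_iff (nd_of_qf Q hQ) (by omega) (hex_of_two h2) ⟨x, mem_iso_of_omega hx⟩
  obtain ⟨y, hy, hyx⟩ := Subgroup.mem_map.1 hx
  have hy' : y = ⟨x, mem_iso_of_omega hx⟩ := Subtype.ext hyx
  obtain ⟨hspn, hev⟩ := hiff.1 (hy' ▸ hy)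
  rw [hw] at hev
  refine ⟨hk ▸ hev, fun h1 => ?_⟩
  obtain ⟨n, hn'⟩ := hev
  have hdet : (Matrix.of fun a b => QuadraticMap.polar Q (v a) (v b)).det = ∏ j, (2 : F) * Q (v j) := by
    rw [show (Matrix.of fun a b => QuadraticMap.polar Q (v a) (v b)) = Matrix.diagonal fun j => (2 : F) * Q (v j) by
      ext a b
      by_cases hab : a = b
      · subst hab
        rw [Matrix.of_apply, Matrix.diagonal_apply_eq, QuadraticMap.polar_self]
        simp
      · rw [Matrix.of_apply, Matrix.diagonal_apply_ne _ hab, hvv a b hab], Matrix.det_diagonal]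
  have hsq : IsSquare (∏ j, Q (v j)) := by
    have hne : (2 : F) ^ k * ∏ j, (2 : F) * Q (v j) ≠ 0 := mul_ne_zero (pow_ne_zero _ h2)
      (Finset.prod_ne_zero_iff.2 fun j _ => mul_ne_zero h2 (hv j).2)
    rw [hs, hdet, sqc_eq_one_iff hne, Finset.prod_mul_distrib, Finset.prod_const, Finset.card_univ, Fintype.card_fin,
      ← mul_assoc, CfsgLib.Classical.isSquare_mul_sq_iff (pow_ne_zero _ h2)] at hspn
    exact hspn
  obtain ⟨U, hU, hU0, hUd⟩ := exists_singular_half h2 h1 (fun j => (hv j).2) hvv n Finset.univ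
    (by rw [Finset.card_univ, Fintype.card_fin]; omega) hsq
  exact ⟨U, hU.trans (by rw [Finset.coe_univ, Set.image_univ, hspan]), hU0, by omega⟩

/-- an involution of Omega negating an anisotropic plane -/
theorem exists_elliptic_invol (h2 : (2 : F) ≠ 0) (hQ : (QuadraticMap.polarBilin Q).Nondegenerate)
    (hn : 5 ≤ Fintype.card ι) (h1 : ¬ IsSquare (-1 : F)) :
    ∃ x : GL ι F, x ∈ Cfsg.Geo.omegaGL ⇑Q ∧ x ^ 2 = 1 ∧
      (∀ v, Matrix.toLin' (x : Matrix ι ι F) (Matrix.toLin' (x : Matrix ι ι F) v) = v) ∧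
      Module.finrank F (LinearMap.ker (Matrix.toLin' (x : Matrix ι ι F) + 1)) = 2 ∧
      ∀ u ∈ LinearMap.ker (Matrix.toLin' (x : Matrix ι ι F) + 1), Q u = 0 → u = 0 := by
  classical
  have hV : Module.finrank F (ι → F) = Fintype.card ι := Module.finrank_fintype_fun_eq_card F
  obtain ⟨P₁, -, hP₁, hP₁d, -⟩ := exists_sub_type (qnd_top hQ) (h := 1) le_rfl (by rw [finrank_top, hV]; omega) True
  obtain ⟨v, -, hv⟩ := exists_value h2 hP₁ hP₁d 1
  obtain ⟨hl, hld⟩ := qnd_line h2 (show Q v ≠ 0 by rw [hv]; exact one_ne_zero)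
  obtain ⟨hn', -, hd'⟩ := qnd_inf_orth (qnd_top hQ) hl le_top
  rw [hld, finrank_top, hV] at hd'
  obtain ⟨P₂, hP₂le, hP₂, hP₂d, -⟩ := exists_sub_type hn' (h := 1) le_rfl (by omega) True
  obtain ⟨w, hw, hQw⟩ := exists_value h2 hP₂ hP₂d 1
  have hvw : QuadraticMap.polar Q v w = 0 := (hP₂le hw).2 v (Submodule.mem_span_singleton_self v)
  obtain ⟨u, hu⟩ : ∃ u : Fin 2 → ι → F, u = ![v, w] := ⟨_, rfl⟩
  have huu : ∀ j l, j ≠ l → QuadraticMap.polar Q (u j) (u l) = 0 := by
    intro j l hjl
    fin_cases j <;> fin_cases l <;> simp [hu] at hjl ⊢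
    · exact hvw
    · rw [QuadraticMap.polar_comm]; exact hvw
  have hu1 : ∀ j, Q (u j) = 1 := fun j => by fin_cases j <;> simp [hu, hv, hQw]
  have hli := orth_family_li h2 (fun j => (hu1 j).symm ▸ one_ne_zero) huu
  obtain ⟨P, hP⟩ : ∃ P, P = Submodule.span F (Set.range u) := ⟨_, rfl⟩
  have haniso : ∀ z ∈ P, Q z = 0 → z = 0 := by
    intro z hz h0
    rw [hP, Submodule.mem_span_range_iff_exists_fun] at hz
    obtain ⟨c, rfl⟩ := hz
    rw [Fin.sum_univ_two] at h0 ⊢
    rw [QuadraticMap.map_add (⇑Q), QuadraticMap.map_smul, QuadraticMap.map_smul, hu1, hu1,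
      QuadraticMap.polar_smul_left, QuadraticMap.polar_smul_right, huu 0 1 (by decide)] at h0
    simp only [smul_eq_mul, mul_one, mul_zero, add_zero] at h0
    have hc1 : c 1 = 0 := by
      by_contra hne
      exact h1 ⟨c 0 / c 1, by field_simp; linear_combination -h0⟩
    rw [hc1, mul_zero, add_zero, mul_self_eq_zero] at h0
    simp [h0, hc1]
  have hPn : QNd Q P := by
    rw [qnd_iff]
    intro z hz hz0
    refine ⟨z, hz, fun h => hz0 (haniso z hz ((value_zero_iff h2 z).1 h))⟩
  obtain ⟨O, hO⟩ : ∃ O, O = (qB Q).orthogonal P := ⟨_, rfl⟩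
  have hcm : IsCompl P O := hO ▸ isCompl_orth (polar_refl Q) hPn
  obtain ⟨T, hT⟩ : ∃ T : (ι → F) →ₗ[F] (ι → F), T = LinearMap.ofIsCompl hcm (-P.subtype) O.subtype := ⟨_, rfl⟩
  have hdec : ∀ z, ∃ a ∈ P, ∃ b ∈ O, z = a + b ∧ T z = -a + b := fun z => by
    obtain ⟨a, ha, b, hb, rfl⟩ := Submodule.mem_sup.1 (hcm.sup_eq_top.ge (Submodule.mem_top (x := z)))
    refine ⟨a, ha, b, hb, rfl, ?_⟩
    rw [map_add, hT, show a = ((⟨a, ha⟩ : P) : ι → F) from rfl, LinearMap.ofIsCompl_apply_left,
      show b = ((⟨b, hb⟩ : O) : ι → F) from rfl, LinearMap.ofIsCompl_apply_right]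
    rfl
  have hI : ∀ z, Q (T z) = Q z := fun z => by
    obtain ⟨a, ha, b, hb, rfl, hTz⟩ := hdec z
    have hab : QuadraticMap.polar Q a b = 0 := (hO ▸ hb) a ha
    rw [hTz, QuadraticMap.map_add (⇑Q), QuadraticMap.map_add (⇑Q), QuadraticMap.map_neg, QuadraticMap.polar_neg_left,
      hab, neg_zero]
  have hTP : ∀ a ∈ P, T a = -a := fun a ha => by
    rw [hT, show a = ((⟨a, ha⟩ : P) : ι → F) from rfl, LinearMap.ofIsCompl_apply_left]; rfl
  have hTO : ∀ b ∈ O, T b = b := fun b hb => by
    rw [hT, show b = ((⟨b, hb⟩ : O) : ι → F) from rfl, LinearMap.ofIsCompl_apply_right]; rfl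
  have hTT : ∀ z, T (T z) = z := fun z => by
    obtain ⟨a, ha, b, hb, rfl, hTz⟩ := hdec z
    rw [hTz, map_add, map_neg, hTP a ha, hTO b hb, neg_neg]
  obtain ⟨x, hx, hxv⟩ := exists_gl_of_pow two_ne_zero (show T ^ 2 = 1 from LinearMap.ext fun z => by
    rw [sq, Module.End.mul_apply, hTT]; rfl)
  have hTx : Matrix.toLin' (x : Matrix ι ι F) = T := LinearMap.ext fun z => by rw [Matrix.toLin'_apply, hxv]
  have hxI : x ∈ Cfsg.isometryGroup F ⇑Q := mem_isometryGroup_iff.2 fun z => by rw [hxv]; exact hI z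
  obtain ⟨hwk, hs⟩ := spn_of_negating (nd_of_qf Q hQ) h2 hxI hli
    (fun j => by rw [hxv]; exact hTP _ (hP ▸ Submodule.subset_span ⟨j, rfl⟩)) (fun z => by
      obtain ⟨a, ha, b, hb, rfl, hTz⟩ := hdec z
      rw [hxv, hTz, ← hP, show a + b - (-a + b) = a + a by abel]
      exact P.add_mem ha ha)
  have hmem : x ∈ Cfsg.Geo.omegaGL ⇑Q := by
    refine Subgroup.mem_map.2 ⟨⟨x, hxI⟩, (CfsgLib.Orth.mem_omega_iff (nd_of_qf Q hQ) (by omega) (hex_of_two h2) _).2
      ⟨?_, by rw [hwk]; exact even_two⟩, rfl⟩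
    rw [hs, show (Matrix.of fun a b => QuadraticMap.polar Q (u a) (u b)) = Matrix.diagonal fun _ => (2 : F) by
      ext a b
      by_cases hab : a = b
      · subst hab
        rw [Matrix.of_apply, Matrix.diagonal_apply_eq, QuadraticMap.polar_self, hu1]
        simp
      · rw [Matrix.of_apply, Matrix.diagonal_apply_ne _ hab, huu a b hab], Matrix.det_diagonal,
      Finset.prod_const, Finset.card_univ, Fintype.card_fin, sqc_mul (pow_ne_zero _ h2) (pow_ne_zero _ h2),
      sqc_mul_self (pow_ne_zero _ h2)]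
  have hker : LinearMap.ker (T + 1) = P := by
    refine le_antisymm (fun z hz => ?_) fun a ha => LinearMap.mem_ker.2 (by simp [hTP a ha])
    obtain ⟨a, ha, b, hb, rfl, hTz⟩ := hdec z
    rw [LinearMap.mem_ker, LinearMap.add_apply, Module.End.one_apply, hTz,
      show -a + b + (a + b) = (2 : F) • b by module, smul_eq_zero] at hz
    rw [hz.resolve_left h2, add_zero]
    exact ha
  refine ⟨x, hmem, hx, fun z => by rw [hTx]; exact hTT z, ?_, ?_⟩
  · rw [hTx, hker, hP, finrank_span_eq_card hli, Fintype.card_fin]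
  · rw [hTx, hker]; exact haniso

end Omega

end CfsgLib.Perm.Elusive
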