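import Mathlib
import Cfsg.Agent.Lib.Perm.Elusive.OrthSingularInvol

/-!
# Involutions of Omega acting on totally singular subspaces
-/

set_option autoImplicit false
set_option linter.all false

namespace CfsgLib.Perm.Elusive

open CfsgLib.Classical CfsgLib.Orth

variable {F : Type*} [Field F] [Fintype F] {ι : Type} [Fintype ι] [DecidableEq ι] {Q : QuadraticForm F (ι → F)}

/-- dimensions and types of the eigenspaces of an involution in Omega -/
theorem omega_invol_split (h2 : (2 : F) ≠ 0) (hQ : (QuadraticMap.polarBilin Q).Nondegenerate) (hn : 5 ≤ Fintype.card ι)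
    {x : GL ι F} (hx : x ∈ Cfsg.Geo.omegaGL ⇑Q) {T : (ι → F) →ₗ[F] (ι → F)} (hT : T = Matrix.toLin' (x : Matrix ι ι F))
    (hTT : ∀ v, T (T v) = v) :
    ∃ b, Module.finrank F (LinearMap.ker (T + 1)) = 2 * b ∧
      Module.finrank F (LinearMap.ker (T - 1)) + 2 * b = Fintype.card ι ∧
      (IsSquare (-1 : F) → QPlus Q (LinearMap.ker (T + 1))) ∧
      ((x : Matrix ι ι F) ≠ (1 : F) • 1 → 1 ≤ b) ∧
      ((x : Matrix ι ι F) ≠ (-1 : F) • 1 → 0 < Module.finrank F (LinearMap.ker (T - 1))) ∧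
      (∀ a, Module.finrank F (LinearMap.ker (T - 1)) = 2 * a →
        (QPlus Q ⊤ ↔ (QPlus Q (LinearMap.ker (T - 1)) ↔ QPlus Q (LinearMap.ker (T + 1))))) := by
  subst hT
  obtain ⟨⟨b, hb⟩, hplus⟩ := omega_invol_plus h2 hQ hn hx hTT
  have hI : ∀ v, Q (Matrix.toLin' (x : Matrix ι ι F) v) = Q v := fun v => by
    rw [Matrix.toLin'_apply]; exact mem_isometryGroup_iff.1 (mem_iso_of_omega hx) v
  obtain ⟨hc, hAn, hBn, ho, -⟩ := invol_parts h2 hQ hI hTT
  have hsum := Submodule.finrank_add_eq_of_isCompl hc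
  rw [Module.finrank_fintype_fun_eq_card] at hsum
  refine ⟨b, by omega, by omega, hplus, fun h1 => ?_, fun h1 => ?_, fun a ha => ?_⟩
  · by_contra hb0
    refine h1 ?_
    rw [one_smul]
    refine Matrix.toLin'.injective (LinearMap.ext fun v => ?_)
    rw [Matrix.toLin'_one, LinearMap.id_apply]
    have h0 : LinearMap.ker (Matrix.toLin' (x : Matrix ι ι F) + 1) = ⊥ := Submodule.finrank_eq_zero.1 (by omega)
    have hm : v - Matrix.toLin' (x : Matrix ι ι F) v ∈ LinearMap.ker (Matrix.toLin' (x : Matrix ι ι F) + 1) := by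
      rw [LinearMap.mem_ker, LinearMap.add_apply, Module.End.one_apply, map_sub, hTT]; abel
    rw [h0, Submodule.mem_bot, sub_eq_zero] at hm
    exact hm.symm
  · refine Nat.pos_of_ne_zero fun hA0 => h1 ?_
    rw [neg_one_smul]
    refine Matrix.toLin'.injective (LinearMap.ext fun v => ?_)
    rw [map_neg, Matrix.toLin'_one, LinearMap.neg_apply, LinearMap.id_apply]
    have h0 : LinearMap.ker (Matrix.toLin' (x : Matrix ι ι F) - 1) = ⊥ := Submodule.finrank_eq_zero.1 hA0
    have hm : v + Matrix.toLin' (x : Matrix ι ι F) v ∈ LinearMap.ker (Matrix.toLin' (x : Matrix ι ι F) - 1) := by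
      rw [LinearMap.mem_ker, LinearMap.sub_apply, Module.End.one_apply, map_add, hTT]; abel
    rw [h0, Submodule.mem_bot, add_eq_zero_iff_eq_neg'] at hm
    exact hm
  · have h := qplus_sup_iff hAn hBn ho ha (h' := b) (by omega)
    rwa [hc.sup_eq_top] at h

/-- an anisotropic negated part bounds the invariant totally singular subspaces -/
theorem invol_aniso_bound (h2 : (2 : F) ≠ 0) (hQ : (QuadraticMap.polarBilin Q).Nondegenerate)
    {T : (ι → F) →ₗ[F] (ι → F)} (hI : ∀ v, Q (T v) = Q v) (hTT : ∀ v, T (T v) = v)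
    (han : ∀ u ∈ LinearMap.ker (T + 1), Q u = 0 → u = 0) {W : Submodule F (ι → F)} (hW0 : ∀ u ∈ W, Q u = 0)
    (hW : ∀ u ∈ W, T u ∈ W) :
    2 * Module.finrank F W ≤ Module.finrank F (LinearMap.ker (T - 1)) ∧
      (2 * Module.finrank F W = Module.finrank F (LinearMap.ker (T - 1)) → QPlus Q (LinearMap.ker (T - 1))) := by
  obtain ⟨hc, hAn, hBn, -, hsplit⟩ := invol_parts h2 hQ hI hTT
  have hB0 : W ⊓ LinearMap.ker (T + 1) = ⊥ := eq_bot_iff.2 fun u hu =>
    (Submodule.mem_bot F).2 (han u hu.2 (hW0 u hu.1))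
  have hd := hsplit W hW
  rw [hB0, finrank_bot, Nat.add_zero] at hd
  rw [hd]
  exact (ts_sub_iff hAn _).1 ⟨_, inf_le_right, fun u hu => hW0 u hu.1, rfl⟩

end CfsgLib.Perm.Elusive
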