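import Mathlib
import Cfsg.Agent.Lib.Perm.Elusive.OrthStd
import Cfsg.Agent.Lib.Perm.Elusive.OrthInvolTwo

/-!
# Elements of order two of orthogonal groups in characteristic two
-/

set_option autoImplicit false
set_option linter.all false

namespace CfsgLib.Perm.Elusive

open CfsgLib.Classical CfsgLib.Orth
open scoped Matrix

variable {F : Type*} [Field F] [Fintype F] {ι : Type} [Fintype ι] [DecidableEq ι]

/-- Omega in characteristic two: scalar squares are involutions of even rank -/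
theorem two_char_iff (h2 : (2 : F) = 0) {Q : QuadraticForm F (ι → F)} (hQ : (QuadraticMap.polarBilin Q).Nondegenerate)
    (hn : 5 ≤ Fintype.card ι) (P : Submodule F (ι → F) → Prop) :
    (∀ x : GL ι F, x ∈ Cfsg.Geo.omegaGL ⇑Q → (∃ z : F, ((x ^ 2 : GL ι F) : Matrix ι ι F) = z • (1 : Matrix ι ι F)) →
      (∀ z : F, (x : Matrix ι ι F) ≠ z • (1 : Matrix ι ι F)) →
      ∃ W : Submodule F (ι → F), P W ∧ W.map (Matrix.toLin' (x : Matrix ι ι F)) ≤ W) ↔
    ∀ T : (ι → F) →ₗ[F] (ι → F), (∀ v, Q (T v) = Q v) → (∀ v, T (T v) = v) →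
      Even (Module.finrank F (LinearMap.range (T - 1))) → T ≠ 1 →
      ∃ W : Submodule F (ι → F), P W ∧ ∀ u ∈ W, T u ∈ W := by
  haveI : Nonempty ι := Fintype.card_pos_iff.1 (by omega)
  have hone : ∀ z : F, z * z = 1 → z = 1 := fun z hz => by
    rcases mul_self_eq_one_iff.1 hz with h | h
    · exact h
    · linear_combination h - h2
  constructor
  · intro hL T hI hTT hev hT1
    obtain ⟨x, hx, hxv⟩ := exists_gl_of_pow two_ne_zero (show T ^ 2 = 1 from LinearMap.ext fun v => by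
      rw [sq, Module.End.mul_apply, hTT]; rfl)
    have hTx : Matrix.toLin' (x : Matrix ι ι F) = T := LinearMap.ext fun v => by rw [Matrix.toLin'_apply, hxv]
    have hmem : x ∈ Cfsg.Geo.omegaGL ⇑Q := omega_of_even_rank h2 hQ hn
      (mem_isometryGroup_iff.2 fun v => by rw [hxv]; exact hI v) (by rwa [hTx])
    obtain ⟨W, hP, hW⟩ := hL x hmem ⟨1, by rw [hx, one_smul, Units.val_one]⟩ (fun z hz => hT1 (by
      have hTz : ∀ v, T v = z • v := fun v => by rw [← hxv, hz, Matrix.smul_mulVec, Matrix.one_mulVec]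
      have hz1 := hone z (scalar_square hQ fun v => by rw [← hTz]; exact hI v)
      exact LinearMap.ext fun v => by rw [hTz, hz1, one_smul]; rfl))
    exact ⟨W, hP, fun u hu => by rw [← hTx]; exact hW ⟨u, hu, rfl⟩⟩
  · intro hL x hx ⟨z, hxz⟩ hns
    obtain ⟨T, hT⟩ : ∃ T, T = Matrix.toLin' (x : Matrix ι ι F) := ⟨_, rfl⟩
    have hxI := mem_isometryGroup_iff.1 (mem_iso_of_omega hx)
    have hI : ∀ v, Q (T v) = Q v := fun v => by rw [hT, Matrix.toLin'_apply]; exact hxI v
    have hTT' : ∀ v, T (T v) = z • v := fun v => by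
      rw [hT, Matrix.toLin'_apply, Matrix.toLin'_apply, Matrix.mulVec_mulVec, ← Units.val_mul, ← sq, hxz,
        Matrix.smul_mulVec, Matrix.one_mulVec]
    have hz := hone z (scalar_square hQ fun v => by rw [← hTT', hI, hI])
    have hwrk := CfsgLib.Perm.Trans.Quad.wrk_even (nd_of_qf Q hQ) hn hx
    rw [wrk, moved, show disp x = -(T - 1) from LinearMap.ext fun v => by
      simp [disp_apply, hT, Matrix.toLin'_apply], LinearMap.range_neg] at hwrk
    obtain ⟨W, hP, hW⟩ := hL T hI (fun v => by rw [hTT', hz, one_smul]) hwrk (fun e => hns 1 (by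
      rw [one_smul]
      exact Matrix.toLin'.injective (hT.symm.trans (e.trans Matrix.toLin'_one.symm))))
    exact ⟨W, hP, by rintro _ ⟨u, hu, rfl⟩; rw [← hT]; exact hW u hu⟩

/-- the plus form: no invariant subspace of dimension 2 modulo 4 -/
theorem exists_invol_plus_obstruction [CharP F 2] {d : ℕ} (hd : Even d) (hd0 : 0 < d) :
    ∃ T : (Fin d ⊕ Fin d → F) →ₗ[F] (Fin d ⊕ Fin d → F), (∀ v, plusQ d F (T v) = plusQ d F v) ∧
      (∀ v, T (T v) = v) ∧ Even (Module.finrank F (LinearMap.range (T - 1))) ∧ T ≠ 1 ∧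
      ∀ W : Submodule F (Fin d ⊕ Fin d → F), (∀ u ∈ W, T u ∈ W) → QNd (plusQ d F) W →
        ∀ j, Module.finrank F W = 2 * j → Even j := by
  haveI : Fact (Nat.Prime 2) := ⟨Nat.prime_two⟩
  have h2 : (2 : F) = 0 := CharTwo.two_eq_zero
  obtain ⟨T, hI, hTp, -, hsing, hr⟩ := exists_plus_square_zero (F := F) (p := 2) d
  obtain ⟨d', hd'⟩ := hd
  have hTT : ∀ v, T (T v) = v := fun v => by rw [← Module.End.mul_apply, ← sq, hTp]; rfl
  refine ⟨T, fun v => by rw [plusQ_coe]; exact hI v, hTT, ⟨d', by omega⟩, fun e => ?_, fun W hW hWn j hj => ?_⟩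
  · rw [e, sub_self, LinearMap.range_zero, finrank_bot] at hr
    omega
  obtain ⟨a, b, ⟨a', ha⟩, -, hab, ha2, hb2, -⟩ := invol_rank_bound h2 (Q := plusQ d F)
    (fun v => by rw [plusQ_coe]; exact hI v) hTT (plusQ_nondeg d) (fun v => by rw [plusQ_coe]; exact hsing v) hW hWn
  rw [hr] at hab
  rw [Module.finrank_fintype_fun_eq_card, Fintype.card_sum, Fintype.card_fin] at hb2
  exact ⟨a', by omega⟩

/-- the minus form: no elliptic invariant subspace of dimension divisible by 4 -/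
theorem exists_invol_minus_obstruction [CharP F 2] {k : ℕ} (hk : Even k) (hk0 : 0 < k) {a b : F}
    (hab : ∀ z₁ z₂ : F, z₁ ^ 2 + a * z₁ * z₂ + b * z₂ ^ 2 = 0 → z₁ = 0 ∧ z₂ = 0) :
    ∃ T : ((Fin k ⊕ Fin k) ⊕ Fin 2 → F) →ₗ[F] ((Fin k ⊕ Fin k) ⊕ Fin 2 → F),
      (∀ v, minusQ k F a b (T v) = minusQ k F a b v) ∧
      (∀ v, T (T v) = v) ∧ Even (Module.finrank F (LinearMap.range (T - 1))) ∧ T ≠ 1 ∧
      ∀ W : Submodule F ((Fin k ⊕ Fin k) ⊕ Fin 2 → F), (∀ u ∈ W, T u ∈ W) → QNd (minusQ k F a b) W →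
        ∀ j, Module.finrank F W = 2 * j → Even j → QPlus (minusQ k F a b) W := by
  haveI : Fact (Nat.Prime 2) := ⟨Nat.prime_two⟩
  have h2 : (2 : F) = 0 := CharTwo.two_eq_zero
  obtain ⟨S, hI, hTp, -, hsing, hr⟩ := exists_plus_square_zero (F := F) (p := 2) k
  obtain ⟨k', hk'⟩ := hk
  obtain ⟨T, hT⟩ : ∃ T : ((Fin k ⊕ Fin k) ⊕ Fin 2 → F) →ₗ[F] ((Fin k ⊕ Fin k) ⊕ Fin 2 → F),
      ∀ v, T v = Sum.elim (S fun x => v (.inl x)) (fun x => v (.inr x)) :=
    ⟨{ toFun := fun v => Sum.elim (S fun x => v (.inl x)) (fun x => v (.inr x))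
       map_add' := fun v w => by
        ext (x | x)
        · exact congrFun (map_add S (fun x => v (.inl x)) (fun x => w (.inl x))) x
        · rfl
       map_smul' := fun c v => by
        ext (x | x)
        · exact congrFun (map_smul S c (fun x => v (.inl x))) x
        · rfl }, fun v => rfl⟩
  have hN : ∀ v, (T - 1) v = Sum.elim ((S - 1) fun x => v (.inl x)) 0 := fun v => by
    rw [LinearMap.sub_apply, Module.End.one_apply, hT]
    ext (x | x) <;> simp
  have hTI : ∀ v, minusQ k F a b (T v) = minusQ k F a b v := fun v => by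
    have h := hI fun x => v (.inl x)
    rw [minusQ_coe, hT]
    simp only [Cfsg.quadFormMinus, Cfsg.quadFormPlus, Sum.elim_inl, Sum.elim_inr] at h ⊢
    rw [h]
  have hTT : ∀ v, T (T v) = v := fun v => by
    rw [hT, hT]
    ext (x | x)
    · show S (fun y => (S fun x => v (.inl x)) y) x = v (.inl x)
      rw [← Module.End.mul_apply, ← sq, hTp]
      rfl
    · rfl
  have hrT : Module.finrank F (LinearMap.range (T - 1)) = k := by
    obtain ⟨inc, hinc⟩ : ∃ inc : (Fin k ⊕ Fin k → F) →ₗ[F] ((Fin k ⊕ Fin k) ⊕ Fin 2 → F), ∀ u, inc u = Sum.elim u 0 :=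
      ⟨{ toFun := fun u => Sum.elim u 0
         map_add' := fun u w => by ext (x | x) <;> simp
         map_smul' := fun c u => by ext (x | x) <;> simp }, fun u => rfl⟩
    have hincI : Function.Injective inc := fun u w e => by
      rw [hinc, hinc] at e
      funext x
      exact congrFun e (.inl x)
    have : LinearMap.range (T - 1) = (LinearMap.range (S - 1)).map inc := le_antisymm
      (by rintro _ ⟨v, rfl⟩; exact ⟨_, ⟨fun x => v (.inl x), rfl⟩, by rw [hinc, hN]⟩)
      (by rintro _ ⟨_, ⟨u, rfl⟩, rfl⟩; exact ⟨Sum.elim u 0, by rw [hinc, hN]; rfl⟩)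
    rw [this, ← (Submodule.equivMapOfInjective inc hincI _).finrank_eq, hr]
    omega
  refine ⟨T, hTI, hTT, ⟨k', by omega⟩, fun e => ?_, fun W hW hWn j hj ⟨j', hje⟩ => ?_⟩
  · rw [e, sub_self, LinearMap.range_zero, finrank_bot] at hrT
    omega
  obtain ⟨s, t, ⟨s', hs⟩, ⟨t', ht⟩, hst, hs2, ht2, hplus⟩ := invol_rank_bound h2 (Q := minusQ k F a b) hTI hTT
    (minusQ_nondeg hab k) (fun v => by
      have h := hsing fun x => v (.inl x)
      rw [minusQ_coe, hN]
      simp only [Cfsg.quadFormMinus, Cfsg.quadFormPlus, Sum.elim_inl, Sum.elim_inr] at h ⊢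
      rw [h]
      simp) hW hWn
  rw [hrT] at hst
  rw [Module.finrank_fintype_fun_eq_card, Fintype.card_sum, Fintype.card_sum, Fintype.card_fin, Fintype.card_fin] at ht2
  exact hplus (by omega)

end CfsgLib.Perm.Elusive
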