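import Mathlib
import Cfsg.Agent.Lib.Perm.Elusive.OrthUnipotent
import Cfsg.Agent.Lib.Perm.Elusive.OrthInvolution
import Cfsg.Agent.Lib.Orth.Field.Normal

/-!
# A unipotent element missing a class of odd-dimensional subspaces
-/

set_option autoImplicit false
set_option linter.all false

namespace CfsgLib.Perm.Elusive

open CfsgLib.Classical
open scoped Matrix

variable {F : Type*} [Field F] [Fintype F] {V : Type*} [AddCommGroup V] [Module F V] [FiniteDimensional F V]
variable {Q : QuadraticForm F V} {T : V →ₗ[F] V}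

theorem polar_image_fixed (hI : ∀ v, Q (T v) = Q v) {u k : V} (hk : (T - 1) k = 0) :
    QuadraticMap.polar Q ((T - 1) u) k = 0 := by
  have hTk : T k = k := sub_eq_zero.1 hk
  rw [LinearMap.sub_apply, Module.End.one_apply, QuadraticMap.polar_sub_left, sub_eq_zero]
  conv_lhs => arg 3; rw [← hTk]
  exact polar_map hI u k

/-- where the square of the displacement vanishes its rank is even -/
theorem sq_zero_rank_even (h2 : (2 : F) ≠ 0) (hI : ∀ v, Q (T v) = Q v) {X : Submodule F V}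
    (hX : X.map (T - 1) ≤ X) (hXn : QNd Q X) (hsq : ∀ w ∈ X, (T - 1) ((T - 1) w) = 0) :
    Even (Module.finrank F (X.map (T - 1))) := by
  obtain ⟨f, hf⟩ : ∃ f : X →ₗ[F] V, f = (T - 1).comp X.subtype := ⟨_, rfl⟩
  obtain ⟨β, hβ⟩ : ∃ β : LinearMap.BilinForm F X, ∀ a b : X,
      β a b = QuadraticMap.polar Q ((T - 1) (a : V)) (b : V) :=
    ⟨(qB Q).compl₁₂ ((T - 1).comp X.subtype) X.subtype, fun a b => rfl⟩
  have hA : β.IsAlt := fun a => by
    have h := hI (a : V)
    rw [show T (a : V) = (T - 1) (a : V) + (a : V) by simp, QuadraticMap.map_add (⇑Q),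
      image_singular h2 hI (hsq _ a.2), zero_add, add_eq_left] at h
    rw [hβ]
    exact h
  obtain ⟨C, hC⟩ := Submodule.exists_isCompl (LinearMap.ker f)
  have hCn : Disjoint C (β.orthogonal C) := (disjoint_orth_iff hA.isRefl C).2 fun u hu hu0 => by
    by_contra hno
    push Not at hno
    refine hu0 (Submodule.disjoint_def.1 hC.disjoint u ?_ hu)
    rw [LinearMap.mem_ker, hf]
    by_contra hne
    obtain ⟨v, hv, hv'⟩ := (qnd_iff Q X).1 hXn _ (hX ⟨u, u.2, rfl⟩) hne
    have htop : (⟨v, hv⟩ : X) ∈ LinearMap.ker f ⊔ C := by rw [hC.sup_eq_top]; exact Submodule.mem_top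
    obtain ⟨k, hk, c, hc, hkc⟩ := Submodule.mem_sup.1 htop
    have hk0 : (T - 1) (k : V) = 0 := by
      have := LinearMap.mem_ker.1 hk
      rw [hf] at this
      exact this
    refine hv' ?_
    rw [show v = (k : V) + c from (congrArg Subtype.val hkc).symm, QuadraticMap.polar_add_right,
      polar_image_fixed hI hk0, zero_add, ← hβ]
    exact hno c hc
  obtain ⟨k, hk, -⟩ := block_chain (B := β) hA.isRefl (T := LinearMap.id) (fun a b => rfl) Function.injective_id
    two_pos (S₀ := ⊤) (fun S _ _ hnd hne => by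
      obtain ⟨P, hP, hPn, hPd⟩ := exists_plane hA hnd hne
      exact ⟨P, hP, fun u hu => hu, hPn, hPd⟩) le_top (fun u hu => hu) hCn
  have h1 := Submodule.finrank_add_eq_of_isCompl hC
  have h3 := LinearMap.finrank_range_add_finrank_ker f
  have h4 : LinearMap.range f = X.map (T - 1) := by rw [hf, LinearMap.range_comp, Submodule.range_subtype]
  rw [h4] at h3
  exact ⟨k, by omega⟩

/-- an anisotropic fixed vector next to a half-size singular image -/
theorem exists_fixed_anisotropic {X : Submodule F V} (hX : X.map (T - 1) ≤ X) (hXn : QNd Q X) {h : ℕ}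
    (hd : Module.finrank F X = 2 * h + 1) (hU : Module.finrank F (X.map (T - 1)) = h) :
    ∃ e ∈ X, (T - 1) e = 0 ∧ Q e ≠ 0 := by
  by_contra hno
  push Not at hno
  obtain ⟨f, hf⟩ : ∃ f : X →ₗ[F] V, f = (T - 1).comp X.subtype := ⟨_, rfl⟩
  have h3 := LinearMap.finrank_range_add_finrank_ker f
  have h4 : LinearMap.range f = X.map (T - 1) := by rw [hf, LinearMap.range_comp, Submodule.range_subtype]
  rw [h4, hU, hd] at h3
  obtain ⟨R, hR⟩ : ∃ R : LinearMap.BilinForm F X, ∀ a b : X, R a b = QuadraticMap.polar Q (a : V) b :=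
    ⟨(qB Q).compl₁₂ X.subtype X.subtype, fun a b => rfl⟩
  have hRn : R.Nondegenerate := by
    have key : ∀ u : X, (∀ v, R u v = 0) → u = 0 := fun u hu => by
      by_contra hne
      obtain ⟨v, hv, h'⟩ := (qnd_iff Q X).1 hXn u u.2 fun h => hne (Subtype.ext h)
      exact h' ((hR _ ⟨v, hv⟩).symm.trans (hu _))
    exact ⟨key, fun v hv => key v fun u => by rw [hR, QuadraticMap.polar_comm, ← hR]; exact hv u⟩
  have hz : ∀ a ∈ LinearMap.ker f, Q (a : V) = 0 := fun a ha => hno _ a.2 (by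
    have := LinearMap.mem_ker.1 ha
    rw [hf] at this
    exact this)
  have hle : LinearMap.ker f ≤ R.orthogonal (LinearMap.ker f) := fun a ha b hb => by
    show R b a = 0
    rw [hR, QuadraticMap.polar, show (b : V) + (a : V) = ((b + a : X) : V) from rfl,
      hz _ ((LinearMap.ker f).add_mem hb ha), hz b hb, hz a ha]
    simp
  have h5 := Submodule.finrank_mono hle
  rw [LinearMap.BilinForm.finrank_orthogonal hRn, hd] at h5
  omega

/-- a unipotent element fixing no member of a class of odd dimension -/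
theorem exists_unipotent_no_class {p : ℕ} [Fact p.Prime] [CharP F p] (h2 : (2 : F) ≠ 0) (hp : 3 ≤ p)
    (hN : (QuadraticMap.polarBilin Q).Nondegenerate) {d m : ℕ} (hV : Module.finrank F V = 2 * d) (hde : Even d)
    (hd : 2 ≤ d) (hm : Odd m) (hmd : m < 2 * d) {W₀ : Submodule F V} (hW₀ : QNd Q W₀)
    (hW₀d : Module.finrank F W₀ = m) :
    ∃ T : V →ₗ[F] V, (∀ v, Q (T v) = Q v) ∧ T ^ p = 1 ∧ T ≠ 1 ∧
      ∀ W : Submodule F V, (∀ u ∈ W, T u ∈ W) → QNd Q W →
        ∀ e : W ≃ₗ[F] W₀, (∀ w, Q (e w : V) = Q (w : V)) → False := by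
  classical
  by_contra hall
  push Not at hall
  obtain ⟨h, hh, hX⟩ : ∃ h, h = (if m % 4 = 1 then (m - 1) / 2 else (2 * d - m - 1) / 2) ∧
      ∀ μ : F, μ ≠ 0 → ∃ (U : Submodule F V) (e' : V) (c : F),
        U ≤ (if m % 4 = 1 then W₀ else (qB Q).orthogonal W₀) ∧ (∀ u ∈ U, Q u = 0) ∧ Module.finrank F U = h ∧
        e' ∈ (if m % 4 = 1 then W₀ else (qB Q).orthogonal W₀) ∧ (∀ u ∈ U, QuadraticMap.polar Q u e' = 0) ∧
        Q e' ≠ 0 ∧ Q e' = c * c * μ := by
    refine ⟨_, rfl, fun μ hμ => ?_⟩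
    obtain ⟨P, -, hPn, hPd, -⟩ := exists_sub_type (qnd_top hN) (h := 1) le_rfl (by rw [finrank_top, hV]; omega) True
    obtain ⟨v₀, -, hv₀⟩ := exists_value h2 hPn hPd μ
    have hv0 : Q v₀ ≠ 0 := by rw [hv₀]; exact hμ
    obtain ⟨hLn, hLd⟩ := qnd_line h2 hv0
    obtain ⟨E, hE⟩ : ∃ E, E = (qB Q).orthogonal (Submodule.span F {v₀}) := ⟨_, rfl⟩
    have hc : IsCompl (Submodule.span F {v₀}) E := hE ▸ isCompl_orth (polar_refl Q) hLn
    have hEn : QNd Q E := hE ▸ orth_nd (polar_refl Q) (B := qB Q) hN hLn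
    have hEd := Submodule.finrank_add_eq_of_isCompl hc
    rw [hLd, hV] at hEd
    obtain ⟨ν, L, -, hLi, hL⟩ := CfsgLib.Orth.FieldCls.exists_odd_normal h2 (Q.comp E.subtype) (qnd_restrict hEn)
      (m := d - 1) (by omega)
    obtain ⟨ψ, hψ⟩ : ∃ ψ : (Unit ⊕ (Fin (d - 1) ⊕ Fin (d - 1)) → F) ≃ₗ[F] E, ∀ z, ψ z = L z :=
      ⟨LinearMap.linearEquivOfInjective L hLi (by
        rw [Module.finrank_fintype_fun_eq_card, Fintype.card_sum, Fintype.card_sum, Fintype.card_unit, Fintype.card_fin]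
        omega), fun z => rfl⟩
    obtain ⟨inc, hinc⟩ : ∃ inc : (Unit ⊕ (Fin (d - 1) ⊕ Fin (d - 1)) → F) →ₗ[F] V, ∀ z, inc z = (ψ z : V) :=
      ⟨E.subtype.comp ψ.toLinearMap, fun z => rfl⟩
    obtain ⟨π, hπ⟩ : ∃ π, π = LinearMap.ofIsCompl hc 0 ψ.symm.toLinearMap := ⟨_, rfl⟩
    have hπi : ∀ z, π (inc z) = z := fun z => by
      rw [hπ, hinc, LinearMap.ofIsCompl_apply_right, LinearEquiv.coe_coe, LinearEquiv.symm_apply_apply]
    have hπ0 : ∀ c : F, π (c • v₀) = 0 := fun c => by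
      rw [hπ, show c • v₀ = ((⟨c • v₀, Submodule.smul_mem _ _ (Submodule.mem_span_singleton_self v₀)⟩ :
        Submodule.span F {v₀}) : V) from rfl, LinearMap.ofIsCompl_apply_left, LinearMap.zero_apply]
    have hsplit : ∀ v, ∃ (c : F) (z : _), v = c • v₀ + inc z := fun v => by
      have hv : v ∈ Submodule.span F {v₀} ⊔ E := by rw [hc.sup_eq_top]; exact Submodule.mem_top
      obtain ⟨a, ha, b, hb, rfl⟩ := Submodule.mem_sup.1 hv
      obtain ⟨c, rfl⟩ := Submodule.mem_span_singleton.1 ha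
      exact ⟨c, ψ.symm ⟨b, hb⟩, by rw [hinc, LinearEquiv.apply_symm_apply]⟩
    have hQs : ∀ (c : F) z, Q (c • v₀ + inc z) = c * c * μ + ν * Cfsg.quadFormOdd (d - 1) F z := fun c z => by
      have ho : QuadraticMap.polar Q v₀ (inc z) = 0 := by
        rw [hinc]
        exact (show (ψ z : V) ∈ (qB Q).orthogonal (Submodule.span F {v₀}) from hE ▸ (ψ z).2) v₀
          (Submodule.mem_span_singleton_self v₀)
      rw [QuadraticMap.map_add (⇑Q), QuadraticMap.map_smul, QuadraticMap.polar_smul_left, ho, hv₀, smul_zero, add_zero,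
        smul_eq_mul, hinc, hψ]
      exact congrArg _ (hL z)
    obtain ⟨S, hSI, -, hS3, hS2, hS1, hSk⟩ := exists_odd_unipotent (F := F) (p := p) h2 hp (d - 1)
    obtain ⟨N, hNdef⟩ : ∃ N : V →ₗ[F] V, N = inc.comp ((S - 1).comp π) := ⟨_, rfl⟩
    have hNv : ∀ v, N v = inc ((S - 1) (π v)) := fun v => by rw [hNdef]; rfl
    obtain ⟨T, hT⟩ : ∃ T : V →ₗ[F] V, T = 1 + N := ⟨_, rfl⟩
    have hT1' : T - 1 = N := by rw [hT]; exact add_sub_cancel_left _ _
    have hI : ∀ v, Q (T v) = Q v := fun v => by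
      obtain ⟨c, z, rfl⟩ := hsplit v
      rw [hT, LinearMap.add_apply, Module.End.one_apply, hNv, map_add π, hπ0, hπi, zero_add, add_assoc, ← map_add,
        show z + (S - 1) z = S z by simp, hQs, hQs, hSI]
    have hN3 : ∀ v, N (N (N v)) = 0 := fun v => by rw [hNv, hNv, hNv, hπi, hπi, hS3, map_zero]
    have hTp : T ^ p = 1 := by
      rw [hT]
      refine one_add_pow_char N ?_
      obtain ⟨k, hk⟩ : ∃ k, p = k + 3 := ⟨p - 3, by omega⟩
      rw [hk, pow_add, show N ^ 3 = 0 from LinearMap.ext fun v => by simp [pow_succ, Module.End.mul_apply, hN3],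
        mul_zero]
    have hinci : Function.Injective inc := fun a b hab => by
      have := congrArg π hab
      rwa [hπi, hπi] at this
    have hNj : ∀ (j : ℕ) v, (N ^ (j + 1)) v = inc (((S - 1) ^ (j + 1)) (π v)) := fun j => by
      induction j with
      | zero => intro v; rw [pow_one, pow_one]; exact hNv v
      | succ j ih => intro v; rw [pow_succ', Module.End.mul_apply, ih, hNv, hπi]; simp only [pow_succ', Module.End.mul_apply]
    have hrk : ∀ j, powRank N ⊤ (j + 1) = powRank (S - 1) ⊤ (j + 1) := fun j => by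
      rw [powRank, powRank, Submodule.map_top, Submodule.map_top,
        show LinearMap.range (N ^ (j + 1)) = (LinearMap.range ((S - 1) ^ (j + 1))).map inc from le_antisymm
          (by rintro _ ⟨v, rfl⟩; exact ⟨_, ⟨π v, rfl⟩, (hNj j v).symm⟩)
          (by rintro _ ⟨_, ⟨z, rfl⟩, rfl⟩; exact ⟨inc z, by rw [hNj, hπi]⟩)]
      exact (Submodule.equivMapOfInjective inc hinci _).finrank_eq.symm
    have hR1 : powRank N ⊤ 1 = d := by
      rw [hrk 0, hS1]
      obtain ⟨w, hw⟩ := hde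
      omega
    have hR2 : powRank N ⊤ 2 = 1 := by
      rw [hrk 1, hS2]
      obtain ⟨w, hw⟩ := hde
      omega
    have hTne : T ≠ 1 := fun e => by
      rw [← hT1', e, sub_self, powRank, pow_one, Submodule.map_zero, finrank_bot] at hR1
      omega
    obtain ⟨W, hW, hWn, e, he, -⟩ := hall T hI hTp hTne
    have hWd : Module.finrank F W = m := e.finrank_eq.trans hW₀d
    obtain ⟨hA, hB, hsum, hR⟩ := rank_split hI (injective_of_pow_eq_one (r := p) hTp) hW hWn
    rw [hWd, hV] at hsum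
    have hc1 := powRank_convex (T - 1) hA 0
    have hc2 := powRank_convex (T - 1) hB 0
    have e1 := hR 1
    have e2 := hR 2
    rw [powRank_zero, zero_add, zero_add] at hc1 hc2
    rw [hWd] at hc1
    rw [hT1'] at hc1 hc2 e1 e2
    rw [hR1] at e1
    rw [hR2] at e2
    have hker : ∀ v, (T - 1) v = 0 → ∃ (u : V) (c : F), v = (T - 1) u + c • v₀ := fun v hv => by
      rw [hT1'] at hv ⊢
      obtain ⟨c, z, rfl⟩ := hsplit v
      rw [hNv, map_add π, hπ0, hπi, zero_add] at hv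
      obtain ⟨y, hy⟩ := hSk (by obtain ⟨w, hw⟩ := hde; exact ⟨w - 1, by omega⟩) z
        (hinci (hv.trans (map_zero inc).symm))
      exact ⟨inc y, c, by rw [hNv, hπi, ← hy, add_comm]⟩
    have hfix : T v₀ = v₀ := by
      rw [hT, LinearMap.add_apply, Module.End.one_apply, hNv, show π v₀ = π ((1 : F) • v₀) by rw [one_smul], hπ0]
      simp
    have data : ∀ (X : Submodule F V), X.map (T - 1) ≤ X → QNd Q X → ∀ g, Module.finrank F X = 2 * g + 1 →
        powRank N X 2 = 0 → powRank N X 1 = g → ∃ (U : Submodule F V) (e' : V) (c : F),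
          U ≤ X ∧ (∀ u ∈ U, Q u = 0) ∧ Module.finrank F U = g ∧ e' ∈ X ∧
          (∀ u ∈ U, QuadraticMap.polar Q u e' = 0) ∧ Q e' ≠ 0 ∧ Q e' = c * c * μ ∧ Even g := by
      intro X hXm hXn g hg h02 h01
      have hsq : ∀ w ∈ X, (T - 1) ((T - 1) w) = 0 := fun w hw => by
        have := map_zero_of_rank h02 w hw
        rw [sq, Module.End.mul_apply] at this
        rwa [hT1']
      have hU : Module.finrank F (X.map (T - 1)) = g := by
        rw [← h01, powRank, pow_one, hT1']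
      obtain ⟨e', he', he'0, he'Q⟩ := exists_fixed_anisotropic hXm hXn hg hU
      obtain ⟨c, hc'⟩ := fixed_class h2 hI hker hfix he'0
      rw [hv₀] at hc'
      refine ⟨_, e', c, hXm, ?_, hU, he', ?_, he'Q, hc', hU ▸ sq_zero_rank_even h2 hI hXm hXn hsq⟩
      · rintro _ ⟨w, hw, rfl⟩
        exact image_singular h2 hI (hsq w hw)
      · rintro _ ⟨w, -, rfl⟩
        exact polar_image_fixed hI he'0
    obtain ⟨g, hg, hgW⟩ := CfsgLib.Perm.Trans.Witt.witt_extension hN W (W₀.subtype.comp e.toLinearMap)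
      ((Submodule.injective_subtype _).comp e.injective) he
    have hgO : ∀ u ∈ (qB Q).orthogonal W, g u ∈ (qB Q).orthogonal W₀ := fun u hu w hw => by
      show QuadraticMap.polar Q w (g u) = 0
      have hw' : w = g ((e.symm ⟨w, hw⟩ : W) : V) := by
        rw [hgW, LinearMap.comp_apply, LinearEquiv.coe_coe, LinearEquiv.apply_symm_apply]; rfl
      rw [hw', ← LinearEquiv.coe_coe, polar_map (T := g.toLinearMap) hg]
      exact hu _ (e.symm ⟨w, hw⟩).2
    have hgW' : ∀ u ∈ W, g u ∈ W₀ := fun u hu => by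
      rw [show u = ((⟨u, hu⟩ : W) : V) from rfl, hgW]
      exact (e ⟨u, hu⟩).2
    have transfer : ∀ X X' : Submodule F V, (∀ u ∈ X, g u ∈ X') → ∀ U : Submodule F V, U ≤ X → (∀ u ∈ U, Q u = 0) →
        ∀ e' ∈ X, (∀ u ∈ U, QuadraticMap.polar Q u e' = 0) →
        U.map g.toLinearMap ≤ X' ∧ (∀ u ∈ U.map g.toLinearMap, Q u = 0) ∧
        Module.finrank F (U.map g.toLinearMap) = Module.finrank F U ∧ g e' ∈ X' ∧
        ∀ u ∈ U.map g.toLinearMap, QuadraticMap.polar Q u (g e') = 0 := by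
      intro X X' hXX U hU hU0 e' he' ho
      refine ⟨?_, ?_, LinearEquiv.finrank_map_eq _ _, hXX _ he', ?_⟩
      · rintro _ ⟨u, hu, rfl⟩; exact hXX u (hU hu)
      · rintro _ ⟨u, hu, rfl⟩; exact (hg u).trans (hU0 u hu)
      · rintro _ ⟨u, hu, rfl⟩
        exact (polar_map (T := g.toLinearMap) hg u e').trans (ho u hu)
    have hOd : Module.finrank F ((qB Q).orthogonal W) = 2 * d - m := by omega
    have hm2 := Nat.odd_iff.1 hm
    obtain ⟨w, hw⟩ := hde
    by_cases hw2 : powRank N W 2 = 0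
    · obtain ⟨U, e', c, h1, h2', h3, h4, h5, h6, h7, ⟨s, hs⟩⟩ := data W hA hWn ((m - 1) / 2) (by omega) hw2 (by omega)
      have hm4 : m % 4 = 1 := by omega
      obtain ⟨t1, t2, t3, t4, t5⟩ := transfer W W₀ hgW' U h1 h2' e' h4 h5
      rw [if_pos hm4, if_pos hm4]
      exact ⟨_, _, c, t1, t2, t3.trans h3, t4, t5, by rw [hg]; exact h6, by rw [hg]; exact h7⟩
    · have hx2 : powRank N ((qB Q).orthogonal W) 2 = 0 := by omega
      obtain ⟨U, e', c, h1, h2', h3, h4, h5, h6, h7, ⟨s, hs⟩⟩ :=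
        data _ hB (orth_nd (polar_refl Q) (B := qB Q) hN hWn) ((2 * d - m - 1) / 2) (by omega) hx2 (by omega)
      have hm4 : ¬ m % 4 = 1 := by omega
      obtain ⟨t1, t2, t3, t4, t5⟩ := transfer _ _ hgO U h1 h2' e' h4 h5
      rw [if_neg hm4, if_neg hm4]
      exact ⟨_, _, c, t1, t2, t3.trans h3, t4, t5, by rw [hg]; exact h6, by rw [hg]; exact h7⟩
  have hrc : ringChar F ≠ 2 := fun hc => by
    rw [ringChar.eq F p] at hc
    omega
  obtain ⟨γ, hγ⟩ := FiniteField.exists_nonsquare hrc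
  have hγ0 : γ ≠ 0 := fun e => hγ (e ▸ IsSquare.zero)
  obtain ⟨U₁, e₁, c₁, a1, a2, a3, a4, a5, a6, a7⟩ := hX 1 one_ne_zero
  obtain ⟨U₂, e₂, c₂, b1, b2, b3, b4, b5, b6, b7⟩ := hX γ hγ0
  obtain ⟨X, hXdef⟩ : ∃ X, X = (if m % 4 = 1 then W₀ else (qB Q).orthogonal W₀) := ⟨_, rfl⟩
  rw [← hXdef] at a1 a4 b1 b4
  have hXn : QNd Q X := by
    rw [hXdef]; split_ifs
    · exact hW₀
    · exact orth_nd (polar_refl Q) (B := qB Q) hN hW₀
  have hXd : Module.finrank F X = 2 * h + 1 := by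
    have hs := Submodule.finrank_add_eq_of_isCompl (isCompl_orth (polar_refl Q) (B := qB Q) hW₀)
    rw [hW₀d, hV] at hs
    have hm2 := Nat.odd_iff.1 hm
    rw [hh]
    by_cases h4 : m % 4 = 1
    · rw [if_pos h4] at hXdef ⊢; rw [hXdef]; omega
    · rw [if_neg h4] at hXdef ⊢; rw [hXdef]; omega
  obtain ⟨c, hc⟩ := odd_class_unique h2 hXn hXd b1 a1 b2 a2 b3 a3 b4 a4 b5 a5 a6
  rw [b7, a7, mul_one] at hc
  have hc₂ : c₂ ≠ 0 := fun e => b6 (by rw [b7, e, zero_mul, zero_mul])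
  refine hγ ⟨c * c₁ / c₂, ?_⟩
  field_simp
  linear_combination hc

end CfsgLib.Perm.Elusive
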