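import Mathlib
import Cfsg.Agent.Lib.Perm.Elusive.OverFieldTwo
import Cfsg.Agent.Lib.Perm.Trans.Symp

/-!
# Test elements for overfield subgroups of symplectic groups
-/

set_option autoImplicit false
set_option linter.all false

namespace CfsgLib.Perm.Elusive.OverField

open Cfsg.Geo
open scoped Matrix

variable {F : Type*} [Field F] [Fintype F] {d : ℕ}

omit [Fintype F] in
theorem finrank_std : Module.finrank F (Fin d ⊕ Fin d → F) = 2 * d := by
  rw [Module.finrank_fintype_fun_eq_card, Fintype.card_sum, Fintype.card_fin]; ring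

omit [Fintype F] in
/-- isometries as elements of the symplectic group -/
theorem exists_sp_of_equiv (G : (Fin d ⊕ Fin d → F) ≃ₗ[F] (Fin d ⊕ Fin d → F))
    (hG : ∀ x y, CfsgLib.Classical.SympCount.sB d F (G x) (G y) = CfsgLib.Classical.SympCount.sB d F x y) :
    ∃ g : GL (Fin d ⊕ Fin d) F, g ∈ Cfsg.spGL d F ∧ ∀ v, (g : Matrix (Fin d ⊕ Fin d) (Fin d ⊕ Fin d) F) *ᵥ v = G v := by
  refine ⟨⟨LinearMap.toMatrix' (G : (Fin d ⊕ Fin d → F) →ₗ[F] (Fin d ⊕ Fin d → F)),
    LinearMap.toMatrix' (G.symm : (Fin d ⊕ Fin d → F) →ₗ[F] (Fin d ⊕ Fin d → F)),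
    by rw [← LinearMap.toMatrix'_comp, LinearEquiv.comp_coe, LinearEquiv.symm_trans_self, LinearEquiv.refl_toLinearMap, LinearMap.toMatrix'_id],
    by rw [← LinearMap.toMatrix'_comp, LinearEquiv.comp_coe, LinearEquiv.self_trans_symm, LinearEquiv.refl_toLinearMap, LinearMap.toMatrix'_id]⟩,
    fun u v => ?_, fun v => by rw [LinearMap.toMatrix'_mulVec]; rfl⟩
  show Cfsg.sympForm d F (LinearMap.toMatrix' (G : (Fin d ⊕ Fin d → F) →ₗ[F] (Fin d ⊕ Fin d → F)) *ᵥ u)
    (LinearMap.toMatrix' (G : (Fin d ⊕ Fin d → F) →ₗ[F] (Fin d ⊕ Fin d → F)) *ᵥ v) = _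
  rw [LinearMap.toMatrix'_mulVec, LinearMap.toMatrix'_mulVec]
  exact hG u v

omit [Fintype F] in
/-- the standard frame -/
theorem std_pairs : IsPairs (CfsgLib.Classical.SympCount.sB d F) (fun _ : Fin d => (-1 : F))
    (fun j => Pi.single (.inl j) 1) (fun j => Pi.single (.inr j) 1) := by
  constructor <;> intros <;>
    simp [CfsgLib.Classical.SympCount.sB_apply, CfsgLib.Sp.sf, Cfsg.sympForm, Matrix.J, dotProduct, Matrix.mulVec,
      Fintype.sum_sum_type, Pi.single_apply, Matrix.one_apply, Finset.sum_ite_eq']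
  all_goals tauto

omit [Fintype F] in
/-- a transvection -/
theorem exists_transvection (hd : 0 < d) (p : ℕ) [CharP F p] :
    ∃ x : GL (Fin d ⊕ Fin d) F, x ∈ Cfsg.spGL d F ∧ x ^ p = 1 ∧
      Module.finrank F (LinearMap.ker (Matrix.toLin' (x : Matrix (Fin d ⊕ Fin d) (Fin d ⊕ Fin d) F) - 1)) + 1 = 2 * d := by
  have hf : Cfsg.Geo.IsSymplecticForm (Cfsg.sympForm d F) := CfsgLib.Perm.Trans.Symp.isSymplecticForm_sympForm
  obtain ⟨u, hu⟩ : ∃ u : Fin d ⊕ Fin d → F, u ≠ 0 :=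
    ⟨Pi.single (.inl ⟨0, hd⟩) 1, fun h => by simpa using congrFun h (.inl ⟨0, hd⟩)⟩
  obtain ⟨v, hv⟩ := (hf.nondegenerate u hu).1
  obtain ⟨x, hx⟩ : ∃ x, x = CfsgLib.Perm.Trans.Symp.stv hf u (1 : F) := ⟨_, rfl⟩
  have hpow : ∀ n : ℕ, x ^ n = CfsgLib.Perm.Trans.Symp.stv hf u (n : F) := fun n => by
    induction n with
    | zero => rw [pow_zero, Nat.cast_zero, CfsgLib.Perm.Trans.Symp.stv_zero]
    | succ n ih => rw [pow_succ, ih, hx, CfsgLib.Perm.Trans.Symp.stv_mul, Nat.cast_succ]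
  refine ⟨x, hx ▸ CfsgLib.Perm.Trans.Symp.stv_iso hf u 1, by rw [hpow, CharP.cast_eq_zero, CfsgLib.Perm.Trans.Symp.stv_zero], ?_⟩
  obtain ⟨N, hN⟩ : ∃ N, N = Matrix.toLin' (x : Matrix (Fin d ⊕ Fin d) (Fin d ⊕ Fin d) F) - 1 := ⟨_, rfl⟩
  have hNv : ∀ w, N w = Cfsg.sympForm d F w u • u := fun w => by
    rw [hN, LinearMap.sub_apply, Matrix.toLin'_apply, hx, CfsgLib.Perm.Trans.Symp.stv_mulVec, Module.End.one_apply]
    simp
  have hR : LinearMap.range N = Submodule.span F {u} := by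
    refine le_antisymm ?_ ?_
    · rintro _ ⟨w, rfl⟩
      rw [hNv]
      exact Submodule.smul_mem _ _ (Submodule.mem_span_singleton_self u)
    · rw [Submodule.span_singleton_le_iff_mem]
      refine ⟨(Cfsg.sympForm d F v u)⁻¹ • v, ?_⟩
      rw [hNv, hf.bilinear.smul_left, inv_mul_cancel₀ hv, one_smul]
  have h := LinearMap.finrank_range_add_finrank_ker N
  rw [hR, finrank_span_singleton hu, finrank_std] at h
  rw [← hN]
  omega

omit [Fintype F] in
/-- an involution negating all pairs but one -/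
theorem exists_invol_one (h2 : (2 : F) ≠ 0) (hd : 2 ≤ d) :
    ∃ x : GL (Fin d ⊕ Fin d) F, x ∈ Cfsg.spGL d F ∧ x ^ 2 = 1 ∧
      Module.finrank F (LinearMap.ker (Matrix.toLin' (x : Matrix (Fin d ⊕ Fin d) (Fin d ⊕ Fin d) F) - 1)) = 2 ∧
      Module.finrank F (LinearMap.ker (Matrix.toLin' (x : Matrix (Fin d ⊕ Fin d) (Fin d ⊕ Fin d) F) + 1)) + 2 = 2 * d := by
  classical
  obtain ⟨s, hs⟩ : ∃ s : Fin d → F, ∀ j, s j = if j.val = 0 then 1 else -1 := ⟨_, fun j => rfl⟩
  have hss : ∀ j, s j * s j = 1 := fun j => by rw [hs]; split_ifs <;> ring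
  have hP := std_pairs (F := F) (d := d)
  have hA := CfsgLib.Classical.SympCount.sB_isAlt (m := d) (F := F)
  obtain ⟨U, hU⟩ : ∃ U : Fin d → (Fin d ⊕ Fin d → F), ∀ j, U j = Pi.single (.inl j) 1 := ⟨_, fun j => rfl⟩
  obtain ⟨W, hW⟩ : ∃ W : Fin d → (Fin d ⊕ Fin d → F), ∀ j, W j = Pi.single (.inr j) 1 := ⟨_, fun j => rfl⟩
  rw [← funext hU, ← funext hW] at hP
  have hP' : IsPairs (CfsgLib.Classical.SympCount.sB d F) (fun _ : Fin d => (-1 : F)) (fun j => s j • U j) (fun j => s j • W j) := by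
    constructor <;> intros <;> simp only [map_smul, LinearMap.smul_apply, smul_eq_mul]
    · rw [hP.val, ← mul_assoc, hss, one_mul]
    · rw [hP.uu, mul_zero, mul_zero]
    · rw [hP.vv, mul_zero, mul_zero]
    · rw [hP.uv _ _ ‹_›, mul_zero, mul_zero]
  have hc : ∀ j : Fin d, (fun _ : Fin d => (-1 : F)) j ≠ 0 := fun j => neg_ne_zero.2 one_ne_zero
  have hcard : Module.finrank F (Fin d ⊕ Fin d → F) = 2 * Fintype.card (Fin d) := by rw [finrank_std, Fintype.card_fin]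
  obtain ⟨G, hG, hGu, hGv⟩ := exists_frame_map hA hc hP hP' hcard
  obtain ⟨x, hx, hxv⟩ := exists_sp_of_equiv G hG
  have hGG : G.toLinearMap.comp G.toLinearMap = LinearMap.id :=
    frame_ext hA hc hP hcard (fun j => by simp [hGu, smul_smul, hss]) (fun j => by simp [hGv, smul_smul, hss])
  refine ⟨x, hx, Units.ext (Matrix.ext_iff_mulVec.2 fun v => ?_), ?_⟩
  · rw [sq, Units.val_mul, ← Matrix.mulVec_mulVec, hxv, hxv, Units.val_one, Matrix.one_mulVec]
    exact LinearMap.congr_fun hGG v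
  obtain ⟨T, hT⟩ : ∃ T, T = Matrix.toLin' (x : Matrix (Fin d ⊕ Fin d) (Fin d ⊕ Fin d) F) := ⟨_, rfl⟩
  rw [← hT]
  have hTv : ∀ v, T v = G v := fun v => by rw [hT, Matrix.toLin'_apply, hxv]
  have hTT : ∀ v, T (T v) = v := fun v => by rw [hTv, hTv]; exact LinearMap.congr_fun hGG v
  obtain ⟨hcm, -⟩ := invol_eigen h2 hA CfsgLib.Classical.SympCount.sB_nondegenerate
    (fun u v => by rw [hTv, hTv]; exact hG u v) hTT
  have hsum := Submodule.finrank_add_eq_of_isCompl hcm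
  rw [finrank_std] at hsum
  have hli := hP.linearIndependent hA hc
  obtain ⟨z, hz⟩ : ∃ z : Fin d, z = ⟨0, by omega⟩ := ⟨_, rfl⟩
  have hsz : s z = 1 := by rw [hs, hz, if_pos rfl]
  have h1 : 2 ≤ Module.finrank F (LinearMap.ker (T - 1)) := by
    have hli' := hli.comp (fun t : Unit ⊕ Unit => Sum.map (fun _ => z) (fun _ => z) t)
      (fun a b hab => by rcases a with ⟨⟨⟩⟩ | ⟨⟨⟩⟩ <;> rcases b with ⟨⟨⟩⟩ | ⟨⟨⟩⟩ <;> simp at hab ⊢)
    have h := Submodule.finrank_mono (R := F) (s := Submodule.span F (Set.range ((Sum.elim U W) ∘ fun t : Unit ⊕ Unit => Sum.map (fun _ => z) (fun _ => z) t)))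
      (t := LinearMap.ker (T - 1)) (Submodule.span_le.2 (by
        rintro _ ⟨(t | t), rfl⟩ <;>
          simp [LinearMap.mem_ker, hTv, hGu, hGv, hsz]))
    rw [finrank_span_eq_card hli', Fintype.card_sum, Fintype.card_unit] at h
    exact h
  have h3 : 2 * (d - 1) ≤ Module.finrank F (LinearMap.ker (T + 1)) := by
    obtain ⟨e, he⟩ : ∃ e : Fin (d - 1) → Fin d, ∀ j, (e j).val = j.val + 1 := ⟨fun j => ⟨j.val + 1, by omega⟩, fun j => rfl⟩
    have hinj : Function.Injective e := fun a b hab => Fin.ext (by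
      have := congrArg Fin.val hab
      rw [he, he] at this
      omega)
    have hse : ∀ j, s (e j) = -1 := fun j => by rw [hs, if_neg (by rw [he]; omega)]
    have hli' := hli.comp (Sum.map e e) (hinj.sumMap hinj)
    have h := Submodule.finrank_mono (R := F) (s := Submodule.span F (Set.range ((Sum.elim U W) ∘ Sum.map e e)))
      (t := LinearMap.ker (T + 1)) (Submodule.span_le.2 (by
        rintro _ ⟨(t | t), rfl⟩ <;>
          simp [LinearMap.mem_ker, hTv, hGu, hGv, hse]))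
    rw [finrank_span_eq_card hli', Fintype.card_sum, Fintype.card_fin] at h
    omega
  omega

end CfsgLib.Perm.Elusive.OverField
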