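import Mathlib
import Cfsg.Agent.Lib.Perm.Elusive.OverFieldTwo
import Cfsg.Agent.Lib.Perm.Elusive.OverFieldElements
import Cfsg.Agent.Lib.Classical.HermOrder

/-!
# Unitary overfield subgroups of symplectic groups
-/

set_option autoImplicit false
set_option linter.all false

namespace CfsgLib.Perm.Elusive.OverField

open Cfsg.Geo
open scoped Matrix

section Frames

variable {F : Type*} [Field F] {V : Type*} [AddCommGroup V] [Module F V] [FiniteDimensional F V] {B : LinearMap.BilinForm F V}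

omit [FiniteDimensional F V] in
theorem IsPairs.reindex {κ κ' : Type*} (e : κ' → κ) (he : Function.Injective e) {c : κ → F} {u v : κ → V}
    (h : IsPairs B c u v) : IsPairs B (fun j => c (e j)) (fun j => u (e j)) (fun j => v (e j)) where
  val j := h.val _
  uu j l := h.uu _ _
  vv j l := h.vv _ _
  uv j l hjl := h.uv _ _ fun h' => hjl (he h')

/-- a skew map with scalar square has a frame -/
theorem exists_skew_pairs [Fintype F] (h2 : (2 : F) ≠ 0) (hA : B.IsAlt) (hN : B.Nondegenerate) {J : V →ₗ[F] V} {δ : F}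
    (hδ : δ ≠ 0) (hskew : ∀ x y, B (J x) y = -B x (J y)) (hJ : ∀ v, J (J v) = δ • v) :
    ∃ (k : ℕ) (w : Fin k → V), Module.finrank F V = 2 * k ∧ IsPairs B (fun _ => (1 : F)) w (fun j => J (w j)) := by
  have hsum : ∀ e : F, ∃ a b : F, a * a - δ * (b * b) = e := fun e => by
    open Polynomial in
    obtain ⟨a, b, hab⟩ := FiniteField.exists_root_sum_quadratic (f := (X ^ 2 : Polynomial F)) (g := C (-δ) * X ^ 2 - C e)
      (by simp) (by
        rw [Polynomial.degree_sub_C (by rw [Polynomial.degree_C_mul_X_pow _ (neg_ne_zero.2 hδ)]; norm_num),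
          Polynomial.degree_C_mul_X_pow _ (neg_ne_zero.2 hδ)]; rfl)
      (FiniteField.odd_card_of_char_ne_two fun h => h2 (by
        haveI : CharP F 2 := ringChar.of_eq h
        exact CharTwo.two_eq_zero))
    simp at hab
    exact ⟨a, b, by linear_combination hab⟩
  have htop : Disjoint (⊤ : Submodule F V) (B.orthogonal ⊤) := by
    rw [CfsgLib.Perm.Elusive.disjoint_orth_iff hA.isRefl]
    intro x _ hx
    by_contra hno
    push Not at hno
    exact hx (hN.1 x fun y => hno y Submodule.mem_top)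
  obtain ⟨k, u, v, hk, hp, hm⟩ := exists_pairs hA one_ne_zero (fun x y => y = J x) (fun W => ∀ x ∈ W, J x ∈ W) _ rfl htop
    (fun x _ => Submodule.mem_top) (fun W _ hWi hW hW0 => by
      obtain ⟨w₀, hw₀, hs⟩ : ∃ w ∈ W, B w (J w) ≠ 0 := by
        by_contra hno
        push Not at hno
        obtain ⟨x, hx, hx0⟩ := Submodule.exists_mem_ne_zero_of_ne_bot hW0
        obtain ⟨y, hy, hxy⟩ := (CfsgLib.Perm.Elusive.disjoint_orth_iff hA.isRefl W).1 hW x hx hx0
        refine hxy ?_
        have h := hno (x + J y) (W.add_mem hx (hWi y hy))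
        have h5 := hno x hx
        have h6 := hno (J y) (hWi y hy)
        rw [hJ, map_smul] at h6
        rw [map_add J, hJ, map_add, map_add, LinearMap.add_apply, LinearMap.add_apply, map_smul, map_smul] at h
        rw [hskew y (J x), hJ, map_smul, ← LinearMap.IsAlt.neg hA x y] at h
        simp only [smul_eq_mul] at h h6
        exact (mul_eq_zero.1 (show (2 * δ) * B x y = 0 by linear_combination h - h5 - h6)).resolve_left
          (mul_ne_zero h2 hδ)
      obtain ⟨a, b, hab⟩ := hsum (B w₀ (J w₀))⁻¹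
      refine ⟨a • w₀ + b • J w₀, W.add_mem (W.smul_mem _ hw₀) (W.smul_mem _ (hWi _ hw₀)), _,
        hWi _ (W.add_mem (W.smul_mem _ hw₀) (W.smul_mem _ (hWi _ hw₀))), ?_, rfl, ?_⟩
      · have e1 : B (J w₀) w₀ = -B w₀ (J w₀) := (LinearMap.IsAlt.neg hA w₀ (J w₀)).symm
        rw [map_add J, map_smul, map_smul, hJ]
        simp only [map_add, map_smul, LinearMap.add_apply, LinearMap.smul_apply, smul_eq_mul, hA w₀, hA (J w₀), e1]
        have h3 := congrArg (fun t => t * B w₀ (J w₀)) hab
        simp only [inv_mul_cancel₀ hs] at h3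
        linear_combination h3
      · intro x hx
        refine ⟨hWi x hx.1, fun y hy => ?_⟩
        show B y (J x) = 0
        have h := hskew y x
        have h3 : B (J y) x = 0 := by
          refine hx.2 (J y) ?_
          obtain ⟨s, t, rfl⟩ := Submodule.mem_span_pair.1 hy
          rw [map_add J (s • _) (t • _), map_smul J s, map_smul J t, hJ]
          exact Submodule.mem_span_pair.2 ⟨t * δ, s, by rw [smul_smul, add_comm]⟩
        rw [h3] at h
        linear_combination h)
  rw [finrank_top] at hk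
  refine ⟨k, u, hk, ?_⟩
  rw [show (fun j => J (u j)) = v from funext fun j => (hm j).2.2.symm]
  exact hp

end Frames

variable {F : Type*} [Field F] [Fintype F] {d : ℕ}

/-- a skew generator of a unitary overfield -/
theorem exists_skew_generator (h2 : (2 : F) ≠ 0) (hd : 0 < d) {K : Subalgebra F (Matrix (Fin d ⊕ Fin d) (Fin d ⊕ Fin d) F)}
    (hK : IsFieldSubalgebra 2 K) (hKf : IsAdjointClosedFor (Cfsg.sympForm d F) K)
    (hKns : ¬ IsSelfAdjointFor (Cfsg.sympForm d F) K) :
    ∃ (E : Matrix (Fin d ⊕ Fin d) (Fin d ⊕ Fin d) F) (δ : F), E ∈ K ∧ ¬ IsSquare δ ∧ E * E = δ • 1 ∧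
      (∀ u v, Cfsg.sympForm d F (E *ᵥ u) v = -Cfsg.sympForm d F u (E *ᵥ v)) ∧
      ∀ a ∈ K, ∃ s t : F, a = s • 1 + t • E := by
  classical
  haveI : Nonempty (Fin d ⊕ Fin d) := ⟨.inl ⟨0, hd⟩⟩
  rw [IsSelfAdjointFor] at hKns
  push Not at hKns
  obtain ⟨k, hk, u₁, v₁, huv⟩ := hKns
  obtain ⟨k', hk', hadj⟩ := hKf k hk
  obtain ⟨B, hB⟩ : ∃ B, B = CfsgLib.Classical.SympCount.sB d F := ⟨_, rfl⟩
  have hBf : ∀ u v, B u v = Cfsg.sympForm d F u v := fun u v => by rw [hB]; rfl
  have hA : B.IsAlt := hB ▸ CfsgLib.Classical.SympCount.sB_isAlt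
  have hN : B.Nondegenerate := hB ▸ CfsgLib.Classical.SympCount.sB_nondegenerate
  have hadj' : ∀ u v, B u (k *ᵥ v) = B (k' *ᵥ u) v := fun u v => by
    rw [← LinearMap.IsAlt.neg hA (k *ᵥ v) u, ← LinearMap.IsAlt.neg hA v (k' *ᵥ u), hBf, hBf, hadj]
  obtain ⟨E, hEdef⟩ : ∃ E, E = k - k' := ⟨_, rfl⟩
  have hE : E ∈ K := hEdef ▸ K.sub_mem hk hk'
  have hskew : ∀ u v, B (E *ᵥ u) v = -B u (E *ᵥ v) := fun u v => by
    rw [hEdef, Matrix.sub_mulVec, Matrix.sub_mulVec, map_sub, map_sub, LinearMap.sub_apply, hadj' u v, hBf (k *ᵥ u), hadj,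
      ← hBf, neg_sub]
  have hns : ∀ c : F, E ≠ c • (1 : Matrix (Fin d ⊕ Fin d) (Fin d ⊕ Fin d) F) := by
    intro c hc
    rcases eq_or_ne c 0 with rfl | hc0
    · rw [zero_smul, hEdef, sub_eq_zero] at hc
      exact huv (hc ▸ hadj u₁ v₁)
    · obtain ⟨x, hx⟩ := exists_ne (0 : Fin d ⊕ Fin d → F)
      obtain ⟨y, hy⟩ := not_forall.1 fun h => hx (hN.1 x h)
      have h := hskew x y
      rw [hc, Matrix.smul_mulVec, Matrix.smul_mulVec, Matrix.one_mulVec, Matrix.one_mulVec, map_smul, map_smul,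
        LinearMap.smul_apply, smul_eq_mul] at h
      exact mul_ne_zero (mul_ne_zero h2 hc0) hy (by linear_combination h)
  letI : Field K := (isField_sub hK).toField
  have hspan : ∀ a ∈ K, ∃ s t : F, a = s • 1 + t • E := by
    have hli : LinearIndependent F ![(⟨1, K.one_mem⟩ : K), ⟨E, hE⟩] := by
      rw [LinearIndependent.pair_iff]
      intro a b hab
      have h := congrArg Subtype.val hab
      simp only [Subalgebra.coe_add, Subalgebra.coe_smul, Subalgebra.coe_zero] at h
      rcases eq_or_ne b 0 with hb | hb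
      · rw [hb, zero_smul, add_zero, smul_eq_zero] at h
        exact ⟨h.resolve_right one_ne_zero, hb⟩
      · refine absurd ?_ (hns (-(a / b)))
        have h' : b • E = (-a) • (1 : Matrix (Fin d ⊕ Fin d) (Fin d ⊕ Fin d) F) := by
          rw [neg_smul]; exact eq_neg_of_add_eq_zero_right h
        rw [neg_div', div_eq_inv_mul, ← smul_smul, ← h', inv_smul_smul₀ hb]
    intro a ha
    obtain ⟨c, hc⟩ := (Submodule.mem_span_range_iff_exists_fun F).1
      ((hli.span_eq_top_of_card_eq_finrank (by rw [Fintype.card_fin, hK.finrank_eq])).ge (Submodule.mem_top (x := (⟨a, ha⟩ : K))))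
    refine ⟨c 0, c 1, ?_⟩
    have h := congrArg Subtype.val hc
    simpa [Fin.sum_univ_two] using h.symm
  obtain ⟨δ, b, hab⟩ := hspan _ (K.mul_mem hE hE)
  have hb : b = 0 := by
    by_contra hb
    refine hns 0 (Matrix.ext_iff_mulVec.2 fun v => ?_)
    rw [zero_smul, Matrix.zero_mulVec]
    refine hN.1 _ fun y => ?_
    have h : B ((E * E) *ᵥ v) y = B v ((E * E) *ᵥ y) := by
      rw [← Matrix.mulVec_mulVec, ← Matrix.mulVec_mulVec, hskew, hskew, neg_neg]
    rw [hab, Matrix.add_mulVec, Matrix.add_mulVec, Matrix.smul_mulVec, Matrix.smul_mulVec, Matrix.smul_mulVec,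
      Matrix.smul_mulVec, Matrix.one_mulVec, Matrix.one_mulVec, map_add, map_add, LinearMap.add_apply, map_smul, map_smul,
      map_smul, map_smul, LinearMap.smul_apply, LinearMap.smul_apply] at h
    simp only [smul_eq_mul, hskew v y] at h
    have h' : (2 * b) * B v (E *ᵥ y) = 0 := by linear_combination -h
    rw [hskew, (mul_eq_zero.1 h').resolve_left (mul_ne_zero h2 hb), neg_zero]
  rw [hb, zero_smul, add_zero] at hab
  refine ⟨E, δ, hE, ?_, hab, fun u v => by rw [← hBf, ← hBf]; exact hskew u v, hspan⟩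
  rintro ⟨s, rfl⟩
  have h : ((⟨E, hE⟩ : K) - algebraMap F K s) * ((⟨E, hE⟩ : K) + algebraMap F K s) = 0 := by
    have h' : (⟨E, hE⟩ : K) * ⟨E, hE⟩ = algebraMap F K (s * s) := Subtype.ext (by
      show E * E = algebraMap F (Matrix (Fin d ⊕ Fin d) (Fin d ⊕ Fin d) F) (s * s)
      rw [hab, Algebra.algebraMap_eq_smul_one])
    rw [map_mul] at h'
    linear_combination h'
  rcases mul_eq_zero.1 h with h | h
  · refine hns s ?_
    have := congrArg Subtype.val (sub_eq_zero.1 h)
    simpa [Algebra.algebraMap_eq_smul_one] using this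
  · refine hns (-s) ?_
    have := congrArg Subtype.val (eq_neg_of_add_eq_zero_left h)
    simpa [Algebra.algebraMap_eq_smul_one] using this

/-- the unitary group embeds into the normalizer -/
theorem gu_descent (h2 : (2 : F) ≠ 0) {K : Subalgebra F (Matrix (Fin d ⊕ Fin d) (Fin d ⊕ Fin d) F)} (hd : 0 < d)
    (hK : IsFieldSubalgebra 2 K) {E : Matrix (Fin d ⊕ Fin d) (Fin d ⊕ Fin d) F} {δ : F} (hE : E ∈ K) (hδ : ¬ IsSquare δ)
    (hEE : E * E = δ • 1) (hspan : ∀ a ∈ K, ∃ s t : F, a = s • 1 + t • E) {w : Fin d → (Fin d ⊕ Fin d → F)}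
    (hw : IsPairs (CfsgLib.Classical.SympCount.sB d F) (fun _ => (1 : F)) w (fun j => E *ᵥ w j)) :
    Fintype.card F ^ (d * (d - 1) / 2) *
        ∏ j ∈ Finset.range d, (if Even j then Fintype.card F ^ (j + 1) + 1 else Fintype.card F ^ (j + 1) - 1) ∣
      Nat.card (subalgebraNormalizer K ⊓ Cfsg.spGL d F : Subgroup (GL (Fin d ⊕ Fin d) F)) := by
  classical
  haveI : Nonempty (Fin d ⊕ Fin d) := ⟨.inl ⟨0, hd⟩⟩
  letI : Field K := (isField_sub hK).toField
  haveI : Finite K := Subtype.finite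
  letI : Fintype K := Fintype.ofFinite K
  haveI : FiniteDimensional F K := Module.Finite.of_finite
  let V := Fin d ⊕ Fin d → F
  letI : Module K V :=
    { smul := fun a v => a.1 *ᵥ v
      one_smul := fun v => Matrix.one_mulVec v
      mul_smul := fun a b v => (Matrix.mulVec_mulVec v a.1 b.1).symm
      smul_zero := fun a => Matrix.mulVec_zero a.1
      smul_add := fun a u v => Matrix.mulVec_add a.1 u v
      add_smul := fun a b v => Matrix.add_mulVec a.1 b.1 v
      zero_smul := fun v => Matrix.zero_mulVec v }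
  have hsm : ∀ (a : K) (v : V), a • v = a.1 *ᵥ v := fun a v => rfl
  haveI : IsScalarTower F K V := ⟨fun c a v => Matrix.smul_mulVec c a.1 v⟩
  obtain ⟨e, he⟩ : ∃ e : K, e = ⟨E, hE⟩ := ⟨_, rfl⟩
  have hee : e * e = algebraMap F K δ := Subtype.ext (by
    rw [he]
    show E * E = algebraMap F (Matrix (Fin d ⊕ Fin d) (Fin d ⊕ Fin d) F) δ
    rw [hEE, Algebra.algebraMap_eq_smul_one])
  have hrep : ∀ z : K, ∃ st : F × F, z = algebraMap F K st.1 + algebraMap F K st.2 * e := fun z => by
    obtain ⟨s, t, hst⟩ := hspan z.1 z.2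
    refine ⟨(s, t), Subtype.ext ?_⟩
    rw [he]
    show z.1 = algebraMap F (Matrix (Fin d ⊕ Fin d) (Fin d ⊕ Fin d) F) s + algebraMap F (Matrix (Fin d ⊕ Fin d) (Fin d ⊕ Fin d) F) t * E
    rw [hst, Algebra.algebraMap_eq_smul_one, Algebra.algebraMap_eq_smul_one, Matrix.smul_mul, one_mul]
  have hzero : ∀ s t : F, algebraMap F K s + algebraMap F K t * e = 0 → s = 0 ∧ t = 0 := fun s t h => by
    by_cases ht : t = 0
    · rw [ht, map_zero, zero_mul, add_zero, map_eq_zero] at h
      exact ⟨h, ht⟩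
    · exfalso
      refine hδ ⟨s / t, (algebraMap F K).injective ?_⟩
      have h1 : algebraMap F K t * e = -algebraMap F K s := eq_neg_of_add_eq_zero_right h
      have h3 : algebraMap F K (t * t * δ) = algebraMap F K (s * s) := by
        rw [map_mul, map_mul, map_mul, ← hee, show algebraMap F K t * algebraMap F K t * (e * e) =
          (algebraMap F K t * e) * (algebraMap F K t * e) by ring, h1]; ring
      congr 1
      have h4 := (algebraMap F K).injective h3
      field_simp
      linear_combination h4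
  have huniq : ∀ s t s' t' : F, algebraMap F K s + algebraMap F K t * e = algebraMap F K s' + algebraMap F K t' * e →
      s = s' ∧ t = t' := fun s t s' t' h => by
    have := hzero (s - s') (t - t') (by rw [map_sub, map_sub]; linear_combination h)
    exact ⟨sub_eq_zero.1 this.1, sub_eq_zero.1 this.2⟩
  choose co hco using hrep
  obtain ⟨lam, hlam⟩ : ∃ lam : K →+ F, ∀ s t : F, lam (algebraMap F K s + algebraMap F K t * e) = t := by
    refine ⟨AddMonoidHom.mk' (fun z => (co z).2) fun y z => ?_, fun s t => ?_⟩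
    · refine (huniq (co (y + z)).1 _ ((co y).1 + (co z).1) ((co y).2 + (co z).2) ?_).2
      rw [← hco, map_add, map_add]
      conv_lhs => rw [hco y, hco z]
      ring
    · exact (huniq _ _ _ _ (hco _).symm).2
  have hKc : Fintype.card K = Fintype.card F ^ 2 := by rw [Module.card_eq_pow_finrank (K := F), hK.finrank_eq]
  have hrc : ringChar F ≠ 2 := fun h => h2 (by
    haveI : CharP F 2 := ringChar.of_eq h
    exact CharTwo.two_eq_zero)
  have hfe : e ^ Fintype.card F = -e := by
    have hδ0 : δ ≠ 0 := fun h => hδ (h ▸ IsSquare.zero)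
    have hodd := FiniteField.odd_card_of_char_ne_two hrc
    rw [show Fintype.card F = 2 * (Fintype.card F / 2) + 1 by omega, pow_succ, pow_mul, sq, hee, ← map_pow,
      (FiniteField.pow_dichotomy hrc hδ0).resolve_left (fun h => hδ ((FiniteField.isSquare_iff hrc hδ0).2 h)),
      map_neg, map_one, neg_one_mul]
  have hfr : ∀ s t : F, (algebraMap F K s + algebraMap F K t * e) ^ Fintype.card F =
      algebraMap F K s - algebraMap F K t * e := fun s t => by
    show FiniteField.frobeniusAlgHom F K _ = _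
    rw [map_add, map_mul, AlgHom.commutes, AlgHom.commutes,
      show FiniteField.frobeniusAlgHom F K e = e ^ Fintype.card F from rfl, hfe]
    ring
  obtain ⟨B, hB⟩ : ∃ B, B = CfsgLib.Classical.SympCount.sB d F := ⟨_, rfl⟩
  rw [← hB] at hw
  have hA : B.IsAlt := hB ▸ CfsgLib.Classical.SympCount.sB_isAlt
  obtain ⟨ψ, hψ⟩ : ∃ ψ : (Fin d → K) →ₗ[K] V, ∀ c, ψ c = ∑ j, c j • w j :=
    ⟨Fintype.linearCombination K w, fun c => rfl⟩
  have hterm : ∀ (z : K) j, z • w j = (co z).1 • w j + (co z).2 • (E *ᵥ w j) := fun z j => by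
    conv_lhs => rw [hco z]
    rw [add_smul, mul_smul, algebraMap_smul, algebraMap_smul, he]
    rfl
  have hinj : Function.Injective ψ := (injective_iff_map_eq_zero ψ).2 fun c hc => by
    rw [hψ] at hc
    simp only [hterm] at hc
    rw [Finset.sum_add_distrib] at hc
    have h := Fintype.linearIndependent_iff.1 (hw.linearIndependent hA fun _ => one_ne_zero)
      (Sum.elim (fun j => (co (c j)).1) (fun j => (co (c j)).2)) (by rw [Fintype.sum_sum_type]; simpa using hc)
    funext j
    have h1 : (co (c j)).1 = 0 := h (.inl j)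
    have h3 : (co (c j)).2 = 0 := h (.inr j)
    rw [hco (c j), h1, h3, map_zero, zero_mul, add_zero]
    rfl
  have hsurj : Function.Surjective ψ := by
    have h1 : Fintype.card (Fin d → K) = Fintype.card V := by
      show Fintype.card (Fin d → K) = Fintype.card (Fin d ⊕ Fin d → F)
      rw [Fintype.card_fun, Fintype.card_fun, hKc, Fintype.card_fin, Fintype.card_sum, Fintype.card_fin, ← pow_mul]
      ring_nf
    exact ((Fintype.bijective_iff_injective_and_card ψ).2 ⟨hinj, h1⟩).2
  obtain ⟨φ, hφ⟩ : ∃ φ : (Fin d → K) ≃ₗ[K] V, ∀ c, φ c = ψ c := ⟨LinearEquiv.ofBijective ψ ⟨hinj, hsurj⟩, fun c => rfl⟩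
  have hform : ∀ c c', B (φ c) (φ c') = -lam (Cfsg.hermForm d K (Fintype.card F) c c') := fun c c' => by
    rw [hφ, hφ, hψ, hψ]
    simp only [hterm, map_sum, LinearMap.sum_apply, Cfsg.hermForm, ← Finset.sum_neg_distrib]
    refine Finset.sum_congr rfl fun j _ => ?_
    rw [Finset.sum_eq_single j (fun l _ hl => ?_) (fun h => absurd (Finset.mem_univ j) h)]
    · have hEw : B (E *ᵥ w j) (w j) = -1 := by rw [← LinearMap.IsAlt.neg hA, hw.val]
      simp only [map_add, map_smul, LinearMap.add_apply, LinearMap.smul_apply, smul_eq_mul, hw.val, hEw, hA (w j),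
        hA (E *ᵥ w j)]
      conv_rhs => rw [hco (c j), hco (c' j), hfr]
      obtain ⟨s, t⟩ := co (c j)
      obtain ⟨s', t'⟩ := co (c' j)
      rw [show (algebraMap F K s + algebraMap F K t * e) * (algebraMap F K s' - algebraMap F K t' * e) =
        algebraMap F K (s * s' - δ * (t * t')) + algebraMap F K (t * s' - s * t') * e by
          simp only [map_sub, map_mul, ← hee]; ring, hlam]
      ring
    · simp [hw.uu, hw.vv, hw.uv _ _ hl, hw.uv _ _ (Ne.symm hl), hA.isRefl _ _ (hw.uv _ _ hl),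
        hA.isRefl _ _ (hw.uv _ _ (Ne.symm hl))]
  obtain ⟨C⟩ := CfsgLib.Classical.uctx_exists (F := K) hKc
  rw [← CfsgLib.Classical.card_gu_formula C hKc d]
  obtain ⟨L, hL⟩ : ∃ L : Matrix (Fin d) (Fin d) K → ((Fin d ⊕ Fin d → F) →ₗ[F] (Fin d ⊕ Fin d → F)),
      ∀ M v, L M v = φ (M *ᵥ φ.symm v) :=
    ⟨fun M => ((φ.toLinearMap.comp (Matrix.toLin' M)).comp φ.symm.toLinearMap).restrictScalars F,
      fun M v => by simp [Matrix.toLin'_apply]⟩
  have hL1 : L 1 = LinearMap.id := LinearMap.ext fun v => by rw [hL, Matrix.one_mulVec, φ.apply_symm_apply]; rfl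
  have hLm : ∀ M N, L (M * N) = (L M).comp (L N) := fun M N => LinearMap.ext fun v => by
    rw [LinearMap.comp_apply, hL, hL, hL, φ.symm_apply_apply, Matrix.mulVec_mulVec]
  let hom₀ : Cfsg.GU d K (Fintype.card F) →* Matrix (Fin d ⊕ Fin d) (Fin d ⊕ Fin d) F :=
    { toFun := fun y => LinearMap.toMatrix' (L y.1.1)
      map_one' := by
        show LinearMap.toMatrix' (L 1) = 1
        rw [hL1, LinearMap.toMatrix'_id]
      map_mul' := fun y z => by
        show LinearMap.toMatrix' (L (y.1.1 * z.1.1)) = LinearMap.toMatrix' (L y.1.1) * LinearMap.toMatrix' (L z.1.1)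
        rw [hLm, LinearMap.toMatrix'_comp] }
  have hv : ∀ (y : Cfsg.GU d K (Fintype.card F)) v, (hom₀.toHomUnits y : Matrix (Fin d ⊕ Fin d) (Fin d ⊕ Fin d) F) *ᵥ v =
      φ (y.1.1 *ᵥ φ.symm v) := fun y v => by
    show LinearMap.toMatrix' (L y.1.1) *ᵥ v = _
    rw [LinearMap.toMatrix'_mulVec, hL]
  have hmem : ∀ y, hom₀.toHomUnits y ∈ subalgebraNormalizer K ⊓ Cfsg.spGL d F := by
    intro y
    refine ⟨mem_normalizer_pm hE hspan (Or.inl (Matrix.ext_iff_mulVec.2 fun v => ?_)), fun u v => ?_⟩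
    · rw [← Matrix.mulVec_mulVec, ← Matrix.mulVec_mulVec, hv, hv, show E *ᵥ v = (⟨E, hE⟩ : K) • v from rfl,
        map_smul, Matrix.mulVec_smul, map_smul]
      rfl
    · show Cfsg.sympForm d F ((hom₀.toHomUnits y : Matrix (Fin d ⊕ Fin d) (Fin d ⊕ Fin d) F) *ᵥ u)
        ((hom₀.toHomUnits y : Matrix (Fin d ⊕ Fin d) (Fin d ⊕ Fin d) F) *ᵥ v) = Cfsg.sympForm d F u v
      rw [hv, hv]
      have hBf : ∀ x z, Cfsg.sympForm d F x z = B x z := fun x z => by rw [hB]; rfl
      obtain ⟨c, rfl⟩ := φ.surjective u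
      obtain ⟨c', rfl⟩ := φ.surjective v
      rw [φ.symm_apply_apply, φ.symm_apply_apply, hBf, hBf, hform, hform]
      exact congrArg (fun z => -lam z) (y.2 c c')
  refine Subgroup.card_dvd_of_injective (hom₀.toHomUnits.codRestrict _ hmem) fun y z h => Subtype.ext (Units.ext ?_)
  refine Matrix.ext_iff_mulVec.2 fun c => ?_
  have h' : hom₀.toHomUnits y = hom₀.toHomUnits z := congrArg Subtype.val h
  have h1 := hv y (φ c)
  rw [h', hv, φ.symm_apply_apply] at h1
  exact φ.injective h1.symm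

end CfsgLib.Perm.Elusive.OverField
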