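import Mathlib
import Cfsg.Agent.Lib.Perm.Elusive.OverFieldNormal
import Cfsg.Agent.Lib.Perm.Elusive.SympClassElement
import Cfsg.Agent.Lib.Classical.SpOrder

/-!
# Symplectic groups over an overfield
-/

set_option autoImplicit false
set_option linter.all false

namespace CfsgLib.Perm.Elusive.OverField

open Cfsg.Geo
open scoped Matrix

variable {F : Type*} [Field F] [Fintype F] {d : ℕ}

/-- the order of the symplectic group over the overfield divides that of the normalizer -/
theorem symp_descent {k : ℕ} (hd : 0 < d) {K : Subalgebra F (Matrix (Fin d ⊕ Fin d) (Fin d ⊕ Fin d) F)}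
    (hK : IsFieldSubalgebra k K) (hKf : IsSelfAdjointFor (Cfsg.sympForm d F) K)
    (hKalt : ∀ a ∈ K, ∀ v, Cfsg.sympForm d F (a *ᵥ v) v = 0) :
    ∃ e, d = k * e ∧ (Fintype.card F ^ k) ^ (e ^ 2) *
        ∏ l ∈ Finset.range e, ((Fintype.card F ^ k) ^ (2 * (l + 1)) - 1) ∣
      Nat.card (subalgebraNormalizer K ⊓ Cfsg.spGL d F : Subgroup (GL (Fin d ⊕ Fin d) F)) := by
  classical
  haveI : Nonempty (Fin d ⊕ Fin d) := ⟨.inl ⟨0, hd⟩⟩
  letI : Field K := (isField_sub hK).toField
  haveI : Finite K := Subtype.finite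
  letI : Fintype K := Fintype.ofFinite K
  haveI : FiniteDimensional F K := Module.Finite.of_finite
  let V := Fin d ⊕ Fin d → F
  letI : Module K V :=
    { smul := fun a v => a.1 *ᵥ v
      one_smul := fun v => Matrix.one_mulVec v
      mul_smul := fun a b v => (Matrix.mulVec_mulVec v a.1 b.1).symm
      smul_zero := fun a => Matrix.mulVec_zero a.1
      smul_add := fun a u v => Matrix.mulVec_add a.1 u v
      add_smul := fun a b v => Matrix.add_mulVec a.1 b.1 v
      zero_smul := fun v => Matrix.zero_mulVec v }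
  have hsm : ∀ (a : K) (v : V), a • v = a.1 *ᵥ v := fun a v => rfl
  haveI : IsScalarTower F K V := ⟨fun c a v => Matrix.smul_mulVec c a.1 v⟩
  haveI : FiniteDimensional K V := Module.Finite.of_finite
  obtain ⟨B, hB⟩ : ∃ B, B = CfsgLib.Classical.SympCount.sB d F := ⟨_, rfl⟩
  have hBf : ∀ u v, B u v = Cfsg.sympForm d F u v := fun u v => by rw [hB]; rfl
  have hself : ∀ (a : K) (u v : V), B (a • u) v = B u (a • v) := fun a u v => by
    rw [hBf, hBf, hsm, hsm]; exact hKf _ a.2 u v
  have halt : ∀ (a : K) (v : V), B (a • v) v = 0 := fun a v => by rw [hBf, hsm]; exact hKalt _ a.2 v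
  obtain ⟨lam, hlam⟩ : ∃ lam : K →ₗ[F] F, lam 1 = 1 := by
    obtain ⟨f, hf⟩ := Module.Basis.exists_basis F K
    obtain ⟨b⟩ := hf
    obtain ⟨j, hj⟩ : ∃ j, b.repr 1 j ≠ 0 := by
      by_contra h
      push Not at h
      exact one_ne_zero (b.repr.map_eq_zero_iff.1 (Finsupp.ext h))
    refine ⟨(b.repr 1 j)⁻¹ • b.coord j, ?_⟩
    rw [LinearMap.smul_apply, Module.Basis.coord_apply, smul_eq_mul, inv_mul_cancel₀ hj]
  obtain ⟨Ψ, hΨ⟩ : ∃ Ψ : K ≃ₗ[F] Module.Dual F K, ∀ y a, Ψ y a = lam (a * y) := by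
    let Φ : K →ₗ[F] Module.Dual F K :=
      { toFun := fun y => lam.comp (LinearMap.mulRight F y)
        map_add' := fun y z => LinearMap.ext fun a => by simp [mul_add]
        map_smul' := fun c y => LinearMap.ext fun a => by simp }
    have hΦ : Function.Injective Φ := (injective_iff_map_eq_zero Φ).2 fun y hy => by
      by_contra hy0
      have h : lam (y⁻¹ * y) = 0 := LinearMap.congr_fun hy y⁻¹
      rw [inv_mul_cancel₀ hy0, hlam] at h
      exact one_ne_zero h
    exact ⟨LinearMap.linearEquivOfInjective Φ hΦ Subspace.dual_finrank_eq.symm, fun y a => rfl⟩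
  obtain ⟨b, hb⟩ : ∃ b : V → V → K, ∀ u v a, lam (a * b u v) = B (a • u) v := by
    refine ⟨fun u v => Ψ.symm ((B.flip v).comp ((LinearMap.toSpanSingleton K V u).restrictScalars F)), fun u v a => ?_⟩
    rw [← hΨ, LinearEquiv.apply_symm_apply]; rfl
  have hbext : ∀ y z : K, (∀ a, lam (a * y) = lam (a * z)) → y = z := fun y z h =>
    Ψ.injective (LinearMap.ext fun a => by rw [hΨ, hΨ, h])
  obtain ⟨bK, hbK⟩ : ∃ bK : LinearMap.BilinForm K V, ∀ u v, bK u v = b u v :=
    ⟨LinearMap.mk₂ K b
      (fun u u' v => hbext _ _ fun a => by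
        simp only [mul_add, map_add, hb, smul_add, LinearMap.add_apply])
      (fun s u v => hbext _ _ fun a => by rw [hb, smul_eq_mul, ← mul_assoc, hb, mul_smul])
      (fun u v v' => hbext _ _ fun a => by simp only [mul_add, map_add, hb])
      (fun s u v => hbext _ _ fun a => by rw [hb, smul_eq_mul, ← mul_assoc, hb, ← hself, ← mul_smul, mul_comm s a]),
      fun u v => rfl⟩
  have hkeyB : ∀ u v, B u v = lam (bK u v) := fun u v => by rw [hbK, ← one_mul (b u v), hb, one_smul]
  have hbA : bK.IsAlt := fun u => hbext _ 0 fun a => by rw [hbK, hb, halt, mul_zero, map_zero]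
  have hbN : ∀ u, (∀ v, bK u v = 0) → u = 0 := fun u hu => by
    have h := hB ▸ (CfsgLib.Classical.SympCount.sB_nondegenerate (m := d) (F := F))
    exact h.1 u fun v => by rw [hkeyB, hu, map_zero]
  obtain ⟨e, he⟩ : Even (Module.finrank K V) := by
    have h := even_of_nd hbA (S := (⊤ : Submodule K V)) (by
      rw [disjoint_orth_iff hbA.isRefl]
      intro u _ hu
      by_contra hno
      push Not at hno
      exact hu (hbN u fun v => hno v Submodule.mem_top))
    rwa [finrank_top] at h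
  have hV : Module.finrank K V = 2 * e := by rw [he]; ring
  have hde : d = k * e := by
    have h := Module.finrank_mul_finrank F K V
    rw [hK.finrank_eq, hV, show Module.finrank F V = 2 * d by
      show Module.finrank F (Fin d ⊕ Fin d → F) = _
      rw [Module.finrank_fintype_fun_eq_card, Fintype.card_sum, Fintype.card_fin]; ring] at h
    rw [mul_left_comm] at h
    omega
  refine ⟨e, hde, ?_⟩
  obtain ⟨x₀, φ, -, hφ⟩ := exists_symp_model bK hbA hbN hV LinearMap.id fun u v => rfl
  have hcardK : Fintype.card K = Fintype.card F ^ k := by rw [Module.card_eq_pow_finrank (K := F), hK.finrank_eq]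
  rw [← hcardK, ← CfsgLib.Classical.card_symplectic]
  obtain ⟨L, hL⟩ : ∃ L : Matrix (Fin e ⊕ Fin e) (Fin e ⊕ Fin e) K → ((Fin d ⊕ Fin d → F) →ₗ[F] (Fin d ⊕ Fin d → F)),
      ∀ M v, L M v = φ.symm (M *ᵥ φ v) :=
    ⟨fun M => ((φ.symm.toLinearMap.comp (Matrix.toLin' M)).comp φ.toLinearMap).restrictScalars F,
      fun M v => by simp [Matrix.toLin'_apply]⟩
  have hL1 : L 1 = LinearMap.id := LinearMap.ext fun v => by rw [hL, Matrix.one_mulVec, φ.symm_apply_apply]; rfl
  have hLm : ∀ M N, L (M * N) = (L M).comp (L N) := fun M N => LinearMap.ext fun v => by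
    rw [LinearMap.comp_apply, hL, hL, hL, φ.apply_symm_apply, Matrix.mulVec_mulVec]
  let hom₀ : Matrix.symplecticGroup (Fin e) K →* Matrix (Fin d ⊕ Fin d) (Fin d ⊕ Fin d) F :=
    { toFun := fun y => LinearMap.toMatrix' (L y.1)
      map_one' := by
        show LinearMap.toMatrix' (L 1) = 1
        rw [hL1, LinearMap.toMatrix'_id]
      map_mul' := fun y z => by
        show LinearMap.toMatrix' (L (y.1 * z.1)) = LinearMap.toMatrix' (L y.1) * LinearMap.toMatrix' (L z.1)
        rw [hLm, LinearMap.toMatrix'_comp] }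
  have hv : ∀ (y : Matrix.symplecticGroup (Fin e) K) v, (hom₀.toHomUnits y : Matrix (Fin d ⊕ Fin d) (Fin d ⊕ Fin d) F) *ᵥ v =
      φ.symm (y.1 *ᵥ φ v) := fun y v => by
    show LinearMap.toMatrix' (L y.1) *ᵥ v = _
    rw [LinearMap.toMatrix'_mulVec, hL]
  have hmem : ∀ y, hom₀.toHomUnits y ∈ subalgebraNormalizer K ⊓ Cfsg.spGL d F := by
    intro y
    constructor
    · obtain ⟨g, hg⟩ : ∃ g, g = hom₀.toHomUnits y := ⟨_, rfl⟩
      rw [← hg]
      have hcom : ∀ a ∈ K, g.1 * a = a * g.1 := fun a ha => Matrix.ext_iff_mulVec.2 fun v => by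
        rw [← Matrix.mulVec_mulVec, ← Matrix.mulVec_mulVec, hg, hv, hv, show a *ᵥ v = (⟨a, ha⟩ : K) • v from rfl,
          map_smul, Matrix.mulVec_smul, map_smul]
        rfl
      intro a
      constructor
      · intro ha
        rwa [hcom a ha, mul_assoc, ← Units.val_mul, mul_inv_cancel, Units.val_one, mul_one]
      · intro ha
        have h := hcom _ ha
        have e1 : g.1 * (g.1 * a * (g⁻¹).1) = g.1 * a := by
          rw [h, mul_assoc (g.1 * a), ← Units.val_mul, inv_mul_cancel, Units.val_one, mul_one]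
        have e2 : g.1 * a * (g⁻¹).1 = a := (Units.mul_right_inj g).1 e1
        rwa [e2] at ha
    · intro u v
      show Cfsg.sympForm d F ((hom₀.toHomUnits y : Matrix (Fin d ⊕ Fin d) (Fin d ⊕ Fin d) F) *ᵥ u)
        ((hom₀.toHomUnits y : Matrix (Fin d ⊕ Fin d) (Fin d ⊕ Fin d) F) *ᵥ v) = Cfsg.sympForm d F u v
      rw [hv, hv, ← hBf, ← hBf, hkeyB, hkeyB, ← hφ, LinearEquiv.apply_symm_apply, LinearEquiv.apply_symm_apply, ← hφ]
      congr 1
      exact CfsgLib.Sp.sf_sp y (φ u) (φ v)
  refine Subgroup.card_dvd_of_injective (hom₀.toHomUnits.codRestrict _ hmem) fun y z h => Subtype.ext ?_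
  refine Matrix.ext_iff_mulVec.2 fun w => ?_
  obtain ⟨v, rfl⟩ := φ.surjective w
  have h' := congrArg Subtype.val h
  have h1 := hv y v
  rw [show hom₀.toHomUnits y = hom₀.toHomUnits z from h', hv] at h1
  exact φ.symm.injective h1.symm

end CfsgLib.Perm.Elusive.OverField
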