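import Mathlib
import Cfsg.Agent.Lib.Perm.Elusive.SympPairs
import Cfsg.Agent.Lib.GLClass.Orders
import Cfsg.Agent.Lib.Perm.Trans.Symp

/-!
# Semisimple symplectic elements with small moved space fix no polar pair
-/

set_option autoImplicit false
set_option linter.all false

namespace CfsgLib.Perm.Elusive

open Cfsg.Geo

variable {F : Type*} [Field F] [Fintype F] {ι : Type} [Fintype ι] [DecidableEq ι]
variable {f : (ι → F) → (ι → F) → F} (hf : IsSymplecticForm f)

include hf

/-- the part moved inside `U` is no larger than the part moved inside `W` -/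
theorem moved_le (T : (ι → F) →ₗ[F] (ι → F)) (hT : ∀ a b, f (T a) (T b) = f a b) {U W : Submodule F (ι → F)}
    (hc : IsCompl U W) (hU : ∀ u ∈ U, ∀ v ∈ U, f u v = 0) (hUT : ∀ u ∈ U, T u ∈ U) (hWT : W.map T = W) :
    Module.finrank F (U.map (T - 1)) ≤ Module.finrank F (W.map (T - 1)) := by
  obtain ⟨ψ, hψ⟩ : ∃ ψ : U →ₗ[F] Module.Dual F ↥(W.map (T - 1)), ∀ u b, ψ u b = f (u : ι → F) (b : ι → F) :=
    ⟨(bilinMap hf.bilinear).compl₁₂ U.subtype (W.map (T - 1)).subtype, fun u b => by simp [bilinMap]⟩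
  have hker : LinearMap.ker ψ ≤ LinearMap.ker ((T - 1).comp U.subtype) := by
    intro u hu
    rw [LinearMap.mem_ker] at hu ⊢
    show T (u : ι → F) - (u : ι → F) = 0
    by_contra hne
    obtain ⟨z, hz⟩ := (hf.nondegenerate _ hne).2
    obtain ⟨a, ha, b, hb, rfl⟩ := Submodule.mem_sup.1 (hc.sup_eq_top ▸ (Submodule.mem_top : z ∈ ⊤))
    refine hz ?_
    rw [hf.bilinear.add_right, hU _ (U.sub_mem (hUT _ u.2) u.2) a ha, zero_add]
    rw [← hWT] at hb
    obtain ⟨w, hw, rfl⟩ := hb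
    have h1 : f (u : ι → F) (T w - w) = 0 := by
      have := congrArg (fun φ => φ ⟨_, Submodule.mem_map_of_mem (f := T - 1) hw⟩) hu
      simpa [hψ] using this
    rw [CfsgLib.Perm.Trans.Symp.sub_left hf, hT]
    rw [CfsgLib.Perm.Trans.Symp.sub_right hf] at h1
    linear_combination -h1
  have e1 := ((T - 1).comp U.subtype).finrank_range_add_finrank_ker
  have e2 := ψ.finrank_range_add_finrank_ker
  have e3 := Submodule.finrank_mono hker
  have e4 := Submodule.finrank_le (LinearMap.range ψ)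
  rw [Subspace.dual_finrank_eq] at e4
  rw [LinearMap.range_comp, Submodule.range_subtype] at e1
  omega

/-- no fixed polar pair when `r` is primitive for twice the moved dimension of one side -/
theorem false_of_fixed_pair (T : (ι → F) →ₗ[F] (ι → F)) (hT : ∀ a b, f (T a) (T b) = f a b) {r : ℕ} (hr : r.Prime)
    (hrF : (r : F) ≠ 0) (hTr : T ^ r = 1) (hT1 : T ≠ 1) {k : ℕ}
    (hk : Module.finrank F (LinearMap.range (T - 1)) ≤ 2 * k)
    (hmin : ∀ e, 1 ≤ e → e ≤ k → ¬ r ∣ Fintype.card F ^ e - 1)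
    {U W : Submodule F (ι → F)} (hc : IsCompl U W) (hU : ∀ u ∈ U, ∀ v ∈ U, f u v = 0)
    (hW : ∀ u ∈ W, ∀ v ∈ W, f u v = 0) (hUT : U.map T = U) (hWT : W.map T = W) : False := by
  classical
  have hUT' : ∀ u ∈ U, T u ∈ U := fun u hu => hUT.le (Submodule.mem_map_of_mem hu)
  have hWT' : ∀ u ∈ W, T u ∈ W := fun u hu => hWT.le (Submodule.mem_map_of_mem hu)
  obtain ⟨A, hA⟩ : ∃ A, A = U.map (T - 1) := ⟨_, rfl⟩
  obtain ⟨B, hB⟩ : ∃ B, B = W.map (T - 1) := ⟨_, rfl⟩
  have hAU : A ≤ U := by rw [hA]; rintro _ ⟨u, hu, rfl⟩; exact U.sub_mem (hUT' u hu) hu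
  have hBW : B ≤ W := by rw [hB]; rintro _ ⟨u, hu, rfl⟩; exact W.sub_mem (hWT' u hu) hu
  have hsum : Module.finrank F A + Module.finrank F B ≤ 2 * k := by
    refine le_trans (le_of_eq ?_) hk
    rw [← Submodule.finrank_sup_add_finrank_inf_eq, (hc.disjoint.mono hAU hBW).eq_bot, finrank_bot, add_zero, hA, hB,
      ← Submodule.map_sup, hc.sup_eq_top, Submodule.map_top]
  have hAB : Module.finrank F A = Module.finrank F B := by
    rw [hA, hB]
    exact le_antisymm (moved_le hf T hT hc hU hUT' hWT) (moved_le hf T hT hc.symm hW hWT' hUT)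
  by_cases hA0 : A = ⊥
  · have hB0 : B = ⊥ := Submodule.finrank_eq_zero.1 (by rw [← hAB, hA0, finrank_bot])
    refine hT1 (sub_eq_zero.1 (LinearMap.range_eq_bot.1 ?_))
    rw [← Submodule.map_top, ← hc.sup_eq_top, Submodule.map_sup, ← hA, ← hB, hA0, hB0, bot_sup_eq]
  have hAT : ∀ a ∈ A, T a ∈ A := by
    rw [hA]; rintro _ ⟨u, hu, rfl⟩
    exact ⟨T u, hUT' u hu, by simp⟩
  obtain ⟨e, he⟩ : ∃ e, e = Module.finrank F A := ⟨_, rfl⟩
  let bA := Module.finBasisOfFinrankEq F A he.symm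
  obtain ⟨M, hM⟩ : ∃ M, M = LinearMap.toMatrixAlgEquiv bA (T.restrict hAT) := ⟨_, rfl⟩
  have hpow : ∀ (m : ℕ) (a : A), (((T.restrict hAT) ^ m) a : ι → F) = (T ^ m) (a : ι → F) := fun m => by
    induction m with
    | zero => intro a; simp
    | succ m ih =>
      intro a
      rw [pow_succ', pow_succ', Module.End.mul_apply, Module.End.mul_apply, ← ih]
      rfl
  have hMr : M ^ r = 1 := by
    have h1 : (T.restrict hAT) ^ r = 1 := LinearMap.ext fun a => Subtype.ext (by rw [hpow, hTr]; rfl)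
    rw [hM, ← map_pow, h1, map_one]
  have hM1 : M ≠ 1 := fun h => by
    rw [hM, ← map_one (LinearMap.toMatrixAlgEquiv bA)] at h
    have hfix : ∀ a ∈ A, T a = a := fun a ha => by
      have := congrArg (fun φ => ((φ ⟨a, ha⟩ : A) : ι → F)) ((LinearMap.toMatrixAlgEquiv bA).injective h)
      simpa [LinearMap.restrict_apply] using this
    refine hA0 ?_
    rw [hA, eq_bot_iff]
    rintro _ ⟨u, hu, rfl⟩
    have hmu : ∀ m : ℕ, (T ^ m) u = u + m • (T - 1) u := fun m => by
      induction m with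
      | zero => simp
      | succ m ih =>
        rw [pow_succ', Module.End.mul_apply, ih, map_add, map_nsmul, hfix ((T - 1) u) (hA ▸ Submodule.mem_map_of_mem (f := T - 1) hu),
          succ_nsmul]
        show T u + m • (T - 1) u = u + (m • (T - 1) u + (T u - u))
        abel
    have := hmu r
    rw [hTr, Module.End.one_apply, left_eq_add, ← Nat.cast_smul_eq_nsmul F, smul_eq_zero] at this
    exact (Submodule.mem_bot F).2 (this.resolve_left hrF)
  obtain ⟨g, hg⟩ : ∃ g : GL (Fin e) F, g.1 = M :=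
    ⟨Units.ofPowEqOne M r hMr hr.ne_zero, rfl⟩
  have hgo : orderOf g = r := by
    haveI : Fact r.Prime := ⟨hr⟩
    exact orderOf_eq_prime (Units.ext (by rw [Units.val_pow_eq_pow_val, hg, hMr, Units.val_one]))
      (fun h => hM1 (by rw [← hg, h, Units.val_one]))
  obtain ⟨e', he1, he2, hd⟩ := CfsgLib.GLClass.exists_dvd_pow_sub_one g hr le_rfl hrF (by rw [hgo, pow_one])
  rw [pow_one] at hd
  exact hmin e' he1 (by omega) hd

end CfsgLib.Perm.Elusive
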