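import Mathlib
import Cfsg.Prelude.Def_ClassicalGeometry
import Cfsg.Agent.Lib.Sp.Basic
import Cfsg.Agent.Lib.Classical.SpOrder
import Cfsg.Agent.Lib.Perm.Elusive.SympPairs

/-!
# Counting complementary pairs of totally isotropic subspaces
-/

set_option autoImplicit false
set_option linter.all false

namespace CfsgLib.Perm.Elusive

open Matrix

variable {F : Type*} [Field F] [Fintype F] (d : ℕ)

local notation "V" => (Fin d ⊕ Fin d → F)

/-- complementary pairs of totally isotropic subspaces -/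
def PolarPair : Type _ :=
  {P : Submodule F V × Submodule F V // IsCompl P.1 P.2 ∧ (∀ u ∈ P.1, ∀ v ∈ P.1, Cfsg.sympForm d F u v = 0) ∧
    (∀ u ∈ P.2, ∀ v ∈ P.2, Cfsg.sympForm d F u v = 0)}

/-- the first standard subspace -/
def stdU : Submodule F V := LinearMap.ker (LinearMap.funLeft F F (Sum.inr : Fin d → Fin d ⊕ Fin d))

/-- the second standard subspace -/
def stdW : Submodule F V := LinearMap.ker (LinearMap.funLeft F F (Sum.inl : Fin d → Fin d ⊕ Fin d))

variable {d}

theorem mem_stdU {v : V} : v ∈ stdU (F := F) d ↔ ∀ i, v (Sum.inr i) = 0 := by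
  simp [stdU, funext_iff, LinearMap.funLeft]

theorem mem_stdW {v : V} : v ∈ stdW (F := F) d ↔ ∀ i, v (Sum.inl i) = 0 := by
  simp [stdW, funext_iff, LinearMap.funLeft]

theorem sympForm_eq (u v : V) : Cfsg.sympForm d F u v =
    (∑ i, u (Sum.inr i) * v (Sum.inl i)) - ∑ i, u (Sum.inl i) * v (Sum.inr i) := by
  simp [Cfsg.sympForm, dotProduct, Matrix.J, Matrix.mulVec, Fintype.sum_sum_type, Matrix.one_apply, sub_eq_neg_add,
    Finset.sum_neg_distrib]

theorem isCompl_std : IsCompl (stdU (F := F) d) (stdW d) := by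
  constructor
  · rw [Submodule.disjoint_def]
    intro v hu hw
    funext x
    rcases x with i | i
    exacts [mem_stdW.1 hw i, mem_stdU.1 hu i]
  · rw [codisjoint_iff, eq_top_iff]
    intro v _
    refine Submodule.mem_sup.2 ⟨Sum.elim (v ∘ Sum.inl) 0, mem_stdU.2 fun i => rfl, Sum.elim 0 (v ∘ Sum.inr),
      mem_stdW.2 fun i => rfl, ?_⟩
    funext x
    rcases x with i | i <;> simp

theorem sp_toLin'_injective (A : Matrix.symplecticGroup (Fin d) F) : Function.Injective (Matrix.toLin' A.1) := by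
  intro a b h
  rw [Matrix.toLin'_apply, Matrix.toLin'_apply] at h
  rw [← CfsgLib.Sp.sp_inv_mulVec A a, h, CfsgLib.Sp.sp_inv_mulVec]

/-- the image of the standard pair -/
noncomputable def polarImage (A : Matrix.symplecticGroup (Fin d) F) : PolarPair (F := F) d :=
  ⟨((stdU d).map (Matrix.toLin' A.1), (stdW d).map (Matrix.toLin' A.1)), by
    have hinj : Function.Injective (Matrix.toLin' A.1) := sp_toLin'_injective A
    have hsurj : Function.Surjective (Matrix.toLin' A.1) := LinearMap.injective_iff_surjective.1 hinj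
    refine ⟨⟨Submodule.disjoint_map hinj isCompl_std.disjoint, ?_⟩, ?_, ?_⟩
    · rw [codisjoint_iff, ← Submodule.map_sup, isCompl_std.sup_eq_top, Submodule.map_top,
        LinearMap.range_eq_top.2 hsurj]
    · rintro _ ⟨a, ha, rfl⟩ _ ⟨b, hb, rfl⟩
      rw [Matrix.toLin'_apply, Matrix.toLin'_apply]
      refine (CfsgLib.Sp.sf_sp A a b).trans ?_
      show Cfsg.sympForm d F a b = 0
      simp [sympForm_eq, mem_stdU.1 ha, mem_stdU.1 hb]
    · rintro _ ⟨a, ha, rfl⟩ _ ⟨b, hb, rfl⟩
      rw [Matrix.toLin'_apply, Matrix.toLin'_apply]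
      refine (CfsgLib.Sp.sf_sp A a b).trans ?_
      show Cfsg.sympForm d F a b = 0
      simp [sympForm_eq, mem_stdW.1 ha, mem_stdW.1 hb]⟩

theorem polar_le {P Q : Submodule F V} (hc : IsCompl P Q) (hQ : ∀ u ∈ Q, ∀ v ∈ Q, Cfsg.sympForm d F u v = 0) :
    Module.finrank F Q ≤ Module.finrank F P := by
  obtain ⟨ψ, hψ⟩ : ∃ ψ : Q →ₗ[F] Module.Dual F P, ∀ w u, ψ w u = Cfsg.sympForm d F (w : V) (u : V) := by
    refine ⟨(bilinMap CfsgLib.Perm.Trans.Symp.isSymplecticForm_sympForm.bilinear).compl₁₂ Q.subtype P.subtype,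
      fun w u => ?_⟩
    simp [bilinMap]
  have hinj : Function.Injective ψ := (injective_iff_map_eq_zero ψ).2 fun w hw => by
    refine Subtype.ext (CfsgLib.Sp.eq_zero_of_sf fun v => ?_)
    obtain ⟨a, ha, b, hb, rfl⟩ := Submodule.mem_sup.1 (hc.sup_eq_top ▸ (Submodule.mem_top : v ∈ ⊤))
    show Cfsg.sympForm d F (w : V) (a + b) = 0
    rw [CfsgLib.Perm.Trans.Symp.isSymplecticForm_sympForm.bilinear.add_right, hQ _ w.2 b hb, add_zero]
    have := congrArg (fun φ => φ ⟨a, ha⟩) hw
    simpa [hψ] using this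
  have := LinearMap.finrank_le_finrank_of_injective hinj
  rwa [Subspace.dual_finrank_eq] at this

theorem polarImage_surjective : Function.Surjective (polarImage (F := F) (d := d)) := by
  rintro ⟨⟨P, Q⟩, hc, hP, hQ⟩
  change IsCompl P Q at hc
  change ∀ u ∈ P, ∀ v ∈ P, Cfsg.sympForm d F u v = 0 at hP
  change ∀ u ∈ Q, ∀ v ∈ Q, Cfsg.sympForm d F u v = 0 at hQ
  have hsf := CfsgLib.Perm.Trans.Symp.isSymplecticForm_sympForm (F := F) (m := d)
  have hd : Module.finrank F P = d := by
    have h1 := polar_le hc hQ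
    have h2 := polar_le hc.symm hP
    have h3 := Submodule.finrank_add_eq_of_isCompl hc
    rw [Module.finrank_fintype_fun_eq_card, Fintype.card_sum, Fintype.card_fin] at h3
    omega
  let b := Module.finBasisOfFinrankEq F P hd
  obtain ⟨D, hD⟩ : ∃ D : Q →ₗ[F] (Fin d → F), ∀ w i, D w i = -Cfsg.sympForm d F (b i : V) (w : V) := by
    refine ⟨LinearMap.pi fun i => -((bilinMap hsf.bilinear (b i : V)).comp Q.subtype), fun w i => ?_⟩
    simp [bilinMap]
  have hDinj : Function.Injective D := (injective_iff_map_eq_zero D).2 fun w hw => by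
    refine Subtype.ext (CfsgLib.Sp.eq_zero_of_sf' fun v => ?_)
    obtain ⟨a, ha, c, hc', rfl⟩ := Submodule.mem_sup.1 (hc.sup_eq_top ▸ (Submodule.mem_top : v ∈ ⊤))
    show Cfsg.sympForm d F (a + c) (w : V) = 0
    rw [hsf.bilinear.add_left, hQ c hc' _ w.2, add_zero]
    obtain ⟨ψ, hψ⟩ : ∃ ψ : P →ₗ[F] F, ∀ u, ψ u = Cfsg.sympForm d F (u : V) (w : V) :=
      ⟨((bilinMap hsf.bilinear).flip (w : V)).comp P.subtype, fun u => by simp [bilinMap]⟩
    have h0 : ψ = 0 := b.ext fun i => by
      have := congrFun hw i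
      rw [hD] at this
      simpa [hψ] using this
    have := congrArg (fun φ => φ ⟨a, ha⟩) h0
    simpa [hψ] using this
  have hdQ : Module.finrank F Q = d := by
    have h3 := Submodule.finrank_add_eq_of_isCompl hc
    rw [Module.finrank_fintype_fun_eq_card, Fintype.card_sum, Fintype.card_fin, hd] at h3
    omega
  have hDsurj : Function.Surjective D :=
    (LinearMap.injective_iff_surjective_of_finrank_eq_finrank (by simp [hdQ])).1 hDinj
  obtain ⟨c, hc'⟩ : ∃ c : Fin d → Q, ∀ j, D (c j) = Pi.single j 1 :=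
    ⟨fun j => (hDsurj (Pi.single j 1)).choose, fun j => (hDsurj (Pi.single j 1)).choose_spec⟩
  obtain ⟨col, hcol⟩ : ∃ col : Fin d ⊕ Fin d → V, col = Sum.elim (fun i => (b i : V)) fun j => (c j : V) := ⟨_, rfl⟩
  obtain ⟨A, hA⟩ : ∃ A : Matrix (Fin d ⊕ Fin d) (Fin d ⊕ Fin d) F, A = Matrix.of fun x y => col y x := ⟨_, rfl⟩
  have hAcol : ∀ y, A *ᵥ Pi.single y 1 = col y := fun y => by
    funext x; simp [hA, Matrix.mulVec_single_one]
  have hval : ∀ x y, Cfsg.sympForm d F (col x) (col y) =
      Cfsg.sympForm d F (Pi.single x 1) (Pi.single y 1) := by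
    intro x y
    have hbc : ∀ i j, Cfsg.sympForm d F (b i : V) (c j : V) = -(if i = j then 1 else 0) := fun i j => by
      have := congrFun (hc' j) i
      rw [hD, Pi.single_apply] at this
      linear_combination -this
    rcases x with i | i <;> rcases y with j | j <;> simp only [hcol, Sum.elim_inl, Sum.elim_inr]
    · rw [hP _ (b i).2 _ (b j).2]; simp [sympForm_eq]
    · rw [hbc]; simp [sympForm_eq, Pi.single_apply, eq_comm]
    · rw [hsf.skew, hbc]; simp [sympForm_eq, Pi.single_apply, eq_comm]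
    · rw [hQ _ (c i).2 _ (c j).2]; simp [sympForm_eq]
  have hmem : A ∈ Matrix.symplecticGroup (Fin d) F := by
    refine CfsgLib.Sp.mem_sp_iff.2 fun u v => ?_
    show bilinMap hsf.bilinear (A *ᵥ u) (A *ᵥ v) = bilinMap hsf.bilinear u v
    have : ((bilinMap hsf.bilinear).compl₁₂ A.mulVecLin A.mulVecLin) = bilinMap hsf.bilinear :=
      LinearMap.ext_basis (Pi.basisFun F _) (Pi.basisFun F _) fun x y => by
        simp only [LinearMap.compl₁₂_apply, Pi.basisFun_apply, Matrix.mulVecLin_apply, hAcol]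
        exact hval x y
    exact LinearMap.congr_fun (LinearMap.congr_fun this u) v
  refine ⟨⟨A, hmem⟩, Subtype.ext (Prod.ext ?_ ?_)⟩
  · refine Submodule.eq_of_le_of_finrank_le ?_ ?_
    · rintro _ ⟨a, ha, rfl⟩
      show Matrix.toLin' A a ∈ P
      rw [Matrix.toLin'_apply, pi_eq_sum_univ' a, Matrix.mulVec_sum]
      refine Submodule.sum_mem _ fun x _ => ?_
      rw [Matrix.mulVec_smul, hAcol]
      rcases x with i | i
      · exact P.smul_mem _ (hcol ▸ (b i).2)
      · rw [mem_stdU.1 ha i, zero_smul]; exact P.zero_mem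
    · rw [hd]
      show d ≤ Module.finrank F ↥((stdU d).map (Matrix.toLin' A))
      have hli : LinearIndependent F fun i => (b i : V) := b.linearIndependent.map' P.subtype P.ker_subtype
      refine le_trans (le_of_eq ?_) (Submodule.finrank_mono (s := Submodule.span F (Set.range fun i => (b i : V)))
        (Submodule.span_le.2 ?_))
      · rw [finrank_span_eq_card hli, Fintype.card_fin]
      · rintro _ ⟨i, rfl⟩
        exact ⟨Pi.single (Sum.inl i) 1, mem_stdU.2 fun j => by simp, by rw [Matrix.toLin'_apply, hAcol, hcol]; rfl⟩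
  · refine Submodule.eq_of_le_of_finrank_le ?_ ?_
    · rintro _ ⟨a, ha, rfl⟩
      show Matrix.toLin' A a ∈ Q
      rw [Matrix.toLin'_apply, pi_eq_sum_univ' a, Matrix.mulVec_sum]
      refine Submodule.sum_mem _ fun x _ => ?_
      rw [Matrix.mulVec_smul, hAcol]
      rcases x with i | i
      · rw [mem_stdW.1 ha i, zero_smul]; exact Q.zero_mem
      · exact Q.smul_mem _ (hcol ▸ (c i).2)
    · rw [hdQ]
      show d ≤ Module.finrank F ↥((stdW d).map (Matrix.toLin' A))
      have hli : LinearIndependent F fun i => (c i : V) := by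
        have h1 : LinearIndependent F (D ∘ c) := by
          rw [show D ∘ c = fun j => (Pi.basisFun F (Fin d)) j from funext fun j => by simp [hc']]
          exact (Pi.basisFun F (Fin d)).linearIndependent
        exact (LinearIndependent.of_comp D h1).map' Q.subtype Q.ker_subtype
      refine le_trans (le_of_eq ?_) (Submodule.finrank_mono (s := Submodule.span F (Set.range fun i => (c i : V)))
        (Submodule.span_le.2 ?_))
      · rw [finrank_span_eq_card hli, Fintype.card_fin]
      · rintro _ ⟨i, rfl⟩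
        exact ⟨Pi.single (Sum.inr i) 1, mem_stdW.2 fun j => by simp, by rw [Matrix.toLin'_apply, hAcol, hcol]; rfl⟩

/-- the block diagonal copy of the general linear group -/
noncomputable def levi (g : GL (Fin d) F) : Matrix.symplecticGroup (Fin d) F :=
  ⟨Matrix.fromBlocks g.1 0 0 ((g⁻¹).1)ᵀ, by
    rw [SymplecticGroup.mem_iff, Matrix.J, Matrix.fromBlocks_transpose, Matrix.fromBlocks_multiply,
      Matrix.fromBlocks_multiply]
    simp [← Matrix.transpose_mul, ← Units.val_mul]⟩

theorem card_polarPair : Nat.card (PolarPair (F := F) d) * Nat.card (GL (Fin d) F) =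
    Nat.card (Matrix.symplecticGroup (Fin d) F) := by
  classical
  haveI : Finite (PolarPair (F := F) d) := Finite.of_surjective _ polarImage_surjective
  haveI := Fintype.ofFinite (PolarPair (F := F) d)
  rw [← Nat.card_congr (Equiv.sigmaFiberEquiv (polarImage (F := F) (d := d))), Nat.card_sigma,
    Finset.sum_congr rfl fun P _ => ?_, Finset.sum_const, Finset.card_univ, smul_eq_mul, Nat.card_eq_fintype_card (α := PolarPair (F := F) d)]
  obtain ⟨A, rfl⟩ := polarImage_surjective P
  have himg : ∀ g, polarImage (A * levi g) = polarImage A := fun g => by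
    have hU : (stdU (F := F) d).map (Matrix.toLin' (levi g).1) ≤ stdU d := by
      rintro _ ⟨a, ha, rfl⟩
      refine mem_stdU.2 fun i => ?_
      simp [levi, Matrix.toLin'_apply, Matrix.mulVec, dotProduct, Fintype.sum_sum_type, mem_stdU.1 ha]
    have hW : (stdW (F := F) d).map (Matrix.toLin' (levi g).1) ≤ stdW d := by
      rintro _ ⟨a, ha, rfl⟩
      refine mem_stdW.2 fun i => ?_
      simp [levi, Matrix.toLin'_apply, Matrix.mulVec, dotProduct, Fintype.sum_sum_type, mem_stdW.1 ha]
    have hinj : Function.Injective (Matrix.toLin' (levi g).1) := sp_toLin'_injective (levi g)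
    refine Subtype.ext (Prod.ext ?_ ?_) <;>
      simp only [polarImage, CfsgLib.Sp.sp_mul_val, Matrix.toLin'_mul, Submodule.map_comp]
    · rw [Submodule.eq_of_le_of_finrank_le hU (Submodule.equivMapOfInjective _ hinj _).finrank_eq.le]
    · rw [Submodule.eq_of_le_of_finrank_le hW (Submodule.equivMapOfInjective _ hinj _).finrank_eq.le]
  refine Nat.card_congr (Equiv.ofBijective (fun g => ⟨A * levi g, himg g⟩) ⟨fun g g' h => ?_, ?_⟩).symm
  · have h1 := congrArg Subtype.val (mul_left_cancel (congrArg Subtype.val h))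
    exact Units.ext (Matrix.fromBlocks_inj.1 h1).1
  rintro ⟨B, hB⟩
  obtain ⟨C, hC⟩ : ∃ C, C = A⁻¹ * B := ⟨_, rfl⟩
  have hBC : B = A * C := by rw [hC, mul_inv_cancel_left]
  have hinjA : Function.Injective (Matrix.toLin' A.1) := sp_toLin'_injective A
  have hfix : (stdU (F := F) d).map (Matrix.toLin' C.1) = stdU d ∧
      (stdW (F := F) d).map (Matrix.toLin' C.1) = stdW d := by
    have h := congrArg Subtype.val hB
    simp only [polarImage, hBC, CfsgLib.Sp.sp_mul_val, Matrix.toLin'_mul, Submodule.map_comp, Prod.ext_iff] at h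
    exact ⟨Submodule.map_injective_of_injective hinjA h.1, Submodule.map_injective_of_injective hinjA h.2⟩
  have h21 : C.1.toBlocks₂₁ = 0 := by
    ext i j
    have : C.1 *ᵥ Pi.single (Sum.inl j) 1 ∈ stdU (F := F) d := hfix.1 ▸
      ⟨Pi.single (Sum.inl j) 1, mem_stdU.2 fun m => by simp, by rw [Matrix.toLin'_apply]⟩
    have h0 := mem_stdU.1 this i
    simpa [Matrix.mulVec_single_one, Matrix.toBlocks₂₁] using h0
  have h12 : C.1.toBlocks₁₂ = 0 := by
    ext i j
    have : C.1 *ᵥ Pi.single (Sum.inr j) 1 ∈ stdW (F := F) d := hfix.2 ▸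
      ⟨Pi.single (Sum.inr j) 1, mem_stdW.2 fun m => by simp, by rw [Matrix.toLin'_apply]⟩
    have h0 := mem_stdW.1 this i
    simpa [Matrix.mulVec_single_one, Matrix.toBlocks₁₂] using h0
  have hblk : C.1 = Matrix.fromBlocks C.1.toBlocks₁₁ 0 0 C.1.toBlocks₂₂ := by
    conv_lhs => rw [← Matrix.fromBlocks_toBlocks C.1, h12, h21]
  have hrel : C.1.toBlocks₁₁ * C.1.toBlocks₂₂ᵀ = 1 := by
    have h := SymplecticGroup.mem_iff.1 C.2
    rw [hblk, Matrix.J, Matrix.fromBlocks_transpose, Matrix.fromBlocks_multiply, Matrix.fromBlocks_multiply] at h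
    have h2 := (Matrix.fromBlocks_inj.1 h).2.1
    simpa using h2
  obtain ⟨g, hg, hgi⟩ : ∃ g : GL (Fin d) F, g.1 = C.1.toBlocks₁₁ ∧ (g⁻¹).1 = C.1.toBlocks₂₂ᵀ :=
    ⟨⟨_, _, hrel, mul_eq_one_comm.1 hrel⟩, rfl, rfl⟩
  refine ⟨g, Subtype.ext ?_⟩
  show A * levi g = B
  rw [hBC]
  congr 1
  refine Subtype.ext ?_
  show Matrix.fromBlocks g.1 0 0 ((g⁻¹).1)ᵀ = C.1
  rw [hg, hgi, Matrix.transpose_transpose, ← hblk]

end CfsgLib.Perm.Elusive
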