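import Mathlib

/-!
# Maps shifting eigenspaces
-/

set_option autoImplicit false
set_option linter.all false

namespace CfsgLib.Perm.Elusive

variable {F : Type*} [Field F] {V : Type*} [AddCommGroup V] [Module F V] [FiniteDimensional F V]

/-- dimensions of independent subspaces add up -/
theorem sum_finrank_le_of_indep {ι : Type*} [Fintype ι] {U : ι → Submodule F V} (hind : iSupIndep U)
    {P : Submodule F V} (hle : ∀ i, U i ≤ P) : ∑ i, Module.finrank F (U i) ≤ Module.finrank F P := by
  classical
  have key : ∀ s : Finset ι, Module.finrank F (s.sup U : Submodule F V) = ∑ i ∈ s, Module.finrank F (U i) := by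
    intro s
    induction s using Finset.induction_on with
    | empty => simp
    | insert a s ha ih =>
      rw [Finset.sup_insert, Finset.sum_insert ha, ← ih]
      have hd : Disjoint (U a) (s.sup U) := by
        rw [Finset.sup_eq_iSup]
        exact hind.disjoint_biSup (y := (s : Set ι)) (Finset.mem_coe.not.2 ha)
      have h := Submodule.finrank_sup_add_finrank_inf_eq (U a) (s.sup U)
      rwa [hd.eq_bot, finrank_bot, add_zero] at h
  rw [← key]
  exact Submodule.finrank_mono (Finset.sup_le fun i _ => hle i)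

/-- eigenspaces of distinct values inside a subspace -/
theorem sum_eigen_le (f : Module.End F V) (P : Submodule F V) {ι : Type*} [Fintype ι] {μ : ι → F}
    (hμ : Function.Injective μ) : ∑ i, Module.finrank F (f.eigenspace (μ i) ⊓ P : Submodule F V) ≤ Module.finrank F P :=
  sum_finrank_le_of_indep ((f.eigenspaces_iSupIndep.comp hμ).mono fun i => inf_le_left) fun i => inf_le_right

/-- injective maps do not lower dimensions -/
theorem finrank_le_of_maps {y : Module.End F V} (hy : Function.Injective y) {A B : Submodule F V}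
    (h : ∀ v ∈ A, y v ∈ B) : Module.finrank F A ≤ Module.finrank F B := by
  rw [(Submodule.equivMapOfInjective y hy A).finrank_eq]
  exact Submodule.finrank_mono (by rintro _ ⟨v, hv, rfl⟩; exact h v hv)

/-- a map shifting the eigenvalues of another by a root of unity -/
theorem shift_bound (f y : Module.End F V) (hy : Function.Injective y) {P : Submodule F V} (hyP : ∀ v ∈ P, y v ∈ P)
    {r : ℕ} {ζ : F} (hζ : IsPrimitiveRoot ζ r) (hrel : ∀ v ∈ P, f (y v) = ζ • y (f v)) {μ : F} (hμ : μ ≠ 0) :
    r * Module.finrank F (f.eigenspace μ ⊓ P : Submodule F V) ≤ Module.finrank F P := by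
  have hmem : ∀ k : ℕ, ∀ v ∈ f.eigenspace μ ⊓ P, (y ^ k) v ∈ f.eigenspace (μ * ζ ^ k) ⊓ P := by
    intro k
    induction k with
    | zero => intro v hv; simpa using hv
    | succ k ih =>
      intro v hv
      obtain ⟨h1, h2⟩ := Submodule.mem_inf.1 (ih v hv)
      rw [Module.End.mem_eigenspace_iff] at h1
      rw [pow_succ' y, Module.End.mul_apply, Submodule.mem_inf, Module.End.mem_eigenspace_iff]
      refine ⟨?_, hyP _ h2⟩
      rw [hrel _ h2, h1, map_smul, smul_smul, pow_succ ζ]
      congr 1
      ring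
  have hyk : ∀ k : ℕ, Function.Injective (y ^ k) := fun k => by
    rw [Module.End.coe_pow]; exact hy.iterate k
  have hinj : Function.Injective fun k : Fin r => μ * ζ ^ (k : ℕ) := fun a b h =>
    Fin.ext (hζ.pow_inj a.2 b.2 (mul_left_cancel₀ hμ h))
  refine le_trans ?_ (sum_eigen_le f P hinj)
  rw [show r * Module.finrank F (f.eigenspace μ ⊓ P : Submodule F V) =
    ∑ _k : Fin r, Module.finrank F (f.eigenspace μ ⊓ P : Submodule F V) by simp]
  exact Finset.sum_le_sum fun (k : Fin r) _ => finrank_le_of_maps (hyk (k : ℕ)) (hmem (k : ℕ))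

/-- eigenspace decomposition of a map of finite order dividing the roots of unity -/
theorem finrank_eq_sum_eigen (h : Module.End F V) {r : ℕ} (hr : 0 < r) {ζ : F} (hζ : IsPrimitiveRoot ζ r)
    (hrF : (r : F) ≠ 0) (hh : h ^ r = 1) {P : Submodule F V} (hP : ∀ v ∈ P, h v ∈ P) :
    Module.finrank F P = ∑ j : Fin r, Module.finrank F (h.eigenspace (ζ ^ (j : ℕ)) ⊓ P : Submodule F V) := by
  classical
  have hinj : Function.Injective fun k : Fin r => ζ ^ (k : ℕ) := fun a b h => Fin.ext (hζ.pow_inj a.2 b.2 h)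
  refine le_antisymm ?_ (sum_eigen_le h P hinj)
  obtain ⟨U, hU⟩ : ∃ U : Fin r → Submodule F V, ∀ j : Fin r, U j = h.eigenspace (ζ ^ (j : ℕ)) ⊓ P := ⟨_, fun j => rfl⟩
  have hζ0 : ζ ≠ 0 := hζ.ne_zero (by omega)
  have hpowP : ∀ k : ℕ, ∀ v ∈ P, (h ^ k) v ∈ P := fun k => by
    induction k with
    | zero => intro v hv; simpa using hv
    | succ k ih => intro v hv; rw [pow_succ', Module.End.mul_apply]; exact hP _ (ih v hv)
  have hle : P ≤ Finset.univ.sup U := by
    intro v hv
    obtain ⟨w, hw⟩ : ∃ w : Fin r → V, ∀ j : Fin r,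
        w j = ∑ k ∈ Finset.range r, ((ζ ^ (j : ℕ))⁻¹) ^ k • (h ^ k) v := ⟨_, fun j => rfl⟩
    have hwU : ∀ j, w j ∈ U j := by
      intro j
      rw [hU, Submodule.mem_inf, Module.End.mem_eigenspace_iff, hw]
      refine ⟨?_, P.sum_mem fun k _ => P.smul_mem _ (hpowP k v hv)⟩
      obtain ⟨g, hg⟩ : ∃ g : ℕ → V, ∀ k, g k = ((ζ ^ (j : ℕ))⁻¹) ^ k • (h ^ k) v := ⟨_, fun k => rfl⟩
      have hper : g r = g 0 := by
        rw [hg, hg, hh, pow_zero, pow_zero, one_smul, inv_pow, ← pow_mul, mul_comm, pow_mul, hζ.pow_eq_one,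
          one_pow, inv_one, one_smul]
      have hshift : ∑ k ∈ Finset.range r, g (k + 1) = ∑ k ∈ Finset.range r, g k := by
        have h1 := Finset.sum_range_succ' g r
        rw [Finset.sum_range_succ, hper] at h1
        exact (add_right_cancel h1).symm
      rw [← Finset.sum_congr rfl fun k _ => hg k, map_sum, ← hshift, Finset.smul_sum]
      refine Finset.sum_congr rfl fun k _ => ?_
      rw [hg, hg, map_smul, pow_succ' h, Module.End.mul_apply, pow_succ', mul_smul, smul_inv_smul₀ (pow_ne_zero _ hζ0)]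
    have hsum : ∑ j : Fin r, w j = (r : F) • v := by
      simp only [hw]
      rw [Finset.sum_comm, Finset.sum_eq_single 0]
      · simp [Nat.cast_smul_eq_nsmul]
      · intro k hk hk0
        rw [← Finset.sum_smul]
        have hx : ((ζ ^ k)⁻¹) ^ r = 1 := by
          rw [inv_pow, ← pow_mul, mul_comm, pow_mul, hζ.pow_eq_one, one_pow, inv_one]
        have hx1 : (ζ ^ k)⁻¹ ≠ 1 := by
          rw [Ne, inv_eq_one]
          exact fun e => hk0 (hζ.pow_inj (Finset.mem_range.1 hk) hr (by rw [e, pow_zero]))
        have hgeo := geom_sum_mul (ζ ^ k)⁻¹ r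
        rw [hx, sub_self, mul_eq_zero, or_iff_left (sub_ne_zero.2 hx1)] at hgeo
        rw [Fin.sum_univ_eq_sum_range (fun j => ((ζ ^ j)⁻¹) ^ k) r,
          Finset.sum_congr rfl (g := fun j => ((ζ ^ k)⁻¹) ^ j) (fun j _ => by rw [inv_pow, inv_pow, ← pow_mul, ← pow_mul, mul_comm]),
          hgeo, zero_smul]
      · intro h0
        exact absurd (Finset.mem_range.2 hr) h0
    have hv' : v = (r : F)⁻¹ • ∑ j : Fin r, w j := by rw [hsum, inv_smul_smul₀ hrF]
    rw [hv']
    exact Submodule.smul_mem _ _ (Submodule.sum_mem _ fun j hj => (Finset.le_sup (f := U) hj) (hwU j))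
  have hb : ∀ s : Finset (Fin r), Module.finrank F (s.sup U : Submodule F V) ≤ ∑ j ∈ s, Module.finrank F (U j) := by
    intro s
    induction s using Finset.induction_on with
    | empty => simp
    | insert a s ha ih =>
      rw [Finset.sup_insert, Finset.sum_insert ha]
      exact (Submodule.finrank_add_le_finrank_add_finrank _ _).trans (Nat.add_le_add_left ih _)
  have h := (Submodule.finrank_mono hle).trans (hb _)
  exact h.trans (le_of_eq (Finset.sum_congr rfl fun j _ => by rw [hU j]))

end CfsgLib.Perm.Elusive
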