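import Mathlib
import Cfsg.Agent.Lib.Perm.Elusive.PrimeOrderLinear
import Cfsg.Prelude.Def_GeometricClasses

/-!
# Similitudes of sesquilinear Gram matrices inside special linear groups
-/

set_option autoImplicit false
set_option linter.all false

namespace CfsgLib.Perm.Elusive.Sim

open Matrix Polynomial

variable {F : Type*} [Field F] {ι : Type*} [Fintype ι] [DecidableEq ι]

/-- `x` multiplies the Gram matrix `G` by `c` -/
def IsSim (σ : F ≃+* F) (G x : Matrix ι ι F) (c : F) : Prop := xᵀ * G * x.map σ = c • G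

variable {σ : F ≃+* F}

theorem map_mul' (A B : Matrix ι ι F) : (A * B).map σ = A.map σ * B.map σ := Matrix.map_mul

theorem map_one' : (1 : Matrix ι ι F).map σ = 1 := Matrix.map_one σ (map_zero σ) (map_one σ)

theorem map_smul' (a : F) (A : Matrix ι ι F) : (a • A).map σ = σ a • A.map σ := by
  ext i j; simp

theorem map_sub' (A B : Matrix ι ι F) : (A - B).map σ = A.map σ - B.map σ := by
  ext i j; simp

theorem rank_map (A : Matrix ι ι F) : (A.map σ).rank = A.rank := by
  classical
  obtain ⟨L, L', e, he⟩ := Matrix.Pivot.exists_list_transvec_mul_diagonal_mul_list_transvec A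
  obtain ⟨P, hP⟩ : ∃ P, P = (List.map TransvectionStruct.toMatrix L).prod := ⟨_, rfl⟩
  obtain ⟨Q, hQ⟩ : ∃ Q, Q = (List.map TransvectionStruct.toMatrix L').prod := ⟨_, rfl⟩
  have hPu : IsUnit P.det := by rw [hP, TransvectionStruct.det_toMatrix_prod]; exact isUnit_one
  have hQu : IsUnit Q.det := by rw [hQ, TransvectionStruct.det_toMatrix_prod]; exact isUnit_one
  have hmap : ∀ B : Matrix ι ι F, IsUnit B.det → IsUnit (B.map σ).det := fun B h => by
    have := h.map σ.toRingHom
    rwa [σ.toRingHom.map_det] at this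
  rw [he, ← hP, ← hQ, map_mul', map_mul', Matrix.rank_mul_eq_left_of_isUnit_det _ _ (hmap Q hQu),
    Matrix.rank_mul_eq_right_of_isUnit_det _ _ (hmap P hPu), Matrix.rank_mul_eq_left_of_isUnit_det _ _ hQu,
    Matrix.rank_mul_eq_right_of_isUnit_det _ _ hPu, Matrix.diagonal_map (map_zero σ), Matrix.rank_diagonal,
    Matrix.rank_diagonal]
  refine Fintype.card_congr (Equiv.subtypeEquivRight fun i => ?_)
  simp

theorem IsSim.pow {G x : Matrix ι ι F} {c : F} (h : IsSim σ G x c) : ∀ j : ℕ, IsSim σ G (x ^ j) (c ^ j)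
  | 0 => by simp [IsSim, map_one']
  | j + 1 => by
    have ih := IsSim.pow h j
    unfold IsSim at *
    rw [pow_succ, Matrix.transpose_mul, map_mul',
      show xᵀ * (x ^ j)ᵀ * G * ((x ^ j).map σ * x.map σ) = xᵀ * ((x ^ j)ᵀ * G * (x ^ j).map σ) * x.map σ by
        simp only [Matrix.mul_assoc], ih, Matrix.mul_smul, Matrix.smul_mul, h, smul_smul, pow_succ]

theorem IsSim.multiplier_pow [Nonempty ι] {G x : Matrix ι ι F} {c : F} (h : IsSim σ G x c) (hG : G.det ≠ 0) {r : ℕ}
    {z : F} (hz : x ^ r = z • 1) : c ^ r = z * σ z := by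
  have h1 := h.pow r
  rw [IsSim, hz, map_smul', map_one', Matrix.transpose_smul, Matrix.transpose_one, Matrix.smul_mul, Matrix.mul_smul,
    Matrix.smul_mul, one_mul, mul_one, smul_smul, ← sub_eq_zero, ← sub_smul, smul_eq_zero] at h1
  rcases h1 with h1 | h1
  · linear_combination (-1 : F) * h1
  · exact absurd (by rw [h1, Matrix.det_zero]) hG

theorem IsSim.ne_zero [Nonempty ι] {G x : Matrix ι ι F} {c : F} (h : IsSim σ G x c) (hG : G.det ≠ 0) (hx : x.det ≠ 0) :
    c ≠ 0 := by
  intro hc
  have h1 := congrArg Matrix.det h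
  rw [hc, zero_smul, Matrix.det_zero, Matrix.det_mul, Matrix.det_mul, Matrix.det_transpose] at h1
  have h2 : (x.map σ).det = σ x.det := (σ.toRingHom.map_det x).symm
  rw [h2] at h1
  simp [hG, hx] at h1

theorem rank_smul' {a : F} (ha : a ≠ 0) (M : Matrix ι ι F) : (a • M).rank = M.rank := by
  rw [← Matrix.one_mul M, ← Matrix.smul_mul, Matrix.rank_mul_eq_right_of_isUnit_det, Matrix.one_mul]
  rw [Matrix.det_smul, Matrix.det_one, mul_one]
  exact (pow_ne_zero _ ha).isUnit

/-- eigenvalue multiplicities of a similitude -/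
theorem rank_eig [Nonempty ι] {G x : Matrix ι ι F} {c a : F} (h : IsSim σ G x c) (hG : G.det ≠ 0) (hx : x.det ≠ 0)
    (ha : a ≠ 0) : (x - a • 1).rank = (x - σ.symm (c / a) • 1).rank := by
  have hxu : IsUnit (x.map σ).det := by
    rw [show (x.map σ).det = σ x.det from (σ.toRingHom.map_det x).symm]
    exact (by simpa using hx : σ x.det ≠ 0).isUnit
  have e : (x - a • 1)ᵀ * (G * x.map σ) = G * ((-a) • (x.map σ - (c / a) • 1)) := by
    unfold IsSim at h
    rw [Matrix.transpose_sub, Matrix.transpose_smul, Matrix.transpose_one, Matrix.sub_mul, ← Matrix.mul_assoc, h,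
      Matrix.smul_mul, one_mul, Matrix.mul_smul, Matrix.mul_sub, Matrix.mul_smul, Matrix.mul_one, smul_sub, smul_smul,
      neg_mul, mul_div_cancel₀ _ ha]
    simp only [neg_smul, sub_neg_eq_add]
    abel
  have h1 := congrArg Matrix.rank e
  rw [Matrix.rank_mul_eq_left_of_isUnit_det _ _ (by rw [Matrix.det_mul]; exact (Ne.isUnit hG).mul hxu),
    Matrix.rank_transpose, Matrix.rank_mul_eq_right_of_isUnit_det _ _ (Ne.isUnit hG),
    rank_smul' (neg_ne_zero.2 ha)] at h1
  rw [h1, ← rank_map (σ := σ) (x - σ.symm (c / a) • 1), map_sub', map_smul', map_one', σ.apply_symm_apply]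

/-- two eigenvalues of unrepeated multiplicity rule out similitudes -/
theorem not_sim_of_two [Nonempty ι] {x : Matrix ι ι F} (hx : x.det ≠ 0) {a b : F} (ha : a ≠ 0) (hb : b ≠ 0)
    (hua : ∀ d : F, (x - d • 1).rank = (x - a • 1).rank → d = a) (hub : ∀ d : F, (x - d • 1).rank = (x - b • 1).rank → d = b)
    (hab : a * σ a ≠ b * σ b) {G : Matrix ι ι F} (hG : G.det ≠ 0) (c : F) : ¬ IsSim σ G x c := fun h => by
  have h1 := congrArg σ (hua _ (rank_eig h hG hx ha).symm)
  have h2 := congrArg σ (hub _ (rank_eig h hG hx hb).symm)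
  rw [σ.apply_symm_apply, div_eq_iff ha] at h1
  rw [σ.apply_symm_apply, div_eq_iff hb] at h2
  exact hab (by linear_combination h2 - h1)

theorem rank_diag_sub (d : ι → F) (a : F) [DecidableEq F] :
    (Matrix.diagonal d - a • (1 : Matrix ι ι F)).rank + (Finset.univ.filter fun i => d i = a).card = Fintype.card ι := by
  rw [Matrix.smul_one_eq_diagonal, Matrix.diagonal_sub, Matrix.rank_diagonal, Fintype.card_subtype, add_comm,
    ← Finset.card_univ, ← Finset.card_filter_add_card_filter_not (s := Finset.univ) fun i => d i = a]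
  congr 2
  refine Finset.filter_congr fun i _ => ?_
  rw [sub_ne_zero]

/-- transvections are not similitudes of symmetric forms -/
theorem transvection_not_sim [Nonempty ι] {p : ℕ} [Fact p.Prime] [CharP F p] {i j : ι} (hij : i ≠ j)
    {G : Matrix ι ι F} (hG : G.det ≠ 0) (hGs : Gᵀ = G) (h2 : (2 : F) ≠ 0) (c : F) :
    ¬ IsSim (RingEquiv.refl F) G (Matrix.transvection i j 1) c := by
  intro h
  have hp : (Matrix.transvection i j (1 : F)) ^ p = (1 : F) • (1 : Matrix ι ι F) := by
    obtain ⟨k, hk⟩ : ∃ k, p = k + 2 := ⟨p - 2, by have := (Fact.out : p.Prime).two_le; omega⟩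
    rw [one_smul, Matrix.transvection, add_pow_char_of_commute p (Commute.one_left _), one_pow, hk, pow_add, sq,
      Matrix.single_mul_single_of_ne _ _ _ _ hij.symm, mul_zero, add_zero]
  have hc := h.multiplier_pow hG hp
  rw [map_one, mul_one] at hc
  have hc1 : c = 1 := by
    have h0 : (c - 1) ^ p = 0 := by rw [sub_pow_char, one_pow, hc, sub_self]
    exact sub_eq_zero.1 (pow_eq_zero_iff (Fact.out : p.Prime).ne_zero |>.1 h0)
  obtain ⟨N, hN⟩ : ∃ N, N = Matrix.single i j (1 : F) := ⟨_, rfl⟩
  have e : Nᵀ * G + G * N + Nᵀ * G * N = 0 := by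
    unfold IsSim at h
    rw [show (Matrix.transvection i j (1 : F)).map (RingEquiv.refl F) = Matrix.transvection i j 1 from rfl, hc1,
      one_smul, Matrix.transvection, ← hN, Matrix.transpose_add, Matrix.transpose_one, Matrix.add_mul, Matrix.add_mul,
      Matrix.mul_add, Matrix.mul_add, one_mul, mul_one, mul_one] at h
    rw [← sub_eq_zero] at h
    rw [← h]
    abel
  have hs : G j i = G i j := congrFun (congrFun hGs i) j
  have hother : ∀ l, l ≠ j → G i l = 0 := fun l hl => by
    have h1 := congrFun (congrFun e j) l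
    simpa [hN, Matrix.mul_apply, Matrix.single_apply, hl.symm, ite_and] using h1
  have hii : G i i = 0 := hother i hij
  refine hG (Matrix.det_eq_zero_of_row_eq_zero i fun l => ?_)
  by_cases hl : l = j
  · subst hl
    have h5 := congrFun (congrFun e l) l
    simp [hN, Matrix.mul_apply, Matrix.single_apply, ite_and, hs, hii] at h5
    exact (mul_eq_zero.1 (show (2 : F) * G i l = 0 by linear_combination h5)).resolve_left h2
  · exact hother l hl

end CfsgLib.Perm.Elusive.Sim
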