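import Mathlib
import Cfsg.Agent.Lib.Perm.Elusive.SimilLinear

/-!
# Torus elements and diagonal elements without invariant forms up to scalars
-/

set_option autoImplicit false
set_option linter.all false

namespace CfsgLib.Perm.Elusive.Sim

open Matrix Polynomial

variable {F : Type*} [Field F]

theorem map_aeval' {ι : Type*} [Fintype ι] [DecidableEq ι] (σ : F ≃+* F) (x : Matrix ι ι F) (P : F[X]) :
    (aeval x P).map σ = aeval (x.map σ) (P.map σ.toRingHom) := by
  induction P using Polynomial.induction_on' with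
  | add P R hP hR => rw [map_add, Polynomial.map_add, map_add, Matrix.map_add σ (map_add σ), hP, hR]
  | monomial j a =>
    rw [Polynomial.map_monomial, aeval_monomial, aeval_monomial, ← Algebra.smul_def, ← Algebra.smul_def, map_smul',
      show (x ^ j).map σ = (x.map σ) ^ j from by
        induction j with
        | zero => simp [map_one']
        | succ j ih => rw [pow_succ, map_mul', ih, pow_succ]]
    rfl

/-- polynomials killing an isometry kill its inverse after conjugation -/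
theorem IsSim.aeval_inv {ι : Type*} [Fintype ι] [DecidableEq ι] {σ : F ≃+* F} {G : Matrix ι ι F} {x y : Matrix ι ι F}
    (h : IsSim σ G x 1) (hG : G.det ≠ 0) (hy : x * y = 1) {P : F[X]} (hP : aeval x P = 0) :
    aeval y (P.map σ.toRingHom) = 0 := by
  have hyx : y * x = 1 := mul_eq_one_comm.1 hy
  have h1 : G * x.map σ = yᵀ * G := by
    unfold IsSim at h
    rw [one_smul] at h
    conv_rhs => rw [← h]
    rw [← Matrix.mul_assoc, ← Matrix.mul_assoc, ← Matrix.transpose_mul, hy, Matrix.transpose_one, one_mul]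
  have hkey : ∀ R : F[X], G * aeval (x.map σ) R = (aeval y R)ᵀ * G := fun R => by
    induction R using Polynomial.induction_on' with
    | add A B hA hB => rw [map_add, map_add, Matrix.mul_add, hA, hB, Matrix.transpose_add, Matrix.add_mul]
    | monomial j a =>
      rw [aeval_monomial, aeval_monomial, ← Algebra.smul_def, ← Algebra.smul_def, Matrix.transpose_smul,
        Matrix.mul_smul, Matrix.smul_mul]
      congr 1
      induction j with
      | zero => rw [pow_zero, pow_zero, mul_one, Matrix.transpose_one, one_mul]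
      | succ j ih => rw [pow_succ, ← Matrix.mul_assoc, ih, Matrix.mul_assoc, h1, ← Matrix.mul_assoc,
          ← Matrix.transpose_mul, ← pow_succ']
  have h2 := hkey (P.map σ.toRingHom)
  rw [← map_aeval', hP, Matrix.map_zero σ (map_zero σ), Matrix.mul_zero] at h2
  have h3 := congrArg (· * G⁻¹) h2.symm
  simp only [Matrix.mul_assoc, Matrix.mul_nonsing_inv _ (Ne.isUnit hG), mul_one, Matrix.zero_mul] at h3
  exact Matrix.transpose_eq_zero.1 h3

/-- a diagonal matrix with two unrepeated multiplicities -/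
theorem diag_not_sim {n : ℕ} [DecidableEq F] {σ : F ≃+* F} (hn : 0 < n) {d : Fin n → F} (hd : ∀ i, d i ≠ 0) {a b : F}
    (ha : ∃ i, d i = a) (hb : ∃ i, d i = b)
    (hua : ∀ e : F, (Finset.univ.filter fun i => d i = e).card = (Finset.univ.filter fun i => d i = a).card → e = a)
    (hub : ∀ e : F, (Finset.univ.filter fun i => d i = e).card = (Finset.univ.filter fun i => d i = b).card → e = b)
    (hab : a * σ a ≠ b * σ b) {G : Matrix (Fin n) (Fin n) F} (hG : G.det ≠ 0) (c : F) :
    ¬ IsSim σ G (Matrix.diagonal d) c := by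
  haveI : Nonempty (Fin n) := ⟨⟨0, hn⟩⟩
  obtain ⟨i, rfl⟩ := ha
  obtain ⟨j, rfl⟩ := hb
  refine not_sim_of_two (by rw [Matrix.det_diagonal]; exact Finset.prod_ne_zero_iff.2 fun l _ => hd l) (hd i) (hd j)
    (fun e he => hua e ?_) (fun e he => hub e ?_) hab hG c
  · have h1 := rank_diag_sub d e
    have h2 := rank_diag_sub d (d i)
    omega
  · have h1 := rank_diag_sub d e
    have h2 := rank_diag_sub d (d j)
    omega

/-- first recipe: one exceptional eigenvalue -/
theorem diag_recipe_one {n : ℕ} {σ : F ≃+* F} (hn : 3 ≤ n) {r : ℕ} (hr0 : r ≠ 0) {a : F} (hσ : σ a = a)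
    (hr : a ^ (n * r) = 1) (h2n : a ^ (2 * n) ≠ 1) :
    ∃ d : Fin n → F, ∏ i, d i = 1 ∧ (∀ i, d i ^ r = a ^ r) ∧ (∃ i j, d i ≠ d j) ∧
      ∀ G : Matrix (Fin n) (Fin n) F, G.det ≠ 0 → ∀ c, ¬ IsSim σ G (Matrix.diagonal d) c := by
  classical
  obtain ⟨k, rfl⟩ : ∃ k, n = k + 1 := ⟨n - 1, by omega⟩
  have ha0 : a ≠ 0 := fun h => by
    rw [h, zero_pow (Nat.mul_ne_zero (by omega) hr0)] at hr
    exact zero_ne_one hr
  obtain ⟨b, hb⟩ : ∃ b, b = (a ^ k)⁻¹ := ⟨_, rfl⟩
  have hb0 : b ≠ 0 := by rw [hb]; exact inv_ne_zero (pow_ne_zero _ ha0)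
  have hab : a * σ a ≠ b * σ b := fun h => by
    rw [hσ, show σ b = b from by rw [hb, map_inv₀, map_pow, hσ], hb] at h
    field_simp at h
    exact h2n (by linear_combination h)
  have hne : a ≠ b := fun h => hab (by rw [h])
  obtain ⟨d, hd⟩ : ∃ d : Fin (k + 1) → F, ∀ i, d i = if i = 0 then b else a := ⟨_, fun i => rfl⟩
  have hd0 : d 0 = b := by rw [hd, if_pos rfl]
  have hds : ∀ i : Fin k, d i.succ = a := fun i => by rw [hd, if_neg (Fin.succ_ne_zero i)]
  have hcard : ∀ e, (Finset.univ.filter fun i => d i = e).card = (if b = e then 1 else 0) + (if a = e then k else 0) := by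
    intro e
    rw [Fin.card_filter_univ_succ]
    simp only [hd0, Function.comp_def, hds]
    by_cases h1 : b = e <;> by_cases h2 : a = e <;> simp [h1, h2, Nat.add_comm]
  refine ⟨d, ?_, fun i => ?_, ⟨0, (⟨0, by omega⟩ : Fin k).succ, by rw [hd0, hds]; exact hne.symm⟩, fun G hG c => ?_⟩
  · rw [Fin.prod_univ_succ, hd0]
    simp only [hds, Finset.prod_const, Finset.card_univ, Fintype.card_fin]
    rw [hb, inv_mul_cancel₀ (pow_ne_zero _ ha0)]
  · rw [hd]
    split_ifs
    · rw [hb, inv_pow]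
      refine inv_eq_of_mul_eq_one_right ?_
      rw [← pow_mul, ← pow_add, ← hr]
      congr 1
      ring
    · rfl
  · refine diag_not_sim (by omega) (fun i => by rw [hd]; split_ifs <;> assumption)
      ⟨(⟨0, by omega⟩ : Fin k).succ, hds _⟩ ⟨0, hd0⟩ (fun e he => ?_) (fun e he => ?_) hab hG c
    · rw [hcard, hcard, if_neg hne.symm, if_pos rfl] at he
      by_contra hea
      rw [if_neg (Ne.symm hea)] at he
      split_ifs at he <;> omega
    · rw [hcard, hcard, if_pos rfl, if_neg hne] at he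
      by_contra heb
      rw [if_neg (Ne.symm heb)] at he
      split_ifs at he <;> omega

/-- second recipe: three exceptional eigenvalues -/
theorem diag_recipe_two {n : ℕ} {σ : F ≃+* F} (hn : 7 ≤ n) {r : ℕ} {w : F} (hr : r.Prime) (hodd : Odd r)
    (hw : orderOf w = r) (hσ : σ w = w) :
    ∃ d : Fin n → F, ∏ i, d i = 1 ∧ (∀ i, d i ^ r = 1) ∧ (∃ i j, d i ≠ d j) ∧
      ∀ G : Matrix (Fin n) (Fin n) F, G.det ≠ 0 → ∀ c, ¬ IsSim σ G (Matrix.diagonal d) c := by
  classical
  obtain ⟨k, rfl⟩ : ∃ k, n = k + 3 := ⟨n - 3, by omega⟩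
  have hwr : w ^ r = 1 := hw ▸ pow_orderOf_eq_one w
  have hw0 : w ≠ 0 := fun h => by rw [h, zero_pow hr.ne_zero] at hwr; exact zero_ne_one hwr
  have hr3 : 3 ≤ r := by
    have := hr.two_le
    rcases hodd with ⟨c, hc⟩
    omega
  have hw1 : w ≠ 1 := fun h => hr.ne_one (by rw [← hw, h, orderOf_one])
  have hw2 : w ^ 2 ≠ 1 := fun h => by
    have := Nat.le_of_dvd two_pos (hw ▸ orderOf_dvd_of_pow_eq_one h)
    omega
  obtain ⟨b, hb⟩ : ∃ b, b = (w ^ 2)⁻¹ := ⟨_, rfl⟩
  have hb1 : b ≠ 1 := by rw [hb]; simpa using hw2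
  obtain ⟨d, hd⟩ : ∃ d : Fin (k + 3) → F, d = Fin.cons w (Fin.cons w (Fin.cons b fun _ => 1)) := ⟨_, rfl⟩
  have hcard : ∀ e, (Finset.univ.filter fun i => d i = e).card =
      (if w = e then 1 else 0) + ((if w = e then 1 else 0) + ((if b = e then 1 else 0) + (if 1 = e then k else 0))) := by
    intro e
    rw [hd, Fin.card_filter_univ_succ]
    simp only [Function.comp_def, Fin.cons_zero, Fin.cons_succ]
    rw [Fin.card_filter_univ_succ]
    simp only [Function.comp_def, Fin.cons_zero, Fin.cons_succ]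
    rw [Fin.card_filter_univ_succ]
    simp only [Function.comp_def, Fin.cons_zero, Fin.cons_succ]
    by_cases h1 : w = e <;> by_cases h2 : b = e <;> by_cases h3 : (1 : F) = e <;> simp [h1, h2, h3] <;> omega
  have hab : (1 : F) * σ 1 ≠ w * σ w := by rw [map_one, hσ, one_mul, ← sq]; exact hw2.symm
  have hmem : ∀ i, d i = w ∨ d i = b ∨ d i = 1 := fun i => by
    rw [hd]
    induction i using Fin.cases with
    | zero => exact .inl (by simp only [Fin.cons_zero])
    | succ i =>
      induction i using Fin.cases with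
      | zero => exact .inl (by simp only [Fin.cons_succ, Fin.cons_zero])
      | succ i =>
        induction i using Fin.cases with
        | zero => exact .inr (.inl (by simp only [Fin.cons_succ, Fin.cons_zero]))
        | succ i => exact .inr (.inr (by simp only [Fin.cons_succ]))
  obtain ⟨l, hl⟩ : ∃ l, d l = 1 :=
    ⟨(⟨0, by omega⟩ : Fin k).succ.succ.succ, by simp only [hd, Fin.cons_succ]⟩
  have h0 : d 0 = w := by rw [hd, Fin.cons_zero]
  refine ⟨d, ?_, fun i => ?_, ⟨0, l, by rw [h0, hl]; exact hw1⟩, fun G hG c => ?_⟩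
  · rw [hd, Fin.prod_cons, Fin.prod_cons, Fin.prod_cons, Finset.prod_const_one, mul_one, hb]
    field_simp
  · rcases hmem i with h | h | h <;> rw [h]
    · exact hwr
    · rw [hb, inv_pow, ← pow_mul, mul_comm, pow_mul, hwr, one_pow, inv_one]
    · exact one_pow r
  · refine diag_not_sim (by omega) (fun i => ?_) (a := 1) (b := w) ⟨l, hl⟩ ⟨0, h0⟩ (fun e he => ?_) (fun e he => ?_)
      hab hG c
    · rcases hmem i with h | h | h <;> rw [h]
      · exact hw0
      · rw [hb]; exact inv_ne_zero (pow_ne_zero _ hw0)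
      · exact one_ne_zero
    · rw [hcard, hcard, if_neg hw1, if_neg hb1, if_pos rfl] at he
      by_contra he1
      rw [if_neg (Ne.symm he1)] at he
      split_ifs at he <;> omega
    · rw [hcard, hcard, if_pos rfl, if_neg (Ne.symm hw1)] at he
      by_contra hew
      rw [if_neg (Ne.symm hew)] at he
      split_ifs at he <;> omega

/-- an element on a field of roots of unity, extended by the identity -/
theorem exists_torus_not_sim [Fintype F] {p : ℕ} [Fact p.Prime] [CharP F p] {n b k : ℕ} (hn : n = b + k) (hb : 0 < b)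
    {r : ℕ} (hr : r.Prime) (hrb : r ∣ Fintype.card F ^ b - 1) (hr1 : ¬ r ∣ Fintype.card F - 1) {σ : F ≃+* F} {e : ℕ}
    (hσ : ∀ a, σ a = a ^ p ^ e) (hno : ∀ j : ℕ, ¬ r ∣ p ^ e * Fintype.card F ^ j + 1) :
    ∃ x : Matrix (Fin n) (Fin n) F, x.det = 1 ∧ x ^ r = 1 ∧ (∀ z : F, x ≠ z • (1 : Matrix (Fin n) (Fin n) F)) ∧
      ∀ G : Matrix (Fin n) (Fin n) F, G.det ≠ 0 → ∀ c, ¬ IsSim σ G x c := by
  classical
  subst hn
  haveI : NeZero b := ⟨hb.ne'⟩
  haveI : Nonempty (Fin (b + k)) := ⟨⟨0, by omega⟩⟩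
  let L := FiniteField.Extension F p b
  have hfin : Module.finrank F L = b := FiniteField.finrank_extension F p b
  haveI : Finite L := Module.finite_of_finite F
  haveI : CharP L p := charP_of_injective_algebraMap (algebraMap F L).injective p
  let B := Module.finBasisOfFinrankEq F L hfin
  obtain ⟨u, hu⟩ := IsCyclic.exists_ofOrder_eq_natCard (α := Lˣ)
  rw [Nat.card_units, FiniteField.natCard_extension, Nat.card_eq_fintype_card] at hu
  obtain ⟨w, hw⟩ : ∃ w : Lˣ, orderOf w = r := ⟨_, orderOf_pow_orderOf_div (orderOf_pos u).ne' (hu ▸ hrb)⟩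
  obtain ⟨ζ, hζ⟩ : ∃ ζ : L, ζ = (w : L) := ⟨_, rfl⟩
  have hζo : orderOf ζ = r := by rw [hζ, orderOf_units, hw]
  have hζr : ζ ^ r = 1 := hζo ▸ pow_orderOf_eq_one ζ
  have hζ0 : ζ ≠ 0 := hζ ▸ w.ne_zero
  have hζ1 : ζ ≠ 1 := fun h => hr.ne_one (by rw [← hζo, h, orderOf_one])
  obtain ⟨φ, hφinj⟩ : ∃ φ : (L × F) →ₐ[F] Matrix (Fin (b + k)) (Fin (b + k)) F,
      ∀ u : L × F, φ u = 0 → u.1 = 0 := by
    let ψ : (L × F) →ₐ[F] Matrix (Fin b ⊕ Fin k) (Fin b ⊕ Fin k) F :=
      AlgHom.ofLinearMap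
        { toFun := fun u => Matrix.fromBlocks (Algebra.leftMulMatrix B u.1) 0 0 (u.2 • 1)
          map_add' := fun u v => by
            rw [Matrix.fromBlocks_add, add_zero, add_zero, Prod.fst_add, Prod.snd_add, map_add, add_smul]
          map_smul' := fun c u => by
            rw [RingHom.id_apply, Matrix.fromBlocks_smul, smul_zero, smul_zero, Prod.smul_fst, Prod.smul_snd, map_smul,
              smul_assoc] }
        (by
          show Matrix.fromBlocks (Algebra.leftMulMatrix B 1) 0 0 ((1 : F) • 1) = 1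
          rw [map_one, one_smul, Matrix.fromBlocks_one])
        (fun u v => by
          show Matrix.fromBlocks (Algebra.leftMulMatrix B (u.1 * v.1)) 0 0 ((u.2 * v.2) • 1) =
            Matrix.fromBlocks (Algebra.leftMulMatrix B u.1) 0 0 (u.2 • 1) *
              Matrix.fromBlocks (Algebra.leftMulMatrix B v.1) 0 0 (v.2 • 1)
          rw [Matrix.fromBlocks_multiply, map_mul]
          simp [Matrix.smul_mul, Matrix.mul_smul, smul_smul, mul_comm u.2])
    refine ⟨(Matrix.reindexAlgEquiv F F finSumFinEquiv).toAlgHom.comp ψ, fun u hu => ?_⟩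
    have h1 : ψ u = 0 := (Matrix.reindexAlgEquiv F F finSumFinEquiv).injective (by rw [map_zero]; exact hu)
    have h2 := congrArg Matrix.toBlocks₁₁ h1
    exact Algebra.leftMulMatrix_injective B (by rw [map_zero]; exact h2)
  obtain ⟨x, hx⟩ : ∃ x, x = φ (ζ, 1) := ⟨_, rfl⟩
  have hxr : x ^ r = 1 := by rw [hx, ← map_pow, Prod.pow_mk, hζr, one_pow, ← Prod.one_eq_mk, map_one]
  refine ⟨x, ?_, hxr, fun z hz => ?_, fun G hG c h => ?_⟩
  · have h1 : x.det ^ r = 1 := by rw [← Matrix.det_pow, hxr, Matrix.det_one]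
    have h0 : x.det ≠ 0 := fun h => by rw [h, zero_pow hr.ne_zero] at h1; exact zero_ne_one h1
    have h2 := pow_gcd_eq_one.2 ⟨h1, FiniteField.pow_card_sub_one_eq_one x.det h0⟩
    rwa [(hr.coprime_iff_not_dvd.2 hr1).gcd_eq_one, pow_one] at h2
  · have h1 : φ ((ζ, 1) - algebraMap F (L × F) z) = 0 := by
      rw [map_sub, ← hx, AlgHom.commutes, hz, Algebra.algebraMap_eq_smul_one, sub_self]
    have h2 : ζ - algebraMap F L z = 0 := hφinj _ h1
    rw [sub_eq_zero] at h2
    have hz1 : z ^ r = 1 := (algebraMap F L).injective (by rw [map_pow, ← h2, hζr, map_one])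
    have hz0 : z ≠ 0 := fun h => by rw [h, zero_pow hr.ne_zero] at hz1; exact zero_ne_one hz1
    have h3 := pow_gcd_eq_one.2 ⟨hz1, FiniteField.pow_card_sub_one_eq_one z hz0⟩
    rw [(hr.coprime_iff_not_dvd.2 hr1).gcd_eq_one, pow_one] at h3
    exact hζ1 (by rw [h2, h3, map_one])
  · have hcr : c ^ r = 1 := by
      rw [h.multiplier_pow hG (z := 1) (by rw [one_smul, hxr]), map_one, mul_one]
    have hc0 : c ≠ 0 := fun h => by rw [h, zero_pow hr.ne_zero] at hcr; exact zero_ne_one hcr
    have hc1 : c = 1 := by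
      have h2 := pow_gcd_eq_one.2 ⟨hcr, FiniteField.pow_card_sub_one_eq_one c hc0⟩
      rwa [(hr.coprime_iff_not_dvd.2 hr1).gcd_eq_one, pow_one] at h2
    rw [hc1] at h
    obtain ⟨P, hP⟩ : ∃ P, P = minpoly F ζ := ⟨_, rfl⟩
    have hxP : aeval x (P * (X - 1)) = 0 := by
      rw [hx, aeval_algHom_apply, show aeval ((ζ, 1) : L × F) (P * (X - 1)) = 0 from ?_, map_zero]
      refine Prod.ext ?_ ?_
      · show (AlgHom.fst F L F) (aeval ((ζ, 1) : L × F) (P * (X - 1))) = 0
        rw [← aeval_algHom_apply, map_mul, hP]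
        show aeval ζ (minpoly F ζ) * _ = 0
        rw [minpoly.aeval, zero_mul]
      · show (AlgHom.snd F L F) (aeval ((ζ, 1) : L × F) (P * (X - 1))) = 0
        rw [← aeval_algHom_apply, map_mul, map_sub (aeval _), aeval_X, map_one]
        show _ * ((1 : F) - 1) = 0
        rw [sub_self, mul_zero]
    have hy := h.aeval_inv hG (y := φ (ζ⁻¹, 1)) (by
      rw [hx, ← map_mul, Prod.mk_mul_mk, mul_inv_cancel₀ hζ0, one_mul, ← Prod.one_eq_mk, map_one]) hxP
    rw [aeval_algHom_apply] at hy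
    have hy1 : (AlgHom.fst F L F) (aeval ((ζ⁻¹, 1) : L × F) ((P * (X - 1)).map σ.toRingHom)) = 0 := hφinj _ hy
    rw [← aeval_algHom_apply, Polynomial.map_mul, map_mul, Polynomial.map_sub, Polynomial.map_one, Polynomial.map_X,
      map_sub (aeval _), aeval_X, map_one] at hy1
    have hroot : aeval ζ⁻¹ (P.map σ.toRingHom) = 0 :=
      (mul_eq_zero.1 hy1).resolve_right (sub_ne_zero.2 fun h' => hζ1 (inv_eq_one.1 h'))
    obtain ⟨Φ, hΦ⟩ : ∃ Φ : L →+* L, ∀ y, Φ y = y ^ p ^ e :=
      ⟨iterateFrobenius L p e, fun y => iterateFrobenius_def p e y⟩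
    have hroot' : aeval (Φ ζ) (P.map σ.toRingHom) = 0 := by
      have h1' : ∀ R : F[X], Φ (aeval ζ R) = aeval (Φ ζ) (R.map σ.toRingHom) := fun R => by
        induction R using Polynomial.induction_on' with
        | add A B hA hB => rw [map_add, map_add, Polynomial.map_add, map_add, hA, hB]
        | monomial j a =>
          rw [aeval_monomial, Polynomial.map_monomial, aeval_monomial, map_mul, map_pow]
          congr 1
          rw [hΦ, RingEquiv.toRingHom_eq_coe, RingHom.coe_coe, hσ, map_pow]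
      rw [← h1', hP, minpoly.aeval, map_zero]
    have hirr : Irreducible (P.map σ.toRingHom) := by
      rw [hP]
      exact (MulEquiv.irreducible_iff (Polynomial.mapEquiv σ) (x := minpoly F ζ)).2
        (minpoly.irreducible (Algebra.IsIntegral.isIntegral ζ))
    have hmon : (P.map σ.toRingHom).Monic := by rw [hP]; exact (minpoly.monic (Algebra.IsIntegral.isIntegral ζ)).map _
    have heq : minpoly F (Φ ζ) = minpoly F ζ⁻¹ := by
      rw [← minpoly.eq_of_irreducible_of_monic hirr hroot hmon, ← minpoly.eq_of_irreducible_of_monic hirr hroot' hmon]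
    obtain ⟨g, hg⟩ := (Normal.minpoly_eq_iff_mem_orbit (E := L)).1 heq.symm
    obtain ⟨j, hj⟩ := (FiniteField.bijective_frobeniusAlgEquivOfAlgebraic_pow F L).2 g
    have hfin' : (Φ ζ) ^ Fintype.card F ^ (j : ℕ) = ζ⁻¹ := by
      rw [← hg, ← hj]
      show _ = (FiniteField.frobeniusAlgEquivOfAlgebraic F L ^ (j : ℕ)) (Φ ζ)
      exact (congrFun (AlgEquiv.coe_pow _ _) (Φ ζ)).trans
        (congrFun (FiniteField.coe_frobeniusAlgEquivOfAlgebraic_iterate F L _) (Φ ζ)) |>.symm
    rw [hΦ, ← pow_mul] at hfin'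
    have hfin'' := congrArg (· * ζ) hfin'
    simp only [inv_mul_cancel₀ hζ0, ← pow_succ] at hfin''
    exact hno j (hζo ▸ orderOf_dvd_of_pow_eq_one hfin'')

end CfsgLib.Perm.Elusive.Sim
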