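import Mathlib
import Cfsg.Agent.Lib.Perm.Elusive.SimilTorus
import Cfsg.Agent.Lib.Classical.HermFrames
import Cfsg.Agent.Lib.FormClass.OddChar

/-!
# Conjugation into similitude groups inside special linear groups
-/

set_option autoImplicit false
set_option linter.all false

namespace CfsgLib.Perm.Elusive.Sim

open Matrix

variable {F : Type*} [Field F] {n : ℕ} {σ : F ≃+* F}

theorem IsSim.conj {M : Matrix (Fin n) (Fin n) F} {D x S : Matrix (Fin n) (Fin n) F} {c : F} (h : IsSim σ M D c)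
    (hS : S.det ≠ 0) (hx : x * S = S * D) : IsSim σ (S⁻¹ᵀ * M * S⁻¹.map σ) x c := by
  have hSu := Ne.isUnit hS
  have e1 : x = S * D * S⁻¹ := by rw [← hx, Matrix.mul_assoc, Matrix.mul_nonsing_inv _ hSu, mul_one]
  unfold IsSim at *
  have e2 : S⁻¹ * x = D * S⁻¹ := by
    rw [e1, ← Matrix.mul_assoc, ← Matrix.mul_assoc, Matrix.nonsing_inv_mul _ hSu, one_mul]
  calc xᵀ * (S⁻¹ᵀ * M * S⁻¹.map σ) * x.map σ
      = (S⁻¹ * x)ᵀ * M * (S⁻¹ * x).map σ := by rw [Matrix.transpose_mul, map_mul']; simp only [Matrix.mul_assoc]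
    _ = S⁻¹ᵀ * (Dᵀ * M * D.map σ) * S⁻¹.map σ := by
        rw [e2, Matrix.transpose_mul, map_mul']; simp only [Matrix.mul_assoc]
    _ = _ := by rw [h, Matrix.mul_smul, Matrix.smul_mul]

theorem det_map' {ι : Type*} [Fintype ι] [DecidableEq ι] (A : Matrix ι ι F) : (A.map σ).det = σ A.det :=
  (σ.toRingHom.map_det A).symm

theorem det_congr_ne_zero {M P : Matrix (Fin n) (Fin n) F} (hM : M.det ≠ 0) (hP : P.det ≠ 0) :
    (Pᵀ * M * P.map σ).det ≠ 0 := by
  rw [Matrix.det_mul, Matrix.det_mul, Matrix.det_transpose, det_map']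
  exact mul_ne_zero (mul_ne_zero hP hM) (by simpa using hP)

/-- a conjugate similitude gives an invariant form -/
theorem sim_of_conj {x g : GL (Fin n) F} {G : Matrix (Fin n) (Fin n) F} {c : F} (hG : G.det ≠ 0)
    (h : IsSim σ G (g⁻¹ * x * g).1 c) : ∃ M, M.det ≠ 0 ∧ (G.transpose = G → σ = RingEquiv.refl F → Mᵀ = M) ∧
      IsSim σ M x.1 c := by
  have hg : g.1.det ≠ 0 := ((Matrix.isUnit_iff_isUnit_det _).1 g.isUnit).ne_zero
  refine ⟨_, det_congr_ne_zero hG ?_, fun hs hσ => ?_, h.conj hg (S := g.1) ?_⟩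
  · rw [Matrix.det_nonsing_inv]; simpa using hg
  · subst hσ
    simp only [RingEquiv.coe_refl, Matrix.map_id, Matrix.transpose_mul, Matrix.transpose_transpose, hs, Matrix.mul_assoc]
  · rw [← Units.val_mul, ← Units.val_mul, ← mul_assoc, mul_inv_cancel_left]

/-- conjugating into the similitude group by an element of determinant one -/
theorem exists_sl_conj_of_frame {x : GL (Fin n) F} {S D M P G : Matrix (Fin n) (Fin n) F} {c lam : F}
    (hS : S.det ≠ 0) (hx : x.1 * S = S * D) (hM : IsSim σ M D c) (hP : P.det ≠ 0) (hlam : lam ≠ 0)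
    (hPM : M = lam • (Pᵀ * G * P.map σ)) (hC : ∀ δ : F, δ ≠ 0 → ∃ C : Matrix (Fin n) (Fin n) F, C * D = D * C ∧ C.det = δ) :
    ∃ g ∈ Cfsg.Geo.specialLinear (Fin n) F, IsSim σ G (g⁻¹ * x * g).1 c := by
  have hG' : IsSim σ G (P * D * P⁻¹) c := by
    have h1 := hM.conj hP (x := P * D * P⁻¹)
      (by rw [Matrix.mul_assoc, Matrix.nonsing_inv_mul _ (Ne.isUnit hP), mul_one])
    have e : P⁻¹ᵀ * M * P⁻¹.map σ = lam • G := by
      rw [hPM, Matrix.mul_smul, Matrix.smul_mul]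
      congr 1
      calc P⁻¹ᵀ * (Pᵀ * G * P.map σ) * P⁻¹.map σ = (P * P⁻¹)ᵀ * G * (P * P⁻¹).map σ := by
            rw [Matrix.transpose_mul, map_mul']; simp only [Matrix.mul_assoc]
        _ = G := by rw [Matrix.mul_nonsing_inv _ (Ne.isUnit hP), Matrix.transpose_one, map_one', one_mul, mul_one]
    rw [e] at h1
    unfold IsSim at h1 ⊢
    rw [Matrix.mul_smul, Matrix.smul_mul, smul_comm] at h1
    exact smul_right_injective _ hlam h1
  obtain ⟨C, hCD, hCd⟩ := hC (P.det / S.det) (div_ne_zero hP hS)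
  have hd : (S * C * P⁻¹).det = 1 := by
    rw [Matrix.det_mul, Matrix.det_mul, hCd, Matrix.det_nonsing_inv, mul_div_cancel₀ _ hS]
    simp [hP]
  obtain ⟨g, hg⟩ : ∃ g : GL (Fin n) F, g.1 = S * C * P⁻¹ :=
    ⟨Matrix.GeneralLinearGroup.mkOfDetNeZero _ (by rw [hd]; exact one_ne_zero), rfl⟩
  refine ⟨g, MonoidHom.mem_ker.2 (Units.ext (by rw [Matrix.GeneralLinearGroup.val_det_apply, hg, hd]; rfl)), ?_⟩
  have e1 : x.1 * g.1 = g.1 * (P * D * P⁻¹) := by
    rw [hg]
    calc x.1 * (S * C * P⁻¹) = (x.1 * S) * C * P⁻¹ := by simp only [Matrix.mul_assoc]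
      _ = S * (D * C) * P⁻¹ := by rw [hx]; simp only [Matrix.mul_assoc]
      _ = S * C * D * P⁻¹ := by rw [← hCD]; simp only [Matrix.mul_assoc]
      _ = _ := by
        simp only [Matrix.mul_assoc]
        rw [← Matrix.mul_assoc P⁻¹ P, Matrix.nonsing_inv_mul _ (Ne.isUnit hP), one_mul]
  rw [show (g⁻¹ * x * g).1 = P * D * P⁻¹ by
    rw [mul_assoc, Units.val_mul, Units.val_mul, e1, ← Matrix.mul_assoc, Units.inv_mul, one_mul]]
  exact hG'

/-- frames from bases -/
theorem frame_of_basis {κ : Type*} [Fintype κ] [DecidableEq κ] (e : κ ≃ Fin n) (x : Matrix (Fin n) (Fin n) F)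
    (b : Module.Basis κ F (Fin n → F)) (D : Matrix κ κ F) (hb : ∀ j, x *ᵥ b j = ∑ i, D i j • b i) :
    ∃ S : Matrix (Fin n) (Fin n) F, S.det ≠ 0 ∧ x * S = S * D.reindex e e := by
  refine ⟨Matrix.of fun i j => b (e.symm j) i, ?_, ?_⟩
  · intro h
    obtain ⟨v, hv, hv0⟩ := Matrix.exists_mulVec_eq_zero_iff.2 h
    refine hv (funext fun j => ?_)
    have h1 : ∑ i, v (e i) • b i = 0 := by
      funext a
      have := congrFun hv0 a
      rw [Finset.sum_apply]
      refine Eq.trans ?_ this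
      rw [Matrix.mulVec, dotProduct, ← Equiv.sum_comp e]
      simp [mul_comm]
    simpa using Fintype.linearIndependent_iff.1 b.linearIndependent _ h1 (e.symm j)
  · ext a j
    have h := congrFun (hb (e.symm j)) a
    rw [Finset.sum_apply] at h
    rw [Matrix.mul_apply, Matrix.mul_apply, ← Equiv.sum_comp e (fun l => _ * (D.reindex e e) l j)]
    simpa [Matrix.mulVec, dotProduct, mul_comm] using h

/-- diagonal elements have centralisers with every determinant -/
theorem diag_cent (hn : 0 < n) (d : Fin n → F) (δ : F) :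
    ∃ C : Matrix (Fin n) (Fin n) F, C * Matrix.diagonal d = Matrix.diagonal d * C ∧ C.det = δ := by
  refine ⟨Matrix.diagonal fun i => if i = ⟨0, hn⟩ then δ else 1, ?_, ?_⟩
  · rw [Matrix.diagonal_mul_diagonal, Matrix.diagonal_mul_diagonal]
    congr 1
    funext i
    ring
  · rw [Matrix.det_diagonal, Finset.prod_ite_eq' Finset.univ _ (fun _ => δ), if_pos (Finset.mem_univ _)]

/-- the Gram matrix of a pairing -/
def permGram {κ : Type*} [DecidableEq κ] (F : Type*) [Field F] (π : Equiv.Perm κ) : Matrix κ κ F :=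
  Matrix.of fun i j => if π i = j then 1 else 0

theorem permGram_det {κ : Type*} [Fintype κ] [DecidableEq κ] (π : Equiv.Perm κ) : (permGram F π).det ≠ 0 := by
  have h : permGram F π = (1 : Matrix κ κ F).submatrix π id := by
    ext i j; simp [permGram, Matrix.one_apply]
  rw [h, Matrix.det_permute, Matrix.det_one, mul_one]
  rcases Int.units_eq_one_or (Equiv.Perm.sign π) with h | h <;> simp [h]

theorem permGram_symm {κ : Type*} [DecidableEq κ] (π : Equiv.Perm κ) (hπ : ∀ i, π (π i) = i) :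
    (permGram F π)ᵀ = permGram F π := by
  ext i j
  simp only [permGram, Matrix.transpose_apply, Matrix.of_apply]
  refine if_congr ⟨fun h => ?_, fun h => ?_⟩ rfl rfl <;> rw [← h, hπ]

theorem permGram_map {κ : Type*} [DecidableEq κ] (π : Equiv.Perm κ) : (permGram F π).map σ = permGram F π := by
  ext i j
  simp [permGram, apply_ite σ]

theorem permGram_sim {κ : Type*} [Fintype κ] [DecidableEq κ] (π : Equiv.Perm κ) (d : κ → F) (μ : F)
    (h : ∀ i, d i * σ (d (π i)) = μ) : IsSim σ (permGram F π) (Matrix.diagonal d) μ := by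
  unfold IsSim
  rw [Matrix.diagonal_transpose, Matrix.diagonal_map (map_zero σ)]
  ext i j
  rw [Matrix.mul_diagonal, Matrix.diagonal_mul, Matrix.smul_apply, permGram, Matrix.of_apply, smul_eq_mul]
  split_ifs with hij
  · subst hij; rw [mul_one, mul_one]; exact h i
  · ring

section Herm

variable [Fintype F]

theorem herm_cong_one (hne : σ ≠ RingEquiv.refl F) (hσ2 : ∀ a, σ (σ a) = a) {G : Matrix (Fin n) (Fin n) F}
    (hGs : Gᵀ = G.map σ) (hG : G.det ≠ 0) : ∃ P : Matrix (Fin n) (Fin n) F, P.det ≠ 0 ∧ Pᵀ * G * P.map σ = 1 := by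
  classical
  let B : (Fin n → F) →ₛₗ[(σ : F →+* F)] (Fin n → F) →ₗ[F] F :=
    LinearMap.mk₂'ₛₗ (σ : F →+* F) (RingHom.id F) (fun u v => v ⬝ᵥ (G *ᵥ (fun i => σ (u i))))
      (fun a b c => by
        rw [← dotProduct_add, ← Matrix.mulVec_add]
        congr 2; funext i; simp [map_add])
      (fun r a b => by
        rw [show (fun i => σ ((r • a) i)) = σ r • fun i => σ (a i) from funext fun i => by simp, Matrix.mulVec_smul,
          dotProduct_smul]
        rfl)
      (fun a b c => add_dotProduct _ _ _)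
      (fun r a b => by rw [smul_dotProduct]; rfl)
  have hB : ∀ u v, B u v = v ⬝ᵥ (G *ᵥ (fun i => σ (u i))) := fun u v => rfl
  have hS : B.IsSymm := ⟨fun u v => by
    show σ (B u v) = B v u
    rw [hB, hB, dotProduct_comm u, Matrix.dotProduct_mulVec, ← Matrix.mulVec_transpose, hGs]
    simp only [dotProduct, Matrix.mulVec, map_sum, map_mul, Matrix.map_apply, hσ2]⟩
  have hN : B.Nondegenerate := by
    have h1 : ∀ u, (∀ v, B u v = 0) → u = 0 := fun u hu => by
      have h2 : G *ᵥ (fun i => σ (u i)) = 0 := funext fun i => by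
        have := hu (Pi.single i 1)
        rwa [hB, single_dotProduct, one_mul] at this
      by_contra hu0
      exact hG (Matrix.exists_mulVec_eq_zero_iff.1 ⟨_, fun h => hu0 (funext fun i =>
        σ.injective (by rw [congrFun h i]; simp)), h2⟩)
    exact ⟨h1, fun v hv => h1 v fun u => by rw [← hS.eq, hv u, map_zero]⟩
  obtain ⟨v, hv⟩ := CfsgLib.Classical.HermFrames.exists_orth (B := B)
    (fun h => hne (RingEquiv.ext fun a => DFunLike.congr_fun h a)) hσ2 hS hN n (by rw [Module.finrank_fin_fun])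
  refine ⟨Matrix.of fun i j => v j i, ?_, ?_⟩
  · intro h
    obtain ⟨w, hw, hw0⟩ := Matrix.exists_mulVec_eq_zero_iff.2 h
    refine hw (funext fun j => Fintype.linearIndependent_iff.1
      (CfsgLib.Classical.HermFrames.linearIndependent_of_orth hv) w (funext fun a => ?_) j)
    rw [Finset.sum_apply]
    refine Eq.trans ?_ (congrFun hw0 a)
    simp [Matrix.mulVec, dotProduct, mul_comm]
  · ext i j
    have h := hv j i
    rw [hB, Matrix.dotProduct_mulVec] at h
    rw [Matrix.one_apply, ← if_congr (eq_comm (a := j) (b := i)) rfl rfl, ← h]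
    rfl

theorem herm_congr (hne : σ ≠ RingEquiv.refl F) (hσ2 : ∀ a, σ (σ a) = a) {G M : Matrix (Fin n) (Fin n) F}
    (hGs : Gᵀ = G.map σ) (hG : G.det ≠ 0) (hMs : Mᵀ = M.map σ) (hM : M.det ≠ 0) :
    ∃ P : Matrix (Fin n) (Fin n) F, P.det ≠ 0 ∧ M = Pᵀ * G * P.map σ := by
  obtain ⟨A, hA, hA1⟩ := herm_cong_one hne hσ2 hGs hG
  obtain ⟨B, hB, hB1⟩ := herm_cong_one hne hσ2 hMs hM
  refine ⟨A * B⁻¹, by rw [Matrix.det_mul, Matrix.det_nonsing_inv]; simp [hA, hB], ?_⟩
  calc M = (B * B⁻¹)ᵀ * M * (B * B⁻¹).map σ := by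
        rw [Matrix.mul_nonsing_inv _ (Ne.isUnit hB), Matrix.transpose_one, map_one', one_mul, mul_one]
    _ = B⁻¹ᵀ * (Bᵀ * M * B.map σ) * B⁻¹.map σ := by rw [Matrix.transpose_mul, map_mul']; simp only [Matrix.mul_assoc]
    _ = B⁻¹ᵀ * (Aᵀ * G * A.map σ) * B⁻¹.map σ := by rw [hA1, hB1]
    _ = _ := by rw [Matrix.transpose_mul, map_mul']; simp only [Matrix.mul_assoc]

theorem sym_congr (h2 : (2 : F) ≠ 0) (hn : 0 < n) {G M : Matrix (Fin n) (Fin n) F} (hGs : Gᵀ = G) (hG : G.det ≠ 0)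
    (hMs : Mᵀ = M) (hM : M.det ≠ 0) (hsq : Odd n ∨ IsSquare (G.det * M.det)) :
    ∃ (P : Matrix (Fin n) (Fin n) F) (lam : F), P.det ≠ 0 ∧ lam ≠ 0 ∧ M = lam • (Pᵀ * G * P.map (RingEquiv.refl F)) := by
  obtain ⟨k, rfl⟩ : ∃ k, n = k + 1 := ⟨n - 1, by omega⟩
  obtain ⟨lam, hlam, hsq'⟩ : ∃ lam : F, lam ≠ 0 ∧ IsSquare ((lam • G).det * M.det) := by
    rcases hsq with ⟨j, hj⟩ | h
    · refine ⟨G.det * M.det, mul_ne_zero hG hM, (G.det * M.det) ^ (j + 1), ?_⟩
      obtain rfl : k = 2 * j := by omega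
      rw [Matrix.det_smul, Fintype.card_fin]
      ring
    · exact ⟨1, one_ne_zero, by rwa [one_smul]⟩
  obtain ⟨P, hP⟩ := CfsgLib.FormCl.congr_of_sq h2 (lam • G) M (by rw [Matrix.transpose_smul, hGs]) hMs
    (by rw [Matrix.det_smul]; exact mul_ne_zero (pow_ne_zero _ hlam) hG) hM hsq'
  refine ⟨P.1, lam, ((Matrix.isUnit_iff_isUnit_det _).1 P.isUnit).ne_zero, hlam, ?_⟩
  rw [hP, Matrix.mul_smul, Matrix.smul_mul]
  rfl

end Herm

end CfsgLib.Perm.Elusive.Sim
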