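import Mathlib
import Cfsg.Agent.Lib.Perm.Elusive.SimilConj
import Cfsg.Agent.Lib.Perm.Elusive.Semisimple

/-!
# Small exceptional degrees and eigenbases for similitude problems
-/

set_option autoImplicit false
set_option linter.all false

namespace CfsgLib.Perm.Elusive.Sim

open Matrix Polynomial

variable {F : Type*} [Field F] {n : ℕ} {σ : F ≃+* F}

theorem IsSim.reindex {κ κ' : Type*} [Fintype κ] [DecidableEq κ] [Fintype κ'] [DecidableEq κ'] (e : κ ≃ κ')
    {M D : Matrix κ κ F} {c : F} (h : IsSim σ M D c) : IsSim σ (M.reindex e e) (D.reindex e e) c := by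
  unfold IsSim at *
  rw [Matrix.reindex_apply, Matrix.reindex_apply, Matrix.transpose_submatrix, ← Matrix.submatrix_map,
    Matrix.submatrix_mul_equiv, Matrix.submatrix_mul_equiv, h]
  rfl

theorem multiplier_fixed [Nonempty (Fin n)] (hσ2 : ∀ a, σ (σ a) = a) {G x : Matrix (Fin n) (Fin n) F} {c : F}
    (hGs : Gᵀ = G.map σ) (hG : G.det ≠ 0) (h : IsSim σ G x c) : σ c = c := by
  unfold IsSim at h
  have h2 : ∀ A : Matrix (Fin n) (Fin n) F, (A.map σ).map σ = A := fun A => by ext i j; simp [hσ2]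
  have h1 := congrArg (fun A => (Matrix.transpose A).map σ) h
  simp only [Matrix.transpose_mul, Matrix.transpose_transpose, Matrix.transpose_smul, hGs, map_mul', map_smul', h2] at h1
  rw [← Matrix.transpose_map, h2, ← Matrix.mul_assoc, h, ← sub_eq_zero, ← sub_smul, smul_eq_zero] at h1
  rcases h1 with h1 | h1
  · linear_combination (-1 : F) * h1
  · exact absurd (by rw [h1, Matrix.det_zero]) hG

/-- an eigenbasis for a root of a scalar -/
theorem exists_eigen_basis {r : ℕ} (hr : r.Prime) (hrF : (r : F) ≠ 0) {w lam : F} (hw : IsPrimitiveRoot w r)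
    (hlam : lam ≠ 0) (x : Matrix (Fin n) (Fin n) F) (hx : x ^ r = lam ^ r • (1 : Matrix (Fin n) (Fin n) F)) :
    ∃ (S : Matrix (Fin n) (Fin n) F) (d : Fin n → F), S.det ≠ 0 ∧ x * S = S * Matrix.diagonal d ∧
      (∀ i, d i ^ r = lam ^ r) ∧ ∏ i, d i = x.det := by
  classical
  obtain ⟨T, hT⟩ : ∃ T : (Fin n → F) →ₗ[F] (Fin n → F), T = Matrix.toLin' x := ⟨_, rfl⟩
  have hTr : T ^ r = lam ^ r • LinearMap.id := by
    rw [hT, ← Matrix.toLin'_pow, hx, map_smul, Matrix.toLin'_one]
  have hP : aeval T (X ^ r - C (lam ^ r) : F[X]) = 0 := by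
    rw [map_sub, map_pow (aeval T), aeval_X, aeval_C, hTr]
    refine LinearMap.ext fun v => ?_
    rw [LinearMap.sub_apply, LinearMap.smul_apply, LinearMap.id_apply, Module.algebraMap_end_apply, sub_self,
      LinearMap.zero_apply]
  have hsplit : (X ^ r - C (lam ^ r) : F[X]).Splits := X_pow_sub_C_splits_of_isPrimitiveRoot hw rfl
  have hne : (X ^ r - C (lam ^ r) : F[X]) ≠ 0 := (monic_X_pow_sub_C _ hr.ne_zero).ne_zero
  obtain ⟨k, v, b, hb, hinv⟩ := CfsgLib.Perm.Elusive.exists_chains T hP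
    (separable_X_pow_sub_C _ hrF (pow_ne_zero _ hlam)).squarefree (d := 1) (fun g hg hgd =>
      natDegree_eq_of_degree_eq_some ((hsplit.of_dvd hne hgd).degree_eq_one_of_irreducible hg))
  have hcard : Fintype.card (Fin k × Fin 1) = n := by
    rw [← Module.finrank_eq_card_basis b, Module.finrank_fin_fun]
  obtain ⟨e, -⟩ : ∃ e : (Fin k × Fin 1) ≃ Fin n, e = Fintype.equivFinOfCardEq hcard := ⟨_, rfl⟩
  have heig : ∀ j, ∃ a : F, T (b j) = a • b j := fun j => by
    obtain ⟨i, s⟩ := j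
    obtain rfl : s = 0 := Subsingleton.elim _ _
    have h := hinv i
    rw [pow_one] at h
    have hr1 : (Set.range fun s : Fin 1 => (T ^ (s : ℕ)) (v i)) = {v i} := by
      rw [Set.range_unique]; rfl
    rw [hr1, Submodule.mem_span_singleton] at h
    obtain ⟨a, ha⟩ := h
    exact ⟨a, by rw [hb]; exact ha.symm⟩
  choose a ha using heig
  have hpow : ∀ j (l : ℕ), (T ^ l) (b j) = a j ^ l • b j := fun j l => by
    induction l with
    | zero => simp
    | succ l ih => rw [pow_succ', Module.End.mul_apply, ih, map_smul, ha, smul_smul, pow_succ]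
  have har : ∀ j, a j ^ r = lam ^ r := fun j => by
    have h := hpow j r
    rw [hTr, LinearMap.smul_apply, LinearMap.id_apply] at h
    exact (smul_left_injective F (b.ne_zero j) h).symm
  obtain ⟨S, hS, hxS⟩ := frame_of_basis e x b (Matrix.diagonal a) (fun j => by
    rw [Finset.sum_eq_single j (fun i _ hi => by rw [Matrix.diagonal_apply_ne _ hi, zero_smul])
      (fun h => absurd (Finset.mem_univ _) h), Matrix.diagonal_apply_eq, ← ha, hT, Matrix.toLin'_apply])
  rw [Matrix.reindex_apply, Matrix.submatrix_diagonal_equiv] at hxS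
  refine ⟨S, a ∘ e.symm, hS, hxS, fun i => har _, ?_⟩
  have h := congrArg Matrix.det hxS
  rw [Matrix.det_mul, Matrix.det_mul, Matrix.det_diagonal, mul_comm] at h
  exact (mul_left_cancel₀ hS h).symm

theorem pairing_three : ∀ a b : Fin 3, ∃ v ∈ ([![0, 2, 1], ![2, 1, 0], ![1, 0, 2]] : List (Fin 3 → Fin 3)),
    (∀ i, v (v i) = i) ∧ ∀ i, ![a, b, -(a + b)] i + ![a, b, -(a + b)] (v i) = ![a, b, -(a + b)] 0 + ![a, b, -(a + b)] (v 0) := by
  decide +kernel

theorem pairing_five : ∀ a b c d : Fin 5, ∃ v ∈ ([![0, 2, 1, 4, 3], ![0, 3, 4, 1, 2], ![0, 4, 3, 2, 1],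
      ![2, 1, 0, 4, 3], ![3, 1, 4, 0, 2], ![4, 1, 3, 2, 0], ![1, 0, 2, 4, 3], ![3, 4, 2, 0, 1], ![4, 3, 2, 1, 0],
      ![1, 0, 4, 3, 2], ![2, 4, 0, 3, 1], ![4, 2, 1, 3, 0], ![1, 0, 3, 2, 4], ![2, 3, 0, 1, 4], ![3, 2, 1, 0, 4]] :
      List (Fin 5 → Fin 5)),
    (∀ i, v (v i) = i) ∧ ∀ i, ![a, b, c, d, -(a + b + c + d)] i + ![a, b, c, d, -(a + b + c + d)] (v i) =
      ![a, b, c, d, -(a + b + c + d)] 0 + ![a, b, c, d, -(a + b + c + d)] (v 0) := by
  decide +kernel

/-- the exceptional degrees three and five -/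
theorem exists_pairing {r : ℕ} [NeZero r] (hr : r = 3 ∨ r = 5) (e : Fin r → Fin r) (he : ∑ i, e i = 0) :
    ∃ (π : Equiv.Perm (Fin r)) (s : Fin r), (∀ i, π (π i) = i) ∧ ∀ i, e i + e (π i) = s := by
  rcases hr with rfl | rfl
  · have h2 : e 2 = -(e 0 + e 1) := by
      rw [Fin.sum_univ_three] at he
      exact eq_neg_of_add_eq_zero_right he
    have hee : e = ![e 0, e 1, -(e 0 + e 1)] := funext fun i => by fin_cases i <;> simp [h2]
    obtain ⟨v, -, hv, hs⟩ := pairing_three (e 0) (e 1)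
    rw [← hee] at hs
    exact ⟨Function.Involutive.toPerm v hv, _, hv, hs⟩
  · have h4 : e 4 = -(e 0 + e 1 + e 2 + e 3) := by
      rw [Fin.sum_univ_five] at he
      exact eq_neg_of_add_eq_zero_right he
    have hee : e = ![e 0, e 1, e 2, e 3, -(e 0 + e 1 + e 2 + e 3)] := funext fun i => by fin_cases i <;> simp [h4]
    obtain ⟨v, -, hv, hs⟩ := pairing_five (e 0) (e 1) (e 2) (e 3)
    rw [← hee] at hs
    exact ⟨Function.Involutive.toPerm v hv, _, hv, hs⟩

/-- in the exceptional degrees the element is a similitude of a pairing -/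
theorem exception_sim [Fintype F] {r : ℕ} (hr : r.Prime) (hr35 : r = 3 ∨ r = 5) {w : F} (hw : IsPrimitiveRoot w r)
    (hwσ : σ w = w) (hv : padicValNat r (Fintype.card F - 1) = 1) (x : Matrix (Fin r) (Fin r) F) (hdet : x.det = 1)
    {z : F} (hx : x ^ r = z • (1 : Matrix (Fin r) (Fin r) F)) :
    ∃ (S : Matrix (Fin r) (Fin r) F) (d : Fin r → F) (π : Equiv.Perm (Fin r)) (μ : F), S.det ≠ 0 ∧
      x * S = S * Matrix.diagonal d ∧ (∀ i, π (π i) = i) ∧ μ ≠ 0 ∧
      IsSim σ (permGram F π) (Matrix.diagonal d) μ := by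
  classical
  haveI : Fact r.Prime := ⟨hr⟩
  haveI : NeZero r := ⟨hr.ne_zero⟩
  haveI : NeZero (r : F) := hw.neZero'
  have hrF : (r : F) ≠ 0 := NeZero.ne _
  have hodd : Odd r := hr.odd_of_ne_two (by omega)
  have hz0 : z ≠ 0 := fun h => by
    have h1 := congrArg Matrix.det hx
    rw [Matrix.det_pow, hdet, one_pow, h, zero_smul, Matrix.det_zero] at h1
    exact one_ne_zero h1
  obtain ⟨lam, hlam⟩ : ∃ lam : F, lam ^ r = z := by
    by_contra hno
    push Not at hno
    obtain ⟨-, h⟩ := CfsgLib.Perm.Elusive.det_of_pow_eq_nonpower hr hrF (Matrix.toLin' x) (z := z)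
      (by rw [← Matrix.toLin'_pow, hx, map_smul, Matrix.toLin'_one]) hno
    rw [LinearMap.det_toLin', hdet, Module.finrank_fin_fun, Nat.div_self hr.pos, pow_one,
      (Nat.Odd.sub_odd hodd odd_one).neg_one_pow, one_mul] at h
    exact hno 1 (by rw [one_pow]; exact h)
  have hlam0 : lam ≠ 0 := fun h => hz0 (by rw [← hlam, h, zero_pow hr.ne_zero])
  obtain ⟨S, d, hS, hxS, hd, hprod⟩ := exists_eigen_basis hr hrF hw hlam0 x (by rw [hlam]; exact hx)
  have hfac : ∀ i, ∃ k : Fin r, d i = lam * w ^ (k : ℕ) := fun i => by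
    obtain ⟨k, hk, hk'⟩ := hw.eq_pow_of_pow_eq_one (ξ := d i / lam)
      (by rw [div_pow, hd, div_self (pow_ne_zero _ hlam0)])
    exact ⟨⟨k, hk⟩, by rw [hk', mul_div_cancel₀ _ hlam0]⟩
  choose e he using hfac
  have hwp : ∀ a b : Fin r, w ^ ((a + b : Fin r) : ℕ) = w ^ (a : ℕ) * w ^ (b : ℕ) := fun a b => by
    rw [Fin.val_add, ← pow_add]
    exact (pow_eq_pow_mod _ hw.pow_eq_one).symm
  have hsum : ∑ i, e i = 0 := by
    have h1 : lam ^ r * w ^ ((∑ i, e i : Fin r) : ℕ) = 1 := by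
      rw [← hdet, ← hprod, Finset.prod_congr rfl fun i _ => he i, Finset.prod_mul_distrib, Finset.prod_const,
        Finset.card_univ, Fintype.card_fin]
      congr 1
      induction (Finset.univ : Finset (Fin r)) using Finset.induction_on with
      | empty => simp
      | insert a s ha ih => rw [Finset.sum_insert ha, Finset.prod_insert ha, hwp, ih]
    have hz1 : z ^ r = 1 := by
      have h2 := congrArg (· ^ r) h1
      simp only [mul_pow, one_pow, hlam] at h2
      rwa [← pow_mul w, mul_comm _ r, pow_mul w, hw.pow_eq_one, one_pow, mul_one] at h2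
    have hlr : lam ^ r = 1 := by
      by_contra hne
      have hord := orderOf_eq_prime_pow (p := r) (n := 1) (x := lam) (by rwa [pow_one])
        (by rw [pow_succ, pow_one, pow_mul, hlam, hz1])
      have h2 : orderOf lam ∣ Fintype.card F - 1 :=
        orderOf_dvd_of_pow_eq_one (FiniteField.pow_card_sub_one_eq_one lam hlam0)
      rw [hord, padicValNat_dvd_iff_le (by have := Fintype.one_lt_card (α := F); omega), hv] at h2
      omega
    rw [hlr, one_mul] at h1
    refine Fin.ext (hw.pow_inj (Fin.is_lt _) hr.pos ?_)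
    simp [h1]
  obtain ⟨π, s, hπ, hs⟩ := exists_pairing hr35 e hsum
  have hσw : ∀ k : ℕ, σ (w ^ k) = w ^ k := fun k => by rw [map_pow, hwσ]
  refine ⟨S, d, π, lam * σ lam * w ^ (s : ℕ), hS, hxS, hπ, ?_, permGram_sim π d _ fun i => ?_⟩
  · exact mul_ne_zero (mul_ne_zero hlam0 (by simpa using hlam0)) (pow_ne_zero _ (hw.ne_zero hr.ne_zero))
  · rw [he, he, map_mul, hσw, ← hs i, hwp]
    ring

end CfsgLib.Perm.Elusive.Sim
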