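import Mathlib
import Cfsg.Agent.Lib.Perm.Elusive.SimilNormal
import Cfsg.Agent.Lib.Perm.Elusive.InvolBasis
import Cfsg.Agent.Lib.Classical.HermOrder
import Cfsg.Agent.Lib.Perm.Asch.Group

/-!
# Unitary similitudes inside special linear groups
-/

set_option autoImplicit false
set_option linter.all false

namespace CfsgLib.Perm.Elusive.Sim

open Matrix

variable {F : Type*} [Field F] [Fintype F] {n q0 : ℕ} (C : CfsgLib.SU.UCtx F q0)

theorem bar_ne_refl : C.bar ≠ RingEquiv.refl F := fun h => by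
  obtain ⟨y, hy⟩ := C.exists_not_fixed
  exact hy (by rw [h]; rfl)

theorem gform_one (u v : Fin n → F) :
    CfsgLib.Perm.Asch.gform (C.bar : F →+* F) 1 u v = C.form u v := by
  simp [CfsgLib.Perm.Asch.gform, CfsgLib.SU.UCtx.form, dotProduct]

/-- the Gram matrix of a unitary form -/
theorem unitary_gram {f : (Fin n → F) → (Fin n → F) → F} (hf : Cfsg.Geo.IsUnitaryFormPow q0 f) :
    ∃ G : Matrix (Fin n) (Fin n) F, Gᵀ = G.map C.bar ∧ G.det ≠ 0 ∧
      ∀ g : GL (Fin n) F, g ∈ Cfsg.Geo.similarityGroup f ↔ ∃ c, c ≠ 0 ∧ IsSim C.bar G g.1 c := by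
  classical
  obtain ⟨G, hGdef⟩ : ∃ G : Matrix (Fin n) (Fin n) F, ∀ i j, G i j = f (Pi.single i 1) (Pi.single j 1) :=
    ⟨Matrix.of fun i j => f (Pi.single i 1) (Pi.single j 1), fun i j => rfl⟩
  have hherm : ∀ v w, f v w = C.bar (f w v) := fun v w => by rw [C.bar_eq]; exact hf.herm v w
  have hlin : ∀ u v, f u v = ∑ i, u i * f (Pi.single i 1) v := fun u v => by
    have hL : IsLinearMap F (fun x => f x v) := ⟨fun x y => hf.add_left x y v, fun c x => hf.smul_left c x v⟩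
    show hL.mk' _ u = _
    conv_lhs => rw [← Finset.univ_sum_single u]
    rw [map_sum]
    refine Finset.sum_congr rfl fun i _ => ?_
    rw [show Pi.single i (u i) = u i • (Pi.single i 1 : Fin n → F) by rw [← Pi.single_smul, smul_eq_mul, mul_one],
      map_smul, smul_eq_mul]
    rfl
  have hf' : ∀ u v, f u v = CfsgLib.Perm.Asch.gform (C.bar : F →+* F) G u v := fun u v => by
    rw [hlin]
    simp only [CfsgLib.Perm.Asch.gform, dotProduct, Matrix.mulVec, Function.comp_apply]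
    refine Finset.sum_congr rfl fun i _ => congrArg (u i * ·) ?_
    rw [hherm, hlin v, map_sum]
    refine Finset.sum_congr rfl fun j _ => ?_
    rw [map_mul, ← hherm, hGdef, mul_comm]
    rfl
  refine ⟨G, ?_, ?_, fun g => ?_⟩
  · ext i j
    rw [Matrix.transpose_apply, Matrix.map_apply, hGdef, hGdef, ← hherm]
  · intro h
    obtain ⟨v, hv, hGv⟩ := Matrix.exists_mulVec_eq_zero_iff.2 h
    obtain ⟨w, hw⟩ : ∃ w : Fin n → F, w = fun i => C.bar (v i) := ⟨_, rfl⟩
    have hw0 : w ≠ 0 := fun h0 => hv (funext fun i => by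
      have := congrFun h0 i
      simpa [hw] using this)
    obtain ⟨x, hx⟩ := (hf.nondegenerate w hw0).1
    refine hx ?_
    rw [hf', CfsgLib.Perm.Asch.gform, show (C.bar : F →+* F) ∘ w = v from funext fun i => by simp [hw, C.bar_bar],
      hGv, dotProduct_zero]
  · constructor
    · rintro ⟨c, hc⟩
      refine ⟨c, c.ne_zero, ?_⟩
      show g.1ᵀ * G * g.1.map C.bar = (c : F) • G
      refine CfsgLib.Perm.Asch.gform_ext (σ := (C.bar : F →+* F)) fun u v => ?_
      have h := hc u v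
      rw [hf', hf', CfsgLib.Perm.Asch.gform_mulVec] at h
      exact h.trans (by simp [CfsgLib.Perm.Asch.gform, Matrix.smul_mulVec, dotProduct_smul])
    · rintro ⟨c, hc0, hc⟩
      refine ⟨Units.mk0 c hc0, fun u v => ?_⟩
      rw [hf', hf', CfsgLib.Perm.Asch.gform_mulVec,
        show g.1ᵀ * G * g.1.map (C.bar : F →+* F) = c • G from hc]
      simp [CfsgLib.Perm.Asch.gform, Matrix.smul_mulVec, dotProduct_smul]

omit [Fintype F] in
theorem card_gl_flat [Fintype F] (n : ℕ) :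
    ∃ e, Nat.card (GL (Fin n) F) = Fintype.card F ^ e * ∏ i ∈ Finset.range n, (Fintype.card F ^ (i + 1) - 1) := by
  refine ⟨∑ i ∈ Finset.range n, i, ?_⟩
  rw [Matrix.card_GL_field, Fin.prod_univ_eq_prod_range (fun i => Fintype.card F ^ n - Fintype.card F ^ i) n,
    ← Finset.prod_range_reflect (fun i => Fintype.card F ^ (i + 1) - 1) n, ← Finset.prod_pow_eq_pow_sum,
    ← Finset.prod_mul_distrib]
  refine Finset.prod_congr rfl fun i hi => ?_
  rw [Finset.mem_range] at hi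
  rw [show n - 1 - i + 1 = n - i by omega, Nat.mul_sub_one, ← pow_add, show i + (n - i) = n by omega]

include C in
/-- primes dividing the index of the unitary similitudes -/
theorem unitary_index (hF : Fintype.card F = q0 ^ 2) (hn : 0 < n) {f : (Fin n → F) → (Fin n → F) → F}
    (hf : Cfsg.Geo.IsUnitaryFormPow q0 f) {r : ℕ} (hr : r.Prime) (hrodd : Odd r) (hrq : ¬ r ∣ q0)
    (hΩ : r ∣ (Cfsg.Geo.similarityGroup f).relIndex (Cfsg.Geo.specialLinear (Fin n) F)) :
    orderOf ((Fintype.card F : ℕ) : ZMod r) ≤ n ∧ ∀ j, ¬ r ∣ q0 ^ (2 * j + 1) + 1 := by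
  classical
  have hq2 : 2 ≤ q0 := CfsgLib.Classical.two_le_q hF
  haveI : Nonempty (Fin n) := ⟨⟨0, hn⟩⟩
  obtain ⟨G, hGs, hG, hmem⟩ := unitary_gram C hf
  obtain ⟨P, hP, hPG⟩ := herm_cong_one (bar_ne_refl C) C.bar_bar hGs hG
  obtain ⟨P', hP'⟩ : ∃ P' : GL (Fin n) F, P'.1 = P := ⟨Matrix.GeneralLinearGroup.mkOfDetNeZero P hP, rfl⟩
  obtain ⟨H, hH⟩ : ∃ H, H = Cfsg.Geo.similarityGroup f ⊓ Cfsg.Geo.specialLinear (Fin n) F := ⟨_, rfl⟩
  have hsu : Nat.card (Cfsg.SU n F q0) ∣ Nat.card H := by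
    let ψ : Cfsg.SU n F q0 →* GL (Fin n) F :=
      (MulAut.conj P').toMonoidHom.comp (Matrix.SpecialLinearGroup.toGL.comp (Cfsg.SU n F q0).subtype)
    have hψ : ∀ A, ψ A ∈ H := fun A => by
      rw [hH, Subgroup.mem_inf]
      constructor
      · rw [hmem]
        refine ⟨1, one_ne_zero, ?_⟩
        have hA : IsSim C.bar (1 : Matrix (Fin n) (Fin n) F) A.1.1 1 := by
          unfold IsSim
          refine CfsgLib.Perm.Asch.gform_ext (σ := (C.bar : F →+* F)) fun u v => ?_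
          show CfsgLib.Perm.Asch.gform (C.bar : F →+* F) (A.1.1ᵀ * 1 * A.1.1.map (C.bar : F →+* F)) u v = _
          rw [← CfsgLib.Perm.Asch.gform_mulVec, one_smul, gform_one, gform_one, ← C.hermForm_eq, ← C.hermForm_eq]
          exact A.2 u v
        have hx : (ψ A).1 * P = P * A.1.1 := by
          show (P'.1 * A.1.1 * (P'⁻¹ : GL (Fin n) F).1) * P = P * A.1.1
          rw [← hP', mul_assoc, ← Units.val_mul, inv_mul_cancel, Units.val_one, mul_one]
        have h := hA.conj hP hx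
        have hPi : P * P⁻¹ = 1 := Matrix.mul_nonsing_inv _ (Ne.isUnit hP)
        rwa [← hPG, show P⁻¹ᵀ * (Pᵀ * G * P.map C.bar) * P⁻¹.map C.bar = G by
          rw [show P⁻¹ᵀ * (Pᵀ * G * P.map C.bar) * P⁻¹.map C.bar =
            (P * P⁻¹)ᵀ * G * (P * P⁻¹).map C.bar by
              rw [Matrix.transpose_mul, map_mul']; simp only [Matrix.mul_assoc],
            hPi, Matrix.transpose_one, map_one', Matrix.one_mul, Matrix.mul_one]] at h
      · exact MonoidHom.mem_ker.2 (by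
          show Matrix.GeneralLinearGroup.det (P' * Matrix.SpecialLinearGroup.toGL A.1 * P'⁻¹) = 1
          rw [map_mul, map_mul, map_inv, mul_comm, inv_mul_cancel_left]
          exact Units.ext A.1.2)
    exact Subgroup.card_dvd_of_injective (ψ.codRestrict H hψ) fun a b hab =>
      Subtype.ext (Matrix.SpecialLinearGroup.toGL_injective ((MulAut.conj P').injective (congrArg Subtype.val hab)))
  have hidx : r * Nat.card H ∣ Nat.card (Cfsg.Geo.specialLinear (Fin n) F) := by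
    have h1 := Subgroup.relIndex_mul_relIndex (⊥ : Subgroup (GL (Fin n) F)) H (Cfsg.Geo.specialLinear (Fin n) F)
      bot_le (hH ▸ inf_le_right)
    rw [Subgroup.relIndex_bot_left, Subgroup.relIndex_bot_left, hH, Subgroup.inf_relIndex_right, ← hH] at h1
    rw [← h1, mul_comm r]
    exact Nat.mul_dvd_mul_left _ hΩ
  have hSL : Nat.card (Cfsg.Geo.specialLinear (Fin n) F) * (q0 ^ 2 - 1) = Nat.card (GL (Fin n) F) := by
    rw [Cfsg.Geo.specialLinear, ← (Matrix.GeneralLinearGroup.det : GL (Fin n) F →* Fˣ).ker.card_mul_index,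
      Subgroup.index_ker, MonoidHom.range_eq_top.2 Matrix.GeneralLinearGroup.det_surjective, Subgroup.card_top,
      Nat.card_units, Nat.card_eq_fintype_card (α := F), hF]
  have hfin : r * ((q0 - 1) * Nat.card (Cfsg.GU n F q0)) ∣ Nat.card (GL (Fin n) F) := by
    rw [← hSL, ← CfsgLib.Classical.card_su_mul C hF hn, ← mul_assoc (q0 - 1),
      show (q0 - 1) * (q0 + 1) = q0 ^ 2 - 1 by rw [mul_comm, ← Nat.sq_sub_sq, one_pow],
      mul_comm (q0 ^ 2 - 1), ← mul_assoc]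
    exact Nat.mul_dvd_mul_right ((Nat.mul_dvd_mul_left r hsu).trans hidx) _
  obtain ⟨e, he⟩ := card_gl_flat (F := F) n
  rw [he, CfsgLib.Classical.card_gu_formula C hF, hF] at hfin
  have hsplit : ∀ i, (q0 ^ 2) ^ (i + 1) - 1 = (if Even i then q0 ^ (i + 1) + 1 else q0 ^ (i + 1) - 1) *
      (if Even i then q0 ^ (i + 1) - 1 else q0 ^ (i + 1) + 1) := fun i => by
    rw [← pow_mul, mul_comm 2, pow_mul, ← one_pow 2, Nat.sq_sub_sq, one_pow]
    split_ifs <;> ring
  rw [Finset.prod_congr rfl fun i _ => hsplit i, Finset.prod_mul_distrib] at hfin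
  have hApos : 0 < ∏ i ∈ Finset.range n, (if Even i then q0 ^ (i + 1) + 1 else q0 ^ (i + 1) - 1) :=
    Finset.prod_pos fun i _ => by
      have : 1 < q0 ^ (i + 1) := Nat.one_lt_pow (Nat.succ_ne_zero i) (by omega)
      split_ifs <;> omega
  have h1 : r * (q0 - 1) ∣ (q0 ^ 2) ^ e * ∏ i ∈ Finset.range n,
      (if Even i then q0 ^ (i + 1) - 1 else q0 ^ (i + 1) + 1) := by
    refine (dvd_mul_right (r * (q0 - 1)) (q0 ^ (n * (n - 1) / 2))).trans (Nat.dvd_of_mul_dvd_mul_right hApos ?_)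
    refine Eq.mp ?_ hfin
    ring_nf
  obtain ⟨m, rfl⟩ : ∃ m, n = m + 1 := ⟨n - 1, by omega⟩
  rw [Finset.prod_range_succ', if_pos Even.zero, zero_add, pow_one, ← mul_assoc] at h1
  obtain ⟨i, hi, hri⟩ : ∃ i < m, r ∣ if Even (i + 1) then q0 ^ (i + 1 + 1) - 1 else q0 ^ (i + 1 + 1) + 1 := by
    rcases hr.dvd_mul.1 (Nat.dvd_of_mul_dvd_mul_right (by omega) h1) with h | h
    · exact absurd (hr.dvd_of_dvd_pow (hr.dvd_of_dvd_pow h)) hrq
    · obtain ⟨i, hi, h⟩ := (hr.prime.dvd_finsetProd_iff _).1 h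
      exact ⟨i, Finset.mem_range.1 hi, h⟩
  haveI : Fact r.Prime := ⟨hr⟩
  haveI : Fact (2 < r) := ⟨by
    have := hr.two_le
    rcases hrodd with ⟨c, hc⟩
    omega⟩
  have hne : (-1 : ZMod r) ≠ 1 := ZMod.neg_one_ne_one
  obtain ⟨u, hu⟩ : ∃ u, u = (q0 : ZMod r) := ⟨_, rfl⟩
  have hcast : ∀ t, r ∣ q0 ^ t + 1 → u ^ t = -1 := fun t h => by
    have := (ZMod.natCast_eq_zero_iff _ _).2 h
    push_cast at this
    rw [hu]
    exact eq_neg_of_add_eq_zero_left this
  have hcast' : ∀ t, r ∣ q0 ^ t - 1 → u ^ t = 1 := fun t h => by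
    have h' : ((1 : ℕ) : ZMod r) = ((q0 ^ t : ℕ) : ZMod r) :=
      (ZMod.natCast_eq_natCast_iff _ _ _).2 ((Nat.modEq_iff_dvd' (Nat.one_le_pow _ _ (by omega))).2 h)
    push_cast at h'
    rw [hu]
    exact h'.symm
  have hcase : ((u ^ (i + 1 + 1) = 1 ∧ Odd (i + 1 + 1)) ∨ (u ^ (i + 1 + 1) = -1 ∧ Even (i + 1 + 1))) := by
    split_ifs at hri with hev
    · exact .inl ⟨hcast' _ hri, hev.add_one⟩
    · exact .inr ⟨hcast _ hri, (Nat.not_even_iff_odd.1 hev).add_one⟩
  constructor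
  · refine (Nat.le_of_dvd (by omega) (orderOf_dvd_of_pow_eq_one (n := i + 1 + 1) ?_)).trans (by omega)
    rw [hF, Nat.cast_pow, ← hu, ← pow_mul, mul_comm, pow_mul]
    rcases hcase with ⟨h, -⟩ | ⟨h, -⟩ <;> rw [h] <;> simp
  · intro j hj
    have ht := hcast _ hj
    rcases hcase with ⟨h, hodd⟩ | ⟨h, ⟨s, hs⟩⟩
    · refine hne (?_ : (-1 : ZMod r) = 1)
      calc (-1 : ZMod r) = (-1) ^ (i + 1 + 1) := (hodd.neg_one_pow).symm
        _ = (u ^ (2 * j + 1)) ^ (i + 1 + 1) := by rw [ht]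
        _ = 1 := by rw [← pow_mul, mul_comm, pow_mul, h, one_pow]
    · refine hne (?_ : (-1 : ZMod r) = 1)
      calc (-1 : ZMod r) = (u ^ (i + 1 + 1)) ^ (2 * j + 1) := by
            rw [h, (odd_two_mul_add_one j).neg_one_pow]
        _ = (u ^ (2 * j + 1)) ^ (i + 1 + 1) := by rw [← pow_mul, ← pow_mul, mul_comm]
        _ = 1 := by rw [ht, hs, ← two_mul, pow_mul, neg_one_sq, one_pow]

omit C in
/-- involutions with square scalar -/
theorem herm_invol_sim {σ : F ≃+* F} (hne : σ ≠ RingEquiv.refl F) (hσ2 : ∀ a, σ (σ a) = a)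
    {G : Matrix (Fin n) (Fin n) F} (hGs : Gᵀ = G.map σ) (hG : G.det ≠ 0) (hn : 0 < n) {x : GL (Fin n) F}
    {z ρ : F} (hρ : ρ * ρ = z) (hx : x.1 ^ 2 = z • (1 : Matrix (Fin n) (Fin n) F))
    (hns : ∀ a : F, x.1 ≠ a • (1 : Matrix (Fin n) (Fin n) F)) :
    ∃ g ∈ Cfsg.Geo.specialLinear (Fin n) F, ∃ c, c ≠ 0 ∧ IsSim σ G (g⁻¹ * x * g).1 c := by
  classical
  haveI : Nonempty (Fin n) := ⟨⟨0, hn⟩⟩
  have hxd : x.1.det ≠ 0 := ((Matrix.isUnit_iff_isUnit_det _).1 x.isUnit).ne_zero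
  have hz : z ≠ 0 := fun h => by
    have h1 := congrArg Matrix.det hx
    rw [Matrix.det_pow, h, zero_smul, Matrix.det_zero] at h1
    exact hxd (eq_zero_of_pow_eq_zero h1)
  have hfin : ∀ (g : GL (Fin n) F) c, IsSim σ G (g⁻¹ * x * g).1 c → c ≠ 0 := fun g c h =>
    h.ne_zero hG ((Matrix.isUnit_iff_isUnit_det _).1 (g⁻¹ * x * g).isUnit).ne_zero
  have hT : ∀ v, Matrix.toLin' x.1 (Matrix.toLin' x.1 v) = z • v := fun v => by
    rw [Matrix.toLin'_apply, Matrix.toLin'_apply, Matrix.mulVec_mulVec, ← sq, hx, Matrix.smul_mulVec, Matrix.one_mulVec]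
  rcases exists_square_scalar_basis _ hz hT with ⟨ρ', hρ', -, k, l, b, hb1, hb2⟩ | ⟨ρ', k, l, b, hb1, hb2, hb3, hb4⟩
  · have hρ'0 : ρ' ≠ 0 := fun h => hz (by rw [← hρ', h, zero_mul])
    have hcard : Fintype.card (Fin k ⊕ Fin l) = n := by
      rw [← Module.finrank_eq_card_basis b, Module.finrank_fin_fun]
    obtain ⟨d, hd⟩ : ∃ d : Fin k ⊕ Fin l → F, d = Sum.elim (fun _ => ρ') fun _ => -ρ' := ⟨_, rfl⟩
    obtain ⟨S, hS, hxS⟩ := frame_of_basis (Fintype.equivFinOfCardEq hcard) x.1 b (Matrix.diagonal d) fun j => by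
      rw [Finset.sum_eq_single j (fun i _ hi => by rw [Matrix.diagonal_apply_ne _ hi, zero_smul])
        (fun h => absurd (Finset.mem_univ _) h), Matrix.diagonal_apply_eq, ← Matrix.toLin'_apply, hd]
      rcases j with j | j <;> simp [hb1, hb2]
    rw [Matrix.reindex_apply, Matrix.submatrix_diagonal_equiv] at hxS
    obtain ⟨P, hP, hPM⟩ := herm_congr hne hσ2 hGs hG (M := permGram F (Equiv.refl (Fin n)))
      (by rw [permGram_map, permGram_symm _ fun i => rfl]) (permGram_det _)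
    obtain ⟨g, hg, h⟩ := exists_sl_conj_of_frame hS hxS (permGram_sim (σ := σ) (Equiv.refl (Fin n))
      (d ∘ (Fintype.equivFinOfCardEq hcard).symm) (ρ' * σ ρ') fun i => by
      simp only [Function.comp_apply, Equiv.refl_apply, hd]
      cases (Fintype.equivFinOfCardEq hcard).symm i <;> simp) hP one_ne_zero (by rw [one_smul]; exact hPM)
      fun δ _ => diag_cent hn _ δ
    exact ⟨g, hg, _, hfin g _ h, h⟩
  · obtain ⟨h2, hρ'⟩ := hb4.resolve_left fun h => h.1 ρ hρ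
    have hρ'0 : ρ' ≠ 0 := fun h => hz (by rw [← hρ', h, zero_mul])
    have hk : 0 < k := Nat.pos_of_ne_zero fun h => hns ρ' (Matrix.toLin'.injective (b.ext fun j => by
      subst h
      rcases j with (j | j) | j
      · exact j.elim0
      · exact j.elim0
      · rw [hb3, map_smul, Matrix.toLin'_one]; rfl))
    have hcard : Fintype.card ((Fin k ⊕ Fin k) ⊕ Fin l) = n := by
      rw [← Module.finrank_eq_card_basis b, Module.finrank_fin_fun]
    obtain ⟨D, hD⟩ : ∃ D : Matrix ((Fin k ⊕ Fin k) ⊕ Fin l) ((Fin k ⊕ Fin k) ⊕ Fin l) F,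
        D = Matrix.fromBlocks (Matrix.fromBlocks 0 (z • 1) 1 0) 0 0 (ρ' • 1) := ⟨_, rfl⟩
    obtain ⟨M, hM⟩ : ∃ M : Matrix ((Fin k ⊕ Fin k) ⊕ Fin l) ((Fin k ⊕ Fin k) ⊕ Fin l) F,
        M = Matrix.fromBlocks (Matrix.fromBlocks 0 (σ ρ' • 1) (ρ' • 1) 0) 0 0 1 := ⟨_, rfl⟩
    obtain ⟨e, -⟩ : ∃ e : ((Fin k ⊕ Fin k) ⊕ Fin l) ≃ Fin n, e = Fintype.equivFinOfCardEq hcard := ⟨_, rfl⟩
    obtain ⟨S, hS, hxS⟩ := frame_of_basis e x.1 b D fun j => by
      rw [← Matrix.toLin'_apply, hD]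
      rcases j with (j | j) | j <;>
        simp [Fintype.sum_sum_type, hb1, hb2, hb3, Matrix.one_apply, ite_smul]
    have hMs : Mᵀ = M.map σ := by
      rw [hM]
      simp [Matrix.fromBlocks_transpose, Matrix.fromBlocks_map, Matrix.transpose_smul, map_smul', map_one', hσ2]
    have hMd : M.det ≠ 0 := by
      obtain ⟨N, hN⟩ : ∃ N : Matrix ((Fin k ⊕ Fin k) ⊕ Fin l) ((Fin k ⊕ Fin k) ⊕ Fin l) F,
          N = Matrix.fromBlocks (Matrix.fromBlocks 0 (ρ'⁻¹ • 1) ((σ ρ')⁻¹ • 1) 0) 0 0 1 := ⟨_, rfl⟩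
      have h1 : M * N = 1 := by
        rw [hM, hN]
        simp [Matrix.fromBlocks_multiply, smul_smul, hρ'0, Matrix.fromBlocks_one]
      exact fun h0 => by simpa [h0] using congrArg Matrix.det h1
    have hsim : IsSim σ M D (ρ' * σ ρ') := by
      unfold IsSim
      rw [hM, hD]
      simp only [Matrix.fromBlocks_transpose, Matrix.fromBlocks_map, Matrix.fromBlocks_multiply,
        Matrix.transpose_zero, Matrix.transpose_one, Matrix.transpose_smul, map_smul', map_one',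
        Matrix.map_zero _ (map_zero σ), Matrix.mul_zero, Matrix.zero_mul, add_zero, zero_add, Matrix.smul_mul,
        Matrix.mul_smul, Matrix.mul_one, Matrix.one_mul, Matrix.fromBlocks_smul, smul_smul, smul_zero, ← hρ', map_mul,
        Matrix.fromBlocks_inj]
      refine ⟨⟨trivial, ?_, ?_, trivial⟩, trivial, trivial, ?_⟩ <;> congr 1 <;> ring
    obtain ⟨P, hP, hPM⟩ := herm_congr hne hσ2 hGs hG (M := M.reindex e e)
      (by rw [Matrix.transpose_reindex, hMs]; rfl) (by rw [Matrix.det_reindex_self]; exact hMd)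
    haveI : CharP F 2 := CharTwo.of_one_ne_zero_of_two_eq_zero one_ne_zero h2
    obtain ⟨g, hg, h⟩ := exists_sl_conj_of_frame hS hxS (hsim.reindex e) hP one_ne_zero
      (by rw [one_smul]; exact hPM) fun δ _ => by
        obtain ⟨a, ha⟩ := FiniteField.isSquare_of_char_two (ringChar.eq F 2) δ
        obtain ⟨Δ, hΔ⟩ : ∃ Δ : Matrix (Fin k) (Fin k) F,
            Δ = Matrix.diagonal (Function.update (fun _ => 1) ⟨0, hk⟩ a) := ⟨_, rfl⟩
        obtain ⟨K, hK⟩ : ∃ K : Matrix ((Fin k ⊕ Fin k) ⊕ Fin l) ((Fin k ⊕ Fin k) ⊕ Fin l) F,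
            K = Matrix.fromBlocks (Matrix.fromBlocks Δ 0 0 Δ) 0 0 1 := ⟨_, rfl⟩
        refine ⟨K.reindex e e, ?_, ?_⟩
        · simp only [Matrix.reindex_apply, Matrix.submatrix_mul_equiv]
          congr 1
          rw [hK, hD]
          simp [Matrix.fromBlocks_multiply]
        · rw [Matrix.det_reindex_self, hK, Matrix.det_fromBlocks_zero₂₁, Matrix.det_fromBlocks_zero₂₁,
            Matrix.det_one, mul_one, hΔ, Matrix.det_diagonal, Finset.prod_update_of_mem (Finset.mem_univ _),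
            Finset.prod_const_one, mul_one, ha]
    exact ⟨g, hg, _, hfin g _ h, h⟩

end CfsgLib.Perm.Elusive.Sim
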