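import Mathlib
import Cfsg.Agent.Lib.Perm.Elusive.SimilNormal
import Cfsg.Agent.Lib.Perm.Elusive.InvolBasis
import Cfsg.Agent.Lib.Perm.Elusive.SimilUnitary
import Cfsg.Agent.Lib.Perm.Elusive.OrthTypes
import Cfsg.Agent.Lib.Perm.Elusive.OrthOfSymp

/-!
# Orthogonal similitudes inside special linear groups
-/

set_option autoImplicit false
set_option linter.all false

namespace CfsgLib.Perm.Elusive.Sim

open Matrix

variable {F : Type*} [Field F] [Fintype F] {n : ℕ}

omit [Fintype F] in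
theorem mult_iff_isSim {M : Matrix (Fin n) (Fin n) F} {g : GL (Fin n) F} {c : Fˣ} :
    CfsgLib.FormCl.Mult M g c ↔ IsSim (RingEquiv.refl F) M g.1 (c : F) := Iff.rfl

/-- the Gram matrix of a quadratic form -/
theorem orth_gram (h2 : (2 : F) ≠ 0) {Q : (Fin n → F) → F} (hQ : Cfsg.Geo.IsNondegenerateQuadraticForm Q) :
    ∃ QF : QuadraticForm F (Fin n → F), ⇑QF = Q ∧ (QuadraticMap.polarBilin QF).Nondegenerate ∧
      ∀ g : GL (Fin n) F, g ∈ Cfsg.Geo.quadSimilarityGroup Q ↔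
        ∃ c : F, c ≠ 0 ∧ IsSim (RingEquiv.refl F) (CfsgLib.Classical.polarGram QF) g.1 c := by
  obtain ⟨QF, hQF⟩ : ∃ QF : QuadraticForm F (Fin n → F), ⇑QF = Q :=
    ⟨QuadraticMap.ofPolar Q (fun a x => by rw [hQ.smul, smul_eq_mul]; ring)
      (fun x x' y => hQ.polar_bilinear.add_left x x' y)
      (fun a x y => by rw [hQ.polar_bilinear.smul_left, smul_eq_mul]), rfl⟩
  subst hQF
  refine ⟨QF, rfl, ⟨fun u hu => ?_, fun u hu => ?_⟩, fun g => ?_⟩
  · by_contra h
    obtain ⟨x, hx⟩ := (hQ.nondegenerate u h).2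
    exact hx (hu x)
  · by_contra h
    obtain ⟨x, hx⟩ := (hQ.nondegenerate u h).1
    exact hx (hu x)
  · rw [CfsgLib.FormCl.quadSim_eq h2 QF, CfsgLib.FormCl.mem_simGrp]
    constructor
    · rintro ⟨c, hc⟩
      exact ⟨c, c.ne_zero, mult_iff_isSim.1 hc⟩
    · rintro ⟨c, hc0, hc⟩
      exact ⟨Units.mk0 c hc0, mult_iff_isSim.2 hc⟩

theorem prod_range_two_mul (f : ℕ → ℕ) : ∀ m, ∏ i ∈ Finset.range (2 * m), f i =
    (∏ i ∈ Finset.range m, f (2 * i)) * ∏ i ∈ Finset.range m, f (2 * i + 1)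
  | 0 => by simp
  | m + 1 => by
    rw [show 2 * (m + 1) = 2 * m + 1 + 1 by ring, Finset.prod_range_succ, Finset.prod_range_succ,
      prod_range_two_mul f m, Finset.prod_range_succ, Finset.prod_range_succ]
    ring

/-- primes dividing the index of the orthogonal similitudes -/
theorem orth_index (h2 : (2 : F) ≠ 0) (hn : 3 ≤ n) {QF : QuadraticForm F (Fin n → F)}
    (hN : (QuadraticMap.polarBilin QF).Nondegenerate) {r : ℕ} (hr : r.Prime) (hrodd : Odd r)
    (hrq : ¬ r ∣ Fintype.card F)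
    (hΩ : r ∣ (Cfsg.Geo.quadSimilarityGroup ⇑QF).relIndex (Cfsg.Geo.specialLinear (Fin n) F)) :
    orderOf ((Fintype.card F : ℕ) : ZMod r) ≤ n ∧ (Even (orderOf ((Fintype.card F : ℕ) : ZMod r)) →
      ∃ m, n = 2 * m ∧ ((QPlus QF ⊤ ∧ (Fintype.card F : ZMod r) ^ m = -1) ∨
        (¬ QPlus QF ⊤ ∧ (Fintype.card F : ZMod r) ^ m = 1))) := by
  classical
  haveI : Nonempty (Fin n) := ⟨⟨0, by omega⟩⟩
  obtain ⟨q, hq⟩ : ∃ q, q = Fintype.card F := ⟨_, rfl⟩
  have hq2 : 2 ≤ q := hq ▸ Fintype.one_lt_card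
  obtain ⟨I, hI⟩ : ∃ I, I = Cfsg.isometryGroup F ⇑QF := ⟨_, rfl⟩
  obtain ⟨H, hH⟩ : ∃ H, H = Cfsg.Geo.quadSimilarityGroup ⇑QF ⊓ Cfsg.Geo.specialLinear (Fin n) F := ⟨_, rfl⟩
  have hiso : Nat.card I ∣ Nat.card H * 2 := by
    obtain ⟨φ, hφ⟩ : ∃ φ : I →* Fˣ, φ = Matrix.GeneralLinearGroup.det.comp I.subtype := ⟨_, rfl⟩
    have hr2 : Nat.card φ.range ∣ 2 := by
      refine (Subgroup.card_dvd_of_le (K := Subgroup.zpowers (-1 : Fˣ)) ?_).trans ?_
      · rintro _ ⟨g, rfl⟩
        rcases CfsgLib.Classical.det_sq_of_isometry QF hN (hI.le g.2) with h | h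
        · exact ⟨0, Units.ext (by rw [hφ]; simpa [zpow_zero] using h.symm)⟩
        · exact ⟨1, Units.ext (by rw [hφ]; simpa [zpow_one] using h.symm)⟩
      · rw [Nat.card_zpowers]
        exact orderOf_dvd_of_pow_eq_one neg_one_sq
    rw [← φ.ker.card_mul_index, Subgroup.index_ker]
    refine Nat.mul_dvd_mul ?_ hr2
    let ψ : φ.ker →* GL (Fin n) F := I.subtype.comp φ.ker.subtype
    have hψ : ∀ g, ψ g ∈ H := fun g => by
      rw [hH, Subgroup.mem_inf]
      refine ⟨⟨1, fun v => by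
        rw [Units.val_one, one_mul]; exact CfsgLib.Classical.mem_isometryGroup_iff.1 (hI.le g.1.2) v⟩, ?_⟩
      refine MonoidHom.mem_ker.2 ?_
      have h := MonoidHom.mem_ker.1 g.2
      exact ((DFunLike.congr_fun hφ g.1).symm.trans h :)
    exact Subgroup.card_dvd_of_injective (ψ.codRestrict H hψ) fun a b hab =>
      Subtype.ext (Subtype.ext (congrArg Subtype.val hab :))
  have hidx : r * Nat.card H ∣ Nat.card (Cfsg.Geo.specialLinear (Fin n) F) := by
    have h1 := Subgroup.relIndex_mul_relIndex (⊥ : Subgroup (GL (Fin n) F)) H (Cfsg.Geo.specialLinear (Fin n) F)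
      bot_le (hH ▸ inf_le_right)
    rw [Subgroup.relIndex_bot_left, Subgroup.relIndex_bot_left, hH, Subgroup.inf_relIndex_right, ← hH] at h1
    rw [← h1, mul_comm r]
    exact Nat.mul_dvd_mul_left _ hΩ
  have hSL : Nat.card (Cfsg.Geo.specialLinear (Fin n) F) * (q - 1) = Nat.card (GL (Fin n) F) := by
    rw [Cfsg.Geo.specialLinear, ← (Matrix.GeneralLinearGroup.det : GL (Fin n) F →* Fˣ).ker.card_mul_index,
      Subgroup.index_ker, MonoidHom.range_eq_top.2 Matrix.GeneralLinearGroup.det_surjective, Subgroup.card_top,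
      Nat.card_units, Nat.card_eq_fintype_card (α := F), hq]
  obtain ⟨e, he⟩ := card_gl_flat (F := F) n
  have hfin : r * (q - 1) * Nat.card I ∣ 2 * (q ^ e * ∏ i ∈ Finset.range n, (q ^ (i + 1) - 1)) := by
    rw [hq, ← he, ← hSL, hq]
    refine (Nat.mul_dvd_mul_left _ hiso).trans ?_
    rw [show r * (Fintype.card F - 1) * (Nat.card H * 2) = 2 * (r * Nat.card H * (Fintype.card F - 1)) by ring]
    exact Nat.mul_dvd_mul_left 2 (Nat.mul_dvd_mul_right hidx _)
  rw [← hq] at hrq ⊢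
  haveI : Fact r.Prime := ⟨hr⟩
  have hcast1 : ∀ t, r ∣ q ^ t - 1 → (q : ZMod r) ^ t = 1 := fun t h => by
    have h' : ((1 : ℕ) : ZMod r) = ((q ^ t : ℕ) : ZMod r) :=
      (ZMod.natCast_eq_natCast_iff _ _ _).2 ((Nat.modEq_iff_dvd' (Nat.one_le_pow _ _ (by omega))).2 h)
    push_cast at h'
    exact h'.symm
  have hcast2 : ∀ t, r ∣ q ^ t + 1 → (q : ZMod r) ^ t = -1 := fun t h => by
    have := (ZMod.natCast_eq_zero_iff _ _).2 h
    push_cast at this
    exact eq_neg_of_add_eq_zero_left this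
  have hpos : ∀ k, 0 < ∏ i ∈ Finset.range k, (q ^ (2 * (i + 1)) - 1) := fun k =>
    Finset.prod_pos fun i _ => Nat.sub_pos_of_lt (Nat.one_lt_pow (by omega) (by omega))
  have hodd : ∀ t, Odd t → t ≤ n → (q : ZMod r) ^ t = 1 →
      orderOf (q : ZMod r) ≤ n ∧ ¬ Even (orderOf (q : ZMod r)) := fun t ht htn h =>
    ⟨(Nat.le_of_dvd ht.pos (orderOf_dvd_of_pow_eq_one h)).trans htn,
      Nat.not_even_iff_odd.2 (ht.of_dvd_nat (orderOf_dvd_of_pow_eq_one h))⟩
  have hodds : ∀ m, 2 * m ≤ n + 1 → ∀ A, r * (q - 1) ∣ q ^ e * A * ∏ i ∈ Finset.range m, (q ^ (2 * i + 1) - 1) →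
      r ∣ A ∨ (orderOf (q : ZMod r) ≤ n ∧ ¬ Even (orderOf (q : ZMod r))) := by
    intro m hm A h
    rcases m with _ | m
    · rw [Finset.prod_range_zero, mul_one] at h
      rcases hr.dvd_mul.1 ((dvd_mul_right r _).trans h) with h | h
      · exact absurd (hr.dvd_of_dvd_pow h) hrq
      · exact .inl h
    rw [Finset.prod_range_succ', mul_zero, zero_add, pow_one, ← mul_assoc] at h
    rcases hr.dvd_mul.1 (Nat.dvd_of_mul_dvd_mul_right (by omega) h) with h | h
    · rcases hr.dvd_mul.1 h with h | h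
      · exact absurd (hr.dvd_of_dvd_pow h) hrq
      · exact .inl h
    · obtain ⟨i, hi, h⟩ := (hr.prime.dvd_finsetProd_iff _).1 h
      rw [Finset.mem_range] at hi
      exact .inr (hodd _ (odd_two_mul_add_one _) (by omega) (hcast1 _ h))
  rcases Nat.even_or_odd' n with ⟨m, rfl | rfl⟩
  · obtain ⟨k, rfl⟩ : ∃ k, m = k + 1 := ⟨m - 1, by omega⟩
    obtain ⟨a, b, hab⟩ := CfsgLib.IsometryConj.exists_anisotropic_binary (F := F)
    have hsq : q ^ (2 * (k + 1)) - 1 = (q ^ (k + 1) - 1) * (q ^ (k + 1) + 1) := by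
      rw [mul_comm 2, pow_mul, mul_comm (q ^ (k + 1) - 1), ← Nat.sq_sub_sq, one_pow]
    have hb2 : ∀ x : ZMod r, x * x = 1 → (q : ZMod r) ^ (k + 1) = x →
        orderOf (q : ZMod r) ≤ 2 * (k + 1) := fun x hx h =>
      Nat.le_of_dvd (by omega) (orderOf_dvd_of_pow_eq_one (by rw [mul_comm, pow_mul, h, sq, hx]))
    have hcardW : ∀ (ι : Type) [Fintype ι] [DecidableEq ι] (P : (ι → F) → F)
        (L : (ι → F) ≃ₗ[F] (⊤ : Submodule F (Fin (2 * (k + 1)) → F))), (∀ v, QF (L v : _) = P v) →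
        Nat.card I = Nat.card (Cfsg.isometryGroup F P) := fun ι _ _ P L hL => by
      rw [hI]
      exact (OrthOfSymp.card_iso_linear (L.trans Submodule.topEquiv) (fun v => hL v)).symm
    rcases qplus_cases (qnd_top hN) (k := k) (by rw [finrank_top, Module.finrank_fin_fun]) hab with
      ⟨hp, L, hL⟩ | ⟨hp, L, hL⟩
    · rw [hcardW _ _ L hL, CfsgLib.Classical.card_iso_plus, prod_range_two_mul, ← hq] at hfin
      have hP := hpos k
      have h1 : r * (q - 1) ∣ q ^ e * (q ^ (k + 1) + 1) * ∏ i ∈ Finset.range (k + 1), (q ^ (2 * i + 1) - 1) := by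
        refine (dvd_mul_right (r * (q - 1)) (q ^ ((k + 1) * k))).trans (Nat.dvd_of_mul_dvd_mul_right
          (k := 2 * ((q ^ (k + 1) - 1) * ∏ i ∈ Finset.range k, (q ^ (2 * (i + 1)) - 1)))
          (Nat.mul_pos two_pos (Nat.mul_pos (Nat.sub_pos_of_lt (Nat.one_lt_pow (by omega) (by omega))) hP)) ?_)
        rw [show (∏ i ∈ Finset.range (k + 1), (q ^ (2 * i + 1 + 1) - 1)) =
            (∏ i ∈ Finset.range k, (q ^ (2 * (i + 1)) - 1)) * (q ^ (2 * (k + 1)) - 1) from
          (Finset.prod_range_succ (fun i => q ^ (2 * (i + 1)) - 1) k), hsq] at hfin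
        convert hfin using 1 <;> ring
      rcases hodds (k + 1) (by omega) _ h1 with h | ⟨h, h'⟩
      · exact ⟨hb2 (-1) (by ring) (hcast2 _ h), fun _ => ⟨k + 1, rfl, .inl ⟨hp, hcast2 _ h⟩⟩⟩
      · exact ⟨h, fun h'' => absurd h'' h'⟩
    · rw [hcardW _ _ L hL, CfsgLib.Classical.card_iso_minus hab, prod_range_two_mul, ← hq] at hfin
      have hP := hpos k
      have h1 : r * (q - 1) ∣ q ^ e * (q ^ (k + 1) - 1) * ∏ i ∈ Finset.range (k + 1), (q ^ (2 * i + 1) - 1) := by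
        refine (dvd_mul_right (r * (q - 1)) (q ^ ((k + 1) * k))).trans (Nat.dvd_of_mul_dvd_mul_right
          (k := 2 * ((q ^ (k + 1) + 1) * ∏ i ∈ Finset.range k, (q ^ (2 * (i + 1)) - 1)))
          (Nat.mul_pos two_pos (Nat.mul_pos (Nat.succ_pos _) hP)) ?_)
        rw [show (∏ i ∈ Finset.range (k + 1), (q ^ (2 * i + 1 + 1) - 1)) =
            (∏ i ∈ Finset.range k, (q ^ (2 * (i + 1)) - 1)) * (q ^ (2 * (k + 1)) - 1) from
          (Finset.prod_range_succ (fun i => q ^ (2 * (i + 1)) - 1) k), hsq] at hfin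
        convert hfin using 1 <;> ring
      rcases hodds (k + 1) (by omega) _ h1 with h | ⟨h, h'⟩
      · exact ⟨hb2 1 (by ring) (hcast1 _ h), fun _ => ⟨k + 1, rfl, .inr ⟨hp, hcast1 _ h⟩⟩⟩
      · exact ⟨h, fun h'' => absurd h'' h'⟩
  · have hcard : Nat.card I = Nat.card (Cfsg.isometryGroup F (Cfsg.quadFormOdd m F)) := by
      obtain ⟨φ, hφ, -, -⟩ := (CfsgLib.FormCl.cong_of_odd h2 (CfsgLib.Classical.polarGram QF)
        (CfsgLib.Classical.polarGram (CfsgLib.Classical.oddQ m F)) (by simp; omega)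
        (CfsgLib.FormCl.polarGram_symm _) (CfsgLib.FormCl.polarGram_symm _)
        (CfsgLib.Classical.det_polarGram_ne_zero _ hN)
        (by rw [CfsgLib.FormCl.det_odd]; exact mul_ne_zero h2 (pow_ne_zero _ (neg_ne_zero.2 one_ne_zero)))).exists_equiv
      rw [hI, ← CfsgLib.Classical.oddQ_coe, CfsgLib.FormCl.isometry_eq h2, CfsgLib.FormCl.isometry_eq h2]
      exact Nat.card_congr (φ.toEquiv.subtypeEquiv fun g => by
        rw [← CfsgLib.FormCl.mult_one_iff, ← CfsgLib.FormCl.mult_one_iff]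
        exact (hφ g 1).symm)
    rw [hcard, CfsgLib.Classical.card_iso_odd h2, Finset.prod_range_succ, prod_range_two_mul, ← hq] at hfin
    have h1 : r * (q - 1) ∣ q ^ e * (q ^ (2 * m + 1) - 1) * ∏ i ∈ Finset.range m, (q ^ (2 * i + 1) - 1) := by
      refine (dvd_mul_right (r * (q - 1)) (q ^ (m ^ 2))).trans (Nat.dvd_of_mul_dvd_mul_right
        (k := 2 * ∏ i ∈ Finset.range m, (q ^ (2 * (i + 1)) - 1)) (Nat.mul_pos two_pos (hpos m)) ?_)
      convert hfin using 1 <;> ring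
    rcases hodds m (by omega) _ h1 with h | ⟨h, h'⟩
    · obtain ⟨hle, hne⟩ := hodd _ (odd_two_mul_add_one m) le_rfl (hcast1 _ h)
      exact ⟨hle, fun h'' => absurd h'' hne⟩
    · exact ⟨h, fun h'' => absurd h'' h'⟩

theorem exists_rep_binary (h2 : (2 : F) ≠ 0) {A B : F} (hA : A ≠ 0) (hB : B ≠ 0) (t : F) :
    ∃ a b : F, A * a ^ 2 + B * b ^ 2 = t := by
  have hodd : Fintype.card F % 2 = 1 := FiniteField.odd_card_of_char_ne_two fun hch => h2 (by
    haveI : CharP F 2 := ringChar.of_eq hch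
    exact CharTwo.two_eq_zero)
  obtain ⟨x, y, hxy⟩ := FiniteField.exists_root_sum_quadratic
    (f := Polynomial.C A * Polynomial.X ^ 2 + Polynomial.C (-t))
    (g := Polynomial.C B * Polynomial.X ^ 2)
    (by rw [Polynomial.degree_add_C (by rw [Polynomial.degree_C_mul_X_pow 2 hA]; norm_num),
      Polynomial.degree_C_mul_X_pow 2 hA]; rfl)
    (by rw [Polynomial.degree_C_mul_X_pow 2 hB]; rfl) hodd
  simp at hxy
  exact ⟨x, y, by linear_combination hxy⟩

/-- involutions in odd characteristic -/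
theorem sym_invol_sim (h2 : (2 : F) ≠ 0) (hn : 0 < n) {G : Matrix (Fin n) (Fin n) F} (hGs : Gᵀ = G)
    (hG : G.det ≠ 0) {x : GL (Fin n) F} {z : F} (hx : x.1 ^ 2 = z • (1 : Matrix (Fin n) (Fin n) F)) :
    ∃ g ∈ Cfsg.Geo.specialLinear (Fin n) F, ∃ c, c ≠ 0 ∧ IsSim (RingEquiv.refl F) G (g⁻¹ * x * g).1 c := by
  classical
  haveI : Nonempty (Fin n) := ⟨⟨0, hn⟩⟩
  have hxd : x.1.det ≠ 0 := ((Matrix.isUnit_iff_isUnit_det _).1 x.isUnit).ne_zero
  have hz : z ≠ 0 := fun h => by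
    have h1 := congrArg Matrix.det hx
    rw [Matrix.det_pow, h, zero_smul, Matrix.det_zero] at h1
    exact hxd (eq_zero_of_pow_eq_zero h1)
  have hfin : ∀ (g : GL (Fin n) F) c, IsSim (RingEquiv.refl F) G (g⁻¹ * x * g).1 c → c ≠ 0 := fun g c h =>
    h.ne_zero hG ((Matrix.isUnit_iff_isUnit_det _).1 (g⁻¹ * x * g).isUnit).ne_zero
  have hT : ∀ v, Matrix.toLin' x.1 (Matrix.toLin' x.1 v) = z • v := fun v => by
    rw [Matrix.toLin'_apply, Matrix.toLin'_apply, Matrix.mulVec_mulVec, ← sq, hx, Matrix.smul_mulVec, Matrix.one_mulVec]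
  rcases exists_square_scalar_basis _ hz hT with ⟨ρ, hρ, -, k, l, b, hb1, hb2⟩ | ⟨ρ, k, l, b, hb1, hb2, hb3, hb4⟩
  · have hcard : Fintype.card (Fin k ⊕ Fin l) = n := by
      rw [← Module.finrank_eq_card_basis b, Module.finrank_fin_fun]
    obtain ⟨d, hd⟩ : ∃ d : Fin k ⊕ Fin l → F, d = Sum.elim (fun _ => ρ) fun _ => -ρ := ⟨_, rfl⟩
    obtain ⟨S, hS, hxS⟩ := frame_of_basis (Fintype.equivFinOfCardEq hcard) x.1 b (Matrix.diagonal d) fun j => by
      rw [Finset.sum_eq_single j (fun i _ hi => by rw [Matrix.diagonal_apply_ne _ hi, zero_smul])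
        (fun h => absurd (Finset.mem_univ _) h), Matrix.diagonal_apply_eq, ← Matrix.toLin'_apply, hd]
      rcases j with j | j <;> simp [hb1, hb2]
    rw [Matrix.reindex_apply, Matrix.submatrix_diagonal_equiv] at hxS
    obtain ⟨m, hm⟩ : ∃ m : Fin n → F, m = Function.update (fun _ => 1) ⟨0, hn⟩ G.det := ⟨_, rfl⟩
    have hmd : (Matrix.diagonal m).det = G.det := by
      rw [Matrix.det_diagonal, hm, Finset.prod_update_of_mem (Finset.mem_univ _), Finset.prod_const_one, mul_one]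
    obtain ⟨P, lam, hP, hlam, hPM⟩ := sym_congr h2 hn hGs hG (M := Matrix.diagonal m) (Matrix.diagonal_transpose _)
      (by rw [hmd]; exact hG) (.inr ⟨G.det, by rw [hmd]⟩)
    have hsim : IsSim (RingEquiv.refl F) (Matrix.diagonal m)
        (Matrix.diagonal (d ∘ (Fintype.equivFinOfCardEq hcard).symm)) z := by
      unfold IsSim
      rw [Matrix.diagonal_transpose, RingEquiv.coe_refl, Matrix.map_id, Matrix.diagonal_mul_diagonal,
        Matrix.diagonal_mul_diagonal, ← Matrix.diagonal_smul]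
      congr 1
      funext i
      simp only [Function.comp_apply, hd, Pi.smul_apply, smul_eq_mul, ← hρ]
      cases (Fintype.equivFinOfCardEq hcard).symm i <;> simp <;> ring
    obtain ⟨g, hg, h⟩ := exists_sl_conj_of_frame hS hxS hsim hP hlam hPM fun δ _ => diag_cent hn _ δ
    exact ⟨g, hg, _, hfin g _ h, h⟩
  · obtain ⟨hns, rfl⟩ := hb4.resolve_right fun h => h2 h.1
    obtain ⟨E, hE⟩ : ∃ E : ((Fin k ⊕ Fin k) ⊕ Fin 0) ≃ Fin 2 × Fin k,
        (∀ i, E (.inl (.inl i)) = (0, i)) ∧ ∀ i, E (.inl (.inr i)) = (1, i) := by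
      refine ⟨(Equiv.sumEmpty _ _).trans
        ((Equiv.boolProdEquivSum (Fin k)).symm.trans (Equiv.prodCongr finTwoEquiv.symm (Equiv.refl _))),
        fun i => ?_, fun i => ?_⟩ <;>
        simp [Equiv.boolProdEquivSum, finTwoEquiv]
    obtain ⟨b', hb'⟩ : ∃ b', b' = b.reindex E := ⟨_, rfl⟩
    have hcard : Fintype.card (Fin 2 × Fin k) = n := by
      rw [← Module.finrank_eq_card_basis b', Module.finrank_fin_fun]
    have hk : 0 < k := Nat.pos_of_ne_zero fun h => by
      rw [Fintype.card_prod, Fintype.card_fin, Fintype.card_fin, h, mul_zero] at hcard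
      omega
    obtain ⟨D, hD⟩ : ∃ D : Matrix (Fin 2 × Fin k) (Fin 2 × Fin k) F,
        D = Matrix.blockDiagonal fun _ : Fin k => !![0, z; 1, 0] := ⟨_, rfl⟩
    have hbb : ∀ i, x.1 *ᵥ b' (0, i) = b' (1, i) ∧ x.1 *ᵥ b' (1, i) = z • b' (0, i) := fun i => by
      rw [← Matrix.toLin'_apply, ← Matrix.toLin'_apply, hb', Module.Basis.reindex_apply, Module.Basis.reindex_apply,
        E.symm_apply_eq.2 (hE.1 i).symm, E.symm_apply_eq.2 (hE.2 i).symm]
      exact ⟨hb1 i, hb2 i⟩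
    obtain ⟨e, -⟩ : ∃ e : Fin 2 × Fin k ≃ Fin n, e = Fintype.equivFinOfCardEq hcard := ⟨_, rfl⟩
    obtain ⟨S, hS, hxS⟩ := frame_of_basis e x.1 b' D fun ⟨a, j⟩ => by
      rw [hD, Fintype.sum_prod_type, Finset.sum_comm, Finset.sum_eq_single j (fun i _ hi => by
        simp [Matrix.blockDiagonal_apply, hi]) (fun h => absurd (Finset.mem_univ _) h), Fin.sum_univ_two]
      fin_cases a <;> simp [Matrix.blockDiagonal_apply, hbb]
    obtain ⟨α, β, hαβ⟩ := exists_rep_binary h2 hz (neg_ne_zero.2 (one_ne_zero (α := F))) (G.det * z ^ (k - 1))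
    obtain ⟨N, hN⟩ : ∃ N : Fin k → Matrix (Fin 2) (Fin 2) F,
        N = Function.update (fun _ => !![1, 0; 0, z]) ⟨0, hk⟩ !![α, β; β, z * α] := ⟨_, rfl⟩
    have hsim : IsSim (RingEquiv.refl F) (Matrix.blockDiagonal N) D z := by
      unfold IsSim
      rw [hD, RingEquiv.coe_refl, Matrix.map_id, Matrix.blockDiagonal_transpose, ← Matrix.blockDiagonal_mul,
        ← Matrix.blockDiagonal_mul, ← Matrix.blockDiagonal_smul]
      congr 1
      funext i
      rw [Pi.smul_apply, hN, Function.update_apply]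
      split_ifs <;>
      · ext a c
        fin_cases a <;> fin_cases c <;> simp [Matrix.mul_apply, Fin.sum_univ_two] <;> ring
    have hNs : (Matrix.blockDiagonal N)ᵀ = Matrix.blockDiagonal N := by
      rw [Matrix.blockDiagonal_transpose]
      congr 1
      funext i
      rw [hN, Function.update_apply]
      split_ifs <;>
      · ext a c
        fin_cases a <;> fin_cases c <;> simp
    have hNd : (Matrix.blockDiagonal N).det = G.det * (z ^ (k - 1) * z ^ (k - 1)) := by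
      rw [Matrix.det_blockDiagonal, hN, Finset.prod_congr rfl fun i _ => Function.apply_update (fun _ => Matrix.det) _ _ _ i,
        Finset.prod_update_of_mem (Finset.mem_univ _), Finset.prod_const, Finset.card_sdiff]
      simp [Matrix.det_fin_two_of]
      linear_combination (z ^ (k - 1)) * hαβ
    obtain ⟨P, lam, hP, hlam, hPM⟩ := sym_congr h2 hn hGs hG (M := (Matrix.blockDiagonal N).reindex e e)
      (by rw [Matrix.transpose_reindex, hNs])
      (by rw [Matrix.det_reindex_self, hNd]; exact mul_ne_zero hG (mul_ne_zero (pow_ne_zero _ hz) (pow_ne_zero _ hz)))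
      (.inr ⟨G.det * z ^ (k - 1), by rw [Matrix.det_reindex_self, hNd]; ring⟩)
    obtain ⟨g, hg, h⟩ := exists_sl_conj_of_frame hS hxS (hsim.reindex e) hP hlam hPM fun δ hδ => by
      obtain ⟨a, c, hac⟩ := exists_rep_binary h2 one_ne_zero (neg_ne_zero.2 hz) δ
      obtain ⟨K, hK⟩ : ∃ K : Fin k → Matrix (Fin 2) (Fin 2) F,
          K = Function.update (fun _ => (1 : Matrix (Fin 2) (Fin 2) F)) ⟨0, hk⟩ !![a, z * c; c, a] := ⟨_, rfl⟩
      refine ⟨(Matrix.blockDiagonal K).reindex e e, ?_, ?_⟩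
      · simp only [Matrix.reindex_apply, Matrix.submatrix_mul_equiv]
        congr 1
        rw [hD, ← Matrix.blockDiagonal_mul, ← Matrix.blockDiagonal_mul]
        congr 1
        funext i
        rw [hK, Function.update_apply]
        split_ifs
        · ext u v
          fin_cases u <;> fin_cases v <;> simp [Matrix.mul_apply, Fin.sum_univ_two] <;> ring
        · simp
      · rw [Matrix.det_reindex_self, Matrix.det_blockDiagonal, hK,
          Finset.prod_congr rfl fun i _ => Function.apply_update (fun _ => Matrix.det) _ _ _ i,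
          Finset.prod_update_of_mem (Finset.mem_univ _)]
        simp [Matrix.det_fin_two_of]
        linear_combination hac
    exact ⟨g, hg, _, hfin g _ h, h⟩

end CfsgLib.Perm.Elusive.Sim
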