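import Mathlib
import Cfsg.Prelude.Def_GeometricClasses

/-!
# Elements of prime order `n` in dimension `n` and normalisers of Singer fields
-/

set_option autoImplicit false
set_option linter.all false

namespace CfsgLib.Perm.Elusive

open Matrix Cfsg.Geo Polynomial

variable {F : Type*} [Field F] {n : ℕ}

/-- an element of order `n` acts as a cyclic shift when `Φ_n` is irreducible -/
theorem exists_shift_basis [NeZero n] (hn : n.Prime) (hn3 : 2 < n) (hirr : Irreducible (cyclotomic n F))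
    (hnF : (n : F) ≠ 0) {V : Type*} [AddCommGroup V] [Module F V] [FiniteDimensional F V]
    (hV : Module.finrank F V = n) (T : Module.End F V) (hTn : T ^ n = 1) (hT1 : T ≠ 1) :
    ∃ b : Module.Basis (Fin n) F V, ∀ i, T (b i) = b (i + 1) := by
  classical
  haveI : Fact n.Prime := ⟨hn⟩
  obtain ⟨Φ, hΦ⟩ : ∃ Φ, Φ = cyclotomic n F := ⟨_, rfl⟩
  have hΦdeg : Φ.natDegree = n - 1 := by rw [hΦ, natDegree_cyclotomic, Nat.totient_prime hn]
  have hev : Φ.eval 1 ≠ 0 := by rw [hΦ, eval_one_cyclotomic_prime]; exact hnF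
  have hcop : IsCoprime (X - C (1 : F)) Φ := by
    refine ((irreducible_X_sub_C (1 : F)).coprime_iff_not_dvd).2 fun h => hev ?_
    exact (dvd_iff_isRoot.1 h)
  have hprod : (X - C (1 : F)) * Φ = X ^ n - 1 := by
    rw [hΦ, map_one, mul_comm, cyclotomic_prime_mul_X_sub_one]
  obtain ⟨U, hU⟩ : ∃ U, U = LinearMap.ker (aeval T (X - C (1 : F))) := ⟨_, rfl⟩
  obtain ⟨W, hW⟩ : ∃ W, W = LinearMap.ker (aeval T Φ) := ⟨_, rfl⟩
  have hUW : U ⊔ W = ⊤ := by
    rw [hU, hW, Polynomial.sup_ker_aeval_eq_ker_aeval_mul_of_coprime T hcop, hprod, map_sub, map_pow, aeval_X, map_one,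
      hTn, sub_self, LinearMap.ker_zero]
  have hdis : Disjoint U W := hU ▸ hW ▸ Polynomial.disjoint_ker_aeval_of_isCoprime T hcop
  have hU' : ∀ u ∈ U, T u = u := fun u hu => by
    rw [hU, LinearMap.mem_ker] at hu
    simpa [sub_eq_zero] using hu
  have hpoly : ∀ (P : F[X]), ∀ u ∈ U, aeval T P u = P.eval 1 • u := fun P u hu => by
    induction P using Polynomial.induction_on' with
    | add p q hp hq => rw [map_add, LinearMap.add_apply, hp, hq, eval_add, add_smul]
    | monomial m c =>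
      have hm : ∀ j : ℕ, (T ^ j) u = u := fun j => by
        induction j with
        | zero => simp
        | succ j ih => rw [pow_succ', Module.End.mul_apply, ih, hU' u hu]
      rw [aeval_monomial, Module.End.mul_apply, hm, eval_monomial, one_pow, mul_one, Module.algebraMap_end_apply]
  have hunit : ∀ (P : F[X]), ¬ Φ ∣ P → ∀ w ∈ W, ∃ a : F[X], aeval T a (aeval T P w) = w := fun P hP w hw => by
    obtain ⟨a, b, hab⟩ := ((hΦ ▸ hirr : Irreducible Φ).coprime_iff_not_dvd).2 hP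
    refine ⟨b, ?_⟩
    have e := congrArg (fun f => aeval T f w) hab
    simp only [map_add, map_mul, map_one, LinearMap.add_apply, Module.End.mul_apply, Module.End.one_apply] at e
    rw [hW, LinearMap.mem_ker] at hw
    rwa [hw, map_zero, zero_add] at e
  have hWT : ∀ (P : F[X]), ∀ w ∈ W, aeval T P w ∈ W := fun P w hw => by
    rw [hW, LinearMap.mem_ker] at hw ⊢
    rw [← Module.End.mul_apply, ← map_mul, mul_comm, map_mul, Module.End.mul_apply, hw, map_zero]
  have hsmall : ∀ P ∈ degreeLT F (n - 1), Φ ∣ P → P = 0 := fun P hP hd => by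
    by_contra h0
    have h1 := natDegree_le_of_dvd hd h0
    rw [hΦdeg] at h1
    have h2 := (natDegree_lt_iff_degree_lt h0).2 (mem_degreeLT.1 hP)
    omega
  obtain ⟨w, hw, hw0⟩ : ∃ w ∈ W, w ≠ 0 := by
    by_contra hno
    push Not at hno
    have hWb : W = ⊥ := (Submodule.eq_bot_iff _).2 hno
    rw [hWb, sup_bot_eq] at hUW
    exact hT1 (LinearMap.ext fun v => hU' v (hUW ▸ Submodule.mem_top))
  obtain ⟨u, hu, hu0⟩ : ∃ u ∈ U, u ≠ 0 := by
    by_contra hno
    push Not at hno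
    have hUb : U = ⊥ := (Submodule.eq_bot_iff _).2 hno
    rw [hUb, bot_sup_eq] at hUW
    have hWall : ∀ v, v ∈ W := fun v => hUW ▸ Submodule.mem_top
    obtain ⟨S, hS⟩ : ∃ S, S = LinearMap.range ((LinearMap.applyₗ w).comp ((aeval T).toLinearMap.comp (degreeLT F (n - 1)).subtype)) :=
      ⟨_, rfl⟩
    have hSfin : Module.finrank F (degreeLT F (n - 1)) = n - 1 := by
      rw [(degreeLTEquiv F (n - 1)).finrank_eq, Module.finrank_fin_fun]
    have hSlt : Module.finrank F S < n := by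
      rw [hS]
      refine lt_of_le_of_lt (LinearMap.finrank_range_le _) ?_
      omega
    obtain ⟨w', hw'⟩ : ∃ w', w' ∉ S := by
      by_contra hall
      push Not at hall
      rw [Submodule.eq_top_iff'.2 hall, finrank_top, hV] at hSlt
      omega
    have hSinv : ∀ (P : F[X]) (s : V), s ∈ S → aeval T P s ∈ S := by
      intro P s hs
      rw [hS] at hs ⊢
      obtain ⟨⟨Q, hQ⟩, rfl⟩ := hs
      have hmon : Φ.Monic := hΦ ▸ cyclotomic.monic n F
      refine ⟨⟨(P * Q) %ₘ Φ, mem_degreeLT.2 ?_⟩, ?_⟩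
      · have := degree_modByMonic_lt (P * Q) hmon
        rwa [degree_eq_natDegree hmon.ne_zero, hΦdeg] at this
      · show aeval T ((P * Q) %ₘ Φ) w = aeval T P (aeval T Q w)
        rw [← Module.End.mul_apply, ← map_mul]
        conv_rhs => rw [← modByMonic_add_div (P * Q) Φ]
        have hw' : aeval T Φ w = 0 := by rw [hW, LinearMap.mem_ker] at hw; exact hw
        rw [map_add, LinearMap.add_apply, mul_comm Φ, map_mul, Module.End.mul_apply, hw', map_zero, add_zero]
    obtain ⟨ψ, hψ⟩ : ∃ ψ : (degreeLT F (n - 1) × degreeLT F (n - 1)) →ₗ[F] V,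
        ∀ P, ψ P = aeval T (P.1 : F[X]) w + aeval T (P.2 : F[X]) w' := by
      refine ⟨LinearMap.coprod ((LinearMap.applyₗ w).comp ((aeval T).toLinearMap.comp (degreeLT F (n - 1)).subtype))
        ((LinearMap.applyₗ w').comp ((aeval T).toLinearMap.comp (degreeLT F (n - 1)).subtype)), fun P => ?_⟩
      simp
    have hinj : Function.Injective ψ := (injective_iff_map_eq_zero ψ).2 fun P hP => by
      rw [hψ] at hP
      have h2 : (P.2 : F[X]) = 0 := by
        by_contra h2
        obtain ⟨a, ha⟩ := hunit _ (fun hd => h2 (hsmall _ P.2.2 hd)) w' (hWall _)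
        refine hw' ?_
        rw [← ha, eq_neg_of_add_eq_zero_right hP, map_neg]
        exact neg_mem (hSinv _ _ (hS ▸ ⟨P.1, rfl⟩))
      rw [h2, map_zero, LinearMap.zero_apply, add_zero] at hP
      have h1 : (P.1 : F[X]) = 0 := by
        by_contra h1
        obtain ⟨a, ha⟩ := hunit _ (fun hd => h1 (hsmall _ P.1.2 hd)) w hw
        exact hw0 (by rw [← ha, hP, map_zero])
      exact Prod.ext (Subtype.ext h1) (Subtype.ext h2)
    have hle := LinearMap.finrank_le_finrank_of_injective hinj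
    rw [Module.finrank_prod, hSfin, hV] at hle
    omega
  obtain ⟨φ, hφ⟩ : ∃ φ : degreeLT F n →ₗ[F] V, ∀ P, φ P = aeval T (P : F[X]) (u + w) :=
    ⟨(LinearMap.applyₗ (u + w)).comp ((aeval T).toLinearMap.comp (degreeLT F n).subtype), fun P => rfl⟩
  have hinj : Function.Injective φ := (injective_iff_map_eq_zero φ).2 fun P hP => by
    rw [hφ, map_add] at hP
    have hPu : aeval T (P : F[X]) u ∈ U := by rw [hpoly _ u hu]; exact U.smul_mem _ hu
    have h1 : aeval T (P : F[X]) u = 0 :=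
      Submodule.disjoint_def.1 hdis _ hPu (by rw [eq_neg_of_add_eq_zero_left hP]; exact neg_mem (hWT _ w hw))
    rw [h1, zero_add] at hP
    rw [hpoly _ u hu, smul_eq_zero] at h1
    have hd1 : X - C (1 : F) ∣ (P : F[X]) := dvd_iff_isRoot.2 (h1.resolve_right hu0)
    have hd2 : Φ ∣ (P : F[X]) := by
      by_contra hd
      obtain ⟨a, ha⟩ := hunit _ hd w hw
      exact hw0 (by rw [← ha, hP, map_zero])
    refine Subtype.ext ?_
    by_contra h0
    have h3 := natDegree_le_of_dvd (hcop.mul_dvd hd1 hd2) h0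
    rw [hprod, show (X ^ n - 1 : F[X]).natDegree = n by rw [← map_one (C : F →+* F[X])]; exact natDegree_X_pow_sub_C] at h3
    have h4 := (natDegree_lt_iff_degree_lt h0).2 (mem_degreeLT.1 P.2)
    omega
  have hbij : Function.Bijective φ := by
    refine ⟨hinj, (LinearMap.injective_iff_surjective_of_finrank_eq_finrank ?_).1 hinj⟩
    rw [(degreeLTEquiv F n).finrank_eq, Module.finrank_fin_fun, hV]
  obtain ⟨b, hb⟩ : ∃ b : Module.Basis (Fin n) F V, ∀ i, b i = (T ^ (i : ℕ)) (u + w) := by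
    refine ⟨(degreeLT.basis F n).map (LinearEquiv.ofBijective φ hbij), fun i => ?_⟩
    rw [Module.Basis.map_apply, LinearEquiv.ofBijective_apply, hφ, degreeLT.basis_val, map_pow, aeval_X]
  refine ⟨b, fun i => ?_⟩
  rw [hb, hb, ← Module.End.mul_apply, ← pow_succ', Fin.val_add, Fin.val_one', Nat.add_mod_mod]
  conv_lhs => rw [← Nat.mod_add_div ((i : ℕ) + 1) n, pow_add, pow_mul, hTn, one_pow, mul_one]

/-- two such elements are conjugate under the special linear group -/
theorem exists_sl_conj_shift [Fintype F] [NeZero n] (hco : (Fintype.card F - 1).Coprime n)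
    {x y : Matrix (Fin n) (Fin n) F} (bx by' : Module.Basis (Fin n) F (Fin n → F))
    (hx : ∀ i, Matrix.toLin' x (bx i) = bx (i + 1)) (hy : ∀ i, Matrix.toLin' y (by' i) = by' (i + 1)) :
    ∃ P : Matrix.SpecialLinearGroup (Fin n) F, x * P.1 = P.1 * y := by
  obtain ⟨L, hL⟩ : ∃ L, L = LinearMap.toMatrix' (by'.equiv bx (Equiv.refl _)).toLinearMap := ⟨_, rfl⟩
  have hcomm : x * L = L * y := by
    refine Matrix.toLin'.injective (by'.ext fun i => ?_)
    rw [Matrix.toLin'_mul, Matrix.toLin'_mul, hL, Matrix.toLin'_toMatrix']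
    simp [hx, hy, -Matrix.toLin'_apply]
  have hdet : L.det ≠ 0 := by
    rw [hL, LinearMap.det_toMatrix']
    exact (LinearEquiv.isUnit_det' _).ne_zero
  obtain ⟨s, hs⟩ := (powCoprime (show (Nat.card Fˣ).Coprime n by
    rwa [Nat.card_units, Nat.card_eq_fintype_card])).surjective (Units.mk0 _ hdet)⁻¹
  refine ⟨⟨(s : F) • L, ?_⟩, ?_⟩
  · rw [Matrix.det_smul, Fintype.card_fin]
    have h := congrArg (fun z : Fˣ => (z : F)) hs
    simp only [powCoprime_apply, Units.val_pow_eq_pow_val, Units.val_inv_eq_inv_val, Units.val_mk0] at h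
    rw [h, inv_mul_cancel₀ hdet]
  · show x * ((s : F) • L) = (s : F) • L * y
    rw [Matrix.mul_smul, Matrix.smul_mul, hcomm]

variable {K : Subalgebra F (Matrix (Fin n) (Fin n) F)}

theorem singer_isDomain [Nonempty (Fin n)] (hK : IsFieldSubalgebra n K) : IsDomain K := by
  haveI : NoZeroDivisors K := ⟨fun {a b} h => by
    by_cases ha : a = 0
    · exact Or.inl ha
    · obtain ⟨y, hy, hay⟩ := hK.inv _ a.2 fun h' => ha (Subtype.ext h')
      refine Or.inr (Subtype.ext ?_)
      have e : (a : Matrix (Fin n) (Fin n) F) * b = 0 := congrArg Subtype.val h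
      have hya : y * a.1 = 1 := by rw [hK.comm y hy _ a.2, hay]
      rw [← Matrix.one_mul b.1, ← hya, Matrix.mul_assoc, e, Matrix.mul_zero]; rfl⟩
  exact NoZeroDivisors.to_isDomain _

theorem singer_eval [Nonempty (Fin n)] (hK : IsFieldSubalgebra n K) {v : Fin n → F} (hv : v ≠ 0) :
    ∃ e : K ≃ₗ[F] (Fin n → F), ∀ k : K, e k = (k : Matrix (Fin n) (Fin n) F) *ᵥ v := by
  obtain ⟨φ, hφ⟩ : ∃ φ : K →ₗ[F] (Fin n → F), ∀ k : K, φ k = (k : Matrix (Fin n) (Fin n) F) *ᵥ v :=
    ⟨⟨⟨fun k => (k : Matrix (Fin n) (Fin n) F) *ᵥ v, fun a b => add_mulVec _ _ _⟩, fun c a =>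
      smul_mulVec c (a : Matrix (Fin n) (Fin n) F) v⟩, fun k => rfl⟩
  have hinj : Function.Injective φ := (injective_iff_map_eq_zero φ).2 fun k hk => by
    by_contra hk0
    obtain ⟨y, hy, hky⟩ := hK.inv _ k.2 fun h => hk0 (Subtype.ext h)
    rw [hφ] at hk
    refine hv ?_
    rw [← one_mulVec v, ← hky, hK.comm _ k.2 y hy, ← mulVec_mulVec, hk, mulVec_zero]
  exact ⟨LinearEquiv.ofBijective φ ⟨hinj, (LinearMap.injective_iff_surjective_of_finrank_eq_finrank
    (by rw [hK.finrank_eq, Module.finrank_fin_fun])).1 hinj⟩, fun k => hφ k⟩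

/-- nonscalar elements of the normaliser have eigenspaces of dimension at most one -/
theorem eigen_le_one [NeZero n] (hn : n.Prime) (hK : IsFieldSubalgebra n K) {g : GL (Fin n) F}
    (hg : g ∈ subalgebraNormalizer K) (hns : ∀ c : F, g.1 ≠ c • 1) (μ : F) {v w : Fin n → F}
    (hv : g.1 *ᵥ v = μ • v) (hw : g.1 *ᵥ w = μ • w) (hv0 : v ≠ 0) : ∃ c : F, w = c • v := by
  haveI : IsDomain K := singer_isDomain hK
  obtain ⟨e, he⟩ := singer_eval hK hv0
  obtain ⟨k, hk⟩ := e.surjective w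
  rw [he] at hk
  have hμ : μ ≠ 0 := fun h => hv0 (by
    have : ((g⁻¹).1 * g.1) *ᵥ v = 0 := by rw [← mulVec_mulVec, hv, h, zero_smul, mulVec_zero]
    rwa [← Units.val_mul, inv_mul_cancel, Units.val_one, one_mulVec] at this)
  have hcomm : g.1 * k.1 = k.1 * g.1 := by
    have e1 : e ⟨_, (hg k.1).1 k.2⟩ = e k := by
      rw [he, he, hk]
      show (g.1 * k.1 * (g⁻¹).1) *ᵥ v = w
      have hinv : (g⁻¹).1 *ᵥ v = μ⁻¹ • v := by
        have : ((g⁻¹).1 * g.1) *ᵥ v = μ • ((g⁻¹).1 *ᵥ v) := by rw [← mulVec_mulVec, hv, mulVec_smul]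
        rw [← Units.val_mul, inv_mul_cancel, Units.val_one, one_mulVec] at this
        conv_rhs => rw [this]
        rw [inv_smul_smul₀ hμ]
      rw [← mulVec_mulVec, ← mulVec_mulVec, hinv, mulVec_smul, hk, mulVec_smul, hw, smul_smul, inv_mul_cancel₀ hμ,
        one_smul]
    have e2 := congrArg Subtype.val (e.injective e1)
    calc g.1 * k.1 = g.1 * k.1 * (g⁻¹).1 * g.1 := by
          rw [Matrix.mul_assoc (g.1 * k.1), ← Units.val_mul, inv_mul_cancel, Units.val_one, Matrix.mul_one]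
      _ = _ := by rw [show g.1 * k.1 * (g⁻¹).1 = k.1 from e2]
  haveI := Subalgebra.isSimpleOrder_of_finrank_prime F K (hK.finrank_eq.symm ▸ hn)
  obtain ⟨L, hL⟩ : ∃ L : Subalgebra F K, L = (Subalgebra.centralizer F {g.1}).comap K.val := ⟨_, rfl⟩
  have hkL : k ∈ L := by
    rw [hL, Subalgebra.mem_comap, Subalgebra.mem_centralizer_iff]
    rintro _ rfl
    exact hcomm
  rcases IsSimpleOrder.eq_bot_or_eq_top L with h | h
  · rw [h, Algebra.mem_bot] at hkL
    obtain ⟨c, hc⟩ := hkL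
    refine ⟨c, ?_⟩
    rw [← hk, ← hc]
    simp [Algebra.algebraMap_eq_smul_one, smul_mulVec]
  · exfalso
    refine hns μ (Matrix.toLin'.injective (LinearMap.ext fun z => ?_))
    obtain ⟨m, rfl⟩ := e.surjective z
    have hmL : m ∈ L := h ▸ Algebra.mem_top
    rw [hL, Subalgebra.mem_comap, Subalgebra.mem_centralizer_iff] at hmL
    have hm : g.1 * m.1 = m.1 * g.1 := hmL g.1 rfl
    rw [he, toLin'_apply, toLin'_apply, smul_mulVec, one_mulVec, mulVec_mulVec, hm, ← mulVec_mulVec, hv, mulVec_smul]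

/-- the field automorphism as an element of the normaliser -/
theorem exists_frobenius [Fintype F] [NeZero n] {p : ℕ} [Fact p.Prime] [CharP F p] (hn : n.Prime)
    (hK : IsFieldSubalgebra n K) :
    ∃ g : GL (Fin n) F, g ∈ subalgebraNormalizer K ∧ g ^ n = 1 ∧ g ≠ 1 ∧ ∀ c : F, g.1 ≠ c • 1 := by
  classical
  haveI : IsDomain K := singer_isDomain hK
  haveI : Finite K := Module.finite_of_finite F
  haveI : Fintype K := Fintype.ofFinite _
  obtain ⟨q, hq⟩ : ∃ q, q = Fintype.card F := ⟨_, rfl⟩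
  obtain ⟨c, -, hc⟩ := FiniteField.card F p
  have hcard : Fintype.card K = q ^ n := by rw [Module.card_eq_pow_finrank (K := F), hK.finrank_eq, hq]
  obtain ⟨hpow, k₁, hk₁⟩ : (∀ k : K, k ^ q ^ n = k) ∧ ∃ k : K, k ^ q ≠ k := by
    letI : Field K := (Finite.isDomain_to_isField K).toField
    refine ⟨fun k => hcard ▸ FiniteField.pow_card k, ?_⟩
    by_contra hall
    push Not at hall
    have hq1 : 1 < q := hq ▸ Fintype.one_lt_card
    have h0 := FiniteField.X_pow_card_sub_X_ne_zero K hq1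
    have h1 : Finset.univ.val ≤ (X ^ q - X : K[X]).roots :=
      Multiset.le_iff_subset (Finset.univ.nodup) |>.2 fun a _ => by
        rw [mem_roots h0, IsRoot, eval_sub, eval_pow, eval_X, hall a, sub_self]
    have h2 := (Multiset.card_le_card h1).trans (card_roots' _)
    rw [FiniteField.X_pow_card_sub_X_natDegree_eq K hq1, ← Finset.card_def, Finset.card_univ, hcard] at h2
    have := Nat.pow_lt_pow_right hq1 hn.one_lt
    rw [pow_one] at this
    omega
  haveI : Nonempty (Fin n) := ⟨0⟩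
  haveI : CharP (Matrix (Fin n) (Fin n) F) p := Matrix.charP p
  obtain ⟨v₀, hv₀⟩ : ∃ v : Fin n → F, v ≠ 0 := ⟨Pi.single 0 1, by simp⟩
  obtain ⟨e, he⟩ := singer_eval hK hv₀
  obtain ⟨σ, hσ⟩ : ∃ σ : K →ₗ[F] K, ∀ k : K, σ k = k ^ q := by
    refine ⟨⟨⟨fun k => k ^ q, fun a b => ?_⟩, fun r a => ?_⟩, fun k => rfl⟩
    · refine Subtype.ext ?_
      show (a.1 + b.1) ^ q = a.1 ^ q + b.1 ^ q
      rw [hq, hc]
      exact add_pow_char_pow_of_commute p _ (hK.comm _ a.2 _ b.2)
    · show (r • a) ^ q = r • a ^ q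
      rw [_root_.smul_pow, hq, FiniteField.pow_card]
  have hσm : ∀ a b : K, σ (a * b) = σ a * σ b := fun a b => by
    rw [hσ, hσ, hσ]
    exact Commute.mul_pow (Subtype.ext (hK.comm _ a.2 _ b.2)) q
  obtain ⟨G, hG⟩ : ∃ G, G = LinearMap.toMatrix' (e.toLinearMap ∘ₗ σ ∘ₗ e.symm.toLinearMap) := ⟨_, rfl⟩
  have hGv : ∀ k : K, G *ᵥ e k = e (σ k) := fun k => by
    rw [hG, LinearMap.toMatrix'_mulVec]
    simp
  have hGk : ∀ k : K, G * k.1 = (σ k).1 * G := fun k => by
    refine Matrix.toLin'.injective (LinearMap.ext fun z => ?_)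
    obtain ⟨m, rfl⟩ := e.surjective z
    have hmul : ∀ a b : K, a.1 *ᵥ e b = e (a * b) := fun a b => by
      rw [he, he, mulVec_mulVec]; rfl
    rw [toLin'_apply, toLin'_apply, ← mulVec_mulVec, ← mulVec_mulVec, hmul, hGv, hGv, hmul, hσm]
  have hGpow : ∀ (j : ℕ) (k : K), (G ^ j) *ᵥ e k = e (k ^ q ^ j) := fun j => by
    induction j with
    | zero => intro k; simp
    | succ j ih => intro k; rw [pow_succ', ← mulVec_mulVec, ih, hGv, hσ, ← pow_mul, ← pow_succ]
  have hGn : G ^ n = 1 := Matrix.toLin'.injective (LinearMap.ext fun z => by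
    obtain ⟨m, rfl⟩ := e.surjective z
    rw [toLin'_apply, toLin'_apply, hGpow, hpow, one_mulVec])
  obtain ⟨g, hg⟩ : ∃ g : GL (Fin n) F, g.1 = G := ⟨Units.ofPowEqOne G n hGn hn.ne_zero, rfl⟩
  have hgn : g ^ n = 1 := Units.ext (by rw [Units.val_pow_eq_pow_val, hg, hGn, Units.val_one])
  have hfwd : ∀ (j : ℕ) (m : Matrix (Fin n) (Fin n) F), m ∈ K → (g ^ j).1 * m * ((g ^ j)⁻¹).1 ∈ K := fun j => by
    induction j with
    | zero => intro m hm; simpa using hm
    | succ j ih =>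
      intro m hm
      have h1 : g.1 * m * (g⁻¹).1 = (σ ⟨m, hm⟩).1 := by
        rw [hg, hGk ⟨m, hm⟩, Matrix.mul_assoc, ← hg, ← Units.val_mul, mul_inv_cancel, Units.val_one, Matrix.mul_one]
      have h2 := ih _ (σ ⟨m, hm⟩).2
      rw [← h1] at h2
      rw [pow_succ, _root_.mul_inv_rev, Units.val_mul, Units.val_mul]
      simpa only [Matrix.mul_assoc] using h2
  have hne : g ≠ 1 := fun h => hk₁ (e.injective (by rw [← hσ, ← hGv, ← hg, h, Units.val_one, one_mulVec]))
  refine ⟨g, fun m => ⟨fun hm => by simpa using hfwd 1 m hm, fun hm => ?_⟩, hgn, hne, fun c hc => ?_⟩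
  · have h1 := hfwd (n - 1) _ hm
    have e1 : (g ^ (n - 1) : GL (Fin n) F) = g⁻¹ :=
      eq_inv_of_mul_eq_one_left (by rw [← pow_succ, Nat.sub_add_cancel hn.one_le, hgn])
    rw [e1, inv_inv] at h1
    simpa [← Matrix.mul_assoc, ← Units.val_mul, Matrix.mul_assoc _ (g⁻¹).1 g.1] using h1
  · refine hne (Units.ext ?_)
    have h1 : G *ᵥ e 1 = e 1 := by rw [hGv, hσ, one_pow]
    rw [← hg, hc, smul_mulVec, one_mulVec] at h1
    have hc1 : c = 1 := smul_left_injective F (fun h => one_ne_zero (e.map_eq_zero_iff.1 h))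
      (show c • e 1 = (1 : F) • e 1 by rw [h1, one_smul])
    rw [Units.val_one, hc, hc1, one_smul]

end CfsgLib.Perm.Elusive
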