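import Mathlib
import Cfsg.Prelude.Def_GeometricClasses

/-!
# Subfield subgroups of special linear groups: membership, index, conjugation
-/

set_option autoImplicit false
set_option linter.all false

namespace CfsgLib.Perm.Elusive

open Matrix Cfsg.Geo

variable {F : Type*} [Field F] [Fintype F] {n : ℕ}

theorem scalars_normal {ι : Type} [Fintype ι] [DecidableEq ι] : (scalars ι F).Normal := ⟨fun a ha g => by
  obtain ⟨c, hc⟩ := (mem_scalars_iff a).1 ha
  refine (mem_scalars_iff _).2 ⟨c, ?_⟩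
  rw [Units.val_mul, Units.val_mul, hc, Matrix.mul_smul, Matrix.mul_one, Matrix.smul_mul, ← Units.val_mul,
    mul_inv_cancel, Units.val_one]⟩

theorem subfieldSubgroup_one {ι : Type} [Fintype ι] [DecidableEq ι] (F₀ : Subfield F) :
    subfieldSubgroup F₀ (1 : GL ι F) =
      (Matrix.GeneralLinearGroup.map (F₀.subtype : F₀ →+* F)).range ⊔ scalars ι F := by
  rw [subfieldSubgroup, map_one]; exact Subgroup.map_id _

/-- matrices over the subfield up to scalars -/
theorem mem_subfield_one {ι : Type} [Fintype ι] [DecidableEq ι] {F₀ : Subfield F} {g : GL ι F} :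
    g ∈ subfieldSubgroup F₀ (1 : GL ι F) ↔
      ∃ lam : F, lam ≠ 0 ∧ ∀ i j, lam⁻¹ * (g : Matrix ι ι F) i j ∈ F₀ := by
  haveI := scalars_normal (F := F) (ι := ι)
  rw [subfieldSubgroup_one, Subgroup.mem_sup_of_normal_right]
  constructor
  · rintro ⟨_, ⟨h, rfl⟩, s, hs, rfl⟩
    obtain ⟨c, hc⟩ := (mem_scalars_iff s).1 hs
    refine ⟨c, c.ne_zero, fun i j => ?_⟩
    rw [Units.val_mul, hc, Matrix.mul_smul, Matrix.mul_one, Matrix.smul_apply, smul_eq_mul,
      inv_mul_cancel_left₀ c.ne_zero]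
    exact ((h : Matrix ι ι F₀) i j).2
  · rintro ⟨lam, hlam, hent⟩
    obtain ⟨M, hM⟩ : ∃ M : Matrix ι ι F₀, ∀ i j, (M i j : F) = lam⁻¹ * (g : Matrix ι ι F) i j :=
      ⟨Matrix.of fun i j => ⟨_, hent i j⟩, fun i j => rfl⟩
    have hMmap : M.map (F₀.subtype : F₀ →+* F) = lam⁻¹ • (g : Matrix ι ι F) := by
      ext i j
      exact hM i j
    have hdet : IsUnit M.det := by
      refine Ne.isUnit fun h0 => ?_
      have h1 := RingHom.map_det (F₀.subtype : F₀ →+* F) M
      rw [h0, map_zero, RingHom.mapMatrix_apply, hMmap, Matrix.det_smul] at h1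
      exact mul_ne_zero (pow_ne_zero _ (inv_ne_zero hlam)) (((Matrix.isUnit_iff_isUnit_det _).1 g.isUnit).ne_zero) h1.symm
    refine ⟨Matrix.GeneralLinearGroup.map (F₀.subtype : F₀ →+* F) (Matrix.GeneralLinearGroup.mk'' M hdet), ⟨_, rfl⟩,
      Units.map (Matrix.scalar ι : F →+* Matrix ι ι F).toMonoidHom (Units.mk0 lam hlam), ⟨_, rfl⟩, ?_⟩
    refine Units.ext ?_
    show M.map (F₀.subtype : F₀ →+* F) * Matrix.scalar ι lam = _
    rw [hMmap, Matrix.scalar_apply, ← Matrix.smul_one_eq_diagonal, Matrix.mul_smul, Matrix.mul_one, smul_smul,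
      mul_inv_cancel₀ hlam, one_smul]

/-- conjugating into the special linear group with the help of a centraliser -/
theorem exists_sl_conj (x : Matrix.SpecialLinearGroup (Fin n) F) (b : Module.Basis (Fin n) F (Fin n → F))
    (R : Matrix (Fin n) (Fin n) F) (hR : ∀ j, (x : Matrix (Fin n) (Fin n) F) *ᵥ b j = ∑ i, R i j • b i)
    (hC : ∀ δ : F, δ ≠ 0 → ∃ C : Matrix (Fin n) (Fin n) F, C.det = δ ∧ C * R = R * C) :
    ∃ P : Matrix.SpecialLinearGroup (Fin n) F,
      ((P⁻¹ * x * P : Matrix.SpecialLinearGroup (Fin n) F) : Matrix (Fin n) (Fin n) F) = R := by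
  obtain ⟨B, hB⟩ : ∃ B : Matrix (Fin n) (Fin n) F, B = Matrix.of fun i j => b j i := ⟨_, rfl⟩
  have hxB : (x : Matrix (Fin n) (Fin n) F) * B = B * R := by
    ext i j
    have h := congrFun (hR j) i
    simp only [Matrix.mulVec, dotProduct, Finset.sum_apply, Pi.smul_apply, smul_eq_mul] at h
    simp only [Matrix.mul_apply, hB, Matrix.of_apply]
    rw [h]
    exact Finset.sum_congr rfl fun m _ => mul_comm _ _
  have hBdet : B.det ≠ 0 := by
    have := (Pi.basisFun F (Fin n)).invertibleToMatrix b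
    have e : B = (Pi.basisFun F (Fin n)).toMatrix b := by
      ext i j
      simp [hB, Module.Basis.toMatrix_apply]
    rw [e]
    exact (Matrix.isUnit_det_of_invertible _).ne_zero
  obtain ⟨C, hCd, hCR⟩ := hC B.det⁻¹ (inv_ne_zero hBdet)
  obtain ⟨P, hP⟩ : ∃ P : Matrix.SpecialLinearGroup (Fin n) F, (P : Matrix (Fin n) (Fin n) F) = B * C :=
    ⟨⟨B * C, by rw [Matrix.det_mul, hCd, mul_inv_cancel₀ hBdet]⟩, rfl⟩
  refine ⟨P, ?_⟩
  have hxP : (x : Matrix (Fin n) (Fin n) F) * P.1 = P.1 * R := by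
    rw [hP, ← mul_assoc, hxB, mul_assoc, mul_assoc, hCR]
  rw [Matrix.SpecialLinearGroup.coe_mul, Matrix.SpecialLinearGroup.coe_mul, mul_assoc, hxP, ← mul_assoc,
    ← Matrix.SpecialLinearGroup.coe_mul, inv_mul_cancel, Matrix.SpecialLinearGroup.coe_one, one_mul]

theorem card_sl_mul (K : Type*) [Field K] [Fintype K] (hn : 0 < n) :
    Nat.card (Matrix.SpecialLinearGroup (Fin n) K) * (Fintype.card K - 1) = Nat.card (GL (Fin n) K) := by
  classical
  haveI : Nonempty (Fin n) := ⟨⟨0, hn⟩⟩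
  rw [← (Matrix.GeneralLinearGroup.det : GL (Fin n) K →* Kˣ).ker.card_mul_index, Subgroup.index_ker,
    MonoidHom.range_eq_top.2 Matrix.GeneralLinearGroup.det_surjective, Subgroup.card_top, Nat.card_units,
    Nat.card_eq_fintype_card (α := K)]
  congr 1
  refine Nat.card_congr (Equiv.ofBijective (fun A => ⟨Matrix.SpecialLinearGroup.toGL A, Units.ext A.2⟩)
    ⟨fun a b hab => Subtype.ext (congrArg Units.val (congrArg Subtype.val hab)), fun g => ⟨⟨_, ?_⟩, Subtype.ext (Units.ext rfl)⟩⟩)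
  have := g.2
  rw [MonoidHom.mem_ker, Units.ext_iff, Matrix.GeneralLinearGroup.val_det_apply] at this
  exact this

/-- an odd extension in odd characteristic gives odd index -/
theorem odd_index (hn : 0 < n) (F₀ : Subfield F) {k q₀ : ℕ} (hF₀ : Nat.card F₀ = q₀)
    (hqk : Fintype.card F = q₀ ^ k) (hk : Odd k) (hodd : Odd (Fintype.card F)) :
    Odd ((subfieldSubgroup F₀ 1).comap
      (Matrix.SpecialLinearGroup.toGL : Matrix.SpecialLinearGroup (Fin n) F →* GL (Fin n) F)).index := by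
  classical
  obtain ⟨H, hH⟩ : ∃ H, H = (subfieldSubgroup F₀ 1).comap
      (Matrix.SpecialLinearGroup.toGL : Matrix.SpecialLinearGroup (Fin n) F →* GL (Fin n) F) := ⟨_, rfl⟩
  rw [← hH]
  haveI : Fintype F₀ := Fintype.ofFinite _
  have hq₀ : Fintype.card F₀ = q₀ := by rw [← hF₀, Nat.card_eq_fintype_card]
  have hq0odd : Odd q₀ := by rw [hqk] at hodd; exact Odd.of_dvd_nat hodd (dvd_pow_self _ hk.pos.ne')
  have hsum : ∀ j, ∃ o, Odd o ∧ q₀ ^ (k * j) - 1 = (q₀ ^ j - 1) * o := fun j => by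
    refine ⟨∑ i ∈ Finset.range k, (q₀ ^ j) ^ i, ?_, ?_⟩
    · rw [Finset.odd_sum_iff_odd_card_odd,
        Finset.filter_true_of_mem (fun i _ => (hq0odd.pow).pow), Finset.card_range]
      exact hk
    · have hpos : 1 ≤ q₀ ^ j := Nat.one_le_pow _ _ (by rcases hq0odd with ⟨m, rfl⟩; omega)
      rw [mul_comm k j, pow_mul]
      obtain ⟨m, hm⟩ : ∃ m, q₀ ^ j = m + 1 := ⟨q₀ ^ j - 1, by omega⟩
      rw [hm, Nat.add_sub_cancel]
      have h := geom_sum_mul_add m k
      rw [← h, Nat.add_sub_cancel, mul_comm]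
  have hGL : ∃ o, Odd o ∧ Nat.card (GL (Fin n) F) = Nat.card (GL (Fin n) F₀) * o := by
    rw [Matrix.card_GL_field, Matrix.card_GL_field, hq₀, hqk]
    have hfac : ∀ i : Fin n, ∃ o, Odd o ∧ (q₀ ^ k) ^ n - (q₀ ^ k) ^ (i : ℕ) = (q₀ ^ n - q₀ ^ (i : ℕ)) * o := fun i => by
      obtain ⟨o, ho, ho'⟩ := hsum (n - i)
      refine ⟨q₀ ^ ((k - 1) * (i : ℕ)) * o, (hq0odd.pow).mul ho, ?_⟩
      have e1 : ∀ (x : ℕ), x ^ n - x ^ (i : ℕ) = x ^ (i : ℕ) * (x ^ (n - i) - 1) := fun x => by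
        rw [Nat.mul_sub_one, ← pow_add, Nat.add_sub_cancel' i.2.le]
      rw [e1, e1, ← pow_mul, ← pow_mul, ho']
      have e2 : q₀ ^ (k * (i : ℕ)) = q₀ ^ (i : ℕ) * q₀ ^ ((k - 1) * (i : ℕ)) := by
        rw [← pow_add, Nat.sub_mul, one_mul, Nat.add_sub_cancel' (Nat.le_mul_of_pos_left _ hk.pos)]
      rw [e2]
      ring
    choose o ho ho' using hfac
    refine ⟨∏ i, o i, ?_, by rw [← Finset.prod_mul_distrib]; exact Finset.prod_congr rfl fun i _ => ho' i⟩
    rw [← Nat.not_even_iff_odd, even_iff_two_dvd, Nat.prime_two.prime.dvd_finsetProd_iff]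
    rintro ⟨i, -, h⟩
    exact (Nat.not_even_iff_odd.2 (ho i)) (even_iff_two_dvd.2 h)
  obtain ⟨O, hO, hGL⟩ := hGL
  obtain ⟨o1, ho1, hq1⟩ := hsum 1
  rw [mul_one, pow_one, ← hqk] at hq1
  have hdvd : Nat.card (Matrix.SpecialLinearGroup (Fin n) F₀) ∣ Nat.card H := by
    have hinj : Function.Injective (Matrix.SpecialLinearGroup.map (F₀.subtype : F₀ →+* F) :
        Matrix.SpecialLinearGroup (Fin n) F₀ →* Matrix.SpecialLinearGroup (Fin n) F) := by
      intro a b h
      ext i j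
      exact congrFun (congrFun (congrArg Subtype.val h) i) j
    refine (dvd_of_eq (Nat.card_congr (MonoidHom.ofInjective hinj).toEquiv)).trans (Subgroup.card_dvd_of_le ?_)
    rintro _ ⟨a, rfl⟩
    rw [hH, Subgroup.mem_comap, mem_subfield_one]
    exact ⟨1, one_ne_zero, fun i j => by rw [inv_one, one_mul]; exact (a.1 i j).2⟩
  have h1 : H.index * Nat.card (Matrix.SpecialLinearGroup (Fin n) F₀) * ((q₀ - 1) * o1) ∣
      Nat.card (Matrix.SpecialLinearGroup (Fin n) F₀) * (q₀ - 1) * O := by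
    rw [← hq1]
    conv_rhs => rw [← hq₀, card_sl_mul F₀ hn, ← hGL, ← card_sl_mul F hn, ← H.index_mul_card]
    exact Nat.mul_dvd_mul_right (Nat.mul_dvd_mul_left _ hdvd) _
  have hpos : 0 < Nat.card (Matrix.SpecialLinearGroup (Fin n) F₀) * (q₀ - 1) :=
    Nat.mul_pos Nat.card_pos (by have := Fintype.one_lt_card (α := F₀); omega)
  have h2 : H.index * o1 ∣ O := by
    refine Nat.dvd_of_mul_dvd_mul_left hpos ?_
    refine dvd_trans (dvd_of_eq ?_) h1
    ring
  exact Odd.of_dvd_nat hO (dvd_trans (dvd_mul_right _ _) h2)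

end CfsgLib.Perm.Elusive
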