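import Mathlib
import Cfsg.Agent.Lib.Perm.Elusive.SubfieldInvol
import Cfsg.Agent.Lib.Perm.Elusive.SimilTorus
import Cfsg.Agent.Lib.Perm.Elusive.SimilConj
import Cfsg.Agent.Lib.Perm.Elusive.SimilUnitary
import Cfsg.Agent.Lib.Perm.Asch.Forms.Subfield
import Cfsg.Agent.Lib.GLClass.Semisimple
import Cfsg.Agent.Lib.GLClass.CommSim

/-!
# Subfield subgroups and elements of odd prime order prime to the characteristic
-/

set_option autoImplicit false
set_option linter.all false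

namespace CfsgLib.Perm.Elusive.SubfieldPrime

open Matrix Polynomial Cfsg.Geo

variable {F : Type*} [Field F] [Fintype F] {n : ℕ} {σ : F ≃+* F}

/-- the Frobenius automorphism fixing exactly the subfield -/
theorem exists_frob {p : ℕ} [Fact p.Prime] [CharP F p] (F₀ : Subfield F) {k q₀ : ℕ} (hk : 0 < k)
    (hF₀ : Nat.card F₀ = q₀) (hqk : Fintype.card F = q₀ ^ k) :
    ∃ σ : F ≃+* F, (∀ a, σ a = a ^ q₀) ∧ ∀ a, σ a = a ↔ a ∈ F₀ := by
  obtain ⟨c, hp, hc⟩ := FiniteField.card F p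
  obtain ⟨e, -, he⟩ := (Nat.dvd_prime_pow hp).1 (show q₀ ∣ p ^ (c : ℕ) from hc ▸ hqk ▸ dvd_pow_self q₀ hk.ne')
  refine ⟨iterateFrobeniusEquiv F p e, fun a => ?_, fun a => ?_⟩
  · rw [iterateFrobeniusEquiv_def, he]
  · rw [iterateFrobeniusEquiv_def, CfsgLib.Perm.Asch.mem_subfield_iff, hF₀, he]

/-- subfield forms up to a scalar can be reached inside the special linear group -/
theorem exists_conj_subfield (hn : 0 < n) {F₀ : Subfield F} {r : ℕ} (hrF : (r : F) ≠ 0)
    (x : Matrix.SpecialLinearGroup (Fin n) F) {z : F} (hx : x.1 ^ r = z • (1 : Matrix (Fin n) (Fin n) F))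
    {S M : Matrix (Fin n) (Fin n) F} {lam : F} (hS : S.det ≠ 0) (hlam : lam ≠ 0)
    (hxS : x.1 * S = S * (lam • M)) (hM : ∀ i j, M i j ∈ F₀) :
    ∃ P : Matrix.SpecialLinearGroup (Fin n) F, P⁻¹ * x * P ∈ (subfieldSubgroup F₀ 1).comap
      (Matrix.SpecialLinearGroup.toGL : Matrix.SpecialLinearGroup (Fin n) F →* GL (Fin n) F) := by
  classical
  haveI : Nonempty (Fin n) := ⟨⟨0, hn⟩⟩
  have hz : z ≠ 0 := fun h => by
    have h1 := congrArg Matrix.det hx
    rw [Matrix.det_pow, x.2, one_pow, h, zero_smul, Matrix.det_zero] at h1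
    exact one_ne_zero h1
  obtain ⟨R, hR⟩ : ∃ R, R = lam • M := ⟨_, rfl⟩
  rw [← hR] at hxS
  have hpow : ∀ j : ℕ, x.1 ^ j * S = S * R ^ j := fun j => by
    induction j with
    | zero => simp
    | succ j ih => rw [pow_succ, Matrix.mul_assoc, hxS, ← Matrix.mul_assoc, ih, Matrix.mul_assoc, ← pow_succ]
  have hSS : CfsgLib.GLClass.IsSS R := by
    refine ⟨X ^ r - C z, (separable_X_pow_sub_C _ hrF hz).squarefree, ?_⟩
    have h1 := hpow r
    rw [hx, Matrix.smul_mul, Matrix.one_mul] at h1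
    have h2 : S * (z • (1 : Matrix (Fin n) (Fin n) F)) = S * R ^ r := by rw [← h1, Matrix.mul_smul, Matrix.mul_one]
    have h3 := congrArg (S⁻¹ * ·) h2
    simp only [← Matrix.mul_assoc, Matrix.nonsing_inv_mul _ (Ne.isUnit hS), Matrix.one_mul] at h3
    rw [map_sub, map_pow (aeval R), aeval_X, aeval_C, Algebra.algebraMap_eq_smul_one, ← h3, sub_self]
  obtain ⟨D, hD, hDd⟩ := CfsgLib.GLClass.exists_commute_det hSS S.det⁻¹ (inv_ne_zero hS)
  obtain ⟨P, hP⟩ : ∃ P : Matrix.SpecialLinearGroup (Fin n) F, P.1 = S * D :=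
    ⟨⟨S * D, by rw [Matrix.det_mul, hDd, mul_inv_cancel₀ hS]⟩, rfl⟩
  refine ⟨P, ?_⟩
  have e : (P⁻¹ * x * P).1 = R := by
    rw [Matrix.SpecialLinearGroup.coe_mul, Matrix.SpecialLinearGroup.coe_mul, Matrix.mul_assoc, hP,
      ← Matrix.mul_assoc x.1, hxS, Matrix.mul_assoc S, ← hD, ← Matrix.mul_assoc S, ← hP, ← Matrix.mul_assoc,
      ← Matrix.SpecialLinearGroup.coe_mul, inv_mul_cancel, Matrix.SpecialLinearGroup.coe_one, Matrix.one_mul]
  rw [Subgroup.mem_comap, mem_subfield_one]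
  refine ⟨lam, hlam, fun i j => ?_⟩
  show lam⁻¹ * (P⁻¹ * x * P).1 i j ∈ F₀
  rw [e, hR, Matrix.smul_apply, smul_eq_mul, inv_mul_cancel_left₀ hlam]
  exact hM i j

/-- what a conjugate inside the subfield subgroup gives -/
theorem exists_semilinear {F₀ : Subfield F} (hσ : ∀ a, σ a = a ↔ a ∈ F₀) {x P : Matrix.SpecialLinearGroup (Fin n) F}
    (h : P⁻¹ * x * P ∈ (subfieldSubgroup F₀ 1).comap
      (Matrix.SpecialLinearGroup.toGL : Matrix.SpecialLinearGroup (Fin n) F →* GL (Fin n) F)) :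
    ∃ (g M : Matrix (Fin n) (Fin n) F) (lam : F), g.det ≠ 0 ∧ lam ≠ 0 ∧ x.1 * g = g * (lam • M) ∧ M.map σ = M := by
  obtain ⟨lam, hlam, hent⟩ := mem_subfield_one.1 (Subgroup.mem_comap.1 h)
  refine ⟨P.1, lam⁻¹ • (P⁻¹ * x * P).1, lam, by rw [P.2]; exact one_ne_zero, hlam, ?_, ?_⟩
  · rw [smul_smul, mul_inv_cancel₀ hlam, one_smul, ← Matrix.SpecialLinearGroup.coe_mul,
      ← Matrix.SpecialLinearGroup.coe_mul, mul_assoc P⁻¹, mul_inv_cancel_left]
  · ext i j
    exact (hσ _).2 (hent i j)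

/-- eigenvalue multiplicities of a diagonal matrix with a form over the subfield -/
theorem diag_counts [DecidableEq F] {d : Fin n → F} {g M : Matrix (Fin n) (Fin n) F} {lam : F} (hg : g.det ≠ 0)
    (hlam : lam ≠ 0) (h : Matrix.diagonal d * g = g * (lam • M)) (hM : M.map σ = M) :
    ∃ μ : F, μ ≠ 0 ∧ ∀ a : F, (Finset.univ.filter fun i => d i = a).card =
      (Finset.univ.filter fun i => d i = σ a / μ).card := by
  refine ⟨σ lam / lam, div_ne_zero (by simpa using hlam) hlam, fun a => ?_⟩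
  obtain ⟨μ, hμdef⟩ : ∃ μ, μ = σ lam / lam := ⟨_, rfl⟩
  rw [← hμdef]
  have hμ : μ ≠ 0 := hμdef ▸ div_ne_zero (by simpa using hlam) hlam
  have hrank : ∀ b : F, (lam • M - b • 1).rank = (Matrix.diagonal d - b • (1 : Matrix (Fin n) (Fin n) F)).rank := fun b => by
    have e : (Matrix.diagonal d - b • 1) * g = g * (lam • M - b • 1) := by
      rw [Matrix.sub_mul, Matrix.mul_sub, h, Matrix.smul_mul, Matrix.one_mul, Matrix.mul_smul g b, Matrix.mul_one]
    rw [← Matrix.rank_mul_eq_right_of_isUnit_det g (lam • M - b • 1) (Ne.isUnit hg), ← e,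
      Matrix.rank_mul_eq_left_of_isUnit_det g _ (Ne.isUnit hg)]
  have h1 : (lam • M - a • 1).rank = (lam • M - (σ a / μ) • (1 : Matrix (Fin n) (Fin n) F)).rank := by
    rw [← Sim.rank_map (σ := σ) (lam • M - a • 1), Sim.map_sub', Sim.map_smul', Sim.map_smul', hM, Sim.map_one',
      show σ lam • M - σ a • (1 : Matrix (Fin n) (Fin n) F) = μ • (lam • M - (σ a / μ) • 1) by
        rw [smul_sub, smul_smul, smul_smul, hμdef, div_mul_cancel₀ _ hlam, mul_div_cancel₀ _ (hμdef ▸ hμ)],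
      Sim.rank_smul' hμ]
  have h2 := Sim.rank_diag_sub d a
  have h3 := Sim.rank_diag_sub d (σ a / μ)
  rw [← hrank] at h2 h3
  omega

/-- primes dividing the index of the subfield subgroup -/
theorem subfield_index (hn : 0 < n) (F₀ : Subfield F) {k q₀ : ℕ} (hk : k.Prime) (hF₀ : Nat.card F₀ = q₀)
    (hqk : Fintype.card F = q₀ ^ k) {r : ℕ} (hr : r.Prime) (hrk : r ≠ k) (hrq : ¬ r ∣ Fintype.card F)
    (hΩ : r ∣ ((subfieldSubgroup F₀ 1).comap
      (Matrix.SpecialLinearGroup.toGL : Matrix.SpecialLinearGroup (Fin n) F →* GL (Fin n) F)).index) :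
    ∃ j, 2 ≤ j ∧ j ≤ n ∧ (q₀ : ZMod r) ^ (k * j) = 1 ∧ (q₀ : ZMod r) ^ j ≠ 1 := by
  classical
  obtain ⟨H, hH⟩ : ∃ H, H = (subfieldSubgroup F₀ 1).comap
      (Matrix.SpecialLinearGroup.toGL : Matrix.SpecialLinearGroup (Fin n) F →* GL (Fin n) F) := ⟨_, rfl⟩
  rw [← hH] at hΩ
  haveI : Fintype F₀ := Fintype.ofFinite _
  have hq₀ : Fintype.card F₀ = q₀ := by rw [← hF₀, Nat.card_eq_fintype_card]
  have hq2 : 2 ≤ q₀ := hq₀ ▸ Fintype.one_lt_card
  have hgeom : ∀ j, (q₀ ^ k) ^ j - 1 = (q₀ ^ j - 1) * ∑ i ∈ Finset.range k, (q₀ ^ j) ^ i := fun j => by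
    have hpos : 1 ≤ q₀ ^ j := Nat.one_le_pow _ _ (by omega)
    rw [← pow_mul, mul_comm k j, pow_mul]
    obtain ⟨m, hm⟩ : ∃ m, q₀ ^ j = m + 1 := ⟨q₀ ^ j - 1, by omega⟩
    rw [hm, Nat.add_sub_cancel]
    have h := geom_sum_mul_add m k
    rw [← h, Nat.add_sub_cancel, mul_comm]
  obtain ⟨S, hS⟩ : ∃ S : ℕ → ℕ, ∀ j, S j = ∑ i ∈ Finset.range k, (q₀ ^ j) ^ i := ⟨_, fun j => rfl⟩
  simp only [← hS] at hgeom
  have hdvd : Nat.card (Matrix.SpecialLinearGroup (Fin n) F₀) ∣ Nat.card H := by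
    have hinj : Function.Injective (Matrix.SpecialLinearGroup.map (F₀.subtype : F₀ →+* F) :
        Matrix.SpecialLinearGroup (Fin n) F₀ →* Matrix.SpecialLinearGroup (Fin n) F) := by
      intro a b h
      ext i j
      exact congrFun (congrFun (congrArg Subtype.val h) i) j
    refine (dvd_of_eq (Nat.card_congr (MonoidHom.ofInjective hinj).toEquiv)).trans (Subgroup.card_dvd_of_le ?_)
    rintro _ ⟨a, rfl⟩
    rw [hH, Subgroup.mem_comap, mem_subfield_one]
    exact ⟨1, one_ne_zero, fun i j => by rw [inv_one, one_mul]; exact (a.1 i j).2⟩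
  obtain ⟨e, he⟩ := Sim.card_gl_flat (F := F) n
  obtain ⟨e₀, he₀⟩ := Sim.card_gl_flat (F := F₀) n
  rw [hq₀] at he₀
  rw [hqk] at he
  have hfin : r * Nat.card (GL (Fin n) F₀) * (q₀ ^ k - 1) ∣ Nat.card (GL (Fin n) F) * (q₀ - 1) := by
    rw [← card_sl_mul F hn, ← card_sl_mul F₀ hn, hq₀, hqk, ← H.index_mul_card,
      show r * (Nat.card (Matrix.SpecialLinearGroup (Fin n) F₀) * (q₀ - 1)) * (q₀ ^ k - 1) =
        r * Nat.card (Matrix.SpecialLinearGroup (Fin n) F₀) * (q₀ ^ k - 1) * (q₀ - 1) by ring]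
    exact Nat.mul_dvd_mul_right (Nat.mul_dvd_mul_right (Nat.mul_dvd_mul hΩ hdvd) _) _
  have h1 := hgeom 1
  rw [pow_one, pow_one] at h1
  rw [he, he₀, h1, Finset.prod_congr rfl fun i _ => hgeom (i + 1), Finset.prod_mul_distrib] at hfin
  have hpos : 0 < (∏ i ∈ Finset.range n, (q₀ ^ (i + 1) - 1)) * (q₀ - 1) :=
    Nat.mul_pos (Finset.prod_pos fun i _ => Nat.sub_pos_of_lt (Nat.one_lt_pow (by omega) (by omega))) (by omega)
  have h2 : r * S 1 ∣ (q₀ ^ k) ^ e * ∏ i ∈ Finset.range n, S (i + 1) := by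
    refine (dvd_mul_right (r * S 1) (q₀ ^ e₀)).trans (Nat.dvd_of_mul_dvd_mul_right hpos ?_)
    convert hfin using 1 <;> ring
  obtain ⟨m, rfl⟩ : ∃ m, n = m + 1 := ⟨n - 1, by omega⟩
  rw [Finset.prod_range_succ', zero_add, ← mul_assoc] at h2
  have hS1 : 0 < S 1 := by
    rw [hS]
    exact Finset.sum_pos (fun i _ => pow_pos (pow_pos (by omega) _) _) ⟨0, Finset.mem_range.2 hk.pos⟩
  have hrq₀ : ¬ r ∣ q₀ := fun h => hrq (hqk ▸ h.trans (dvd_pow_self _ hk.pos.ne'))
  haveI : Fact r.Prime := ⟨hr⟩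
  rcases hr.dvd_mul.1 (Nat.dvd_of_mul_dvd_mul_right hS1 h2) with h | h
  · exact absurd (hr.dvd_of_dvd_pow (hr.dvd_of_dvd_pow h)) hrq₀
  · obtain ⟨i, hi, h⟩ := (hr.prime.dvd_finsetProd_iff _).1 h
    rw [Finset.mem_range] at hi
    refine ⟨i + 1 + 1, by omega, by omega, ?_, fun h1' => ?_⟩
    · have h' : r ∣ (q₀ ^ k) ^ (i + 1 + 1) - 1 := hgeom (i + 1 + 1) ▸ dvd_mul_of_dvd_right h _
      have h'' := (ZMod.natCast_eq_natCast_iff _ _ _).2 ((Nat.modEq_iff_dvd' (Nat.one_le_pow _ _ (pow_pos (by omega) _))).2 h')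
      push_cast at h''
      rw [pow_mul]
      exact h''.symm
    · rw [hS] at h
      have h' := (ZMod.natCast_eq_zero_iff _ _).2 h
      push_cast at h'
      rw [Finset.sum_congr rfl fun i _ => show ((q₀ : ZMod r) ^ _) ^ i = 1 by rw [h1', one_pow], Finset.sum_const,
        Finset.card_range, nsmul_one] at h'
      exact hrk ((Nat.prime_dvd_prime_iff_eq hr hk).1 ((ZMod.natCast_eq_zero_iff _ _).1 h'))

omit [Fintype F] in
theorem fromBlocks_pow' {α β : Type*} [Fintype α] [DecidableEq α] [Fintype β] [DecidableEq β] (A : Matrix α α F)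
    (B : Matrix β β F) : ∀ j : ℕ, Matrix.fromBlocks A 0 0 B ^ j = Matrix.fromBlocks (A ^ j) 0 0 (B ^ j)
  | 0 => by simp [Matrix.fromBlocks_one]
  | j + 1 => by rw [pow_succ, fromBlocks_pow' A B j, Matrix.fromBlocks_multiply]; simp [pow_succ]

omit [Fintype F] in
theorem blocks_pow_one {α β : Type*} [Fintype α] [DecidableEq α] [Fintype β] [DecidableEq β] {A : Matrix α α F}
    {B : Matrix β β F} {r : ℕ} (h : Matrix.fromBlocks A 0 0 B ^ r = 1) : A ^ r = 1 ∧ B ^ r = 1 := by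
  rw [fromBlocks_pow', ← Matrix.fromBlocks_one, Matrix.fromBlocks_inj] at h
  exact ⟨h.1, h.2.2.2⟩

omit [Fintype F] in
theorem blocks_map_fixed {α β : Type*} {A : Matrix α α F} {B : Matrix β β F} (hA : A.map σ = A) (hB : B.map σ = B) :
    (Matrix.fromBlocks A 0 0 B).map σ = Matrix.fromBlocks A 0 0 B := by
  rw [Matrix.fromBlocks_map, hA, hB, Matrix.map_zero _ (map_zero σ), Matrix.map_zero _ (map_zero σ)]

/-- block companion matrices fixed by the automorphism -/
theorem cm_fixed {r : ℕ} : ∀ l : List F[X], (∀ φ ∈ l, φ.Monic) →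
    (∀ φ ∈ l, φ ∣ X ^ r - 1 → φ.map σ.toRingHom = φ) → CfsgLib.GLClass.CommSL.CM l ^ r = 1 →
    (CfsgLib.GLClass.CommSL.CM l).map σ = CfsgLib.GLClass.CommSL.CM l
  | [] => fun _ _ _ => by ext i j; exact (Fin.elim0 (show Fin 0 from i))
  | φ :: l => fun hm hσ hpow => by
    have hp' := blocks_pow_one (A := CfsgLib.GLClass.CommSL.comp φ) (B := CfsgLib.GLClass.CommSL.CM l) hpow
    have hφ := hm φ (List.mem_cons_self)
    have hdvd : φ ∣ X ^ r - 1 := by
      rw [← AdjoinRoot.mk_eq_zero, map_sub, map_pow, AdjoinRoot.mk_X, map_one, sub_eq_zero]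
      have h1 := hp'.1
      rw [CfsgLib.GLClass.CommSL.comp_eq_leftMul hφ] at h1
      exact Algebra.leftMulMatrix_injective (AdjoinRoot.powerBasis hφ.ne_zero).basis
        ((map_pow _ _ _).trans (h1.trans (map_one _).symm))
    have hcoef : ∀ i, σ (φ.coeff i) = φ.coeff i := fun i => by
      conv_rhs => rw [← hσ φ List.mem_cons_self hdvd]
      rw [Polynomial.coeff_map]
      rfl
    refine blocks_map_fixed (A := CfsgLib.GLClass.CommSL.comp φ) (B := CfsgLib.GLClass.CommSL.CM l) ?_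
      (cm_fixed l (fun ψ h => hm ψ (List.mem_cons_of_mem _ h)) (fun ψ h => hσ ψ (List.mem_cons_of_mem _ h)) hp'.2)
    ext i j
    simp only [Matrix.map_apply, CfsgLib.GLClass.CommSL.comp, Matrix.of_apply]
    split_ifs <;> simp [hcoef]

/-- subfield forms of elements of order dividing `r` -/
theorem exists_fixed_form {p e : ℕ} [Fact p.Prime] [CharP F p] {q₀ : ℕ} (hσ : ∀ a, σ a = a ^ q₀) (he : q₀ = p ^ e) {r : ℕ}
    (hmod : q₀ ≡ Fintype.card F [MOD r]) (y : Matrix (Fin n) (Fin n) F) (hy : y ^ r = 1) :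
    ∃ S M : Matrix (Fin n) (Fin n) F, S.det ≠ 0 ∧ y * S = S * M ∧ M.map σ = M := by
  classical
  obtain ⟨l, hl, hsim⟩ := CfsgLib.GLClass.CommSL.exists_cm y
  have hm : ∀ φ ∈ l, φ.Monic := fun φ h => by
    obtain ⟨P, e', hP, -, -, rfl⟩ := hl φ h
    exact hP.pow e'
  have hfix : ∀ φ ∈ l, φ ∣ X ^ r - 1 → φ.map σ.toRingHom = φ := fun φ h hd => by
    obtain ⟨P, e', hP, hPi, he', rfl⟩ := hl φ h
    rw [Polynomial.map_pow]
    congr 1
    haveI : Fact (Irreducible P) := ⟨hPi⟩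
    haveI := (AdjoinRoot.powerBasis hP.ne_zero).finite
    haveI : Finite (AdjoinRoot P) := Module.finite_of_finite F
    obtain ⟨t, ht⟩ : ∃ t : AdjoinRoot P, t = AdjoinRoot.root P := ⟨_, rfl⟩
    have ht0 : aeval t P = 0 := by rw [ht, AdjoinRoot.aeval_eq, AdjoinRoot.mk_self]
    have htr : t ^ r = 1 := by
      obtain ⟨c, hc⟩ := (dvd_pow_self P he'.ne').trans hd
      have h := congrArg (aeval t) hc
      rw [map_mul, ht0, zero_mul, map_sub, map_pow, aeval_X, map_one, sub_eq_zero] at h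
      exact h
    have hpow : t ^ q₀ = t ^ Fintype.card F := by
      rw [pow_eq_pow_mod q₀ htr, pow_eq_pow_mod (Fintype.card F) htr]
      exact congrArg _ hmod
    have hfrob : ∀ R : F[X], aeval (t ^ Fintype.card F) R = (aeval t R) ^ Fintype.card F := fun R => by
      rw [← Polynomial.expand_aeval, FiniteField.expand_card, map_pow]
    have hroot : aeval (t ^ q₀) P = 0 := by
      rw [hpow, hfrob, ht0, zero_pow (by have := Fintype.card_pos (α := F); omega)]
    have hroot' : aeval (t ^ q₀) (P.map σ.toRingHom) = 0 := by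
      haveI : CharP (AdjoinRoot P) p := charP_of_injective_algebraMap (algebraMap F (AdjoinRoot P)).injective p
      have hexp : ∀ R : F[X], (R.map σ.toRingHom).eval₂ (algebraMap F (AdjoinRoot P)) (t ^ q₀) =
          (R.eval₂ (algebraMap F (AdjoinRoot P)) t) ^ q₀ := by
        intro R
        induction R using Polynomial.induction_on' with
        | add A B hA hB => rw [Polynomial.map_add, eval₂_add, eval₂_add, hA, hB, he, add_pow_char_pow]
        | monomial j c =>
          rw [Polynomial.map_monomial, eval₂_monomial, eval₂_monomial, mul_pow, ← map_pow, pow_right_comm]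
          rw [show σ.toRingHom c = c ^ q₀ from hσ c]
      exact (hexp P).trans (by
        rw [show P.eval₂ (algebraMap F (AdjoinRoot P)) t = 0 from ht0,
          zero_pow (he ▸ pow_ne_zero e (Fact.out : p.Prime).ne_zero)])
    exact (minpoly.eq_of_irreducible_of_monic ((MulEquiv.irreducible_iff (Polynomial.mapEquiv σ) (x := P)).2 hPi) hroot'
      (hP.map _)).trans (minpoly.eq_of_irreducible_of_monic hPi hroot hP).symm
  have hcard : Fintype.card (CfsgLib.GLClass.CommSL.Idx l) = n := by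
    obtain ⟨U, V, h1, h2, -⟩ := hsim
    have e : (Fin n → F) ≃ₗ[F] (CfsgLib.GLClass.CommSL.Idx l → F) := Matrix.toLin'OfInv h1 h2
    have := e.finrank_eq
    rw [Module.finrank_fin_fun, Module.finrank_fintype_fun_eq_card] at this
    exact this.symm
  obtain ⟨ε, -⟩ : ∃ ε : CfsgLib.GLClass.CommSL.Idx l ≃ Fin n, ε = Fintype.equivFinOfCardEq hcard := ⟨_, rfl⟩
  obtain ⟨U, V, h1, h2, h3⟩ := hsim.trans (CfsgLib.GLClass.CommSL.sim_reindex ε (CfsgLib.GLClass.CommSL.CM l)).symm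
  refine ⟨U, Matrix.reindex ε ε (CfsgLib.GLClass.CommSL.CM l), ?_, ?_, ?_⟩
  · intro h0
    have h := congrArg Matrix.det h1
    rw [Matrix.det_mul, h0, zero_mul, Matrix.det_one] at h
    exact zero_ne_one h
  · rw [h3, Matrix.mul_assoc, h2, Matrix.mul_one]
  · have hCr : CfsgLib.GLClass.CommSL.CM l ^ r = 1 := by
      obtain ⟨U', V', k1, k2, k3⟩ := hsim.symm
      have h : aeval (CfsgLib.GLClass.CommSL.CM l) (X ^ r - 1 : F[X]) = 0 := by
        rw [k3, CfsgLib.GLClass.CommSL.Sim.aeval k1 k2, map_sub, map_pow (aeval y), aeval_X, map_one, hy, sub_self,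
          Matrix.mul_zero, Matrix.zero_mul]
      rwa [map_sub, map_pow, aeval_X, map_one, sub_eq_zero] at h
    rw [Matrix.reindex_apply, ← Matrix.submatrix_map, cm_fixed l hm hfix hCr]

/-- a torus element without a form over the subfield -/
theorem exists_torus_derange {p : ℕ} [Fact p.Prime] [CharP F p] {b c : ℕ} (hn : n = b + c) (hb : 0 < b)
    {r : ℕ} (hr : r.Prime) (hrb : r ∣ Fintype.card F ^ b - 1) (hr1 : ¬ r ∣ Fintype.card F - 1) {q₀ k : ℕ}
    (hk : k.Prime) (hqk : Fintype.card F = q₀ ^ k) (hdvd : k ∣ orderOf (q₀ : ZMod r)) (hσ : ∀ a, σ a = a ^ q₀) :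
    ∃ x : Matrix (Fin n) (Fin n) F, x.det = 1 ∧ x ^ r = 1 ∧ (∀ z : F, x ≠ z • (1 : Matrix (Fin n) (Fin n) F)) ∧
      ∀ (g M : Matrix (Fin n) (Fin n) F) (lam : F), g.det ≠ 0 → lam ≠ 0 → x * g = g * (lam • M) → M.map σ ≠ M := by
  classical
  subst hn
  haveI : NeZero b := ⟨hb.ne'⟩
  haveI : Nonempty (Fin (b + c)) := ⟨⟨0, by omega⟩⟩
  let L := FiniteField.Extension F p b
  have hfin : Module.finrank F L = b := FiniteField.finrank_extension F p b
  haveI : Finite L := Module.finite_of_finite F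
  haveI : CharP L p := charP_of_injective_algebraMap (algebraMap F L).injective p
  let B := Module.finBasisOfFinrankEq F L hfin
  obtain ⟨u, hu⟩ := IsCyclic.exists_ofOrder_eq_natCard (α := Lˣ)
  rw [Nat.card_units, FiniteField.natCard_extension, Nat.card_eq_fintype_card] at hu
  obtain ⟨w, hw⟩ : ∃ w : Lˣ, orderOf w = r := ⟨_, orderOf_pow_orderOf_div (orderOf_pos u).ne' (hu ▸ hrb)⟩
  obtain ⟨ζ, hζ⟩ : ∃ ζ : L, ζ = (w : L) := ⟨_, rfl⟩
  have hζo : orderOf ζ = r := by rw [hζ, orderOf_units, hw]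
  have hζr : ζ ^ r = 1 := hζo ▸ pow_orderOf_eq_one ζ
  have hζ0 : ζ ≠ 0 := hζ ▸ w.ne_zero
  have hζ1 : ζ ≠ 1 := fun h => hr.ne_one (by rw [← hζo, h, orderOf_one])
  obtain ⟨φ, hφinj⟩ : ∃ φ : (L × F) →ₐ[F] Matrix (Fin (b + c)) (Fin (b + c)) F,
      ∀ u : L × F, φ u = 0 → u.1 = 0 := by
    let ψ : (L × F) →ₐ[F] Matrix (Fin b ⊕ Fin c) (Fin b ⊕ Fin c) F :=
      AlgHom.ofLinearMap
        { toFun := fun u => Matrix.fromBlocks (Algebra.leftMulMatrix B u.1) 0 0 (u.2 • 1)
          map_add' := fun u v => by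
            rw [Matrix.fromBlocks_add, add_zero, add_zero, Prod.fst_add, Prod.snd_add, map_add, add_smul]
          map_smul' := fun a u => by
            rw [RingHom.id_apply, Matrix.fromBlocks_smul, smul_zero, smul_zero, Prod.smul_fst, Prod.smul_snd, map_smul,
              smul_assoc] }
        (by
          show Matrix.fromBlocks (Algebra.leftMulMatrix B 1) 0 0 ((1 : F) • 1) = 1
          rw [map_one, one_smul, Matrix.fromBlocks_one])
        (fun u v => by
          show Matrix.fromBlocks (Algebra.leftMulMatrix B (u.1 * v.1)) 0 0 ((u.2 * v.2) • 1) =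
            Matrix.fromBlocks (Algebra.leftMulMatrix B u.1) 0 0 (u.2 • 1) *
              Matrix.fromBlocks (Algebra.leftMulMatrix B v.1) 0 0 (v.2 • 1)
          rw [Matrix.fromBlocks_multiply, map_mul]
          simp [Matrix.smul_mul, Matrix.mul_smul, smul_smul, mul_comm u.2])
    refine ⟨(Matrix.reindexAlgEquiv F F finSumFinEquiv).toAlgHom.comp ψ, fun u hu => ?_⟩
    have h1 : ψ u = 0 := (Matrix.reindexAlgEquiv F F finSumFinEquiv).injective (by rw [map_zero]; exact hu)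
    have h2 := congrArg Matrix.toBlocks₁₁ h1
    exact Algebra.leftMulMatrix_injective B (by rw [map_zero]; exact h2)
  obtain ⟨x, hx⟩ : ∃ x, x = φ (ζ, 1) := ⟨_, rfl⟩
  have hxr : x ^ r = 1 := by rw [hx, ← map_pow, Prod.pow_mk, hζr, one_pow, ← Prod.one_eq_mk, map_one]
  have huniq : ∀ a : F, a ^ r = 1 → a = 1 := fun a ha => by
    have h0 : a ≠ 0 := fun h => by rw [h, zero_pow hr.ne_zero] at ha; exact zero_ne_one ha
    have h2 := pow_gcd_eq_one.2 ⟨ha, FiniteField.pow_card_sub_one_eq_one a h0⟩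
    rwa [(hr.coprime_iff_not_dvd.2 hr1).gcd_eq_one, pow_one] at h2
  refine ⟨x, huniq _ (by rw [← Matrix.det_pow, hxr, Matrix.det_one]), hxr, fun z hz => ?_, fun g M lam hg hlam hxg hM => ?_⟩
  · have h1 : φ ((ζ, 1) - algebraMap F (L × F) z) = 0 := by
      rw [map_sub, ← hx, AlgHom.commutes, hz, Algebra.algebraMap_eq_smul_one, sub_self]
    have h2 : ζ - algebraMap F L z = 0 := hφinj _ h1
    rw [sub_eq_zero] at h2
    have hz1 : z ^ r = 1 := (algebraMap F L).injective (by rw [map_pow, ← h2, hζr, map_one])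
    exact hζ1 (by rw [h2, huniq z hz1, map_one])
  · obtain ⟨y, hy⟩ : ∃ y, y = lam • M := ⟨_, rfl⟩
    rw [← hy] at hxg
    have hgi : g * g⁻¹ = 1 := Matrix.mul_nonsing_inv _ (Ne.isUnit hg)
    have hgi' : g⁻¹ * g = 1 := Matrix.nonsing_inv_mul _ (Ne.isUnit hg)
    have hyx : y = g⁻¹ * x * g := by rw [Matrix.mul_assoc, hxg, ← Matrix.mul_assoc, hgi', Matrix.one_mul]
    have haev : ∀ R : F[X], aeval y R = g⁻¹ * aeval x R * g := fun R => by
      rw [hyx, CfsgLib.GLClass.CommSL.Sim.aeval hgi' hgi]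
    have hback : ∀ R : F[X], aeval y R = 0 → aeval x R = 0 := fun R h => by
      have h' : g * aeval y R * g⁻¹ = 0 := by rw [h, Matrix.mul_zero, Matrix.zero_mul]
      rwa [haev, ← Matrix.mul_assoc, ← Matrix.mul_assoc, hgi, Matrix.one_mul, Matrix.mul_assoc, hgi, Matrix.mul_one] at h'
    have hyr : y ^ r = 1 := by
      have h := haev (X ^ r)
      rw [map_pow, aeval_X, map_pow, aeval_X, hxr, Matrix.mul_one, hgi'] at h
      exact h
    have hyσ : y.map σ = y := by
      obtain ⟨μ, hμ⟩ : ∃ μ, μ = σ lam / lam := ⟨_, rfl⟩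
      have hyμ : y.map σ = μ • y := by rw [hy, Sim.map_smul', hM, smul_smul, hμ, div_mul_cancel₀ _ hlam]
      have hmr : μ ^ r = 1 := by
        have h := Sim.map_aeval' σ y (X ^ r)
        rw [map_pow, aeval_X, Polynomial.map_pow, Polynomial.map_X, map_pow, aeval_X, hyr, Sim.map_one', hyμ,
          _root_.smul_pow, hyr] at h
        have h2 := congrFun (congrFun h ⟨0, by omega⟩) ⟨0, by omega⟩
        simpa using h2.symm
      rw [hyμ, huniq μ hmr, one_smul]
    obtain ⟨P, hP⟩ : ∃ P, P = minpoly F ζ := ⟨_, rfl⟩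
    have hxP : aeval x (P * (X - 1)) = 0 := by
      rw [hx, aeval_algHom_apply, show aeval ((ζ, 1) : L × F) (P * (X - 1)) = 0 from ?_, map_zero]
      refine Prod.ext ?_ ?_
      · show (AlgHom.fst F L F) (aeval ((ζ, 1) : L × F) (P * (X - 1))) = 0
        rw [← aeval_algHom_apply, map_mul, hP]
        show aeval ζ (minpoly F ζ) * _ = 0
        rw [minpoly.aeval, zero_mul]
      · show (AlgHom.snd F L F) (aeval ((ζ, 1) : L × F) (P * (X - 1))) = 0
        rw [← aeval_algHom_apply, map_mul, map_sub (aeval _), aeval_X, map_one]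
        show _ * ((1 : F) - 1) = 0
        rw [sub_self, mul_zero]
    have hxσ : aeval x ((P * (X - 1)).map σ.toRingHom) = 0 := by
      refine hback _ ?_
      have h := Sim.map_aeval' σ y (P * (X - 1))
      rw [hyσ, haev, hxP, Matrix.mul_zero, Matrix.zero_mul, Matrix.map_zero _ (map_zero σ)] at h
      exact h.symm
    rw [hx, aeval_algHom_apply] at hxσ
    have hy1 : (AlgHom.fst F L F) (aeval ((ζ, 1) : L × F) ((P * (X - 1)).map σ.toRingHom)) = 0 := hφinj _ hxσ
    rw [← aeval_algHom_apply, Polynomial.map_mul, map_mul, Polynomial.map_sub, Polynomial.map_one, Polynomial.map_X,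
      map_sub (aeval _), aeval_X, map_one] at hy1
    have hroot : aeval ζ (P.map σ.toRingHom) = 0 :=
      (mul_eq_zero.1 hy1).resolve_right (sub_ne_zero.2 hζ1)
    obtain ⟨e, he⟩ : ∃ e, q₀ = p ^ e := by
      obtain ⟨a, hp, ha⟩ := FiniteField.card F p
      obtain ⟨e, -, he⟩ := (Nat.dvd_prime_pow hp).1 (show q₀ ∣ p ^ (a : ℕ) from ha ▸ hqk ▸ dvd_pow_self q₀ hk.pos.ne')
      exact ⟨e, he⟩
    obtain ⟨Φ, hΦ⟩ : ∃ Φ : L →+* L, ∀ y, Φ y = y ^ q₀ :=
      ⟨iterateFrobenius L p e, fun y => by rw [he]; exact iterateFrobenius_def p e y⟩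
    have hroot' : aeval (Φ ζ) (P.map σ.toRingHom) = 0 := by
      have h1' : ∀ R : F[X], Φ (aeval ζ R) = aeval (Φ ζ) (R.map σ.toRingHom) := fun R => by
        induction R using Polynomial.induction_on' with
        | add A B hA hB => rw [map_add, map_add, Polynomial.map_add, map_add, hA, hB]
        | monomial j a =>
          rw [aeval_monomial, Polynomial.map_monomial, aeval_monomial, map_mul, map_pow]
          congr 1
          rw [hΦ, RingEquiv.toRingHom_eq_coe, RingHom.coe_coe, hσ, map_pow]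
      rw [← h1', hP, minpoly.aeval, map_zero]
    have hirr : Irreducible (P.map σ.toRingHom) := by
      rw [hP]
      exact (MulEquiv.irreducible_iff (Polynomial.mapEquiv σ) (x := minpoly F ζ)).2
        (minpoly.irreducible (Algebra.IsIntegral.isIntegral ζ))
    have hmon : (P.map σ.toRingHom).Monic := by rw [hP]; exact (minpoly.monic (Algebra.IsIntegral.isIntegral ζ)).map _
    have heq : minpoly F (Φ ζ) = minpoly F ζ := by
      rw [← minpoly.eq_of_irreducible_of_monic hirr hroot hmon, ← minpoly.eq_of_irreducible_of_monic hirr hroot' hmon]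
    obtain ⟨g', hg'⟩ := (Normal.minpoly_eq_iff_mem_orbit (E := L)).1 heq
    obtain ⟨j, hj⟩ := (FiniteField.bijective_frobeniusAlgEquivOfAlgebraic_pow F L).2 g'
    have hfin' : ζ ^ Fintype.card F ^ (j : ℕ) = Φ ζ := by
      rw [← hg', ← hj]
      show _ = (FiniteField.frobeniusAlgEquivOfAlgebraic F L ^ (j : ℕ)) ζ
      exact (congrFun (AlgEquiv.coe_pow _ _) ζ).trans
        (congrFun (FiniteField.coe_frobeniusAlgEquivOfAlgebraic_iterate F L _) ζ) |>.symm
    rw [hΦ] at hfin'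
    have hmod := (isOfFinOrder_iff_pow_eq_one.2 ⟨r, hr.pos, hζr⟩).pow_eq_pow_iff_modEq.1 hfin'
    rw [hζo, ← ZMod.natCast_eq_natCast_iff] at hmod
    push_cast at hmod
    rw [hqk, Nat.cast_pow, ← pow_mul] at hmod
    obtain ⟨o, ho⟩ : ∃ o, o = orderOf (q₀ : ZMod r) := ⟨_, rfl⟩
    rw [← ho] at hdvd
    haveI : Fact r.Prime := ⟨hr⟩
    have hu0 : (q₀ : ZMod r) ≠ 0 := fun h => by
      have hrq : r ∣ Fintype.card F ^ b := dvd_pow (hqk ▸ dvd_pow ((ZMod.natCast_eq_zero_iff _ _).1 h) hk.pos.ne') hb.ne'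
      have h1 := Nat.dvd_sub hrq hrb
      rw [Nat.sub_sub_self (Nat.one_le_pow _ _ Fintype.card_pos), Nat.dvd_one] at h1
      exact hr.ne_one h1
    rcases Nat.eq_zero_or_pos (j : ℕ) with hj0 | hj0
    · rw [hj0, mul_zero, pow_zero] at hmod
      rw [ho, ← hmod, orderOf_one, Nat.dvd_one] at hdvd
      exact hk.ne_one hdvd
    · obtain ⟨s, hs⟩ : ∃ s, k * (j : ℕ) = s + 1 := ⟨k * j - 1, by have := Nat.mul_pos hk.pos hj0; omega⟩
      have h1 : (q₀ : ZMod r) ^ s = 1 := mul_right_cancel₀ hu0 (by rw [← pow_succ, ← hs, hmod, one_mul])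
      have h2 : k ∣ s := hdvd.trans (ho ▸ orderOf_dvd_of_pow_eq_one h1)
      have h3 : k ∣ s + 1 := hs ▸ dvd_mul_right k _
      exact hk.ne_one (Nat.dvd_one.1 ((Nat.dvd_add_right h2).1 h3))

/-- descent for a pairing -/
theorem exists_pair_form {q₀ : ℕ} (C : CfsgLib.SU.UCtx F q₀) (π : Equiv.Perm (Fin n)) (hπ : ∀ i, π (π i) = i)
    (f : Fin n → F) (hf : ∀ i, C.bar (f i) = f (π i)) :
    ∃ T M : Matrix (Fin n) (Fin n) F, T.det ≠ 0 ∧ Matrix.diagonal f * T = T * M ∧ M.map C.bar = M := by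
  classical
  obtain ⟨t, ht1, ht2⟩ := C.exists_trace_ne_zero
  obtain ⟨T, hT⟩ : ∃ T : Matrix (Fin n) (Fin n) F, T = t • 1 + C.bar t • Sim.permGram F π := ⟨_, rfl⟩
  have hTd : T.det ≠ 0 := by
    intro h0
    have e : T * (t • 1 - C.bar t • Sim.permGram F π) = (t * t - C.bar t * C.bar t) • 1 := by
      have hPP : Sim.permGram F π * Sim.permGram F π = 1 := by
        ext i j
        rw [Matrix.mul_apply, Finset.sum_eq_single (π i) (fun m _ hm => by
            simp [Sim.permGram, Matrix.of_apply, Ne.symm hm]) (fun h => absurd (Finset.mem_univ _) h)]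
        simp [Sim.permGram, Matrix.one_apply, hπ]
      rw [hT]
      simp only [Matrix.add_mul, Matrix.mul_sub, Matrix.smul_mul, Matrix.mul_smul, Matrix.one_mul, Matrix.mul_one, hPP,
        smul_smul]
      module
    have h := congrArg Matrix.det e
    rw [Matrix.det_mul, h0, zero_mul, Matrix.det_smul, Matrix.det_one, mul_one] at h
    have hne : t * t - C.bar t * C.bar t ≠ 0 := fun h' => by
      rcases mul_eq_zero.1 (show (t - C.bar t) * (t + C.bar t) = 0 by linear_combination h') with h'' | h''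
      · exact ht1 (sub_eq_zero.1 h'').symm
      · exact ht2 h''
    exact pow_ne_zero _ hne h.symm
  have hTσ : T.map C.bar = T.submatrix π id := by
    ext i j
    simp only [hT, Matrix.map_apply, Matrix.submatrix_apply, id_eq, Matrix.add_apply, Matrix.smul_apply, smul_eq_mul,
      Sim.permGram, Matrix.of_apply, Matrix.one_apply, map_add, map_mul, C.bar_bar, hπ, apply_ite C.bar, map_one,
      map_zero]
    ring
  obtain ⟨M, hM⟩ : ∃ M, M = T⁻¹ * (Matrix.diagonal f * T) := ⟨_, rfl⟩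
  have hTM : T * M = Matrix.diagonal f * T := by
    rw [hM, ← Matrix.mul_assoc, Matrix.mul_nonsing_inv _ (Ne.isUnit hTd), Matrix.one_mul]
  refine ⟨T, M, hTd, hTM.symm, ?_⟩
  have h1 : (T.map C.bar) * M.map C.bar = (Matrix.diagonal f * T).submatrix π id := by
    rw [← Sim.map_mul', hTM]
    ext i j
    rw [Matrix.map_apply, Matrix.submatrix_apply, Matrix.diagonal_mul, Matrix.diagonal_mul, map_mul, hf, id_eq]
    congr 1
    exact congrFun (congrFun hTσ i) j
  have h2 : T * M.map C.bar = T * M := by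
    ext i j
    have h := congrFun (congrFun h1 (π i)) j
    rw [hTσ, Matrix.submatrix_apply, hπ, id_eq, ← hTM] at h
    refine Eq.trans ?_ h
    simp [Matrix.mul_apply, hπ]
  have h3 := congrArg (T⁻¹ * ·) h2
  simpa only [← Matrix.mul_assoc, Matrix.nonsing_inv_mul _ (Ne.isUnit hTd), Matrix.one_mul] using h3

end CfsgLib.Perm.Elusive.SubfieldPrime
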