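import Mathlib
import Cfsg.Prelude.Def_GeometricClasses
import Cfsg.Agent.Lib.Perm.Elusive.SympPrime
import Cfsg.Agent.Lib.Classical.SympCount
import Cfsg.Agent.Lib.Classical.LargePrimeSylow
import Cfsg.Agent.Lib.Classical.SympSplit

/-!
# Orthogonal decompositions of a symplectic space
-/

set_option autoImplicit false
set_option linter.all false

namespace CfsgLib.Perm.Elusive

open Cfsg.Geo Matrix

variable {F : Type*} [Field F] [Fintype F] {p : ℕ} [Fact p.Prime] [CharP F p] {r : ℕ} [Fact r.Prime] {d t a : ℕ}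

omit [Fintype F] in
theorem isMDecomposition_of_orth {D : Fin t → Submodule F (Fin d ⊕ Fin d → F)} (ht : 2 ≤ t) (ha : 0 < a)
    (hdim : 2 * d = t * a) (hf : ∀ j, Module.finrank F (D j) = a)
    (hn : ∀ j, ∀ u ∈ D j, u ≠ 0 → ∃ v ∈ D j, Cfsg.sympForm d F u v ≠ 0)
    (ho : ∀ j j', j ≠ j' → ∀ u ∈ D j, ∀ v ∈ D j', Cfsg.sympForm d F u v = 0) : IsMDecomposition a D := by
  classical
  obtain ⟨Φ, hΦ⟩ : ∃ Φ : (∀ j, D j) →ₗ[F] (Fin d ⊕ Fin d → F), ∀ g, Φ g = ∑ j, (g j : Fin d ⊕ Fin d → F) :=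
    ⟨∑ j, (D j).subtype.comp (LinearMap.proj j), fun g => by simp [LinearMap.sum_apply]⟩
  have hzero : ∀ g : ∀ j, D j, (∑ j, (g j : Fin d ⊕ Fin d → F)) = 0 → g = 0 := by
    intro g hg
    funext j
    by_contra hne
    obtain ⟨v, hv, hgv⟩ := hn j _ (g j).2 (fun h => hne (Subtype.ext h))
    refine hgv ?_
    have h : CfsgLib.Classical.SympCount.sB d F (∑ i, (g i : Fin d ⊕ Fin d → F)) v = 0 := by
      rw [hg, map_zero, LinearMap.zero_apply]
    rw [map_sum, LinearMap.sum_apply, Finset.sum_eq_single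
      (f := fun i => CfsgLib.Classical.SympCount.sB d F (g i : Fin d ⊕ Fin d → F) v) j (fun i _ hij => ho i j hij _ (g i).2 v hv)
      (fun h => absurd (Finset.mem_univ j) h)] at h
    exact h
  have hinj : Function.Injective Φ := (injective_iff_map_eq_zero Φ).2 fun g hg => hzero g ((hΦ g).symm.trans hg)
  refine ⟨ht, ha, hf, ?_, ?_⟩
  · rw [iSupIndep_def]
    intro j
    rw [Submodule.disjoint_def]
    intro x hx hx'
    by_contra hx0
    obtain ⟨v, hv, hxv⟩ := hn j x hx hx0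
    have hle : (⨆ i, ⨆ (_ : i ≠ j), D i) ≤ LinearMap.ker ((CfsgLib.Classical.SympCount.sB d F).flip v) :=
      iSup₂_le fun i hi u hu => LinearMap.mem_ker.2 (ho i j hi u hu v hv)
    exact hxv (LinearMap.mem_ker.1 (hle hx'))
  · have hsurj : Function.Surjective Φ := (LinearMap.injective_iff_surjective_of_finrank_eq_finrank (by
      rw [Module.finrank_pi_fintype, Finset.sum_congr rfl (fun j _ => hf j), Finset.sum_const, Finset.card_univ,
        Fintype.card_fin, smul_eq_mul, Module.finrank_fintype_fun_eq_card, Fintype.card_sum, Fintype.card_fin]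
      omega)).1 hinj
    rw [eq_top_iff]
    intro v _
    obtain ⟨g, rfl⟩ := hsurj v
    rw [hΦ]
    exact Submodule.sum_mem _ fun j _ => le_iSup D j (g j).2

/-- a divisor of the number of orthogonal decompositions gives a small order -/
theorem symp_order_le_of_dvd (hrp : r ≠ p) (hdim : 2 * d = a * t) (ha : 2 ≤ a) (hae : Even a) (ht : 2 ≤ t) {c : ℕ}
    (hc : c = if Even (orderOf ((Fintype.card F : ℕ) : ZMod r)) then orderOf ((Fintype.card F : ℕ) : ZMod r)
      else 2 * orderOf ((Fintype.card F : ℕ) : ZMod r))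
    {D₀ : Fin t → Submodule F (Fin d ⊕ Fin d → F)} (hD₀ : IsMDecomposition a D₀ ∧
      (∀ j, ∀ u ∈ D₀ j, u ≠ 0 → ∃ v ∈ D₀ j, Cfsg.sympForm d F u v ≠ 0) ∧
      (∀ j j', j ≠ j' → ∀ u ∈ D₀ j, ∀ v ∈ D₀ j', Cfsg.sympForm d F u v = 0))
    (hΩ : r ∣ Nat.card {D : Fin t → Submodule F (Fin d ⊕ Fin d → F) // (IsMDecomposition a D ∧
      (∀ j, ∀ u ∈ D j, u ≠ 0 → ∃ v ∈ D j, Cfsg.sympForm d F u v ≠ 0) ∧
      (∀ j j', j ≠ j' → ∀ u ∈ D j, ∀ v ∈ D j', Cfsg.sympForm d F u v = 0))} / Nat.factorial t) :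
    c ≤ 2 * d := by
  classical
  obtain ⟨X, hX⟩ : ∃ X : Set (Fin t → Submodule F (Fin d ⊕ Fin d → F)), ∀ D, D ∈ X ↔ (IsMDecomposition a D ∧
      (∀ j, ∀ u ∈ D j, u ≠ 0 → ∃ v ∈ D j, Cfsg.sympForm d F u v ≠ 0) ∧
      (∀ j j', j ≠ j' → ∀ u ∈ D j, ∀ v ∈ D j', Cfsg.sympForm d F u v = 0)) :=
    ⟨{D | _}, fun D => Iff.rfl⟩
  rw [← Nat.card_congr (Equiv.subtypeEquivRight hX)] at hΩ
  letI : MulAction (Equiv.Perm (Fin t)) X :=
    { smul := fun σ D => ⟨fun j => D.1 (σ.symm j), (hX _).2 ⟨⟨((hX _).1 D.2).1.two_le, ((hX _).1 D.2).1.pos,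
        fun j => ((hX _).1 D.2).1.finrank_eq _, ((hX _).1 D.2).1.indep.comp σ.symm.injective,
        (σ.symm.iSup_comp (g := D.1)).trans ((hX _).1 D.2).1.iSup_eq_top⟩, fun j => ((hX _).1 D.2).2.1 _,
        fun j j' h => ((hX _).1 D.2).2.2 _ _ fun e => h (σ.symm.injective e)⟩⟩
      one_smul := fun D => rfl
      mul_smul := fun σ τ D => rfl }
  have hfree : ∀ D : X, MulAction.stabilizer (Equiv.Perm (Fin t)) D = ⊥ := fun D => by
    rw [Subgroup.eq_bot_iff_forall]
    intro σ hσ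
    refine Equiv.ext fun j => ?_
    have hinj : Function.Injective D.1 := ((hX _).1 D.2).1.indep.injective fun i h => by
      have := ((hX _).1 D.2).1.finrank_eq i
      rw [h, finrank_bot] at this
      omega
    have h := congrFun (congrArg Subtype.val (MulAction.mem_stabilizer_iff.1 hσ)) (σ j)
    have h2 : D.1 (σ.symm (σ j)) = D.1 (σ j) := h
    rw [Equiv.symm_apply_apply] at h2
    exact (hinj h2).symm
  have hdvd : Nat.factorial t ∣ Nat.card X := by
    rw [Nat.card_congr (MulAction.selfEquivOrbitsQuotientProd hfree), Nat.card_prod,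
      Nat.card_eq_fintype_card (α := Equiv.Perm (Fin t)), Fintype.card_perm, Fintype.card_fin]
    exact dvd_mul_left _ _
  have hr1 : r ∣ Nat.card X := hΩ.trans (Nat.div_dvd_of_dvd hdvd)
  obtain ⟨a', ha'⟩ := hae
  have hbasis : ∀ D ∈ X, ∃ b : Module.Basis (Σ _ : Fin t, Fin a' ⊕ Fin a') F (Fin d ⊕ Fin d → F),
      (∀ x, b x ∈ D x.1) ∧ ∀ x y, Cfsg.sympForm d F (b x) (b y) =
        if x.1 = y.1 then Matrix.J (Fin a') F x.2 y.2 else 0 := by
    intro D hD
    obtain ⟨hM, hn, ho⟩ := (hX D).1 hD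
    have hloc : ∀ j, ∃ b : Module.Basis (Fin a' ⊕ Fin a') F (D j), ∀ x y,
        Cfsg.sympForm d F (b x : Fin d ⊕ Fin d → F) (b y) = Matrix.J (Fin a') F x y := fun j => by
      obtain ⟨b, hb⟩ := CfsgLib.Classical.SympSplit.exists_basis_J ((CfsgLib.Classical.SympCount.sB d F).restrict (D j))
        (fun u => CfsgLib.Classical.SympCount.sB_isAlt (u : Fin d ⊕ Fin d → F)) (fun u hu => by
          by_contra hu0
          obtain ⟨v, hv, huv⟩ := hn j u u.2 (fun h => hu0 (Subtype.ext h))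
          exact huv (hu ⟨v, hv⟩)) (k := a') (by rw [hM.finrank_eq, ha', two_mul])
      exact ⟨b, fun x y => hb x y⟩
    choose bj hbj using hloc
    have hint := DirectSum.isInternal_submodule_of_iSupIndep_of_iSup_eq_top hM.indep hM.iSup_eq_top
    refine ⟨hint.collectedBasis bj, fun x => hint.collectedBasis_mem _ x, fun x y => ?_⟩
    rw [DirectSum.IsInternal.collectedBasis_coe]
    obtain ⟨j, x⟩ := x
    obtain ⟨j', y⟩ := y
    by_cases h : j = j'
    · subst h
      rw [if_pos rfl]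
      exact hbj j x y
    · rw [if_neg h]
      exact ho j j' h _ (bj j x).2 _ (bj j' y).2
  obtain ⟨sm, hsm⟩ : ∃ sm : Matrix.symplecticGroup (Fin d) F → X → X,
      ∀ g D j, (sm g D).1 j = (D.1 j).map (Matrix.toLin' (g : Matrix (Fin d ⊕ Fin d) (Fin d ⊕ Fin d) F)) := by
    refine ⟨fun g D => ⟨fun j => (D.1 j).map (Matrix.toLin' (g : Matrix (Fin d ⊕ Fin d) (Fin d ⊕ Fin d) F)), ?_⟩, fun g D j => rfl⟩
    obtain ⟨hM, hn, ho⟩ := (hX D.1).1 D.2
    have hsf : ∀ u v, Cfsg.sympForm d F (Matrix.toLin' (g : Matrix (Fin d ⊕ Fin d) (Fin d ⊕ Fin d) F) u)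
        (Matrix.toLin' (g : Matrix (Fin d ⊕ Fin d) (Fin d ⊕ Fin d) F) v) = Cfsg.sympForm d F u v := fun u v => by
      rw [Matrix.toLin'_apply, Matrix.toLin'_apply]
      exact CfsgLib.Sp.sf_sp g u v
    have hinj : Function.Injective (Matrix.toLin' (g : Matrix (Fin d ⊕ Fin d) (Fin d ⊕ Fin d) F)) := by
      intro u v huv
      refine sub_eq_zero.1 (CfsgLib.Sp.eq_zero_of_sf fun w => ?_)
      show Cfsg.sympForm d F (u - v) w = 0
      rw [← hsf, map_sub, huv, sub_self]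
      simp [Cfsg.sympForm]
    have hn' : ∀ j, ∀ u ∈ (D.1 j).map (Matrix.toLin' (g : Matrix (Fin d ⊕ Fin d) (Fin d ⊕ Fin d) F)), u ≠ 0 →
        ∃ v ∈ (D.1 j).map (Matrix.toLin' (g : Matrix (Fin d ⊕ Fin d) (Fin d ⊕ Fin d) F)), Cfsg.sympForm d F u v ≠ 0 := by
      rintro j _ ⟨u, hu, rfl⟩ hu0
      obtain ⟨v, hv, huv⟩ := hn j u hu (fun h => hu0 (by rw [h, map_zero]))
      exact ⟨_, ⟨v, hv, rfl⟩, by rwa [hsf]⟩
    have ho' : ∀ j j', j ≠ j' → ∀ u ∈ (D.1 j).map (Matrix.toLin' (g : Matrix (Fin d ⊕ Fin d) (Fin d ⊕ Fin d) F)),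
        ∀ v ∈ (D.1 j').map (Matrix.toLin' (g : Matrix (Fin d ⊕ Fin d) (Fin d ⊕ Fin d) F)), Cfsg.sympForm d F u v = 0 := by
      rintro j j' h _ ⟨u, hu, rfl⟩ _ ⟨v, hv, rfl⟩
      rw [hsf]
      exact ho j j' h u hu v hv
    exact (hX _).2 ⟨isMDecomposition_of_orth ht (by omega) (by rw [hdim, mul_comm])
      (fun j => (Submodule.equivMapOfInjective _ hinj (D.1 j)).finrank_eq.symm.trans (hM.finrank_eq j)) hn' ho', hn', ho'⟩
  letI : MulAction (Matrix.symplecticGroup (Fin d) F) X :=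
    { smul := sm
      one_smul := fun D => Subtype.ext (funext fun j => by
        show (sm 1 D).1 j = D.1 j
        rw [hsm]
        show (D.1 j).map (Matrix.toLin' 1) = D.1 j
        rw [Matrix.toLin'_one, Submodule.map_id])
      mul_smul := fun g h D => Subtype.ext (funext fun j => by
        show (sm (g * h) D).1 j = (sm g (sm h D)).1 j
        rw [hsm, hsm, hsm]
        show (D.1 j).map (Matrix.toLin' ((g : Matrix (Fin d ⊕ Fin d) (Fin d ⊕ Fin d) F) * (h : Matrix (Fin d ⊕ Fin d) (Fin d ⊕ Fin d) F))) = _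
        rw [Matrix.toLin'_mul, Submodule.map_comp]) }
  have horb : MulAction.orbit (Matrix.symplecticGroup (Fin d) F) (⟨D₀, (hX _).2 hD₀⟩ : X) = Set.univ := by
    refine Set.eq_univ_of_forall fun D => ?_
    obtain ⟨b, hb, hbg⟩ := hbasis D₀ ((hX _).2 hD₀)
    obtain ⟨b', hb', hbg'⟩ := hbasis D.1 D.2
    obtain ⟨A, hA⟩ := CfsgLib.Classical.SympCount.exists_move_tuple b.linearIndependent b'.linearIndependent
      (fun x y => (hbg x y).trans (hbg' x y).symm)
    refine ⟨A, Subtype.ext (funext fun j => ?_)⟩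
    show (sm A _).1 j = D.1 j
    rw [hsm]
    have hle : D.1 j ≤ Submodule.span F (b' '' {x | x.1 = j}) := by
      refine le_of_eq (Submodule.eq_of_le_of_finrank_eq ?_ ?_).symm
      · rw [Submodule.span_le]
        rintro _ ⟨x, hx, rfl⟩
        exact hx ▸ hb' x
      · rw [finrank_span_set_eq_card ((b'.linearIndependent.linearIndepOn _).id_image), Set.toFinset_card,
          ← Nat.card_eq_fintype_card, Nat.card_image_of_injective b'.injective, ((hX _).1 D.2).1.finrank_eq]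
        have e : ({x : Σ _ : Fin t, Fin a' ⊕ Fin a' | x.1 = j} : Set _) ≃ Fin a' ⊕ Fin a' :=
          { toFun := fun x => x.1.2
            invFun := fun u => ⟨⟨j, u⟩, rfl⟩
            left_inv := by rintro ⟨⟨i, u⟩, rfl⟩; rfl
            right_inv := fun u => rfl }
        rw [Nat.card_congr e, Nat.card_sum, Nat.card_fin, ha']
    refine (Submodule.eq_of_le_of_finrank_le (hle.trans ?_) ?_).symm
    · rw [Submodule.span_le]
      rintro _ ⟨x, hx, rfl⟩
      refine ⟨b x, hx ▸ hb x, ?_⟩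
      rw [Matrix.toLin'_apply]
      exact hA x
    · exact (Submodule.finrank_map_le _ _).trans (le_of_eq (by rw [hD₀.1.finrank_eq, ((hX _).1 D.2).1.finrank_eq]))
  have hr2 : r ∣ Nat.card (Matrix.symplecticGroup (Fin d) F) := by
    refine hr1.trans ?_
    rw [← Nat.card_congr (Equiv.Set.univ X), ← horb, Nat.card_congr (MulAction.orbitEquivQuotientStabilizer _ _)]
    exact Subgroup.card_quotient_dvd_card _
  obtain ⟨m, hm⟩ := CfsgLib.Classical.LargePrime.card_sp_eq (F := F) d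
  rw [hm] at hr2
  rcases (Fact.out : r.Prime).dvd_mul.1 hr2 with h | h
  · exact absurd ((ZMod.natCast_eq_zero_iff _ r).2 ((Fact.out : r.Prime).dvd_of_dvd_pow h)) (card_ne_zero_zmod hrp)
  · obtain ⟨j, hj, hjd⟩ := ((Fact.out : r.Prime).prime.dvd_finsetProd_iff _).1 h
    rw [Finset.mem_Icc] at hj
    rw [← (ZMod.natCast_eq_zero_iff _ r), Nat.cast_sub (Nat.one_le_pow _ _ Fintype.card_pos), Nat.cast_one,
      sub_eq_zero, Nat.cast_pow, ← orderOf_dvd_iff_pow_eq_one] at hjd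
    rw [hc]
    split_ifs with hev
    · exact le_trans (Nat.le_of_dvd (by omega) hjd) (by omega)
    · have hco : (orderOf ((Fintype.card F : ℕ) : ZMod r)).Coprime 2 :=
        Nat.coprime_two_right.2 (Nat.not_even_iff_odd.1 hev)
      have := Nat.le_of_dvd (by omega) (hco.dvd_of_dvd_mul_left hjd)
      omega

end CfsgLib.Perm.Elusive
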