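import Mathlib
import Cfsg.Prelude.Def_GeometricClasses
import Cfsg.Agent.Lib.Perm.Asch.Forms.SpLemmas

/-!
# Elements that are not similitudes of a symplectic form
-/

set_option autoImplicit false
set_option linter.all false

namespace CfsgLib.Perm.Elusive

open Matrix Cfsg.Geo CfsgLib.Perm.Asch

variable {F : Type*} [Field F] {n : ℕ} {f : (Fin n → F) → (Fin n → F) → F}

theorem sd_sub_left (hb : IsBilinearForm f) (a b v : Fin n → F) : f (a - b) v = f a v - f b v :=
  eq_sub_of_add_eq (by rw [← hb.add_left, sub_add_cancel])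

theorem sd_sub_right (hb : IsBilinearForm f) (v a b : Fin n → F) : f v (a - b) = f v a - f v b :=
  eq_sub_of_add_eq (by rw [← hb.add_right, sub_add_cancel])

theorem sd_zero_left (hb : IsBilinearForm f) (v : Fin n → F) : f 0 v = 0 := by
  have := hb.smul_left 0 0 v; simpa using this

theorem sd_zero_right (hb : IsBilinearForm f) (v : Fin n → F) : f v 0 = 0 := by
  have := hb.smul_right 0 v 0; simpa using this

/-- the multiplier of a similitude of prime order -/
theorem multiplier_pow (hf : IsSymplecticForm f) (hn : 0 < n) {y : Matrix (Fin n) (Fin n) F} {c : F}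
    (hy : ∀ u v, f (y *ᵥ u) (y *ᵥ v) = c * f u v) {r : ℕ} (hr : y ^ r = 1) : c ^ r = 1 := by
  have h : ∀ m, ∀ u v, f ((y ^ m) *ᵥ u) ((y ^ m) *ᵥ v) = c ^ m * f u v := fun m => by
    induction m with
    | zero => simp
    | succ m ih => intro u v; rw [pow_succ', ← mulVec_mulVec, ← mulVec_mulVec, hy, ih, pow_succ', mul_assoc]
  obtain ⟨u, hu⟩ : ∃ u : Fin n → F, u ≠ 0 := ⟨Pi.single ⟨0, hn⟩ 1, by simp⟩
  obtain ⟨v, hv⟩ := (hf.nondegenerate u hu).2
  have e := h r u v
  rw [hr, one_mulVec, one_mulVec] at e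
  exact mul_right_cancel₀ hv (e.symm.trans (one_mul _).symm)

/-- an isometry whose `y − 1` is semisimple at zero has moved space of even dimension -/
theorem false_of_odd_moved (hf : IsSymplecticForm f) {y N : Matrix (Fin n) (Fin n) F} (hN : y = 1 + N)
    (hy : ∀ u v, f (y *ᵥ u) (y *ᵥ v) = f u v) (hss : ∀ v, N *ᵥ (N *ᵥ v) = 0 → N *ᵥ v = 0)
    (hodd : Odd N.rank) : False := by
  obtain ⟨L, hL⟩ : ∃ L : (Fin n → F) →ₗ[F] (Fin n → F), L = N.mulVecLin := ⟨_, rfl⟩
  have hnd : IsNondegenerateOn f (LinearMap.range L) := by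
    rintro w ⟨a, rfl⟩ hw
    obtain ⟨z, hz⟩ := (hf.nondegenerate _ hw).2
    have hdis : Disjoint (LinearMap.range L) (LinearMap.ker L) := by
      rw [Submodule.disjoint_def]
      rintro _ ⟨b, rfl⟩ hb
      rw [hL, LinearMap.mem_ker, mulVecLin_apply, mulVecLin_apply] at hb
      rw [hL, mulVecLin_apply]
      exact hss b hb
    have htop : LinearMap.range L ⊔ LinearMap.ker L = ⊤ := by
      refine Submodule.eq_top_of_finrank_eq ?_
      have h := Submodule.finrank_sup_add_finrank_inf_eq (LinearMap.range L) (LinearMap.ker L)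
      rw [hdis.eq_bot, finrank_bot, add_zero, L.finrank_range_add_finrank_ker] at h
      exact h
    obtain ⟨z₁, hz₁, z₂, hz₂, rfl⟩ := Submodule.mem_sup.1 (htop ▸ (Submodule.mem_top : z ∈ ⊤))
    have h0 : f (L a) z₂ = 0 := by
      rw [hL, LinearMap.mem_ker, mulVecLin_apply] at hz₂
      have hfix : y *ᵥ z₂ = z₂ := by rw [hN, add_mulVec, one_mulVec, hz₂, add_zero]
      have e := hy a z₂
      rw [hfix, hN, add_mulVec, one_mulVec, hf.bilinear.add_left, add_eq_left] at e
      rw [hL, mulVecLin_apply, e]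
    rw [hf.bilinear.add_right, h0, add_zero] at hz
    exact ⟨⟨z₁, hz₁, fun h => hz (by rw [bilin_skew hf.bilinear hf.alternating, h, neg_zero])⟩, ⟨z₁, hz₁, hz⟩⟩
  have he := even_finrank_of_alternating hf.bilinear hf.alternating hnd
  rw [hL] at he
  exact (Nat.not_even_iff_odd.2 hodd) he

/-- a Jordan block of size three spoils similitudes -/
theorem false_of_square_rank_one (hf : IsSymplecticForm f) (h2 : (2 : F) ≠ 0) {y N : Matrix (Fin n) (Fin n) F}
    (hN : y = 1 + N) (hy : ∀ u v, f (y *ᵥ u) (y *ᵥ v) = f u v) (h3 : N * N * N = 0) (φ : (Fin n → F) → F)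
    (e : Fin n → F) (he : e ≠ 0) (hφ : ∀ a, (N * N) *ᵥ a = φ a • e) (a₀ : Fin n → F) (ha₀ : φ a₀ = 1) : False := by
  have h3' : ∀ v, N *ᵥ (N *ᵥ (N *ᵥ v)) = 0 := fun v => by
    rw [mulVec_mulVec, mulVec_mulVec, h3, zero_mulVec]
  have hadj : ∀ a b, f (N *ᵥ a) b = f a (-(N *ᵥ b) + N *ᵥ (N *ᵥ b)) := fun a b => by
    obtain ⟨b', hb'⟩ : ∃ b', b' = b - N *ᵥ b + N *ᵥ (N *ᵥ b) := ⟨_, rfl⟩
    have e1 : y *ᵥ b' = b := by
      rw [hN, hb', add_mulVec, one_mulVec]
      simp only [mulVec_add, mulVec_sub, h3']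
      abel
    have e2 := hy a b'
    rw [e1, hN, add_mulVec, one_mulVec, hf.bilinear.add_left, hb', hf.bilinear.add_right, sd_sub_right hf.bilinear] at e2
    rw [hf.bilinear.add_right, show f a (-(N *ᵥ b)) = -f a (N *ᵥ b) by
      rw [← zero_sub, sd_sub_right hf.bilinear, sd_zero_right hf.bilinear, zero_sub]]
    linear_combination e2
  have key : ∀ a b, f ((N * N) *ᵥ a) b = f a ((N * N) *ᵥ b) := fun a b => by
    rw [← mulVec_mulVec, hadj, hadj, ← mulVec_mulVec]
    simp only [mulVec_add, mulVec_neg, h3', mulVec_zero, neg_add_rev, neg_neg, add_zero, zero_add, neg_zero]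
  have hanti : ∀ a b, φ a * f e b = -(φ b * f e a) := fun a b => by
    have := key a b
    rw [hφ, hφ, hf.bilinear.smul_left, hf.bilinear.smul_right, bilin_skew hf.bilinear hf.alternating a e] at this
    linear_combination this
  have h0 : f e a₀ = 0 := by
    have h := hanti a₀ a₀
    rw [ha₀] at h
    exact (mul_eq_zero.1 (show (2 : F) * f e a₀ = 0 by linear_combination h)).resolve_left h2
  obtain ⟨b, hb⟩ := (hf.nondegenerate e he).2
  exact hb (by have h := hanti a₀ b; rw [ha₀, h0] at h; linear_combination h)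

/-- eigenvalue multiplicities of a diagonalisable similitude -/
theorem mult_paired [DecidableEq F] (hf : IsSymplecticForm f) {Q y : Matrix (Fin n) (Fin n) F} (hQ : IsUnit Q.det)
    {w : Fin n → F} {c : F} (hc : c ≠ 0) (hy : ∀ u v, f (y *ᵥ u) (y *ᵥ v) = c * f u v)
    (hw : y * Q = Q * Matrix.diagonal w) (lam mu : F) (hlm : lam * mu = c) :
    (Finset.univ.filter fun i => w i = lam).card = (Finset.univ.filter fun i => w i = mu).card ∧
      (lam = mu → Even (Finset.univ.filter fun i => w i = lam).card) := by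
  obtain ⟨v, hv⟩ : ∃ v : Fin n → (Fin n → F), ∀ i, v i = Q *ᵥ Pi.single i 1 := ⟨_, fun i => rfl⟩
  have hvli : LinearIndependent F v := by
    rw [Fintype.linearIndependent_iff]
    intro g hg i
    have e : ∑ i, g i • v i = Q *ᵥ g := by
      conv_rhs => rw [pi_eq_sum_univ' g, mulVec_sum]
      simp only [mulVec_smul, hv]
    rw [e] at hg
    have := congrArg (fun z => Q⁻¹ *ᵥ z) hg
    simp only [mulVec_mulVec, nonsing_inv_mul Q hQ, one_mulVec, mulVec_zero] at this
    exact congrFun this i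
  have heig : ∀ i, y *ᵥ v i = w i • v i := fun i => by
    rw [hv, mulVec_mulVec, hw, ← mulVec_mulVec,
      show Matrix.diagonal w *ᵥ Pi.single i (1 : F) = w i • Pi.single i 1 by
        funext j
        rw [mulVec_diagonal, Pi.smul_apply, smul_eq_mul]
        rcases eq_or_ne j i with rfl | hji
        · rfl
        · rw [Pi.single_eq_of_ne hji, mul_zero, mul_zero],
      mulVec_smul]
  have hpair : ∀ i j, w i * w j ≠ c → f (v i) (v j) = 0 := fun i j hne => by
    have h := hy (v i) (v j)
    rw [heig, heig, hf.bilinear.smul_left, hf.bilinear.smul_right] at h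
    exact (mul_eq_zero.1 (show (w i * w j - c) * f (v i) (v j) = 0 by linear_combination h)).resolve_left
      (sub_ne_zero.2 hne)
  have horth : ∀ u, (∀ j, f u (v j) = 0) → u = 0 := by
    intro u hu
    by_contra hu0
    obtain ⟨z, hz⟩ := (hf.nondegenerate u hu0).2
    refine hz ?_
    have e : z = ∑ i, (Q⁻¹ *ᵥ z) i • v i := by
      conv_lhs => rw [← one_mulVec z, ← mul_nonsing_inv Q hQ, ← mulVec_mulVec, pi_eq_sum_univ' (Q⁻¹ *ᵥ z), mulVec_sum]
      simp only [mulVec_smul, hv]
    rw [e, bilin_sum_right hf.bilinear]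
    exact Finset.sum_eq_zero fun i _ => by rw [hf.bilinear.smul_right, hu, mul_zero]
  have hle : ∀ lam mu : F, lam * mu = c →
      (Finset.univ.filter fun i => w i = lam).card ≤ (Finset.univ.filter fun i => w i = mu).card := by
    intro lam mu hlm
    obtain ⟨row, hrow⟩ : ∃ row : {i // w i = lam} → ({j // w j = mu} → F), ∀ i j, row i j = f (v i.1) (v j.1) :=
      ⟨fun i j => f (v i.1) (v j.1), fun _ _ => rfl⟩
    have hli : LinearIndependent F row := by
      rw [Fintype.linearIndependent_iff]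
      intro g hg i
      obtain ⟨u, hu⟩ : ∃ u, u = ∑ i : {i // w i = lam}, g i • v i := ⟨_, rfl⟩
      have hu0 : u = 0 := horth u fun j => by
        rw [hu, bilin_sum_left hf.bilinear]
        by_cases hj : w j = mu
        · have := congrFun hg ⟨j, hj⟩
          simpa [hrow, hf.bilinear.smul_left] using this
        · refine Finset.sum_eq_zero fun i _ => ?_
          rw [hf.bilinear.smul_left, hpair i.1 j (fun h => hj ?_), mul_zero]
          rw [i.2] at h
          exact mul_left_cancel₀ (left_ne_zero_of_mul (hlm ▸ hc)) (h.trans hlm.symm)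
      exact Fintype.linearIndependent_iff.1 (hvli.comp _ Subtype.val_injective) g (hu.symm.trans hu0) i
    have := hli.fintype_card_le_finrank
    rwa [Module.finrank_fintype_fun_eq_card, Fintype.card_subtype, Fintype.card_subtype] at this
  refine ⟨le_antisymm (hle lam mu hlm) (hle mu lam (by rw [mul_comm, hlm])), fun heq => ?_⟩
  subst heq
  obtain ⟨W, hW⟩ : ∃ W, W = Submodule.span F (Set.range fun i : {i // w i = lam} => v i) := ⟨_, rfl⟩
  have hWd : Module.finrank F W = (Finset.univ.filter fun i => w i = lam).card := by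
    rw [hW, finrank_span_eq_card (b := fun i : {i // w i = lam} => v i) (hvli.comp _ Subtype.val_injective),
      Fintype.card_subtype]
  rw [← hWd]
  refine even_finrank_of_alternating hf.bilinear hf.alternating fun u hu hu0 => ?_
  obtain ⟨i, hi, hne⟩ : ∃ i, w i = lam ∧ f u (v i) ≠ 0 := by
    by_contra hno
    push Not at hno
    refine hu0 (horth u fun j => ?_)
    by_cases hj : w j = lam
    · exact hno j hj
    · rw [hW, Submodule.mem_span_range_iff_exists_fun] at hu
      obtain ⟨g, rfl⟩ := hu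
      rw [bilin_sum_left hf.bilinear]
      refine Finset.sum_eq_zero fun i _ => ?_
      rw [hf.bilinear.smul_left, hpair i.1 j (fun h => hj ?_), mul_zero]
      rw [i.2] at h
      exact mul_left_cancel₀ (left_ne_zero_of_mul (hlm ▸ hc)) (h.trans hlm.symm)
  have hiW : v i ∈ W := hW ▸ Submodule.subset_span ⟨⟨i, hi⟩, rfl⟩
  exact ⟨⟨v i, hiW, fun h => hne (by rw [bilin_skew hf.bilinear hf.alternating, h, neg_zero])⟩, ⟨v i, hiW, hne⟩⟩

/-- a fixed point free element of prime order in a special linear group -/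
theorem exists_fpf [Fintype F] {p : ℕ} [Fact p.Prime] [CharP F p] {d r : ℕ} (hd : 1 ≤ d) (hr : r.Prime)
    (hdvd : r ∣ Fintype.card F ^ d - 1) (hq1 : ¬ r ∣ Fintype.card F - 1) :
    ∃ A : Matrix (Fin d) (Fin d) F, A.det = 1 ∧ A ^ r = 1 ∧ IsUnit (A - 1) := by
  haveI : NeZero d := ⟨by omega⟩
  let K := FiniteField.Extension F p d
  let b := Module.finBasisOfFinrankEq F K (FiniteField.finrank_extension F p d)
  obtain ⟨u, hu⟩ := IsCyclic.exists_ofOrder_eq_natCard (α := Kˣ)
  rw [Nat.card_units, FiniteField.natCard_extension, Nat.card_eq_fintype_card] at hu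
  obtain ⟨w, hw⟩ : ∃ w : Kˣ, orderOf w = r := ⟨_, orderOf_pow_orderOf_div (orderOf_pos u).ne' (hu ▸ hdvd)⟩
  have hwr : (w : K) ^ r = 1 := by rw [← hw, ← Units.val_pow_eq_pow_val, pow_orderOf_eq_one, Units.val_one]
  have hw1 : (w : K) - 1 ≠ 0 := fun h => by
    rw [sub_eq_zero, Units.val_eq_one] at h
    rw [h, orderOf_one] at hw
    exact hr.ne_one hw.symm
  have hAr : (Algebra.leftMulMatrix b (w : K)) ^ r = 1 := by rw [← map_pow, hwr, map_one]
  refine ⟨_, ?_, hAr, ?_⟩
  · obtain ⟨c, hc⟩ : ∃ c, c = (Algebra.leftMulMatrix b (w : K)).det := ⟨_, rfl⟩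
    have h1 : c ^ r = 1 := by rw [hc, ← Matrix.det_pow, hAr, Matrix.det_one]
    have h0 : c ≠ 0 := fun h => by rw [h, zero_pow hr.ne_zero] at h1; exact zero_ne_one h1
    have := pow_gcd_eq_one.2 ⟨h1, FiniteField.pow_card_sub_one_eq_one c h0⟩
    rw [← hc]
    rwa [(hr.coprime_iff_not_dvd.2 hq1).gcd_eq_one, pow_one] at this
  · have : IsUnit (Algebra.leftMulMatrix b ((w : K) - 1)) := (Ne.isUnit hw1).map (Algebra.leftMulMatrix b)
    rwa [map_sub, map_one] at this

end CfsgLib.Perm.Elusive
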