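import Mathlib
import Cfsg.Prelude.Def_GeometricClasses
import Cfsg.Agent.Lib.CharTwoInvol.Orders
import Cfsg.Agent.Lib.Perm.Elusive.SympPairs

/-!
# Prime divisors of the index of a symplectic similitude group in the special linear group
-/

set_option autoImplicit false
set_option linter.all false

namespace CfsgLib.Perm.Elusive

open Matrix Cfsg.Geo

variable {F : Type*} [Field F] [Fintype F]

theorem card_gl_split (k : ℕ) : ∃ e : ℕ, Nat.card (GL (Fin (2 * k)) F) = Fintype.card F ^ e *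
    ((∏ i ∈ Finset.range k, (Fintype.card F ^ (2 * i + 1) - 1)) *
      ∏ i ∈ Finset.range k, (Fintype.card F ^ (2 * (i + 1)) - 1)) := by
  obtain ⟨q, hq⟩ : ∃ q, q = Fintype.card F := ⟨_, rfl⟩
  refine ⟨∑ i ∈ Finset.range (2 * k), i, ?_⟩
  have hsplit : ∀ (u : ℕ → ℕ) (m : ℕ), ∏ i ∈ Finset.range (2 * m), u i =
      (∏ i ∈ Finset.range m, u (2 * i)) * ∏ i ∈ Finset.range m, u (2 * i + 1) := by
    intro u m
    induction m with
    | zero => simp
    | succ m ih =>
      rw [show 2 * (m + 1) = 2 * m + 1 + 1 from rfl, Finset.prod_range_succ, Finset.prod_range_succ, ih,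
        Finset.prod_range_succ, Finset.prod_range_succ]
      ring
  rw [Matrix.card_GL_field, ← hq, Fin.prod_univ_eq_prod_range (fun i => q ^ (2 * k) - q ^ i)]
  calc ∏ i ∈ Finset.range (2 * k), (q ^ (2 * k) - q ^ i)
      = ∏ i ∈ Finset.range (2 * k), (q ^ i * (q ^ (2 * k - i) - 1)) := Finset.prod_congr rfl fun i hi => by
        rw [Nat.mul_sub_one, ← pow_add, Nat.add_sub_cancel' (Finset.mem_range.1 hi).le]
    _ = q ^ (∑ i ∈ Finset.range (2 * k), i) * ∏ i ∈ Finset.range (2 * k), (q ^ (i + 1) - 1) := by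
        rw [Finset.prod_mul_distrib, Finset.prod_pow_eq_pow_sum, ← Finset.prod_range_reflect (fun i => q ^ (i + 1) - 1)]
        congr 1
        refine Finset.prod_congr rfl fun i hi => ?_
        rw [Finset.mem_range] at hi
        rw [show 2 * k - 1 - i + 1 = 2 * k - i by omega]
    _ = _ := by rw [hsplit]; rfl

theorem exists_odd_dvd {n : ℕ} (hn : 0 < n) (he : Even n) {f : (Fin n → F) → (Fin n → F) → F}
    (hf : IsSymplecticForm f) {r : ℕ} (hr : r.Prime) (hq : ¬ r ∣ Fintype.card F)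
    (hΩ : r ∣ ((Cfsg.Geo.similarityGroup f).comap
      (Matrix.SpecialLinearGroup.toGL : Matrix.SpecialLinearGroup (Fin n) F →* GL (Fin n) F)).index) :
    ∃ j, Odd j ∧ j < n ∧ r ∣ Fintype.card F ^ j - 1 := by
  classical
  obtain ⟨k, rfl⟩ : ∃ k, n = 2 * k := he.exists_two_nsmul.imp fun k hk => by simpa using hk
  let B : LinearMap.BilinForm F (Fin (2 * k) → F) := bilinMap hf.bilinear
  have hcard := CfsgLib.CharTwoInvol.card_iso_alt (B := B) (fun v => hf.alternating v)
    (fun u hu => by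
      by_contra hu0
      obtain ⟨y, hy⟩ := (hf.nondegenerate u hu0).2
      exact hy (hu y)) (k := k) (by simp)
  obtain ⟨ψ, hψinj, hψ⟩ : ∃ ψ : CfsgLib.CharTwoInvol.Iso B →* GL (Fin (2 * k)) F, Function.Injective ψ ∧
      ∀ g v, (ψ g : Matrix (Fin (2 * k)) (Fin (2 * k)) F) *ᵥ v = g.1 v := by
    let φ : CfsgLib.CharTwoInvol.Iso B →* Matrix (Fin (2 * k)) (Fin (2 * k)) F :=
      { toFun := fun g => LinearMap.toMatrix' g.1.toLinearMap
        map_one' := LinearMap.toMatrix'_id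
        map_mul' := fun a b => LinearMap.toMatrix'_comp _ _ }
    refine ⟨φ.toHomUnits, fun a b hab => Subtype.ext (LinearEquiv.toLinearMap_injective
      (LinearMap.toMatrix'.injective (congrArg Units.val hab))), fun g v => ?_⟩
    exact LinearMap.toMatrix'_mulVec _ v
  obtain ⟨S, hS⟩ : ∃ S : Subgroup (CfsgLib.CharTwoInvol.Iso B), S = (Matrix.GeneralLinearGroup.det.comp ψ).ker :=
    ⟨_, rfl⟩
  obtain ⟨H, hH⟩ : ∃ H, H = (Cfsg.Geo.similarityGroup f).comap
    (Matrix.SpecialLinearGroup.toGL : Matrix.SpecialLinearGroup (Fin (2 * k)) F →* GL (Fin (2 * k)) F) := ⟨_, rfl⟩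
  rw [← hH] at hΩ
  have hdet : ∀ g ∈ S, (ψ g : Matrix (Fin (2 * k)) (Fin (2 * k)) F).det = 1 := fun g hg => by
    rw [hS, MonoidHom.mem_ker, MonoidHom.comp_apply, Units.ext_iff, Matrix.GeneralLinearGroup.val_det_apply] at hg
    exact hg
  let φS : S →* Matrix.SpecialLinearGroup (Fin (2 * k)) F :=
    { toFun := fun g => ⟨(ψ g.1 : Matrix (Fin (2 * k)) (Fin (2 * k)) F), hdet _ g.2⟩
      map_one' := Subtype.ext (by simp)
      map_mul' := fun a b => Subtype.ext (congrArg Units.val (map_mul ψ a.1 b.1)) }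
  have hdvd : Nat.card S ∣ Nat.card H := by
    have hle : φS.range ≤ H := by
      rintro _ ⟨g, rfl⟩
      rw [hH, Subgroup.mem_comap]
      refine ⟨1, fun u v => ?_⟩
      show f ((ψ g.1 : Matrix _ _ F) *ᵥ u) ((ψ g.1 : Matrix _ _ F) *ᵥ v) = _
      rw [hψ, hψ, Units.val_one, one_mul]
      exact g.1.2 u v
    refine dvd_trans (dvd_of_eq (Nat.card_congr (MonoidHom.ofInjective (f := φS) ?_).toEquiv))
      (Subgroup.card_dvd_of_le hle)
    intro a b hab
    exact Subtype.ext (hψinj (Units.ext (congrArg Subtype.val hab)))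
  have hiso : Nat.card (CfsgLib.CharTwoInvol.Iso B) ∣ Nat.card S * (Fintype.card F - 1) := by
    rw [← S.card_mul_index, hS, Subgroup.index_ker]
    refine Nat.mul_dvd_mul_left _ (dvd_trans (Subgroup.card_subgroup_dvd_card _) ?_)
    rw [Nat.card_units, Nat.card_eq_fintype_card]
  haveI : Nonempty (Fin (2 * k)) := ⟨⟨0, hn⟩⟩
  have hSL : Nat.card (Matrix.SpecialLinearGroup (Fin (2 * k)) F) * (Fintype.card F - 1) =
      Nat.card (GL (Fin (2 * k)) F) := by
    rw [← (Matrix.GeneralLinearGroup.det : GL (Fin (2 * k)) F →* Fˣ).ker.card_mul_index, Subgroup.index_ker,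
      MonoidHom.range_eq_top.2 Matrix.GeneralLinearGroup.det_surjective, Subgroup.card_top, Nat.card_units,
      Nat.card_eq_fintype_card (α := F)]
    congr 1
    refine Nat.card_congr (Equiv.ofBijective (fun A => ⟨Matrix.SpecialLinearGroup.toGL A, Units.ext A.2⟩)
      ⟨fun a b hab => Subtype.ext (congrArg Units.val (congrArg Subtype.val hab)), fun g => ⟨⟨_, ?_⟩, Subtype.ext (Units.ext rfl)⟩⟩)
    have := g.2
    rw [MonoidHom.mem_ker, Units.ext_iff, Matrix.GeneralLinearGroup.val_det_apply] at this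
    exact this
  have hfinal : r * Nat.card (CfsgLib.CharTwoInvol.Iso B) ∣ Nat.card (GL (Fin (2 * k)) F) := by
    rw [← hSL, ← H.index_mul_card, mul_assoc]
    exact Nat.mul_dvd_mul hΩ (hiso.trans (Nat.mul_dvd_mul_right hdvd _))
  obtain ⟨e, he'⟩ := card_gl_split (F := F) k
  rw [hcard, CfsgLib.CharTwoInvol.spCard, he', Nat.card_eq_fintype_card, ← mul_assoc r, ← mul_assoc (_ ^ e)] at hfinal
  have hpos : 0 < ∏ i ∈ Finset.range k, (Fintype.card F ^ (2 * (i + 1)) - 1) :=
    Finset.prod_pos fun i _ => Nat.sub_pos_of_lt (Nat.one_lt_pow (by omega) Fintype.one_lt_card)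
  have h1 : r ∣ Fintype.card F ^ e * ∏ i ∈ Finset.range k, (Fintype.card F ^ (2 * i + 1) - 1) :=
    dvd_trans (dvd_mul_right r _) (Nat.dvd_of_mul_dvd_mul_right hpos hfinal)
  rcases hr.dvd_mul.1 h1 with h | h
  · exact absurd (hr.dvd_of_dvd_pow h) hq
  · obtain ⟨i, hi, hri⟩ := (hr.prime.dvd_finsetProd_iff _).1 h
    exact ⟨2 * i + 1, odd_two_mul_add_one i, by have := Finset.mem_range.1 hi; omega, hri⟩

end CfsgLib.Perm.Elusive
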