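import Mathlib
import Cfsg.Agent.Lib.Perm.Elusive.SympClassElement
import Cfsg.Agent.Lib.Perm.Elusive.JordanModel
import Cfsg.Agent.Lib.Perm.Elusive.JordanOrth
import Cfsg.Agent.Lib.Classical.LargePrimeSylow
import Cfsg.Agent.Lib.Classical.SympStab

/-!
# Nondegenerate subspaces fixed by symplectic isometries
-/

set_option autoImplicit false
set_option linter.all false

namespace CfsgLib.Perm.Elusive

open scoped Matrix

section Form

variable {F : Type*} [Field F] {V : Type*} [AddCommGroup V] [Module F V] [FiniteDimensional F V]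
variable {B : LinearMap.BilinForm F V}

/-- spans with nonsingular Gram matrix -/
theorem nd_span (hR : B.IsRefl) {l : ℕ} (g : Fin l → V)
    (hG : ∀ c : Fin l → F, (∀ b, ∑ a, c a * B (g a) (g b) = 0) → c = 0) :
    Disjoint (Submodule.span F (Set.range g)) (B.orthogonal (Submodule.span F (Set.range g))) ∧
      Module.finrank F (Submodule.span F (Set.range g)) = l := by
  classical
  refine ⟨Submodule.disjoint_def.2 fun x hx ho => ?_, ?_⟩
  · obtain ⟨c, rfl⟩ := (Submodule.mem_span_range_iff_exists_fun F).1 hx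
    have h : c = 0 := hG c fun b => by
      have h1 := hR _ _ (ho (g b) (Submodule.subset_span ⟨b, rfl⟩))
      simpa [map_sum, LinearMap.sum_apply] using h1
    simp [h]
  · rw [finrank_span_eq_card, Fintype.card_fin]
    rw [Fintype.linearIndependent_iff]
    intro c hc a
    refine congrFun (hG c fun b => ?_) a
    have h1 : B (∑ i, c i • g i) (g b) = 0 := by rw [hc, map_zero, LinearMap.zero_apply]
    simpa [map_sum, LinearMap.sum_apply] using h1

/-- odd characteristic, scalar square: an invariant plane -/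
theorem exists_square_plane (h2 : (2 : F) ≠ 0) (hA : B.IsAlt) (T : V →ₗ[F] V) (hI : ∀ u v, B (T u) (T v) = B u v) {z : F}
    (hz : z * z = 1) (hTT : ∀ u, T (T u) = z • u) {S : Submodule F V} (hS : ∀ u ∈ S, T u ∈ S)
    (hnd : Disjoint S (B.orthogonal S)) (hS0 : S ≠ ⊥) :
    ∃ W ≤ S, (∀ u ∈ W, T u ∈ W) ∧ Disjoint W (B.orthogonal W) ∧ Module.finrank F W = 2 := by
  have hR := hA.isRefl
  have hsk : ∀ u v, B v u = -B u v := fun u v => by rw [← LinearMap.IsAlt.neg hA u v]
  have hmk : ∀ a b, a ∈ S → b ∈ S → B a b ≠ 0 → T a ∈ Submodule.span F (Set.range ![a, b]) →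
      T b ∈ Submodule.span F (Set.range ![a, b]) →
      ∃ W ≤ S, (∀ u ∈ W, T u ∈ W) ∧ Disjoint W (B.orthogonal W) ∧ Module.finrank F W = 2 := by
    intro a b ha hb hab hTa hTb
    obtain ⟨h1, h3⟩ := nd_span hR ![a, b] (fun c hc => by
      have h0 := hc 0
      have h1 := hc 1
      simp only [Fin.sum_univ_two, Matrix.cons_val_zero, Matrix.cons_val_one, hA a, hA b, hsk a b, mul_zero, zero_add,
        add_zero, mul_neg, neg_eq_zero, mul_eq_zero, hab, or_false] at h0 h1
      funext i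
      fin_cases i
      · exact h1
      · exact h0)
    refine ⟨_, ?_, fun u hu => ?_, h1, h3⟩
    · rw [Submodule.span_le]
      rintro _ ⟨i, rfl⟩
      fin_cases i
      · exact ha
      · exact hb
    · have : (Submodule.span F (Set.range ![a, b])).map T ≤ Submodule.span F (Set.range ![a, b]) := by
        rw [Submodule.map_span, Submodule.span_le]
        rintro _ ⟨_, ⟨i, rfl⟩, rfl⟩
        fin_cases i
        · exact hTa
        · exact hTb
      exact this ⟨u, hu, rfl⟩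
  obtain ⟨a₀, ha₀, ha00⟩ := Submodule.exists_mem_ne_zero_of_ne_bot hS0
  have hnd' := (disjoint_orth_iff hR S).1 hnd
  rcases mul_self_eq_one_iff.1 hz with rfl | rfl
  · obtain ⟨a, ha, ha0, s, hs, hsa⟩ : ∃ a ∈ S, a ≠ 0 ∧ ∃ s : F, s * s = 1 ∧ T a = s • a := by
      by_cases h : a₀ + T a₀ = 0
      · exact ⟨a₀, ha₀, ha00, -1, by ring, by rw [neg_one_smul]; exact eq_neg_of_add_eq_zero_right h⟩
      · exact ⟨_, S.add_mem ha₀ (hS _ ha₀), h, 1, one_mul 1, by rw [map_add, hTT, one_smul, one_smul, add_comm]⟩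
    obtain ⟨y, hy, hay⟩ := hnd' a ha ha0
    have hTy : T (y + s • T y) = s • (y + s • T y) := by
      rw [map_add, map_smul, hTT, one_smul, smul_add, smul_smul, hs, one_smul, add_comm]
    have e1 : B a (T y) = s * B a y := by
      have e2 := hI a y
      rw [hsa, map_smul, LinearMap.smul_apply, smul_eq_mul] at e2
      linear_combination (-(B a (T y))) * hs + s * e2
    refine hmk a (y + s • T y) ha (S.add_mem hy (S.smul_mem s (hS y hy))) ?_ ?_ ?_
    · rw [map_add, map_smul, smul_eq_mul, e1, ← mul_assoc, hs, one_mul, ← two_mul]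
      exact mul_ne_zero h2 hay
    · rw [hsa]
      exact Submodule.smul_mem _ _ (Submodule.subset_span ⟨0, rfl⟩)
    · rw [hTy]
      exact Submodule.smul_mem _ _ (Submodule.subset_span ⟨1, rfl⟩)
  · obtain ⟨a, ha, haT⟩ : ∃ a ∈ S, B a (T a) ≠ 0 := by
      by_contra hcon
      push Not at hcon
      have hsym : ∀ a ∈ S, ∀ b ∈ S, B a (T b) = 0 := fun a ha b hb => by
        have e1 := hcon (a + b) (S.add_mem ha hb)
        simp only [map_add, LinearMap.add_apply, hcon a ha, hcon b hb, zero_add, add_zero] at e1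
        have e2 := hI b (T a)
        rw [hTT, map_smul, smul_eq_mul] at e2
        have e3 := hsk a (T b)
        exact (mul_eq_zero.1 (show (2 : F) * B a (T b) = 0 by linear_combination e1 + e2 + e3)).resolve_left h2
      obtain ⟨b₀, hb₀, hab₀⟩ := hnd' a₀ ha₀ ha00
      have e1 := hsym a₀ ha₀ (T b₀) (hS b₀ hb₀)
      rw [hTT, map_smul, smul_eq_mul, neg_one_mul, neg_eq_zero] at e1
      exact hab₀ e1
    refine hmk a (T a) ha (hS a ha) haT (Submodule.subset_span ⟨1, rfl⟩) ?_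
    rw [hTT]
    exact Submodule.smul_mem _ _ (Submodule.subset_span ⟨0, rfl⟩)

/-- characteristic two: an invariant piece of dimension two or four -/
theorem exists_invol_piece (h2 : (2 : F) = 0) (hA : B.IsAlt) (T : V →ₗ[F] V) (hI : ∀ u v, B (T u) (T v) = B u v)
    (hTT : ∀ u, T (T u) = u) {S : Submodule F V} (hS : ∀ u ∈ S, T u ∈ S)
    (hnd : Disjoint S (B.orthogonal S)) (hS0 : S ≠ ⊥) :
    ∃ W ≤ S, (∀ u ∈ W, T u ∈ W) ∧ Disjoint W (B.orthogonal W) ∧
      (Module.finrank F W = 2 ∨ Module.finrank F W = 4) := by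
  have hR := hA.isRefl
  have hsk : ∀ u v, B v u = B u v := fun u v => by
    rw [← LinearMap.IsAlt.neg hA u v]; linear_combination (-(B u v)) * h2
  have hnd' := (disjoint_orth_iff hR S).1 hnd
  have hinv : ∀ {l : ℕ} (g : Fin l → V), (∀ i, T (g i) ∈ Submodule.span F (Set.range g)) →
      ∀ u ∈ Submodule.span F (Set.range g), T u ∈ Submodule.span F (Set.range g) := fun {l} g hg u hu => by
    have : (Submodule.span F (Set.range g)).map T ≤ Submodule.span F (Set.range g) := by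
      rw [Submodule.map_span, Submodule.span_le]
      rintro _ ⟨_, ⟨i, rfl⟩, rfl⟩
      exact hg i
    exact this ⟨u, hu, rfl⟩
  by_cases hc : ∃ a ∈ S, B a (T a) ≠ 0
  · obtain ⟨a, ha, hne⟩ := hc
    obtain ⟨h1, h3⟩ := nd_span hR ![a, T a] (fun c hc => by
      have h0 := hc 0
      have h1 := hc 1
      simp only [Fin.sum_univ_two, Matrix.cons_val_zero, Matrix.cons_val_one, hA a, hA (T a), hsk a (T a), mul_zero,
        zero_add, add_zero, mul_eq_zero, hne, or_false] at h0 h1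
      funext i
      fin_cases i
      · exact h1
      · exact h0)
    refine ⟨_, ?_, hinv _ fun i => ?_, h1, Or.inl h3⟩
    · rw [Submodule.span_le]
      rintro _ ⟨i, rfl⟩
      fin_cases i
      · exact ha
      · exact hS a ha
    · fin_cases i
      · exact Submodule.subset_span ⟨1, rfl⟩
      · show T (T a) ∈ _
        rw [hTT]
        exact Submodule.subset_span ⟨0, rfl⟩
  push Not at hc
  by_cases hfix : ∀ a ∈ S, T a = a
  · obtain ⟨W, hW, hWnd, hWf⟩ := exists_plane hA hnd hS0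
    exact ⟨W, hW, fun u hu => by rw [hfix u (hW hu)]; exact hu, hWnd, Or.inl hWf⟩
  push Not at hfix
  obtain ⟨a, ha, hne⟩ := hfix
  have ha0 : a ≠ 0 := fun h => hne (by rw [h, map_zero])
  obtain ⟨y₀, hy₀, hy₀'⟩ := hnd' a ha ha0
  obtain ⟨y, hy, hay⟩ : ∃ y ∈ S, B a y = 1 :=
    ⟨_, S.smul_mem (B a y₀)⁻¹ hy₀, by rw [map_smul, smul_eq_mul, inv_mul_cancel₀ hy₀']⟩
  have hu0 : T a - B (T a) y • a ≠ 0 := fun h => by
    rw [sub_eq_zero] at h
    obtain ⟨c, hc'⟩ : ∃ c, c = B (T a) y := ⟨_, rfl⟩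
    rw [← hc'] at h
    have e1 : a = (c * c) • a := by conv_lhs => rw [← hTT a, h, map_smul, h, smul_smul]
    have e3 : c * c = 1 := by
      have e2 : (1 - c * c) • a = 0 := by rw [sub_smul, one_smul, ← e1, sub_self]
      exact (sub_eq_zero.1 ((smul_eq_zero.1 e2).resolve_right ha0)).symm
    have e4 : c = 1 := by
      rcases mul_self_eq_one_iff.1 e3 with h | h
      · exact h
      · linear_combination h - h2
    exact hne (by rw [h, e4, one_smul])
  obtain ⟨z₀, hz₀, hz₀'⟩ := hnd' _ (S.sub_mem (hS a ha) (S.smul_mem _ ha)) hu0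
  obtain ⟨z, hz, hz1⟩ : ∃ z ∈ S, B (T a - B (T a) y • a) z = 1 :=
    ⟨_, S.smul_mem (B (T a - B (T a) y • a) z₀)⁻¹ hz₀, by rw [map_smul, smul_eq_mul, inv_mul_cancel₀ hz₀']⟩
  rw [map_sub, map_smul, LinearMap.sub_apply, LinearMap.smul_apply, smul_eq_mul] at hz1
  obtain ⟨b, hb⟩ : ∃ b, b = y - B (T a) y • (z - B a z • y) := ⟨_, rfl⟩
  have hbS : b ∈ S := hb ▸ S.sub_mem hy (S.smul_mem _ (S.sub_mem hz (S.smul_mem _ hy)))
  have hab : B a b = 1 := by
    simp only [hb, map_sub, map_smul, smul_eq_mul, hay]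
    ring
  have hTab : B (T a) b = 0 := by
    simp only [hb, map_sub, map_smul, smul_eq_mul]
    linear_combination (-(B (T a) y)) * hz1
  have e1 : B a (T b) = 0 := by rw [← hI, hTT, hTab]
  have e2 : B (T a) (T b) = 1 := by rw [hI, hab]
  obtain ⟨h1, h3⟩ := nd_span hR ![a, T a, b, T b] (fun c hc' => by
    have h0 := hc' 0
    have h1 := hc' 1
    have h2' := hc' 2
    have h3 := hc' 3
    simp [Fin.sum_univ_four, hA a, hA b, hA (T a), hA (T b), hc a ha, hc b hbS, hab, hTab, e1, e2, hsk a (T a),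
      hsk b (T b), hsk a b, hsk (T a) b, hsk a (T b), hsk (T a) (T b)] at h0 h1 h2' h3
    funext i
    fin_cases i
    · exact h2'
    · exact h3
    · exact h0
    · exact h1)
  refine ⟨_, ?_, hinv _ fun i => ?_, h1, Or.inr h3⟩
  · rw [Submodule.span_le]
    rintro _ ⟨i, rfl⟩
    fin_cases i
    · exact ha
    · exact hS a ha
    · exact hbS
    · exact hS b hbS
  · fin_cases i
    · exact Submodule.subset_span ⟨1, rfl⟩
    · show T (T a) ∈ _
      rw [hTT]
      exact Submodule.subset_span ⟨0, rfl⟩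
    · exact Submodule.subset_span ⟨3, rfl⟩
    · show T (T b) ∈ _
      rw [hTT]
      exact Submodule.subset_span ⟨2, rfl⟩

/-- characteristic two: invariant nondegenerate subspaces of given dimension -/
theorem exists_invol_sub (h2 : (2 : F) = 0) (hA : B.IsAlt) (hN : B.Nondegenerate) (T : V →ₗ[F] V) (hI : ∀ u v, B (T u) (T v) = B u v)
    (hTT : ∀ u, T (T u) = u) (n : ℕ) : ∀ (S : Submodule F V), (∀ u ∈ S, T u ∈ S) → Disjoint S (B.orthogonal S) →
      Module.finrank F S = n → ∀ m, Even m → m ≤ n → (n % 4 = 2 ∨ m % 4 = 0) →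
      ∃ W ≤ S, (∀ u ∈ W, T u ∈ W) ∧ Disjoint W (B.orthogonal W) ∧ Module.finrank F W = m := by
  induction n using Nat.strong_induction_on with
  | _ n ih =>
  intro S hS hnd hn m hme hmn hmod
  have hR := hA.isRefl
  rcases Nat.eq_zero_or_pos m with rfl | hm0
  · exact ⟨⊥, bot_le, fun u hu => by rw [(Submodule.mem_bot F).1 hu, map_zero]; exact zero_mem _, disjoint_bot_left, finrank_bot F V⟩
  rcases eq_or_lt_of_le hmn with rfl | hlt
  · exact ⟨S, le_rfl, hS, hnd, hn⟩
  have hSe := even_of_nd hA hnd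
  rw [hn] at hSe
  obtain ⟨W₀, hW₀S, hW₀, hW₀nd, hW₀f⟩ := exists_invol_piece h2 hA T hI hTT hS hnd (fun h => by
    rw [h, finrank_bot] at hn; omega)
  have hinj : Function.Injective T := fun u v h => by rw [← hTT u, h, hTT]
  obtain ⟨O, hO⟩ : ∃ O, O = S ⊓ B.orthogonal W₀ := ⟨_, rfl⟩
  have hOi : ∀ u ∈ O, T u ∈ O := fun u hu => by
    rw [hO] at hu ⊢
    exact ⟨hS u hu.1, orth_invariant hR hI hinj hW₀ u hu.2⟩
  have hsup : W₀ ⊔ O = S := by
    refine le_antisymm (sup_le hW₀S (hO ▸ inf_le_left)) fun u hu => ?_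
    obtain ⟨w, hw, o, ho, rfl⟩ := Submodule.mem_sup.1 ((isCompl_orth hR hW₀nd).sup_eq_top.ge (Submodule.mem_top (x := u)))
    refine Submodule.add_mem_sup hw (hO ▸ ⟨?_, ho⟩)
    have h := S.sub_mem hu (hW₀S hw)
    rwa [add_sub_cancel_left] at h
  have hOle : O ≤ B.orthogonal W₀ := hO ▸ inf_le_right
  have hOnd : Disjoint O (B.orthogonal O) := by
    rw [Submodule.disjoint_def]
    intro u hu ho
    refine Submodule.disjoint_def.1 hnd u (hsup ▸ Submodule.mem_sup_right hu) fun x hx => ?_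
    obtain ⟨w, hw, o, ho', rfl⟩ := Submodule.mem_sup.1 (hsup.ge hx)
    show B (w + o) u = 0
    rw [map_add, LinearMap.add_apply, hOle hu w hw, ho o ho', add_zero]
  have hfin : Module.finrank F W₀ + Module.finrank F O = n := by rw [← finrank_sup_orth hW₀nd hOle, hsup, hn]
  have hinO : m ≤ Module.finrank F O → (Module.finrank F O % 4 = 2 ∨ m % 4 = 0) →
      ∃ W ≤ S, (∀ u ∈ W, T u ∈ W) ∧ Disjoint W (B.orthogonal W) ∧ Module.finrank F W = m := fun h1 h3 => by
    obtain ⟨W, hW, h⟩ := ih _ (by omega) O hOi hOnd rfl m hme h1 h3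
    exact ⟨W, hW.trans (hsup ▸ le_sup_right), h⟩
  have hwith : Module.finrank F W₀ ≤ m →
      (Module.finrank F O % 4 = 2 ∨ (m - Module.finrank F W₀) % 4 = 0) →
      ∃ W ≤ S, (∀ u ∈ W, T u ∈ W) ∧ Disjoint W (B.orthogonal W) ∧ Module.finrank F W = m := fun h1 h3 => by
    obtain ⟨W, hW, hWi, hWnd, hWd⟩ := ih _ (by clear hinO; omega) O hOi hOnd rfl (m - Module.finrank F W₀)
      ((Nat.even_sub h1).2 (iff_of_true hme (even_of_nd hA hW₀nd))) (by clear hinO; omega) h3
    refine ⟨W₀ ⊔ W, sup_le hW₀S (hW.trans (hsup ▸ le_sup_right)), fun u hu => ?_, sup_nd hR hW₀nd hWnd (hW.trans hOle), ?_⟩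
    · obtain ⟨a, ha, b, hb, rfl⟩ := Submodule.mem_sup.1 hu
      rw [map_add]
      exact Submodule.add_mem_sup (hW₀ a ha) (hWi b hb)
    · rw [finrank_sup_orth hW₀nd (hW.trans hOle), hWd]; omega
  obtain ⟨m', hm'⟩ := hme
  obtain ⟨n', hn'⟩ := hSe
  rcases hW₀f with h | h
  · by_cases hc : Module.finrank F O % 4 = 2 ∨ m % 4 = 0
    · exact hinO (by clear hinO hwith; omega) hc
    · exact hwith (by clear hinO hwith; omega) (by clear hinO hwith; omega)
  · rcases le_or_gt m (Module.finrank F O) with h1 | h1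
    · exact hinO h1 (by clear hinO hwith; omega)
    · exact hwith (by clear hinO hwith; omega) (by clear hinO hwith; omega)

end Form

variable {F : Type*} [Field F] [Fintype F] {p : ℕ} [Fact p.Prime] [CharP F p]

/-- symplectic unipotent elements with given blocks -/
theorem exists_symp_jordan (h2 : (2 : F) ≠ 0) {d : ℕ} {μ : Multiset ℕ} (hμ : ∀ a ∈ μ, 0 < a ∧ a ≤ p)
    (hev : ∀ a, Odd a → Even (μ.count a)) (hsum : μ.sum = 2 * d) (hne : ∃ a ∈ μ, a ≠ 1) :
    ∃ x : Matrix.symplecticGroup (Fin d) F, (x : Matrix (Fin d ⊕ Fin d) (Fin d ⊕ Fin d) F) ^ p = 1 ∧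
      (x : Matrix (Fin d ⊕ Fin d) (Fin d ⊕ Fin d) F) ≠ 1 ∧
      ∀ W : Submodule F (Fin d ⊕ Fin d → F), (∀ u ∈ W, ∃ v ∈ W, u ≠ 0 → Cfsg.sympForm d F u v ≠ 0) →
        W.map (Matrix.toLin' (x : Matrix (Fin d ⊕ Fin d) (Fin d ⊕ Fin d) F)) ≤ W →
        ∃ ν : Multiset ℕ, ν ≤ μ ∧ ν.sum = Module.finrank F W ∧ ∀ a, Odd a → Even (ν.count a) := by
  classical
  obtain ⟨P, S₀, rfl, hS₀⟩ := split_multiset μ
  obtain ⟨a, ha⟩ : ∃ a : List ℕ, (a : Multiset ℕ) = P := ⟨P.toList, P.coe_toList⟩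
  obtain ⟨b, hb⟩ : ∃ b : List ℕ, (b : Multiset ℕ) = S₀ := ⟨S₀.toList, S₀.coe_toList⟩
  have hSe : ∀ x ∈ S₀, Even x := fun x hx =>
    Nat.not_odd_iff_even.1 fun h => Nat.not_even_iff_odd.2 (hS₀ x hx) (hev x h)
  obtain ⟨e, he0⟩ : ∃ e : (Fin a.length ⊕ Fin a.length) ⊕ Fin b.length → ℕ,
      e = Sum.elim (Sum.elim a.get a.get) b.get := ⟨_, rfl⟩
  obtain ⟨π, hπ0⟩ : ∃ π : (Fin a.length ⊕ Fin a.length) ⊕ Fin b.length → (Fin a.length ⊕ Fin a.length) ⊕ Fin b.length,
      π = Sum.map Sum.swap id := ⟨_, rfl⟩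
  obtain ⟨c, hc0⟩ : ∃ c : (Fin a.length ⊕ Fin a.length) ⊕ Fin b.length → F,
      c = Sum.elim (Sum.elim (fun _ => 1) (fun i => -(-1) ^ (a.get i - 1))) (fun _ => 1) := ⟨_, rfl⟩
  have hπ : ∀ x, π (π x) = x := fun x => by subst hπ0; rcases x with (x | x) | x <;> rfl
  have he : ∀ x, e (π x) = e x := fun x => by subst he0; subst hπ0; rcases x with (x | x) | x <;> rfl
  have hsq : ∀ n : ℕ, ((-1 : F) ^ n) * (-1) ^ n = 1 := fun n => by rw [← mul_pow, neg_one_mul, neg_neg, one_pow]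
  have hcs : ∀ x, c (π x) * (-1) ^ (e x - 1) = (-1) * c x := fun x => by
    subst he0; subst hπ0; subst hc0
    rcases x with (x | x) | x
    · simp [hsq]
    · simp
    · obtain ⟨w, hw⟩ := hSe (b.get x) (hb ▸ List.get_mem b x)
      have h1 := hμ (b.get x) (Multiset.mem_add.2 (Or.inr (hb ▸ List.get_mem b x)))
      simp only [Sum.map_inr, id_eq, Sum.elim_inr, one_mul, mul_one]
      exact Odd.neg_one_pow ⟨w - 1, by omega⟩
  have hcnt : ∀ y : ℕ, (P + P + S₀).count y = ∑ x, if e x = y then 1 else 0 := fun y => by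
    subst he0
    have hl : ∀ l : List ℕ, (l : Multiset ℕ).count y = ∑ i : Fin l.length, if l.get i = y then 1 else 0 := fun l => by
      conv_lhs => rw [← List.ofFn_get l, ← Fin.univ_val_map, Multiset.count_map]
      rw [← Finset.filter_val, ← Finset.card_def, Finset.card_filter]
      exact Finset.sum_congr rfl fun i _ => by simp [eq_comm]
    rw [Multiset.count_add, Multiset.count_add, ← ha, ← hb, hl, hl, Fintype.sum_sum_type, Fintype.sum_sum_type]
    rfl
  have hmemμ : ∀ x, e x ∈ P + P + S₀ := fun x => Multiset.count_pos.1 (by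
    rw [hcnt]
    exact lt_of_lt_of_le (by rw [if_pos rfl]; exact one_pos)
      (Finset.single_le_sum (f := fun y => if e y = e x then 1 else 0) (fun i _ => Nat.zero_le _) (Finset.mem_univ x)))
  have hep : ∀ x, e x ≤ p := fun x => (hμ _ (hmemμ x)).2
  obtain ⟨T, -, hT, -, hTp, -, hTk, hTm⟩ := exists_block_isometry_mul e π c he hπ hep h2 (δ := fun _ => (0 : F)) (θ := 0)
    (fun x => by ring)
  have hsym : ∀ u v, blockForm e π c he u v = (-1) * blockForm e π c he v u := blockForm_symm e π c he hπ hcs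
  have hN := blockForm_nondeg e π c he hπ (fun x => by
    subst hc0; rcases x with (x | x) | x <;> simp)
  have hA : (blockForm e π c he).IsAlt := fun u => (mul_eq_zero.1
    (show (2 : F) * blockForm e π c he u u = 0 by linear_combination hsym u u)).resolve_left h2
  have hdim : Module.finrank F (BlockIdx e → F) = 2 * d := by
    rw [Module.finrank_fintype_fun_eq_card, Fintype.card_sigma, ← hsum]
    simp only [Fintype.card_fin, he0, Fintype.sum_sum_type, Sum.elim_inl, Sum.elim_inr, Multiset.sum_add, ← ha, ← hb,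
      Multiset.sum_coe]
    rw [← List.sum_ofFn, ← List.sum_ofFn, List.ofFn_get, List.ofFn_get]
  obtain ⟨g, φ, hgφ, hφ⟩ := exists_symp_model (blockForm e π c he) hA hN.1 hdim T hT
  have hTp' : ∀ j u, (Matrix.toLin' (g : Matrix (Fin d ⊕ Fin d) (Fin d ⊕ Fin d) F) ^ j) (φ u) = φ ((T ^ j) u) := fun j => by
    induction j with
    | zero => intro u; simp
    | succ j ih => intro u; rw [pow_succ', Module.End.mul_apply, ih, hgφ, pow_succ', Module.End.mul_apply]
  refine ⟨g, ?_, ?_, fun W hW hWm => ?_⟩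
  · refine (Matrix.toLin' (R := F)).injective (LinearMap.ext fun v => ?_)
    obtain ⟨u, rfl⟩ := φ.surjective v
    rw [Matrix.toLin'_pow, hTp', hTp, Matrix.toLin'_one]
    rfl
  · intro h1
    have hT1 : T = 1 := LinearMap.ext fun u => φ.injective (by
      rw [← hgφ, h1, Matrix.toLin'_one]; rfl)
    obtain ⟨x, hx, hx1⟩ := hne
    have h0 : ∀ k, 1 ≤ k → powRank (T - 1) ⊤ k = 0 := fun k hk => by
      rw [powRank, hT1, sub_self, zero_pow (by omega), Submodule.map_zero, finrank_bot]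
    have := (hμ x hx).1
    have hpos := Multiset.count_pos.2 hx
    rw [hcnt x] at hpos
    have hm := hTm (x - 1)
    rw [Nat.sub_add_cancel this, blockMult, h0 (x - 1) (by omega), h0 (x - 1 + 2) (by omega)] at hm
    omega
  · obtain ⟨W', hW'⟩ : ∃ W', W' = W.comap φ.toLinearMap := ⟨_, rfl⟩
    have hmem : ∀ u, u ∈ W' ↔ φ u ∈ W := fun u => by rw [hW']; rfl
    obtain ⟨ν, h1, h3, h4⟩ := exists_sub_partition (ε := -1) hsym h2 hN T hT (hTk p hep) (bad := fun a => Odd a)
      (fun a ha h1 => by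
        obtain ⟨w, hw⟩ := ha
        rw [Even.neg_one_pow ⟨w, by omega⟩, mul_one])
      (μ := P + P + S₀) (fun a h1 _ => by rw [hTm, hcnt, Nat.sub_add_cancel h1]) (W := W')
      (fun u hu => by rw [hmem, ← hgφ]; exact hWm ⟨φ u, (hmem u).1 hu, rfl⟩)
      (fun u hu hu0 => by
        obtain ⟨y, hy, hne'⟩ := hW (φ u) ((hmem u).1 hu)
        obtain ⟨v, rfl⟩ := φ.surjective y
        refine ⟨v, (hmem v).2 hy, ?_⟩
        rw [← hφ]
        exact hne' fun h => hu0 (φ.map_eq_zero_iff.1 h))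
    refine ⟨ν, h1, h3.trans ?_, h4⟩
    rw [← LinearEquiv.finrank_map_eq φ W', hW', Submodule.map_comap_eq_of_surjective φ.surjective]

/-- characteristic two, `4 ∣ n`: an involution whose invariant nondegenerate subspaces have dimension divisible by 4 -/
theorem exists_invol_derange (h2 : (2 : F) = 0) {d : ℕ} (hd : Even d) (hd0 : 0 < d) :
    ∃ x : Matrix.symplecticGroup (Fin d) F, (x : Matrix (Fin d ⊕ Fin d) (Fin d ⊕ Fin d) F) ^ 2 = 1 ∧
      (∀ z : F, (x : Matrix (Fin d ⊕ Fin d) (Fin d ⊕ Fin d) F) ≠ z • 1) ∧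
      ∀ W : Submodule F (Fin d ⊕ Fin d → F), (∀ u ∈ W, ∃ v ∈ W, u ≠ 0 → Cfsg.sympForm d F u v ≠ 0) →
        W.map (Matrix.toLin' (x : Matrix (Fin d ⊕ Fin d) (Fin d ⊕ Fin d) F)) ≤ W → Module.finrank F W % 4 = 0 := by
  classical
  obtain ⟨S, hS⟩ : ∃ S : Matrix (Fin d) (Fin d) F, S = Matrix.of fun i j => if j = Fin.rev i then 1 else 0 := ⟨_, rfl⟩
  have hSs : Sᵀ = S := by
    rw [hS]; ext i j
    simp only [Matrix.transpose_apply, Matrix.of_apply]
    exact if_congr ⟨fun h => by rw [h, Fin.rev_rev], fun h => by rw [h, Fin.rev_rev]⟩ rfl rfl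
  have hSv : ∀ (w : Fin d → F) i, (S *ᵥ w) i = w (Fin.rev i) := fun w i => by
    simp [hS, Matrix.mulVec, dotProduct]
  have hneg : ∀ a : F, -a = a := fun a => by linear_combination (-a) * h2
  obtain ⟨X, hX⟩ : ∃ X : Matrix (Fin d ⊕ Fin d) (Fin d ⊕ Fin d) F, X = Matrix.fromBlocks 1 S 0 1 := ⟨_, rfl⟩
  have hmem : X ∈ Matrix.symplecticGroup (Fin d) F := by
    rw [SymplecticGroup.mem_iff, hX, Matrix.J, Matrix.fromBlocks_transpose, Matrix.fromBlocks_multiply,
      Matrix.fromBlocks_multiply, hSs]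
    simp
  obtain ⟨N, hN⟩ : ∃ N : Module.End F (Fin d ⊕ Fin d → F), N = Matrix.toLin' X - 1 := ⟨_, rfl⟩
  have hNv : ∀ v, N v = Sum.elim (fun i => v (Sum.inr (Fin.rev i))) 0 := fun v => by
    funext x
    rw [hN, LinearMap.sub_apply, Module.End.one_apply, Matrix.toLin'_apply, hX, Matrix.fromBlocks_mulVec]
    rcases x with i | i
    · simp [hSv]
    · simp
  have hNN : ∀ v, N (N v) = 0 := fun v => by
    rw [hNv, hNv]; funext x; rcases x with i | i <;> simp
  have hker : ∀ v, N v = 0 → v = N (Sum.elim 0 fun i => v (Sum.inl (Fin.rev i))) := fun v hv => by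
    rw [hNv]
    funext x
    rcases x with i | i
    · simp
    · have h := congrFun hv (Sum.inl (Fin.rev i))
      rw [hNv] at h
      simpa using h
  have hNalt : ∀ v, CfsgLib.Classical.SympCount.sB d F (N v) v = 0 := fun v => by
    show Cfsg.sympForm d F (N v) v = 0
    rw [Cfsg.sympForm, Matrix.J, Matrix.fromBlocks_mulVec, hNv, dotProduct, Fintype.sum_sum_type]
    simp only [Sum.elim_inl, Sum.elim_inr, Pi.zero_apply, zero_mul, Finset.sum_const_zero, add_zero, Function.comp,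
      Matrix.zero_mulVec, Matrix.neg_mulVec, Matrix.one_mulVec, zero_add, Pi.neg_apply, Pi.add_apply, mul_neg,
      Finset.sum_neg_distrib, neg_eq_zero]
    refine Finset.sum_involution (fun i _ => Fin.rev i) (fun i _ => ?_) (fun i _ _ h => ?_) (fun i _ => Finset.mem_univ _)
      (fun i _ => Fin.rev_rev i)
    · rw [Fin.rev_rev]
      linear_combination (v (Sum.inr (Fin.rev i)) * v (Sum.inr i)) * h2
    · have hv := congrArg Fin.val h
      rw [Fin.val_rev] at hv
      obtain ⟨w, hw⟩ := hd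
      omega
  refine ⟨⟨X, hmem⟩, ?_, fun z hz => ?_, fun W hW hWm => ?_⟩
  · show X ^ 2 = 1
    refine (Matrix.toLin' (R := F)).injective ?_
    rw [Matrix.toLin'_pow, Matrix.toLin'_one, show Matrix.toLin' X = 1 + N by rw [hN, add_sub_cancel]]
    refine LinearMap.ext fun v => ?_
    simp only [sq, Module.End.mul_apply, LinearMap.add_apply, Module.End.one_apply, map_add, hNN, add_zero,
      LinearMap.id_apply]
    rw [add_assoc, ← two_smul F (N v), h2, zero_smul, add_zero]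
  · have h := congrFun (congrFun hz (Sum.inl ⟨0, hd0⟩)) (Sum.inr (Fin.rev ⟨0, hd0⟩))
    simp [hX, hS] at h
  · obtain ⟨B, hB⟩ : ∃ B, B = CfsgLib.Classical.SympCount.sB d F := ⟨_, rfl⟩
    rw [← hB] at hNalt
    have hA : B.IsAlt := hB ▸ CfsgLib.Classical.SympCount.sB_isAlt
    have hR := hA.isRefl
    have hnd : Disjoint W (B.orthogonal W) := (disjoint_orth_iff hR W).2 fun u hu hu0 => by
      obtain ⟨v, hv, h⟩ := hW u hu
      exact ⟨v, hv, hB ▸ h hu0⟩
    have hNW : ∀ u ∈ W, N u ∈ W := fun u hu => by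
      rw [hN]
      exact W.sub_mem (hWm ⟨u, hu, rfl⟩) hu
    have hI : ∀ u v, B (Matrix.toLin' X u) (Matrix.toLin' X v) = B u v := fun u v => by
      rw [Matrix.toLin'_apply, Matrix.toLin'_apply, hB]
      exact CfsgLib.Sp.sf_sp ⟨X, hmem⟩ u v
    have hinj : Function.Injective (Matrix.toLin' X) := fun u v h => sub_eq_zero.1
      (CfsgLib.Classical.SympCount.sB_nondegenerate.1 _ fun w => by
        rw [← hB, ← hI, map_sub, h, sub_self, map_zero, LinearMap.zero_apply])
    have hNO : ∀ u ∈ B.orthogonal W, N u ∈ B.orthogonal W := fun u hu => by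
      rw [hN]
      exact Submodule.sub_mem _ (orth_invariant hR hI hinj (fun a ha => hWm ⟨a, ha, rfl⟩) u hu) hu
    obtain ⟨K, hK⟩ : ∃ K, K = LinearMap.ker (N.restrict hNW) := ⟨_, rfl⟩
    have hKr : LinearMap.range (N.restrict hNW) = K := by
      refine le_antisymm ?_ fun u hu => ?_
      · rintro _ ⟨u, rfl⟩
        rw [hK, LinearMap.mem_ker]
        exact Subtype.ext (hNN u)
      · rw [hK, LinearMap.mem_ker] at hu
        have hu' : N (u : Fin d ⊕ Fin d → F) = 0 := congrArg Subtype.val hu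
        obtain ⟨v, hv⟩ : ∃ v, (u : Fin d ⊕ Fin d → F) = N v := ⟨_, hker _ hu'⟩
        obtain ⟨w, hw, w', hw', rfl⟩ :=
          Submodule.mem_sup.1 ((isCompl_orth hR hnd).sup_eq_top.ge (Submodule.mem_top (x := v)))
        refine ⟨⟨w, hw⟩, Subtype.ext ?_⟩
        show N w = (u : Fin d ⊕ Fin d → F)
        rw [map_add] at hv
        have h0 : N w' = 0 := Submodule.disjoint_def.1 hnd _ (by
          rw [show N w' = (u : Fin d ⊕ Fin d → F) - N w by rw [hv]; abel]
          exact W.sub_mem u.2 (hNW w hw)) (hNO w' hw')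
        rw [hv, h0, add_zero]
    have hdim := LinearMap.finrank_range_add_finrank_ker (N.restrict hNW)
    rw [hKr, ← hK] at hdim
    obtain ⟨C, hC⟩ := Submodule.exists_isCompl K
    obtain ⟨G, hG⟩ : ∃ G : LinearMap.BilinForm F W, ∀ u v : W, G u v = B (N (u : Fin d ⊕ Fin d → F)) v :=
      ⟨B.compl₁₂ (N.comp W.subtype) W.subtype, fun u v => rfl⟩
    have hGA : G.IsAlt := fun u => by rw [hG]; exact hNalt u
    have hCnd : Disjoint C (G.orthogonal C) := by
      rw [Submodule.disjoint_def]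
      intro u hu ho
      refine Submodule.disjoint_def.1 hC.disjoint u ?_ hu
      rw [hK, LinearMap.mem_ker]
      refine Subtype.ext (Submodule.disjoint_def.1 hnd _ (hNW u u.2) fun x hx => hR _ _ ?_)
      obtain ⟨k, hk, c, hc, hkc⟩ := Submodule.mem_sup.1 (hC.sup_eq_top.ge (Submodule.mem_top (x := (⟨x, hx⟩ : W))))
      have h1 : G u k = 0 := hGA.isRefl k u (by
        rw [hG, show N (k : Fin d ⊕ Fin d → F) = 0 from congrArg Subtype.val (LinearMap.mem_ker.1 (hK.le hk)), map_zero,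
          LinearMap.zero_apply])
      have h3 : G u ⟨x, hx⟩ = 0 := by rw [← hkc, map_add, h1, hGA.isRefl c u (ho c hc), add_zero]
      rwa [hG] at h3
    obtain ⟨w, hw⟩ := even_of_nd hGA hCnd
    have := Submodule.finrank_add_eq_of_isCompl hC
    omega

open CfsgLib.Classical in
/-- nondegenerate subspaces below the residue: their number is prime to `r` -/
theorem not_dvd_card_nd {r : ℕ} [Fact r.Prime] (hrp : r ≠ p) {c : ℕ}
    (hc : c = if Even (orderOf ((Fintype.card F : ℕ) : ZMod r)) then orderOf ((Fintype.card F : ℕ) : ZMod r)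
      else 2 * orderOf ((Fintype.card F : ℕ) : ZMod r))
    {d k : ℕ} (hk : 2 * k ≤ (2 * d) % c) :
    ¬ r ∣ Nat.card {W : Submodule F (Fin d ⊕ Fin d → F) //
      Module.finrank F W = 2 * k ∧ (∀ u ∈ W, u ≠ 0 → ∃ v ∈ W, Cfsg.sympForm d F u v ≠ 0)} := by
  classical
  intro hdvd
  obtain ⟨X, hX⟩ : ∃ X : Set (Submodule F (Fin d ⊕ Fin d → F)), ∀ W, W ∈ X ↔ (Module.finrank F W = 2 * k ∧
      (∀ u ∈ W, u ≠ 0 → ∃ v ∈ W, Cfsg.sympForm d F u v ≠ 0)) := ⟨{W | _}, fun W => Iff.rfl⟩
  rw [← Nat.card_congr (Equiv.subtypeEquivRight hX)] at hdvd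
  have hkd : k ≤ d := by have := Nat.mod_le (2 * d) c; omega
  have hA : (SympCount.sB d F).IsAlt := SympCount.sB_isAlt
  have hR := hA.isRefl
  obtain ⟨W₀, hW₀⟩ : ∃ W₀, W₀ ∈ X := by
    have hV : Module.finrank F (Fin d ⊕ Fin d → F) = 2 * d := by
      rw [Module.finrank_fintype_fun_eq_card, Fintype.card_sum, Fintype.card_fin]; omega
    obtain ⟨e, he, hex⟩ := block_chain (c := 2) hR (T := LinearMap.id) (fun u v => rfl) Function.injective_id two_pos
      (S₀ := ⊤) (fun S _ _ hnd h0 => by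
        obtain ⟨W, hW, hWnd, hWf⟩ := exists_plane hA hnd h0
        exact ⟨W, hW, fun u hu => hu, hWnd, hWf⟩) (le_refl ⊤) (fun u hu => hu) (by
        rw [LinearMap.BilinForm.orthogonal_top_eq_bot SympCount.sB_nondegenerate]; exact disjoint_bot_right)
    rw [finrank_top, hV] at he
    obtain ⟨W, -, -, hWnd, hWf⟩ := hex k (by omega)
    exact ⟨W, (hX W).2 ⟨by omega, (disjoint_orth_iff hR W).1 hWnd⟩⟩
  letI : MulAction (Matrix.symplecticGroup (Fin d) F) (Submodule F (Fin d ⊕ Fin d → F)) :=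
    { smul := fun g W => W.map (Matrix.toLin' (g : Matrix (Fin d ⊕ Fin d) (Fin d ⊕ Fin d) F))
      one_smul := fun W => by
        show W.map (Matrix.toLin' 1) = W
        rw [Matrix.toLin'_one, Submodule.map_id]
      mul_smul := fun g h W => by
        show W.map (Matrix.toLin' ((g : Matrix (Fin d ⊕ Fin d) (Fin d ⊕ Fin d) F) * (h : Matrix (Fin d ⊕ Fin d) (Fin d ⊕ Fin d) F))) = _
        rw [Matrix.toLin'_mul, Submodule.map_comp]
        rfl }
  have hsmul : ∀ (g : Matrix.symplecticGroup (Fin d) F) (W : Submodule F (Fin d ⊕ Fin d → F)),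
      g • W = W.map (Matrix.toLin' (g : Matrix (Fin d ⊕ Fin d) (Fin d ⊕ Fin d) F)) := fun g W => rfl
  have hinj : ∀ g : Matrix.symplecticGroup (Fin d) F,
      Function.Injective (Matrix.toLin' (g : Matrix (Fin d ⊕ Fin d) (Fin d ⊕ Fin d) F)) := fun g u v h => by
    rw [← CfsgLib.Sp.sp_inv_mulVec g u, ← Matrix.toLin'_apply (g : Matrix (Fin d ⊕ Fin d) (Fin d ⊕ Fin d) F) u, h,
      Matrix.toLin'_apply, CfsgLib.Sp.sp_inv_mulVec]
  have hbasis : ∀ W ∈ X, ∃ b : Module.Basis (Fin k ⊕ Fin k) F W, ∀ i j,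
      CfsgLib.Sp.sf (b i : Fin d ⊕ Fin d → F) (b j) = Matrix.J (Fin k) F i j := fun W hW => by
    obtain ⟨b, hb⟩ := SympSplit.exists_basis_J ((SympCount.sB d F).restrict W) (fun u => hA (u : Fin d ⊕ Fin d → F))
      (fun u hu => by
        by_contra hu0
        obtain ⟨v, hv, huv⟩ := ((hX W).1 hW).2 u u.2 (fun h => hu0 (Subtype.ext h))
        exact huv (hu ⟨v, hv⟩)) ((hX W).1 hW).1
    exact ⟨b, hb⟩
  have horb : MulAction.orbit (Matrix.symplecticGroup (Fin d) F) W₀ = X := by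
    ext W
    constructor
    · rintro ⟨g, rfl⟩
      refine (hX _).2 ⟨?_, ?_⟩
      · show Module.finrank F (W₀.map _) = 2 * k
        rw [← (Submodule.equivMapOfInjective _ (hinj g) W₀).finrank_eq, ((hX _).1 hW₀).1]
      · show ∀ u ∈ W₀.map _, u ≠ 0 → _
        rintro _ ⟨u, hu, rfl⟩ hu0
        obtain ⟨v, hv, huv⟩ := ((hX _).1 hW₀).2 u hu (fun h => hu0 (by rw [h, map_zero]))
        refine ⟨_, ⟨v, hv, rfl⟩, ?_⟩
        rw [Matrix.toLin'_apply, Matrix.toLin'_apply]
        exact fun h => huv ((CfsgLib.Sp.sf_sp g u v).symm.trans h)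
    · intro hW
      obtain ⟨b, hb⟩ := hbasis W₀ hW₀
      obtain ⟨b', hb'⟩ := hbasis W hW
      obtain ⟨A, hA'⟩ := SympCount.exists_move_tuple (b.linearIndependent.map' W₀.subtype W₀.ker_subtype)
        (b'.linearIndependent.map' W.subtype W.ker_subtype) (fun i j => (hb i j).trans (hb' i j).symm)
      refine ⟨A, ?_⟩
      show W₀.map _ = W
      refine Submodule.eq_of_le_of_finrank_eq ?_ ?_
      · rintro _ ⟨u, hu, rfl⟩
        have h : (⟨u, hu⟩ : W₀) ∈ Submodule.span F (Set.range b) := b.span_eq ▸ Submodule.mem_top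
        have hle : Submodule.span F (Set.range b) ≤
            W.comap ((Matrix.toLin' (A : Matrix (Fin d ⊕ Fin d) (Fin d ⊕ Fin d) F)).comp W₀.subtype) := by
          rw [Submodule.span_le]
          rintro _ ⟨i, rfl⟩
          show Matrix.toLin' (A : Matrix (Fin d ⊕ Fin d) (Fin d ⊕ Fin d) F) (b i : Fin d ⊕ Fin d → F) ∈ W
          have h' : (A : Matrix (Fin d ⊕ Fin d) (Fin d ⊕ Fin d) F) *ᵥ (b i : Fin d ⊕ Fin d → F) = b' i := hA' i
          rw [Matrix.toLin'_apply, h']
          exact (b' i).2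
        exact hle h
      · rw [← (Submodule.equivMapOfInjective _ (hinj A) W₀).finrank_eq, ((hX _).1 hW₀).1, ((hX _).1 hW).1]
  have hst : MulAction.stabilizer (Matrix.symplecticGroup (Fin d) F) W₀ =
      Cfsg.stabilizing (Cfsg.spToMat d F) (W₀ : Set (Fin d ⊕ Fin d → F)) := by
    ext g
    rw [MulAction.mem_stabilizer_iff, hsmul]
    constructor
    · exact fun h => SympCount.mem_stabilizing g _ fun v hv => by
        have h1 : Matrix.toLin' (g : Matrix (Fin d ⊕ Fin d) (Fin d ⊕ Fin d) F) v ∈ W₀ := h.le ⟨v, hv, rfl⟩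
        exact h1
    · intro h
      refine Submodule.eq_of_le_of_finrank_eq ?_ (Submodule.equivMapOfInjective _ (hinj g) W₀).finrank_eq.symm
      rintro _ ⟨u, hu, rfl⟩
      exact (h u).1 hu
  obtain ⟨e⟩ := SympSplit.stab_equiv_prod k hkd W₀ ((hX _).1 hW₀).1 (fun u hu h => by
    by_contra hu0
    obtain ⟨v, hv, huv⟩ := ((hX _).1 hW₀).2 u hu hu0
    exact huv (h v hv))
  have hcard := Nat.card_congr (MulAction.orbitProdStabilizerEquivGroup (Matrix.symplecticGroup (Fin d) F) W₀)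
  rw [Nat.card_prod, horb, hst, Nat.card_congr e.toEquiv, Nat.card_prod] at hcard
  obtain ⟨M₁, hM₁⟩ := LargePrime.card_sp_eq (F := F) d
  obtain ⟨M₂, hM₂⟩ := LargePrime.card_sp_eq (F := F) (d - k)
  obtain ⟨f, hf⟩ : ∃ f : ℕ → ℕ, ∀ i, f i = Fintype.card F ^ (2 * i) - 1 := ⟨_, fun i => rfl⟩
  simp only [← hf] at hM₁ hM₂
  have hdisj : Disjoint (Finset.Icc 1 (d - k)) (Finset.Icc (d - k + 1) d) := Finset.disjoint_left.2 fun i hi hj => by
    rw [Finset.mem_Icc] at hi hj; omega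
  have hun : Finset.Icc 1 d = Finset.Icc 1 (d - k) ∪ Finset.Icc (d - k + 1) d := by
    ext i; simp only [Finset.mem_union, Finset.mem_Icc]; omega
  rw [hM₁, hM₂, hun, Finset.prod_union hdisj] at hcard
  have hP0 : ∏ i ∈ Finset.Icc 1 (d - k), f i ≠ 0 := Finset.prod_ne_zero_iff.2 fun i hi => by
    rw [Finset.mem_Icc] at hi
    rw [hf]
    have : 1 < Fintype.card F ^ (2 * i) := Nat.one_lt_pow (by omega) Fintype.one_lt_card
    omega
  have h1 : r ∣ Fintype.card F ^ M₁ * ∏ i ∈ Finset.Icc (d - k + 1) d, f i := by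
    obtain ⟨X', hX'⟩ := hdvd
    rw [hX'] at hcard
    refine ⟨X' * Nat.card (Matrix.symplecticGroup (Fin k) F) * Fintype.card F ^ M₂, mul_right_cancel₀ hP0 ?_⟩
    linear_combination -hcard
  rcases (Fact.out : r.Prime).dvd_mul.1 h1 with h | h
  · exact card_ne_zero_zmod hrp ((ZMod.natCast_eq_zero_iff _ r).2 ((Fact.out : r.Prime).dvd_of_dvd_pow h))
  · obtain ⟨j, hj, hjd⟩ := ((Fact.out : r.Prime).prime.dvd_finsetProd_iff _).1 h
    rw [Finset.mem_Icc] at hj
    rw [hf, ← (ZMod.natCast_eq_zero_iff _ r), Nat.cast_sub (Nat.one_le_pow _ _ Fintype.card_pos), Nat.cast_one,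
      sub_eq_zero, Nat.cast_pow, ← orderOf_dvd_iff_pow_eq_one] at hjd
    have hcj : c ∣ 2 * j := by
      rw [hc]
      split_ifs with hev
      · exact hjd
      · exact Nat.mul_dvd_mul_left 2 ((Nat.coprime_two_right.2 (Nat.not_even_iff_odd.1 hev)).dvd_of_dvd_mul_left hjd)
    obtain ⟨t, ht⟩ := hcj
    have e1 := Nat.div_add_mod (2 * d) c
    have e2 : t ≤ 2 * d / c := by
      rcases Nat.eq_zero_or_pos c with h0 | h0
      · rw [h0, zero_mul] at ht; omega
      · rw [Nat.le_div_iff_mul_le h0, mul_comm]; omega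
    have e3 := Nat.mul_le_mul_left c e2
    omega

end CfsgLib.Perm.Elusive
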