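import Mathlib

/-!
# Two by two matrices: quadratic relations, commutants, a quaternion frame
-/

set_option autoImplicit false
set_option linter.all false

namespace CfsgLib.Perm.Elusive

open Matrix

variable {F : Type*} [Field F]

theorem quad_two (M : Matrix (Fin 2) (Fin 2) F) : M * M = M.trace • M - M.det • (1 : Matrix (Fin 2) (Fin 2) F) := by
  ext i j
  fin_cases i <;> fin_cases j <;> simp [Matrix.mul_apply, Fin.sum_univ_two, trace_fin_two, det_fin_two] <;> ring

theorem eq_smul_one_of_smul_eq {M : Matrix (Fin 2) (Fin 2) F} {a b : F}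
    (h : a • M = b • (1 : Matrix (Fin 2) (Fin 2) F)) (hM : ∀ c : F, M ≠ c • (1 : Matrix (Fin 2) (Fin 2) F)) :
    a = 0 ∧ b = 0 := by
  have ha : a = 0 := by
    by_contra ha
    exact hM (a⁻¹ * b) (by rw [← smul_smul, ← h, inv_smul_smul₀ ha])
  refine ⟨ha, ?_⟩
  have h0 := congrFun (congrFun h 0) 0
  simpa [ha] using h0.symm

/-- a nonscalar root of `X² − tX + d` has trace `t` and determinant `d` -/
theorem trace_det_of_quad {M : Matrix (Fin 2) (Fin 2) F} {t d : F}
    (h : M * M = t • M - d • (1 : Matrix (Fin 2) (Fin 2) F)) (hM : ∀ c : F, M ≠ c • (1 : Matrix (Fin 2) (Fin 2) F)) :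
    M.trace = t ∧ M.det = d := by
  obtain ⟨h1, h2⟩ := eq_smul_one_of_smul_eq (a := M.trace - t) (b := M.det - d) (by
    have e := (quad_two M).symm.trans h
    rw [sub_smul, sub_smul]
    linear_combination (norm := module) e) hM
  exact ⟨sub_eq_zero.1 h1, sub_eq_zero.1 h2⟩

/-- two matrices commuting with a nonscalar one commute -/
theorem comm_of_comm {y M N : Matrix (Fin 2) (Fin 2) F} (hy : ∀ c : F, y ≠ c • (1 : Matrix (Fin 2) (Fin 2) F))
    (hM : M * y = y * M) (hN : N * y = y * N) : M * N = N * M := by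
  have key : ∀ Z : Matrix (Fin 2) (Fin 2) F, Z * y = y * Z → Z 0 1 * y 1 0 = Z 1 0 * y 0 1 ∧
      Z 0 1 * (y 0 0 - y 1 1) = y 0 1 * (Z 0 0 - Z 1 1) ∧ Z 1 0 * (y 0 0 - y 1 1) = y 1 0 * (Z 0 0 - Z 1 1) :=
    fun Z hZ => by
      have e00 := congrFun (congrFun hZ 0) 0
      have e01 := congrFun (congrFun hZ 0) 1
      have e10 := congrFun (congrFun hZ 1) 0
      simp [Matrix.mul_apply, Fin.sum_univ_two] at e00 e01 e10
      exact ⟨by linear_combination e00, by linear_combination -e01, by linear_combination e10⟩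
  obtain ⟨a1, a2, a3⟩ := key M hM
  obtain ⟨b1, b2, b3⟩ := key N hN
  have hprop : ∀ (u : F), u ≠ 0 → ∀ s s' : F, u * s = u * s' → s = s' := fun u hu s s' h => mul_left_cancel₀ hu h
  obtain ⟨c1, c2, c3⟩ : M 0 1 * N 1 0 = M 1 0 * N 0 1 ∧ M 0 1 * (N 0 0 - N 1 1) = N 0 1 * (M 0 0 - M 1 1) ∧
      M 1 0 * (N 0 0 - N 1 1) = N 1 0 * (M 0 0 - M 1 1) := by
    by_cases h01 : y 0 1 = 0
    · by_cases h10 : y 1 0 = 0
      · have hd : y 0 0 - y 1 1 ≠ 0 := fun hd => hy (y 0 0) (by
          ext i j
          fin_cases i <;> fin_cases j <;> simp [h01, h10]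
          linear_combination -hd)
        simp only [h01, h10, zero_mul, mul_eq_zero, hd, or_false] at a2 a3 b2 b3
        simp [a2, a3, b2, b3]
      · simp only [h01, zero_mul, mul_zero, mul_eq_zero, h10, or_false] at a1 b1
        refine ⟨by simp [a1, b1], by simp [a1, b1], hprop _ h10 _ _ ?_⟩
        linear_combination (N 1 0) * a3 - (M 1 0) * b3
    · refine ⟨hprop _ h01 _ _ ?_, hprop _ h01 _ _ ?_, ?_⟩
      · linear_combination (N 0 1) * a1 - (M 0 1) * b1
      · linear_combination (N 0 1) * a2 - (M 0 1) * b2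
      · by_cases h10 : y 1 0 = 0
        · simp only [h10, mul_zero] at a1 b1
          rw [(mul_eq_zero.1 a1.symm).resolve_right h01, (mul_eq_zero.1 b1.symm).resolve_right h01, zero_mul, zero_mul]
        · apply hprop _ h10
          linear_combination (N 1 0) * a3 - (M 1 0) * b3
  ext i j
  fin_cases i <;> fin_cases j <;> simp [Matrix.mul_apply, Fin.sum_univ_two]
  · linear_combination c1
  · linear_combination -c2
  · linear_combination c3
  · linear_combination -c1

/-- the element of order three permuting a quaternion frame cyclically -/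
theorem quat_cycle {i j : Matrix (Fin 2) (Fin 2) F} (h2 : (2 : F) ≠ 0) (hi : i * i = -1) (hj : j * j = -1)
    (hji : j * i = -(i * j)) :
    let y := (2 : F)⁻¹ • (-1 + i + j + i * j)
    y * i = (i * j) * y ∧ y * j = i * y ∧ y * y = (-1 : F) • y - (1 : F) • 1 := by
  intro y
  have e1 : i * (i * j) = -j := by rw [← mul_assoc, hi, neg_one_mul]
  have e2 : (i * j) * j = -i := by rw [mul_assoc, hj, mul_neg_one]
  have e3 : (i * j) * i = j := by rw [mul_assoc, hji, mul_neg, e1, neg_neg]
  have e4 : j * (i * j) = i := by rw [← mul_assoc, hji, neg_mul, e2, neg_neg]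
  have e5 : (i * j) * (i * j) = -1 := by rw [mul_assoc, e4, hi]
  refine ⟨?_, ?_, ?_⟩ <;>
    simp only [y, smul_mul_assoc, mul_smul_comm, add_mul, mul_add, neg_mul, mul_neg, one_mul, mul_one, hi, hj, hji, e1,
      e2, e3, e4, e5, smul_smul]
  · module
  · module
  · match_scalars <;> field_simp <;> ring

end CfsgLib.Perm.Elusive
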