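import Mathlib
import Cfsg.Agent.Lib.Perm.Elusive.SympPrime
import Cfsg.Agent.Lib.Perm.Elusive.JordanForm

/-!
# Orthogonal decomposition of unipotent isometries into blocks

A unipotent isometry of an `ε`-symmetric form splits off, for the largest block size `k`, either one block (when
`ε (-1)^(k-1) = 1`) or a pair of blocks, on which the form is nondegenerate.
-/

set_option autoImplicit false
set_option linter.all false

namespace CfsgLib.Perm.Elusive

variable {F : Type*} [Field F] {V : Type*} [AddCommGroup V] [Module F V] [FiniteDimensional F V]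

omit [FiniteDimensional F V] in
/-- moving powers of `T - 1` across an isometry -/
theorem isometry_adj {B : LinearMap.BilinForm F V} (T : Module.End F V) (hI : ∀ u v, B (T u) (T v) = B u v) (k : ℕ)
    (u v : V) : B (((T - 1) ^ k) u) ((T ^ k) v) = (-1) ^ k * B u (((T - 1) ^ k) v) := by
  induction k generalizing u v with
  | zero => simp
  | succ k ih =>
    have hstep : ∀ u v, B ((T - 1) u) (T v) = -B u ((T - 1) v) := fun u v => by
      simp only [LinearMap.sub_apply, Module.End.one_apply, map_sub, hI, neg_sub]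
    have hc : (T - 1) * T ^ k = T ^ k * (T - 1) := (((Commute.refl T).pow_right k).sub_left (Commute.one_left _)).eq
    rw [pow_succ' (T - 1), Module.End.mul_apply, pow_succ' T, Module.End.mul_apply, hstep,
      ← Module.End.mul_apply (f := T - 1) (g := T ^ k), hc, Module.End.mul_apply, ih, pow_succ (-1 : F),
      ← Module.End.mul_apply ((T - 1) ^ k), ← pow_succ, ← pow_succ']
    ring

omit [FiniteDimensional F V] in
/-- the last nonzero power kills the isometry -/
theorem isometry_adj_top {B : LinearMap.BilinForm F V} (T : Module.End F V) (hI : ∀ u v, B (T u) (T v) = B u v) {k : ℕ}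
    (hk : (T - 1) ^ (k + 1) = 0) (j : ℕ) (u v : V) : B (((T - 1) ^ k) u) ((T ^ j) v) = B (((T - 1) ^ k) u) v := by
  induction j with
  | zero => simp
  | succ j ih =>
    have hfix : T (((T - 1) ^ k) u) = ((T - 1) ^ k) u := sub_eq_zero.1 (by
      show (T - 1) (((T - 1) ^ k) u) = 0
      rw [← Module.End.mul_apply, ← pow_succ', hk, LinearMap.zero_apply])
    rw [pow_succ', Module.End.mul_apply]
    conv_lhs => rw [← hfix]
    rw [hI, ih]

/-- the span of blocks on which the form is nondegenerate -/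
theorem span_blocks {B : LinearMap.BilinForm F V} (hR : B.IsRefl) (T : Module.End F V)
    (hI : ∀ u v, B (T u) (T v) = B u v) {k l : ℕ} (hk : (T - 1) ^ (k + 1) = 0) (g : Fin l → V)
    (hG : ∀ c : Fin l → F, (∀ b, ∑ a, c a * B (((T - 1) ^ k) (g a)) (g b) = 0) → c = 0) :
    ∃ C : Submodule F V, (∀ u ∈ C, T u ∈ C) ∧ Disjoint C (B.orthogonal C) ∧ Module.finrank F C = l * (k + 1) := by
  classical
  obtain ⟨N, hN⟩ : ∃ N : Module.End F V, N = T - 1 := ⟨_, rfl⟩
  have hzero : ∀ (i j : ℕ) (u w : V), k + 1 ≤ i + j → B ((N ^ i) u) ((N ^ j) w) = 0 := fun i j u w hij => by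
    have h := isometry_adj T hI j ((N ^ i) u) w
    rw [← hN, ← Module.End.mul_apply, ← pow_add, add_comm j i,
      show N ^ (i + j) = 0 from pow_eq_zero_of_le hij (hN ▸ hk), LinearMap.zero_apply, map_zero, LinearMap.zero_apply,
      eq_comm, mul_eq_zero] at h
    exact h.resolve_left (pow_ne_zero _ (neg_ne_zero.2 one_ne_zero))
  have htop : ∀ (i j : ℕ) (u w : V), i + j = k → B ((N ^ i) u) ((N ^ j) w) = (-1) ^ j * B ((N ^ k) u) w := fun i j u w hij => by
    have h := isometry_adj T hI j ((N ^ i) u) w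
    rw [← hN, ← Module.End.mul_apply, ← pow_add, add_comm j i, hij, hN, isometry_adj_top T hI hk, ← hN] at h
    have hs : ((-1 : F) ^ j) * (-1) ^ j = 1 := by rw [← mul_pow, neg_one_mul, neg_neg, one_pow]
    linear_combination (-((-1 : F) ^ j)) * h - B ((N ^ i) u) ((N ^ j) w) * hs
  obtain ⟨Φ, hΦ⟩ : ∃ Φ : (Fin l × Fin (k + 1) → F) →ₗ[F] V, ∀ c, Φ c = ∑ x, c x • (N ^ (x.2 : ℕ)) (g x.1) :=
    ⟨Fintype.linearCombination F fun x : Fin l × Fin (k + 1) => (N ^ (x.2 : ℕ)) (g x.1),
      fun c => Fintype.linearCombination_apply _ _ _⟩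
  have hmem : ∀ (a : Fin l) (i : ℕ), (N ^ i) (g a) ∈ LinearMap.range Φ := fun a i => by
    by_cases hi : i < k + 1
    · refine ⟨Pi.single (a, ⟨i, hi⟩) 1, ?_⟩
      rw [hΦ, Finset.sum_eq_single (a, ⟨i, hi⟩) (fun b _ hb => by rw [Pi.single_eq_of_ne hb, zero_smul])
        (fun h => absurd (Finset.mem_univ _) h), Pi.single_eq_same, one_smul]
    · rw [show N ^ i = 0 from pow_eq_zero_of_le (Nat.le_of_not_lt hi) (hN ▸ hk)]
      exact zero_mem _
  have key : ∀ c, (∀ (b : Fin l) (j : ℕ), B (Φ c) ((N ^ j) (g b)) = 0) → c = 0 := by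
    intro c hc
    have : ∀ (i : ℕ) (hi : i < k + 1) (a : Fin l), c (a, ⟨i, hi⟩) = 0 := by
      intro i
      induction i using Nat.strong_induction_on with
      | _ i ih =>
        intro hi
        refine congrFun (hG (fun a => c (a, ⟨i, hi⟩)) fun b => ?_)
        have h := hc b (k - i)
        rw [hΦ, map_sum, LinearMap.sum_apply, Fintype.sum_prod_type, Finset.sum_congr rfl (fun a _ =>
          Finset.sum_eq_single (⟨i, hi⟩ : Fin (k + 1)) (fun x _ hx => ?_) (fun hh => absurd (Finset.mem_univ _) hh))] at h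
        · rw [← hN]
          have hs : ((-1 : F) ^ (k - i)) ≠ 0 := pow_ne_zero _ (neg_ne_zero.2 one_ne_zero)
          refine (mul_eq_zero.1 ?_).resolve_left hs
          rw [Finset.mul_sum]
          refine Eq.trans (Finset.sum_congr rfl fun a _ => ?_) h
          rw [map_smul, LinearMap.smul_apply, smul_eq_mul]
          show _ = c (a, ⟨i, hi⟩) * B ((N ^ i) (g a)) ((N ^ (k - i)) (g b))
          rw [htop _ _ _ _ (by omega)]
          ring
        · rcases Nat.lt_or_ge (x : ℕ) i with hxi | hxi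
          · rw [show c (a, x) = 0 from ih x hxi x.2 a, zero_smul, map_zero, LinearMap.zero_apply]
          · have hxi' : i < (x : ℕ) := lt_of_le_of_ne hxi fun h => hx (Fin.ext h.symm)
            rw [map_smul, LinearMap.smul_apply, hzero _ _ _ _ (by show k + 1 ≤ (x : ℕ) + (k - i); omega), smul_zero]
    funext x
    exact this x.2 x.2.2 x.1
  refine ⟨LinearMap.range Φ, ?_, Submodule.disjoint_def.2 ?_, ?_⟩
  · rintro _ ⟨c, rfl⟩
    rw [hΦ, map_sum]
    refine Submodule.sum_mem _ fun x _ => ?_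
    rw [map_smul]
    refine Submodule.smul_mem _ _ ?_
    rw [show T ((N ^ (x.2 : ℕ)) (g x.1)) = (N ^ (x.2 : ℕ)) (g x.1) + (N ^ ((x.2 : ℕ) + 1)) (g x.1) by
      rw [pow_succ' N, Module.End.mul_apply]; nth_rewrite 3 [hN]; simp]
    exact Submodule.add_mem _ (hmem _ _) (hmem _ _)
  · rintro _ ⟨c, rfl⟩ ho
    rw [key c fun b j => hR _ _ (ho _ (hmem b j)), map_zero]
  · rw [LinearMap.finrank_range_of_inj ((injective_iff_map_eq_zero Φ).2 fun c hc => key c fun b j => by
      rw [hc, map_zero, LinearMap.zero_apply]), Module.finrank_fintype_fun_eq_card, Fintype.card_prod, Fintype.card_fin,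
      Fintype.card_fin]

/-- orthogonal decompositions into blocks -/
theorem exists_block_decomposition (n : ℕ) : ∀ {V : Type*} [AddCommGroup V] [Module F V] [FiniteDimensional F V]
    {B : LinearMap.BilinForm F V} {ε : F}, (∀ u v, B u v = ε * B v u) → (2 : F) ≠ 0 → B.Nondegenerate →
    ∀ (T : Module.End F V), (∀ u v, B (T u) (T v) = B u v) → ∀ {p : ℕ}, (T - 1) ^ p = 0 → Module.finrank F V = n →
    ∃ μ : Multiset ℕ, (∀ a ∈ μ, 0 < a ∧ a ≤ p) ∧ μ.sum = n ∧ (∀ e, ε * (-1) ^ (e - 1) = -1 → Even (μ.count e)) ∧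
      ∀ ν ≤ μ, (∀ e, ε * (-1) ^ (e - 1) = -1 → Even (ν.count e)) →
        ∃ W : Submodule F V, (∀ u ∈ W, T u ∈ W) ∧ Disjoint W (B.orthogonal W) ∧ Module.finrank F W = ν.sum := by
  classical
  induction n using Nat.strong_induction_on with
  | _ n ih =>
  intro V _ _ _ B ε hsym h2 hN T hI p hp hV
  rcases Nat.eq_zero_or_pos n with rfl | hn
  · refine ⟨0, fun a ha => absurd ha (Multiset.notMem_zero a), Multiset.sum_zero, fun e _ => by simp, fun ν hν _ => ⟨⊥, ?_, ?_, ?_⟩⟩
    · intro u hu; rw [(Submodule.mem_bot F).1 hu, map_zero]; exact zero_mem _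
    · exact disjoint_bot_left
    · rw [Multiset.le_zero.1 hν, Multiset.sum_zero, finrank_bot]
  have hR : B.IsRefl := fun u v h => by rw [hsym, h, mul_zero]
  have hinj : Function.Injective T := fun u v h => sub_eq_zero.1 (hN.1 _ fun w => by
    rw [← hI, map_sub, h, sub_self, map_zero, LinearMap.zero_apply])
  have hex : ∃ j, (T - 1) ^ j = 0 := ⟨p, hp⟩
  obtain ⟨k, hk⟩ : ∃ k, Nat.find hex = k + 1 := by
    refine Nat.exists_eq_succ_of_ne_zero fun h => ?_
    have h1 := Nat.find_spec hex
    rw [h, pow_zero] at h1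
    obtain ⟨v, hv⟩ := Module.finrank_pos_iff_exists_ne_zero.1 (hV ▸ hn : 0 < Module.finrank F V)
    exact hv (LinearMap.congr_fun h1 v)
  have hk1 : (T - 1) ^ (k + 1) = 0 := hk ▸ Nat.find_spec hex
  have hkp : k + 1 ≤ p := hk ▸ Nat.find_le hp
  obtain ⟨v, w, hvw⟩ : ∃ v w, B (((T - 1) ^ k) v) w ≠ 0 := by
    by_contra hcon
    push Not at hcon
    exact Nat.find_min hex (m := k) (by omega) (LinearMap.ext fun v => hN.1 _ (hcon v))
  obtain ⟨s, hs⟩ : ∃ s, s = ε * (-1 : F) ^ k := ⟨_, rfl⟩
  have hβ : ∀ u u', B (((T - 1) ^ k) u) u' = s * B (((T - 1) ^ k) u') u := fun u u' => by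
    have h := isometry_adj T hI k u u'
    rw [isometry_adj_top T hI hk1, hsym u] at h
    rw [h, hs]; ring
  have hs2 : s * s = 1 := mul_right_cancel₀ hvw (by rw [one_mul, mul_assoc, ← hβ, ← hβ])
  obtain ⟨l, g, hl, hG⟩ : ∃ (l : ℕ) (g : Fin l → V), ((l = 1 ∧ s = 1) ∨ (l = 2 ∧ s = -1)) ∧
      ∀ c : Fin l → F, (∀ b, ∑ a, c a * B (((T - 1) ^ k) (g a)) (g b) = 0) → c = 0 := by
    rcases mul_self_eq_one_iff.1 hs2 with h | h
    · obtain ⟨u, hu⟩ : ∃ u, B (((T - 1) ^ k) u) u ≠ 0 := by
        by_contra hcon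
        push Not at hcon
        have h1 := hcon (v + w)
        simp only [map_add, LinearMap.add_apply, hcon v, hcon w, hβ w v, h, one_mul, zero_add, add_zero, ← two_mul] at h1
        exact hvw ((mul_eq_zero.1 h1).resolve_left h2)
      refine ⟨1, ![u], Or.inl ⟨rfl, h⟩, fun c hc => ?_⟩
      have h1 := hc 0
      rw [Fin.sum_univ_one, mul_eq_zero] at h1
      funext a
      fin_cases a
      exact h1.resolve_right hu
    · refine ⟨2, ![v, w], Or.inr ⟨rfl, h⟩, fun c hc => ?_⟩
      have hzero : ∀ u, B (((T - 1) ^ k) u) u = 0 := fun u => by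
        have h1 := hβ u u
        rw [h] at h1
        exact (mul_eq_zero.1 (show (2 : F) * B (((T - 1) ^ k) u) u = 0 by linear_combination h1)).resolve_left h2
      have h0 := hc 0
      have h1 := hc 1
      simp only [Fin.sum_univ_two, Matrix.cons_val_zero, Matrix.cons_val_one, hzero, mul_zero, zero_add, add_zero,
        hβ w v, h, mul_eq_zero, hvw, or_false, neg_mul, one_mul, neg_eq_zero] at h0 h1
      funext a
      fin_cases a
      · exact h1
      · exact h0
  have hl1 : 1 ≤ l := by rcases hl with h | h <;> omega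
  obtain ⟨C, hC, hCnd, hCd⟩ := span_blocks hR T hI hk1 g hG
  obtain ⟨O, hO⟩ : ∃ O, O = B.orthogonal C := ⟨_, rfl⟩
  have hOi : ∀ u ∈ O, T u ∈ O := hO ▸ orth_invariant hR hI hinj hC
  have hOnd : Disjoint O (B.orthogonal O) := hO ▸ orth_nd hR hN hCnd
  have hsum := Submodule.finrank_add_eq_of_isCompl (isCompl_orth hR hCnd)
  rw [hCd, hV, ← hO] at hsum
  have hlk : 0 < l * (k + 1) := Nat.mul_pos hl1 k.succ_pos
  have hTO : ∀ (j : ℕ) (u : O), (((T.restrict hOi - 1) ^ j) u : V) = ((T - 1) ^ j) u := fun j => by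
    induction j with
    | zero => intro u; simp
    | succ j ihj =>
      intro u
      rw [pow_succ', pow_succ', Module.End.mul_apply, Module.End.mul_apply, ← ihj]
      rfl
  obtain ⟨μ', hμ'b, hμ's, hμ'e, hμ'W⟩ := ih (n - l * (k + 1)) (by omega) (B := B.restrict O) (ε := ε)
    (fun u u' => hsym u u') h2 (LinearMap.BilinForm.nondegenerate_restrict_of_disjoint_orthogonal B hR hOnd)
    (T.restrict hOi) (fun u u' => hI u u') (p := p) (LinearMap.ext fun u => Subtype.ext (by rw [hTO, hp]; rfl)) (by omega)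
  have hbadk : ε * (-1) ^ (k + 1 - 1) = -1 ↔ s = -1 := by rw [Nat.add_sub_cancel, hs]
  refine ⟨Multiset.replicate l (k + 1) + μ', fun a ha => ?_, ?_, fun e he => ?_, fun ν hν hνe => ?_⟩
  · rcases Multiset.mem_add.1 ha with h | h
    · rw [Multiset.eq_of_mem_replicate h]; omega
    · exact hμ'b a h
  · rw [Multiset.sum_add, Multiset.sum_replicate, smul_eq_mul, hμ's]; omega
  · rw [Multiset.count_add, Multiset.count_replicate]
    refine Even.add ?_ (hμ'e e he)
    split_ifs with h
    · subst h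
      rcases hl with ⟨-, h1⟩ | ⟨h1, -⟩
      · rw [hbadk.1 he] at h1
        exact absurd (by linear_combination -h1) h2
      · rw [h1]; exact even_two
    · exact ⟨0, rfl⟩
  · by_cases hle : ν ≤ μ'
    · obtain ⟨W, hW, hWnd, hWd⟩ := hμ'W ν hle hνe
      refine ⟨W.map O.subtype, ?_, ?_, by rw [Submodule.finrank_map_subtype_eq, hWd]⟩
      · rintro _ ⟨u, hu, rfl⟩
        exact ⟨_, hW u hu, rfl⟩
      · rw [Submodule.disjoint_def]
        rintro _ ⟨u, hu, rfl⟩ ho
        rw [Submodule.disjoint_def.1 hWnd u hu fun x hx => ho (x : V) ⟨x, hx, rfl⟩, map_zero]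
    · have hcnt : ∀ e, ν.count e ≤ (if k + 1 = e then l else 0) + μ'.count e := fun e => by
        have h := Multiset.count_le_of_le e hν
        rwa [Multiset.count_add, Multiset.count_replicate] at h
      have hgt : μ'.count (k + 1) < ν.count (k + 1) := by
        by_contra hcon
        push Not at hcon
        refine hle (Multiset.le_iff_count.2 fun e => ?_)
        by_cases he : k + 1 = e
        · rwa [← he]
        · have h := hcnt e; rwa [if_neg he, zero_add] at h
      have hlc : l ≤ ν.count (k + 1) ∧ (l = 2 → Even (ν.count (k + 1)) ∧ Even (μ'.count (k + 1))) := by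
        rcases hl with ⟨rfl, -⟩ | ⟨rfl, h1⟩
        · exact ⟨by omega, fun h => absurd h (by omega)⟩
        · obtain ⟨a, ha⟩ := hνe _ (hbadk.2 h1)
          exact ⟨by omega, fun _ => ⟨⟨a, ha⟩, hμ'e _ (hbadk.2 h1)⟩⟩
      obtain ⟨ν'', hν''⟩ := Multiset.le_iff_exists_add.1 (Multiset.le_count_iff_replicate_le.1 hlc.1)
      have hle'' : ν'' ≤ μ' := by rw [hν''] at hν; exact le_of_add_le_add_left hν
      obtain ⟨W, hW, hWnd, hWd⟩ := hμ'W ν'' hle'' fun e he => by
        have h := hνe e he
        rw [hν'', Multiset.count_add, Multiset.count_replicate] at h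
        split_ifs at h with hke
        · subst hke
          rcases hl with ⟨-, h1⟩ | ⟨h1, -⟩
          · rw [hbadk.1 he] at h1
            exact absurd (by linear_combination -h1) h2
          · rw [h1] at h
            exact (Nat.even_add.1 h).1 even_two
        · rwa [zero_add] at h
      have hWO : W.map O.subtype ≤ B.orthogonal C := hO ▸ Submodule.map_subtype_le _ _
      have hWnd' : Disjoint (W.map O.subtype) (B.orthogonal (W.map O.subtype)) := by
        rw [Submodule.disjoint_def]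
        rintro _ ⟨u, hu, rfl⟩ ho
        rw [Submodule.disjoint_def.1 hWnd u hu fun x hx => ho (x : V) ⟨x, hx, rfl⟩, map_zero]
      refine ⟨C ⊔ W.map O.subtype, fun u hu => ?_, sup_nd hR hCnd hWnd' hWO, ?_⟩
      · obtain ⟨a, ha, b, ⟨b', hb', rfl⟩, rfl⟩ := Submodule.mem_sup.1 hu
        rw [map_add]
        exact Submodule.add_mem_sup (hC a ha) ⟨_, hW b' hb', rfl⟩
      · rw [finrank_sup_orth hCnd hWO, hCd, Submodule.finrank_map_subtype_eq, hWd, hν'', Multiset.sum_add,
          Multiset.sum_replicate, smul_eq_mul]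

end CfsgLib.Perm.Elusive
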